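import Cfsg.Agent.H15.Y5B
import Cfsg.Agent.H15.Y5C
import Cfsg.Agent.H16.Pres
import Cfsg.Prelude.Def_Spor_M

/-! The spider relation implies the arm relations of the Y555 presentation. -/

set_option maxRecDepth 100000

namespace H15.Y5D
open H16 H15.Y5 Cfsg.Spor

def R0 : List (List ℕ) := [[nat_lit 0, nat_lit 0],
  [nat_lit 1, nat_lit 1],
  [nat_lit 2, nat_lit 2],
  [nat_lit 3, nat_lit 3],
  [nat_lit 4, nat_lit 4],
  [nat_lit 5, nat_lit 5],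
  [nat_lit 6, nat_lit 6],
  [nat_lit 7, nat_lit 7],
  [nat_lit 8, nat_lit 8],
  [nat_lit 9, nat_lit 9],
  [nat_lit 10, nat_lit 10],
  [nat_lit 11, nat_lit 11],
  [nat_lit 12, nat_lit 12],
  [nat_lit 13, nat_lit 13],
  [nat_lit 14, nat_lit 14],
  [nat_lit 15, nat_lit 15],
  [nat_lit 0, nat_lit 1, nat_lit 0, nat_lit 1, nat_lit 0, nat_lit 1],
  [nat_lit 0, nat_lit 2, nat_lit 0, nat_lit 2],
  [nat_lit 0, nat_lit 3, nat_lit 0, nat_lit 3],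
  [nat_lit 0, nat_lit 4, nat_lit 0, nat_lit 4],
  [nat_lit 0, nat_lit 5, nat_lit 0, nat_lit 5],
  [nat_lit 0, nat_lit 6, nat_lit 0, nat_lit 6, nat_lit 0, nat_lit 6],
  [nat_lit 0, nat_lit 7, nat_lit 0, nat_lit 7],
  [nat_lit 0, nat_lit 8, nat_lit 0, nat_lit 8],
  [nat_lit 0, nat_lit 9, nat_lit 0, nat_lit 9],
  [nat_lit 0, nat_lit 10, nat_lit 0, nat_lit 10],
  [nat_lit 0, nat_lit 11, nat_lit 0, nat_lit 11, nat_lit 0, nat_lit 11],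
  [nat_lit 0, nat_lit 12, nat_lit 0, nat_lit 12],
  [nat_lit 0, nat_lit 13, nat_lit 0, nat_lit 13],
  [nat_lit 0, nat_lit 14, nat_lit 0, nat_lit 14],
  [nat_lit 0, nat_lit 15, nat_lit 0, nat_lit 15],
  [nat_lit 1, nat_lit 0, nat_lit 1, nat_lit 0, nat_lit 1, nat_lit 0],
  [nat_lit 1, nat_lit 2, nat_lit 1, nat_lit 2, nat_lit 1, nat_lit 2],
  [nat_lit 1, nat_lit 3, nat_lit 1, nat_lit 3],
  [nat_lit 1, nat_lit 4, nat_lit 1, nat_lit 4],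
  [nat_lit 1, nat_lit 5, nat_lit 1, nat_lit 5],
  [nat_lit 1, nat_lit 6, nat_lit 1, nat_lit 6],
  [nat_lit 1, nat_lit 7, nat_lit 1, nat_lit 7],
  [nat_lit 1, nat_lit 8, nat_lit 1, nat_lit 8],
  [nat_lit 1, nat_lit 9, nat_lit 1, nat_lit 9],
  [nat_lit 1, nat_lit 10, nat_lit 1, nat_lit 10],
  [nat_lit 1, nat_lit 11, nat_lit 1, nat_lit 11],
  [nat_lit 1, nat_lit 12, nat_lit 1, nat_lit 12],
  [nat_lit 1, nat_lit 13, nat_lit 1, nat_lit 13],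
  [nat_lit 1, nat_lit 14, nat_lit 1, nat_lit 14],
  [nat_lit 1, nat_lit 15, nat_lit 1, nat_lit 15],
  [nat_lit 2, nat_lit 0, nat_lit 2, nat_lit 0],
  [nat_lit 2, nat_lit 1, nat_lit 2, nat_lit 1, nat_lit 2, nat_lit 1],
  [nat_lit 2, nat_lit 3, nat_lit 2, nat_lit 3, nat_lit 2, nat_lit 3],
  [nat_lit 2, nat_lit 4, nat_lit 2, nat_lit 4],
  [nat_lit 2, nat_lit 5, nat_lit 2, nat_lit 5],
  [nat_lit 2, nat_lit 6, nat_lit 2, nat_lit 6],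
  [nat_lit 2, nat_lit 7, nat_lit 2, nat_lit 7],
  [nat_lit 2, nat_lit 8, nat_lit 2, nat_lit 8],
  [nat_lit 2, nat_lit 9, nat_lit 2, nat_lit 9],
  [nat_lit 2, nat_lit 10, nat_lit 2, nat_lit 10],
  [nat_lit 2, nat_lit 11, nat_lit 2, nat_lit 11],
  [nat_lit 2, nat_lit 12, nat_lit 2, nat_lit 12],
  [nat_lit 2, nat_lit 13, nat_lit 2, nat_lit 13],
  [nat_lit 2, nat_lit 14, nat_lit 2, nat_lit 14],
  [nat_lit 2, nat_lit 15, nat_lit 2, nat_lit 15],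
  [nat_lit 3, nat_lit 0, nat_lit 3, nat_lit 0],
  [nat_lit 3, nat_lit 1, nat_lit 3, nat_lit 1],
  [nat_lit 3, nat_lit 2, nat_lit 3, nat_lit 2, nat_lit 3, nat_lit 2],
  [nat_lit 3, nat_lit 4, nat_lit 3, nat_lit 4, nat_lit 3, nat_lit 4],
  [nat_lit 3, nat_lit 5, nat_lit 3, nat_lit 5],
  [nat_lit 3, nat_lit 6, nat_lit 3, nat_lit 6],
  [nat_lit 3, nat_lit 7, nat_lit 3, nat_lit 7],
  [nat_lit 3, nat_lit 8, nat_lit 3, nat_lit 8],
  [nat_lit 3, nat_lit 9, nat_lit 3, nat_lit 9],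
  [nat_lit 3, nat_lit 10, nat_lit 3, nat_lit 10],
  [nat_lit 3, nat_lit 11, nat_lit 3, nat_lit 11],
  [nat_lit 3, nat_lit 12, nat_lit 3, nat_lit 12],
  [nat_lit 3, nat_lit 13, nat_lit 3, nat_lit 13],
  [nat_lit 3, nat_lit 14, nat_lit 3, nat_lit 14],
  [nat_lit 3, nat_lit 15, nat_lit 3, nat_lit 15],
  [nat_lit 4, nat_lit 0, nat_lit 4, nat_lit 0],
  [nat_lit 4, nat_lit 1, nat_lit 4, nat_lit 1],
  [nat_lit 4, nat_lit 2, nat_lit 4, nat_lit 2],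
  [nat_lit 4, nat_lit 3, nat_lit 4, nat_lit 3, nat_lit 4, nat_lit 3],
  [nat_lit 4, nat_lit 5, nat_lit 4, nat_lit 5, nat_lit 4, nat_lit 5],
  [nat_lit 4, nat_lit 6, nat_lit 4, nat_lit 6],
  [nat_lit 4, nat_lit 7, nat_lit 4, nat_lit 7],
  [nat_lit 4, nat_lit 8, nat_lit 4, nat_lit 8],
  [nat_lit 4, nat_lit 9, nat_lit 4, nat_lit 9],
  [nat_lit 4, nat_lit 10, nat_lit 4, nat_lit 10],
  [nat_lit 4, nat_lit 11, nat_lit 4, nat_lit 11],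
  [nat_lit 4, nat_lit 12, nat_lit 4, nat_lit 12],
  [nat_lit 4, nat_lit 13, nat_lit 4, nat_lit 13],
  [nat_lit 4, nat_lit 14, nat_lit 4, nat_lit 14],
  [nat_lit 4, nat_lit 15, nat_lit 4, nat_lit 15],
  [nat_lit 5, nat_lit 0, nat_lit 5, nat_lit 0],
  [nat_lit 5, nat_lit 1, nat_lit 5, nat_lit 1],
  [nat_lit 5, nat_lit 2, nat_lit 5, nat_lit 2],
  [nat_lit 5, nat_lit 3, nat_lit 5, nat_lit 3],
  [nat_lit 5, nat_lit 4, nat_lit 5, nat_lit 4, nat_lit 5, nat_lit 4],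
  [nat_lit 5, nat_lit 6, nat_lit 5, nat_lit 6],
  [nat_lit 5, nat_lit 7, nat_lit 5, nat_lit 7],
  [nat_lit 5, nat_lit 8, nat_lit 5, nat_lit 8],
  [nat_lit 5, nat_lit 9, nat_lit 5, nat_lit 9],
  [nat_lit 5, nat_lit 10, nat_lit 5, nat_lit 10],
  [nat_lit 5, nat_lit 11, nat_lit 5, nat_lit 11],
  [nat_lit 5, nat_lit 12, nat_lit 5, nat_lit 12],
  [nat_lit 5, nat_lit 13, nat_lit 5, nat_lit 13],
  [nat_lit 5, nat_lit 14, nat_lit 5, nat_lit 14],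
  [nat_lit 5, nat_lit 15, nat_lit 5, nat_lit 15],
  [nat_lit 6, nat_lit 0, nat_lit 6, nat_lit 0, nat_lit 6, nat_lit 0],
  [nat_lit 6, nat_lit 1, nat_lit 6, nat_lit 1],
  [nat_lit 6, nat_lit 2, nat_lit 6, nat_lit 2],
  [nat_lit 6, nat_lit 3, nat_lit 6, nat_lit 3],
  [nat_lit 6, nat_lit 4, nat_lit 6, nat_lit 4],
  [nat_lit 6, nat_lit 5, nat_lit 6, nat_lit 5],
  [nat_lit 6, nat_lit 7, nat_lit 6, nat_lit 7, nat_lit 6, nat_lit 7],
  [nat_lit 6, nat_lit 8, nat_lit 6, nat_lit 8],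
  [nat_lit 6, nat_lit 9, nat_lit 6, nat_lit 9],
  [nat_lit 6, nat_lit 10, nat_lit 6, nat_lit 10],
  [nat_lit 6, nat_lit 11, nat_lit 6, nat_lit 11],
  [nat_lit 6, nat_lit 12, nat_lit 6, nat_lit 12],
  [nat_lit 6, nat_lit 13, nat_lit 6, nat_lit 13],
  [nat_lit 6, nat_lit 14, nat_lit 6, nat_lit 14],
  [nat_lit 6, nat_lit 15, nat_lit 6, nat_lit 15],
  [nat_lit 7, nat_lit 0, nat_lit 7, nat_lit 0],
  [nat_lit 7, nat_lit 1, nat_lit 7, nat_lit 1],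
  [nat_lit 7, nat_lit 2, nat_lit 7, nat_lit 2],
  [nat_lit 7, nat_lit 3, nat_lit 7, nat_lit 3],
  [nat_lit 7, nat_lit 4, nat_lit 7, nat_lit 4],
  [nat_lit 7, nat_lit 5, nat_lit 7, nat_lit 5],
  [nat_lit 7, nat_lit 6, nat_lit 7, nat_lit 6, nat_lit 7, nat_lit 6],
  [nat_lit 7, nat_lit 8, nat_lit 7, nat_lit 8, nat_lit 7, nat_lit 8],
  [nat_lit 7, nat_lit 9, nat_lit 7, nat_lit 9],
  [nat_lit 7, nat_lit 10, nat_lit 7, nat_lit 10],
  [nat_lit 7, nat_lit 11, nat_lit 7, nat_lit 11],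
  [nat_lit 7, nat_lit 12, nat_lit 7, nat_lit 12],
  [nat_lit 7, nat_lit 13, nat_lit 7, nat_lit 13],
  [nat_lit 7, nat_lit 14, nat_lit 7, nat_lit 14],
  [nat_lit 7, nat_lit 15, nat_lit 7, nat_lit 15],
  [nat_lit 8, nat_lit 0, nat_lit 8, nat_lit 0],
  [nat_lit 8, nat_lit 1, nat_lit 8, nat_lit 1],
  [nat_lit 8, nat_lit 2, nat_lit 8, nat_lit 2],
  [nat_lit 8, nat_lit 3, nat_lit 8, nat_lit 3],
  [nat_lit 8, nat_lit 4, nat_lit 8, nat_lit 4],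
  [nat_lit 8, nat_lit 5, nat_lit 8, nat_lit 5],
  [nat_lit 8, nat_lit 6, nat_lit 8, nat_lit 6],
  [nat_lit 8, nat_lit 7, nat_lit 8, nat_lit 7, nat_lit 8, nat_lit 7],
  [nat_lit 8, nat_lit 9, nat_lit 8, nat_lit 9, nat_lit 8, nat_lit 9],
  [nat_lit 8, nat_lit 10, nat_lit 8, nat_lit 10],
  [nat_lit 8, nat_lit 11, nat_lit 8, nat_lit 11],
  [nat_lit 8, nat_lit 12, nat_lit 8, nat_lit 12],
  [nat_lit 8, nat_lit 13, nat_lit 8, nat_lit 13],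
  [nat_lit 8, nat_lit 14, nat_lit 8, nat_lit 14],
  [nat_lit 8, nat_lit 15, nat_lit 8, nat_lit 15],
  [nat_lit 9, nat_lit 0, nat_lit 9, nat_lit 0],
  [nat_lit 9, nat_lit 1, nat_lit 9, nat_lit 1],
  [nat_lit 9, nat_lit 2, nat_lit 9, nat_lit 2],
  [nat_lit 9, nat_lit 3, nat_lit 9, nat_lit 3],
  [nat_lit 9, nat_lit 4, nat_lit 9, nat_lit 4],
  [nat_lit 9, nat_lit 5, nat_lit 9, nat_lit 5],
  [nat_lit 9, nat_lit 6, nat_lit 9, nat_lit 6],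
  [nat_lit 9, nat_lit 7, nat_lit 9, nat_lit 7],
  [nat_lit 9, nat_lit 8, nat_lit 9, nat_lit 8, nat_lit 9, nat_lit 8],
  [nat_lit 9, nat_lit 10, nat_lit 9, nat_lit 10, nat_lit 9, nat_lit 10],
  [nat_lit 9, nat_lit 11, nat_lit 9, nat_lit 11],
  [nat_lit 9, nat_lit 12, nat_lit 9, nat_lit 12],
  [nat_lit 9, nat_lit 13, nat_lit 9, nat_lit 13],
  [nat_lit 9, nat_lit 14, nat_lit 9, nat_lit 14],
  [nat_lit 9, nat_lit 15, nat_lit 9, nat_lit 15],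
  [nat_lit 10, nat_lit 0, nat_lit 10, nat_lit 0],
  [nat_lit 10, nat_lit 1, nat_lit 10, nat_lit 1],
  [nat_lit 10, nat_lit 2, nat_lit 10, nat_lit 2],
  [nat_lit 10, nat_lit 3, nat_lit 10, nat_lit 3],
  [nat_lit 10, nat_lit 4, nat_lit 10, nat_lit 4],
  [nat_lit 10, nat_lit 5, nat_lit 10, nat_lit 5],
  [nat_lit 10, nat_lit 6, nat_lit 10, nat_lit 6],
  [nat_lit 10, nat_lit 7, nat_lit 10, nat_lit 7],
  [nat_lit 10, nat_lit 8, nat_lit 10, nat_lit 8],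
  [nat_lit 10, nat_lit 9, nat_lit 10, nat_lit 9, nat_lit 10, nat_lit 9],
  [nat_lit 10, nat_lit 11, nat_lit 10, nat_lit 11],
  [nat_lit 10, nat_lit 12, nat_lit 10, nat_lit 12],
  [nat_lit 10, nat_lit 13, nat_lit 10, nat_lit 13],
  [nat_lit 10, nat_lit 14, nat_lit 10, nat_lit 14],
  [nat_lit 10, nat_lit 15, nat_lit 10, nat_lit 15],
  [nat_lit 11, nat_lit 0, nat_lit 11, nat_lit 0, nat_lit 11, nat_lit 0],
  [nat_lit 11, nat_lit 1, nat_lit 11, nat_lit 1],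
  [nat_lit 11, nat_lit 2, nat_lit 11, nat_lit 2],
  [nat_lit 11, nat_lit 3, nat_lit 11, nat_lit 3],
  [nat_lit 11, nat_lit 4, nat_lit 11, nat_lit 4],
  [nat_lit 11, nat_lit 5, nat_lit 11, nat_lit 5],
  [nat_lit 11, nat_lit 6, nat_lit 11, nat_lit 6],
  [nat_lit 11, nat_lit 7, nat_lit 11, nat_lit 7],
  [nat_lit 11, nat_lit 8, nat_lit 11, nat_lit 8],
  [nat_lit 11, nat_lit 9, nat_lit 11, nat_lit 9],
  [nat_lit 11, nat_lit 10, nat_lit 11, nat_lit 10],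
  [nat_lit 11, nat_lit 12, nat_lit 11, nat_lit 12, nat_lit 11, nat_lit 12],
  [nat_lit 11, nat_lit 13, nat_lit 11, nat_lit 13],
  [nat_lit 11, nat_lit 14, nat_lit 11, nat_lit 14],
  [nat_lit 11, nat_lit 15, nat_lit 11, nat_lit 15],
  [nat_lit 12, nat_lit 0, nat_lit 12, nat_lit 0],
  [nat_lit 12, nat_lit 1, nat_lit 12, nat_lit 1],
  [nat_lit 12, nat_lit 2, nat_lit 12, nat_lit 2],
  [nat_lit 12, nat_lit 3, nat_lit 12, nat_lit 3],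
  [nat_lit 12, nat_lit 4, nat_lit 12, nat_lit 4],
  [nat_lit 12, nat_lit 5, nat_lit 12, nat_lit 5],
  [nat_lit 12, nat_lit 6, nat_lit 12, nat_lit 6],
  [nat_lit 12, nat_lit 7, nat_lit 12, nat_lit 7],
  [nat_lit 12, nat_lit 8, nat_lit 12, nat_lit 8],
  [nat_lit 12, nat_lit 9, nat_lit 12, nat_lit 9],
  [nat_lit 12, nat_lit 10, nat_lit 12, nat_lit 10],
  [nat_lit 12, nat_lit 11, nat_lit 12, nat_lit 11, nat_lit 12, nat_lit 11],
  [nat_lit 12, nat_lit 13, nat_lit 12, nat_lit 13, nat_lit 12, nat_lit 13],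
  [nat_lit 12, nat_lit 14, nat_lit 12, nat_lit 14],
  [nat_lit 12, nat_lit 15, nat_lit 12, nat_lit 15],
  [nat_lit 13, nat_lit 0, nat_lit 13, nat_lit 0],
  [nat_lit 13, nat_lit 1, nat_lit 13, nat_lit 1],
  [nat_lit 13, nat_lit 2, nat_lit 13, nat_lit 2],
  [nat_lit 13, nat_lit 3, nat_lit 13, nat_lit 3],
  [nat_lit 13, nat_lit 4, nat_lit 13, nat_lit 4],
  [nat_lit 13, nat_lit 5, nat_lit 13, nat_lit 5],
  [nat_lit 13, nat_lit 6, nat_lit 13, nat_lit 6],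
  [nat_lit 13, nat_lit 7, nat_lit 13, nat_lit 7],
  [nat_lit 13, nat_lit 8, nat_lit 13, nat_lit 8],
  [nat_lit 13, nat_lit 9, nat_lit 13, nat_lit 9],
  [nat_lit 13, nat_lit 10, nat_lit 13, nat_lit 10],
  [nat_lit 13, nat_lit 11, nat_lit 13, nat_lit 11],
  [nat_lit 13, nat_lit 12, nat_lit 13, nat_lit 12, nat_lit 13, nat_lit 12],
  [nat_lit 13, nat_lit 14, nat_lit 13, nat_lit 14, nat_lit 13, nat_lit 14],
  [nat_lit 13, nat_lit 15, nat_lit 13, nat_lit 15],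
  [nat_lit 14, nat_lit 0, nat_lit 14, nat_lit 0],
  [nat_lit 14, nat_lit 1, nat_lit 14, nat_lit 1],
  [nat_lit 14, nat_lit 2, nat_lit 14, nat_lit 2],
  [nat_lit 14, nat_lit 3, nat_lit 14, nat_lit 3],
  [nat_lit 14, nat_lit 4, nat_lit 14, nat_lit 4],
  [nat_lit 14, nat_lit 5, nat_lit 14, nat_lit 5],
  [nat_lit 14, nat_lit 6, nat_lit 14, nat_lit 6],
  [nat_lit 14, nat_lit 7, nat_lit 14, nat_lit 7],
  [nat_lit 14, nat_lit 8, nat_lit 14, nat_lit 8],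
  [nat_lit 14, nat_lit 9, nat_lit 14, nat_lit 9],
  [nat_lit 14, nat_lit 10, nat_lit 14, nat_lit 10],
  [nat_lit 14, nat_lit 11, nat_lit 14, nat_lit 11],
  [nat_lit 14, nat_lit 12, nat_lit 14, nat_lit 12],
  [nat_lit 14, nat_lit 13, nat_lit 14, nat_lit 13, nat_lit 14, nat_lit 13],
  [nat_lit 14, nat_lit 15, nat_lit 14, nat_lit 15, nat_lit 14, nat_lit 15],
  [nat_lit 15, nat_lit 0, nat_lit 15, nat_lit 0],
  [nat_lit 15, nat_lit 1, nat_lit 15, nat_lit 1],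
  [nat_lit 15, nat_lit 2, nat_lit 15, nat_lit 2],
  [nat_lit 15, nat_lit 3, nat_lit 15, nat_lit 3],
  [nat_lit 15, nat_lit 4, nat_lit 15, nat_lit 4],
  [nat_lit 15, nat_lit 5, nat_lit 15, nat_lit 5],
  [nat_lit 15, nat_lit 6, nat_lit 15, nat_lit 6],
  [nat_lit 15, nat_lit 7, nat_lit 15, nat_lit 7],
  [nat_lit 15, nat_lit 8, nat_lit 15, nat_lit 8],
  [nat_lit 15, nat_lit 9, nat_lit 15, nat_lit 9],
  [nat_lit 15, nat_lit 10, nat_lit 15, nat_lit 10],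
  [nat_lit 15, nat_lit 11, nat_lit 15, nat_lit 11],
  [nat_lit 15, nat_lit 12, nat_lit 15, nat_lit 12],
  [nat_lit 15, nat_lit 13, nat_lit 15, nat_lit 13],
  [nat_lit 15, nat_lit 14, nat_lit 15, nat_lit 14, nat_lit 15, nat_lit 14],
  [nat_lit 12, nat_lit 11, nat_lit 0, nat_lit 7, nat_lit 6, nat_lit 0, nat_lit 2, nat_lit 1, nat_lit 0, nat_lit 12, nat_lit 11, nat_lit 0, nat_lit 7, nat_lit 6, nat_lit 0, nat_lit 2, nat_lit 1, nat_lit 0, nat_lit 12, nat_lit 11, nat_lit 0, nat_lit 7, nat_lit 6, nat_lit 0, nat_lit 2, nat_lit 1, nat_lit 0, nat_lit 12, nat_lit 11, nat_lit 0, nat_lit 7, nat_lit 6, nat_lit 0, nat_lit 2, nat_lit 1, nat_lit 0, nat_lit 12, nat_lit 11, nat_lit 0, nat_lit 7, nat_lit 6, nat_lit 0, nat_lit 2, nat_lit 1, nat_lit 0, nat_lit 12, nat_lit 11, nat_lit 0, nat_lit 7, nat_lit 6, nat_lit 0, nat_lit 2, nat_lit 1, nat_lit 0, nat_lit 12, nat_lit 11,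 nat_lit 0, nat_lit 7, nat_lit 6, nat_lit 0, nat_lit 2, nat_lit 1, nat_lit 0, nat_lit 12, nat_lit 11, nat_lit 0, nat_lit 7, nat_lit 6, nat_lit 0, nat_lit 2, nat_lit 1, nat_lit 0, nat_lit 12, nat_lit 11, nat_lit 0, nat_lit 7, nat_lit 6, nat_lit 0, nat_lit 2, nat_lit 1, nat_lit 0, nat_lit 12, nat_lit 11, nat_lit 0, nat_lit 7, nat_lit 6, nat_lit 0, nat_lit 2, nat_lit 1, nat_lit 0]]
def R1 : List (List ℕ) := R0 ++ [[nat_lit 7, nat_lit 6, nat_lit 0, nat_lit 2, nat_lit 1, nat_lit 0, nat_lit 12, nat_lit 11, nat_lit 0, nat_lit 7, nat_lit 6, nat_lit 0, nat_lit 2, nat_lit 1, nat_lit 0, nat_lit 12, nat_lit 11, nat_lit 0, nat_lit 7, nat_lit 6, nat_lit 0, nat_lit 2, nat_lit 1, nat_lit 0, nat_lit 12, nat_lit 11, nat_lit 0, nat_lit 7, nat_lit 6, nat_lit 0, nat_lit 2, nat_lit 1, nat_lit 0, nat_lit 12, nat_lit 11, nat_lit 0, nat_lit 7, nat_lit 6, nat_lit 0, nat_lit 2,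 nat_lit 1, nat_lit 0, nat_lit 12, nat_lit 11, nat_lit 0, nat_lit 7, nat_lit 6, nat_lit 0, nat_lit 2, nat_lit 1, nat_lit 0, nat_lit 12, nat_lit 11, nat_lit 0, nat_lit 7, nat_lit 6, nat_lit 0, nat_lit 2, nat_lit 1, nat_lit 0, nat_lit 12, nat_lit 11, nat_lit 0, nat_lit 7, nat_lit 6, nat_lit 0, nat_lit 2, nat_lit 1, nat_lit 0, nat_lit 12, nat_lit 11, nat_lit 0, nat_lit 7, nat_lit 6, nat_lit 0, nat_lit 2, nat_lit 1, nat_lit 0, nat_lit 12, nat_lit 11, nat_lit 0, nat_lit 7, nat_lit 6, nat_lit 0, nat_lit 2, nat_lit 1, nat_lit 0, nat_lit 12, nat_lit 11, nat_lit 0]]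
theorem i1 : Imp R0 R1 := imp_ext (H16.Imp.rfl R0) (imp_rot (A := R0) (w := [nat_lit 12, nat_lit 11, nat_lit 0, nat_lit 7, nat_lit 6, nat_lit 0, nat_lit 2, nat_lit 1, nat_lit 0, nat_lit 12, nat_lit 11, nat_lit 0, nat_lit 7, nat_lit 6, nat_lit 0, nat_lit 2, nat_lit 1, nat_lit 0, nat_lit 12, nat_lit 11, nat_lit 0, nat_lit 7, nat_lit 6, nat_lit 0, nat_lit 2, nat_lit 1, nat_lit 0, nat_lit 12, nat_lit 11, nat_lit 0, nat_lit 7, nat_lit 6, nat_lit 0, nat_lit 2, nat_lit 1, nat_lit 0, nat_lit 12, nat_lit 11, nat_lit 0, nat_lit 7, nat_lit 6, nat_lit 0, nat_lit 2, nat_lit 1, nat_lit 0, nat_lit 12, nat_lit 11, nat_lit 0, nat_lit 7, nat_lit 6, nat_lit 0, nat_lit 2, nat_lit 1, nat_lit 0, nat_lit 12, nat_lit 11, nat_lit 0, nat_lit 7, nat_lit 6, nat_lit 0, nat_lit 2, nat_lit 1, nat_lit 0, nat_lit 12, nat_lit 11, nat_lit 0, nat_lit 7, nat_lit 6, nat_lit 0, nat_lit 2,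 nat_lit 1, nat_lit 0, nat_lit 12, nat_lit 11, nat_lit 0, nat_lit 7, nat_lit 6, nat_lit 0, nat_lit 2, nat_lit 1, nat_lit 0, nat_lit 12, nat_lit 11, nat_lit 0, nat_lit 7, nat_lit 6, nat_lit 0, nat_lit 2, nat_lit 1, nat_lit 0]) 3 (by decide +kernel)) (by decide +kernel)
def R2 : List (List ℕ) := R1 ++ [[nat_lit 2, nat_lit 1, nat_lit 0, nat_lit 12, nat_lit 11, nat_lit 0, nat_lit 7, nat_lit 6, nat_lit 0, nat_lit 2, nat_lit 1, nat_lit 0, nat_lit 12, nat_lit 11, nat_lit 0, nat_lit 7, nat_lit 6, nat_lit 0, nat_lit 2, nat_lit 1, nat_lit 0, nat_lit 12, nat_lit 11, nat_lit 0, nat_lit 7, nat_lit 6, nat_lit 0, nat_lit 2, nat_lit 1, nat_lit 0, nat_lit 12, nat_lit 11, nat_lit 0, nat_lit 7, nat_lit 6, nat_lit 0, nat_lit 2, nat_lit 1, nat_lit 0, nat_lit 12, nat_lit 11, nat_lit 0, nat_lit 7, nat_lit 6, nat_lit 0, nat_lit 2, nat_lit 1, nat_lit 0, nat_lit 12, nat_lit 11,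 nat_lit 0, nat_lit 7, nat_lit 6, nat_lit 0, nat_lit 2, nat_lit 1, nat_lit 0, nat_lit 12, nat_lit 11, nat_lit 0, nat_lit 7, nat_lit 6, nat_lit 0, nat_lit 2, nat_lit 1, nat_lit 0, nat_lit 12, nat_lit 11, nat_lit 0, nat_lit 7, nat_lit 6, nat_lit 0, nat_lit 2, nat_lit 1, nat_lit 0, nat_lit 12, nat_lit 11, nat_lit 0, nat_lit 7, nat_lit 6, nat_lit 0, nat_lit 2, nat_lit 1, nat_lit 0, nat_lit 12, nat_lit 11, nat_lit 0, nat_lit 7, nat_lit 6, nat_lit 0]]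
theorem i2 : Imp R0 R2 := imp_ext i1 (imp_rot (A := R1) (w := [nat_lit 12, nat_lit 11, nat_lit 0, nat_lit 7, nat_lit 6, nat_lit 0, nat_lit 2, nat_lit 1, nat_lit 0, nat_lit 12, nat_lit 11, nat_lit 0, nat_lit 7, nat_lit 6, nat_lit 0, nat_lit 2, nat_lit 1, nat_lit 0, nat_lit 12, nat_lit 11, nat_lit 0, nat_lit 7, nat_lit 6, nat_lit 0, nat_lit 2, nat_lit 1, nat_lit 0, nat_lit 12, nat_lit 11, nat_lit 0, nat_lit 7, nat_lit 6, nat_lit 0, nat_lit 2, nat_lit 1, nat_lit 0, nat_lit 12, nat_lit 11, nat_lit 0, nat_lit 7, nat_lit 6, nat_lit 0, nat_lit 2, nat_lit 1, nat_lit 0, nat_lit 12, nat_lit 11, nat_lit 0, nat_lit 7, nat_lit 6, nat_lit 0, nat_lit 2, nat_lit 1, nat_lit 0, nat_lit 12, nat_lit 11, nat_lit 0, nat_lit 7, nat_lit 6, nat_lit 0, nat_lit 2, nat_lit 1, nat_lit 0, nat_lit 12, nat_lit 11, nat_lit 0, nat_lit 7, nat_lit 6, nat_lit 0, nat_lit 2, nat_lit 1, nat_lit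 0, nat_lit 12, nat_lit 11, nat_lit 0, nat_lit 7, nat_lit 6, nat_lit 0, nat_lit 2, nat_lit 1, nat_lit 0, nat_lit 12, nat_lit 11, nat_lit 0, nat_lit 7, nat_lit 6, nat_lit 0, nat_lit 2, nat_lit 1, nat_lit 0]) 6 (by decide +kernel)) (by decide +kernel)
def R3 : List (List ℕ) := R2 ++ [[nat_lit 0, nat_lit 1, nat_lit 11, nat_lit 6, nat_lit 2, nat_lit 12, nat_lit 3, nat_lit 0, nat_lit 1, nat_lit 11, nat_lit 6, nat_lit 2, nat_lit 12, nat_lit 3, nat_lit 0, nat_lit 1, nat_lit 11, nat_lit 6, nat_lit 2, nat_lit 12, nat_lit 3, nat_lit 0, nat_lit 1, nat_lit 11, nat_lit 6, nat_lit 2, nat_lit 12, nat_lit 3, nat_lit 0, nat_lit 1, nat_lit 11, nat_lit 6, nat_lit 2, nat_lit 12, nat_lit 3, nat_lit 0, nat_lit 1, nat_lit 11, nat_lit 6, nat_lit 2, nat_lit 12, nat_lit 3, nat_lit 0, nat_lit 1, nat_lit 11, nat_lit 6, nat_lit 2, nat_lit 12, nat_lit 3, nat_lit 0, nat_lit 1, nat_lit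 11, nat_lit 6, nat_lit 2, nat_lit 12, nat_lit 3, nat_lit 0, nat_lit 1, nat_lit 11, nat_lit 6, nat_lit 2, nat_lit 12, nat_lit 3, nat_lit 3, nat_lit 7, nat_lit 2, nat_lit 11, nat_lit 6, nat_lit 1, nat_lit 0, nat_lit 3, nat_lit 7, nat_lit 2, nat_lit 11, nat_lit 6, nat_lit 1, nat_lit 0, nat_lit 3, nat_lit 7, nat_lit 2, nat_lit 11, nat_lit 6, nat_lit 1, nat_lit 0, nat_lit 3, nat_lit 7, nat_lit 2, nat_lit 11, nat_lit 6, nat_lit 1, nat_lit 0, nat_lit 3, nat_lit 7, nat_lit 2, nat_lit 11, nat_lit 6, nat_lit 1, nat_lit 0, nat_lit 3, nat_lit 7, nat_lit 2, nat_lit 11, nat_lit 6, nat_lit 1, nat_lit 0, nat_lit 3, nat_lit 7, nat_lit 2, nat_lit 11, nat_lit 6, nat_lit 1, nat_lit 0, nat_lit 3, nat_lit 7, nat_lit 2, nat_lit 11, nat_lit 6, nat_lit 1, nat_lit 0, nat_lit 3, nat_lit 7, nat_lit 2, nat_lit 11, nat_lit 6, nat_lit 1, nat_lit 0]]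
theorem i3 : Imp R0 R3 := imp_ext i2 (imp_rl (A := R2) Y5A.main (σ := [nat_lit 0, nat_lit 1, nat_lit 6, nat_lit 7, nat_lit 11, nat_lit 12, nat_lit 2, nat_lit 3]) (ix := [nat_lit 0, nat_lit 1, nat_lit 6, nat_lit 7, nat_lit 11, nat_lit 12, nat_lit 2, nat_lit 3, nat_lit 31, nat_lit 106, nat_lit 107, nat_lit 121, nat_lit 122, nat_lit 127, nat_lit 181, nat_lit 182, nat_lit 187, nat_lit 188, nat_lit 196, nat_lit 197, nat_lit 202, nat_lit 203, nat_lit 207, nat_lit 46, nat_lit 47, nat_lit 51, nat_lit 52, nat_lit 56, nat_lit 57, nat_lit 61, nat_lit 62, nat_lit 66, nat_lit 67, nat_lit 71, nat_lit 72, nat_lit 63, nat_lit 256]) (by decide +kernel)) (by decide +kernel)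
def R4 : List (List ℕ) := R3 ++ [[nat_lit 0, nat_lit 6, nat_lit 1, nat_lit 11, nat_lit 7, nat_lit 2, nat_lit 8, nat_lit 0, nat_lit 6, nat_lit 1, nat_lit 11, nat_lit 7, nat_lit 2, nat_lit 8, nat_lit 0, nat_lit 6, nat_lit 1, nat_lit 11, nat_lit 7, nat_lit 2, nat_lit 8, nat_lit 0, nat_lit 6, nat_lit 1, nat_lit 11, nat_lit 7, nat_lit 2, nat_lit 8, nat_lit 0, nat_lit 6, nat_lit 1, nat_lit 11, nat_lit 7, nat_lit 2, nat_lit 8, nat_lit 0, nat_lit 6, nat_lit 1, nat_lit 11, nat_lit 7, nat_lit 2, nat_lit 8, nat_lit 0, nat_lit 6, nat_lit 1, nat_lit 11, nat_lit 7, nat_lit 2, nat_lit 8, nat_lit 0, nat_lit 6, nat_lit 1, nat_lit 11, nat_lit 7, nat_lit 2, nat_lit 8, nat_lit 0, nat_lit 6, nat_lit 1, nat_lit 11, nat_lit 7, nat_lit 2, nat_lit 8, nat_lit 8, nat_lit 12, nat_lit 7, nat_lit 1, nat_lit 11, nat_lit 6, nat_lit 0, nat_lit 8, nat_lit 12, nat_lit 7, nat_lit 1, nat_lit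 11, nat_lit 6, nat_lit 0, nat_lit 8, nat_lit 12, nat_lit 7, nat_lit 1, nat_lit 11, nat_lit 6, nat_lit 0, nat_lit 8, nat_lit 12, nat_lit 7, nat_lit 1, nat_lit 11, nat_lit 6, nat_lit 0, nat_lit 8, nat_lit 12, nat_lit 7, nat_lit 1, nat_lit 11, nat_lit 6, nat_lit 0, nat_lit 8, nat_lit 12, nat_lit 7, nat_lit 1, nat_lit 11, nat_lit 6, nat_lit 0, nat_lit 8, nat_lit 12, nat_lit 7, nat_lit 1, nat_lit 11, nat_lit 6, nat_lit 0, nat_lit 8, nat_lit 12, nat_lit 7, nat_lit 1, nat_lit 11, nat_lit 6, nat_lit 0, nat_lit 8, nat_lit 12, nat_lit 7, nat_lit 1, nat_lit 11, nat_lit 6, nat_lit 0]]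
theorem i4 : Imp R0 R4 := imp_ext i3 (imp_rl (A := R3) Y5A.main (σ := [nat_lit 0, nat_lit 6, nat_lit 11, nat_lit 12, nat_lit 1, nat_lit 2, nat_lit 7, nat_lit 8]) (ix := [nat_lit 0, nat_lit 6, nat_lit 11, nat_lit 12, nat_lit 1, nat_lit 2, nat_lit 7, nat_lit 8, nat_lit 106, nat_lit 181, nat_lit 187, nat_lit 196, nat_lit 202, nat_lit 207, nat_lit 31, nat_lit 36, nat_lit 41, nat_lit 42, nat_lit 46, nat_lit 51, nat_lit 56, nat_lit 57, nat_lit 47, nat_lit 121, nat_lit 127, nat_lit 131, nat_lit 132, nat_lit 122, nat_lit 123, nat_lit 136, nat_lit 142, nat_lit 146, nat_lit 147, nat_lit 137, nat_lit 138, nat_lit 143, nat_lit 258]) (by decide +kernel)) (by decide +kernel)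
def R5 : List (List ℕ) := R4 ++ [[nat_lit 0, nat_lit 11, nat_lit 6, nat_lit 1, nat_lit 12, nat_lit 7, nat_lit 13, nat_lit 0, nat_lit 11, nat_lit 6, nat_lit 1, nat_lit 12, nat_lit 7, nat_lit 13, nat_lit 0, nat_lit 11, nat_lit 6, nat_lit 1, nat_lit 12, nat_lit 7, nat_lit 13, nat_lit 0, nat_lit 11, nat_lit 6, nat_lit 1, nat_lit 12, nat_lit 7, nat_lit 13, nat_lit 0, nat_lit 11, nat_lit 6, nat_lit 1, nat_lit 12, nat_lit 7, nat_lit 13, nat_lit 0, nat_lit 11, nat_lit 6, nat_lit 1, nat_lit 12, nat_lit 7, nat_lit 13, nat_lit 0, nat_lit 11, nat_lit 6, nat_lit 1, nat_lit 12, nat_lit 7, nat_lit 13, nat_lit 0, nat_lit 11, nat_lit 6, nat_lit 1, nat_lit 12, nat_lit 7, nat_lit 13, nat_lit 0, nat_lit 11, nat_lit 6, nat_lit 1, nat_lit 12, nat_lit 7, nat_lit 13, nat_lit 13, nat_lit 2, nat_lit 12, nat_lit 6, nat_lit 1, nat_lit 11, nat_lit 0, nat_lit 13, nat_lit 2, nat_lit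 12, nat_lit 6, nat_lit 1, nat_lit 11, nat_lit 0, nat_lit 13, nat_lit 2, nat_lit 12, nat_lit 6, nat_lit 1, nat_lit 11, nat_lit 0, nat_lit 13, nat_lit 2, nat_lit 12, nat_lit 6, nat_lit 1, nat_lit 11, nat_lit 0, nat_lit 13, nat_lit 2, nat_lit 12, nat_lit 6, nat_lit 1, nat_lit 11, nat_lit 0, nat_lit 13, nat_lit 2, nat_lit 12, nat_lit 6, nat_lit 1, nat_lit 11, nat_lit 0, nat_lit 13, nat_lit 2, nat_lit 12, nat_lit 6, nat_lit 1, nat_lit 11, nat_lit 0, nat_lit 13, nat_lit 2, nat_lit 12, nat_lit 6, nat_lit 1, nat_lit 11, nat_lit 0, nat_lit 13, nat_lit 2, nat_lit 12, nat_lit 6, nat_lit 1, nat_lit 11, nat_lit 0]]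
theorem i5 : Imp R0 R5 := imp_ext i4 (imp_rl (A := R4) Y5A.main (σ := [nat_lit 0, nat_lit 11, nat_lit 1, nat_lit 2, nat_lit 6, nat_lit 7, nat_lit 12, nat_lit 13]) (ix := [nat_lit 0, nat_lit 11, nat_lit 1, nat_lit 2, nat_lit 6, nat_lit 7, nat_lit 12, nat_lit 13, nat_lit 181, nat_lit 31, nat_lit 41, nat_lit 46, nat_lit 56, nat_lit 47, nat_lit 106, nat_lit 116, nat_lit 107, nat_lit 108, nat_lit 121, nat_lit 131, nat_lit 122, nat_lit 123, nat_lit 127, nat_lit 196, nat_lit 207, nat_lit 197, nat_lit 198, nat_lit 202, nat_lit 203, nat_lit 211, nat_lit 222, nat_lit 212, nat_lit 213, nat_lit 217, nat_lit 218, nat_lit 223, nat_lit 257]) (by decide +kernel)) (by decide +kernel)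
def R6 : List (List ℕ) := R5 ++ [[nat_lit 8, nat_lit 0, nat_lit 1, nat_lit 6, nat_lit 11, nat_lit 2, nat_lit 7, nat_lit 3, nat_lit 0, nat_lit 1, nat_lit 6, nat_lit 11, nat_lit 2, nat_lit 7, nat_lit 3, nat_lit 0, nat_lit 1, nat_lit 6, nat_lit 11, nat_lit 2, nat_lit 7, nat_lit 3, nat_lit 0, nat_lit 1, nat_lit 6, nat_lit 11, nat_lit 2, nat_lit 7, nat_lit 3, nat_lit 0, nat_lit 1, nat_lit 6, nat_lit 11, nat_lit 2, nat_lit 7, nat_lit 3, nat_lit 0, nat_lit 1, nat_lit 6, nat_lit 11, nat_lit 2, nat_lit 7, nat_lit 3, nat_lit 0, nat_lit 1, nat_lit 6, nat_lit 11, nat_lit 2, nat_lit 7, nat_lit 3, nat_lit 0, nat_lit 1, nat_lit 6, nat_lit 11, nat_lit 2, nat_lit 7, nat_lit 3, nat_lit 0, nat_lit 1, nat_lit 6, nat_lit 11, nat_lit 2, nat_lit 7, nat_lit 3, nat_lit 8, nat_lit 3, nat_lit 7, nat_lit 2, nat_lit 11, nat_lit 6, nat_lit 1, nat_lit 0, nat_lit 3, nat_lit 7, nat_lit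 2, nat_lit 11, nat_lit 6, nat_lit 1, nat_lit 0, nat_lit 3, nat_lit 7, nat_lit 2, nat_lit 11, nat_lit 6, nat_lit 1, nat_lit 0, nat_lit 3, nat_lit 7, nat_lit 2, nat_lit 11, nat_lit 6, nat_lit 1, nat_lit 0, nat_lit 3, nat_lit 7, nat_lit 2, nat_lit 11, nat_lit 6, nat_lit 1, nat_lit 0, nat_lit 3, nat_lit 7, nat_lit 2, nat_lit 11, nat_lit 6, nat_lit 1, nat_lit 0, nat_lit 3, nat_lit 7, nat_lit 2, nat_lit 11, nat_lit 6, nat_lit 1, nat_lit 0, nat_lit 3, nat_lit 7, nat_lit 2, nat_lit 11, nat_lit 6, nat_lit 1, nat_lit 0, nat_lit 3, nat_lit 7, nat_lit 2, nat_lit 11, nat_lit 6, nat_lit 1, nat_lit 0]]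
theorem i6 : Imp R0 R6 := imp_ext i5 (imp_comm (A := R5) (u := [nat_lit 3, nat_lit 7, nat_lit 2, nat_lit 11, nat_lit 6, nat_lit 1, nat_lit 0, nat_lit 3, nat_lit 7, nat_lit 2, nat_lit 11, nat_lit 6, nat_lit 1, nat_lit 0, nat_lit 3, nat_lit 7, nat_lit 2, nat_lit 11, nat_lit 6, nat_lit 1, nat_lit 0, nat_lit 3, nat_lit 7, nat_lit 2, nat_lit 11, nat_lit 6, nat_lit 1, nat_lit 0, nat_lit 3, nat_lit 7, nat_lit 2, nat_lit 11, nat_lit 6, nat_lit 1, nat_lit 0, nat_lit 3, nat_lit 7, nat_lit 2, nat_lit 11, nat_lit 6, nat_lit 1, nat_lit 0, nat_lit 3, nat_lit 7, nat_lit 2, nat_lit 11, nat_lit 6, nat_lit 1, nat_lit 0, nat_lit 3, nat_lit 7, nat_lit 2, nat_lit 11, nat_lit 6, nat_lit 1, nat_lit 0, nat_lit 3, nat_lit 7, nat_lit 2, nat_lit 11, nat_lit 6, nat_lit 1, nat_lit 0]) (v := [nat_lit 3, nat_lit 12, nat_lit 2, nat_lit 6, nat_lit 11, nat_lit 1, nat_lit 0, nat_lit 3,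 nat_lit 12, nat_lit 2, nat_lit 6, nat_lit 11, nat_lit 1, nat_lit 0, nat_lit 3, nat_lit 12, nat_lit 2, nat_lit 6, nat_lit 11, nat_lit 1, nat_lit 0, nat_lit 3, nat_lit 12, nat_lit 2, nat_lit 6, nat_lit 11, nat_lit 1, nat_lit 0, nat_lit 3, nat_lit 12, nat_lit 2, nat_lit 6, nat_lit 11, nat_lit 1, nat_lit 0, nat_lit 3, nat_lit 12, nat_lit 2, nat_lit 6, nat_lit 11, nat_lit 1, nat_lit 0, nat_lit 3, nat_lit 12, nat_lit 2, nat_lit 6, nat_lit 11, nat_lit 1, nat_lit 0, nat_lit 3, nat_lit 12, nat_lit 2, nat_lit 6, nat_lit 11, nat_lit 1, nat_lit 0, nat_lit 3, nat_lit 12, nat_lit 2, nat_lit 6, nat_lit 11, nat_lit 1, nat_lit 0]) (x := 8) (by decide +kernel)) (by decide +kernel)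
def R7 : List (List ℕ) := R6 ++ [[nat_lit 9, nat_lit 0, nat_lit 1, nat_lit 6, nat_lit 11, nat_lit 2, nat_lit 7, nat_lit 3, nat_lit 0, nat_lit 1, nat_lit 6, nat_lit 11, nat_lit 2, nat_lit 7, nat_lit 3, nat_lit 0, nat_lit 1, nat_lit 6, nat_lit 11, nat_lit 2, nat_lit 7, nat_lit 3, nat_lit 0, nat_lit 1, nat_lit 6, nat_lit 11, nat_lit 2, nat_lit 7, nat_lit 3, nat_lit 0, nat_lit 1, nat_lit 6, nat_lit 11, nat_lit 2, nat_lit 7, nat_lit 3, nat_lit 0, nat_lit 1, nat_lit 6, nat_lit 11, nat_lit 2, nat_lit 7, nat_lit 3, nat_lit 0, nat_lit 1, nat_lit 6, nat_lit 11, nat_lit 2, nat_lit 7, nat_lit 3, nat_lit 0, nat_lit 1, nat_lit 6, nat_lit 11, nat_lit 2, nat_lit 7, nat_lit 3, nat_lit 0, nat_lit 1, nat_lit 6, nat_lit 11, nat_lit 2, nat_lit 7, nat_lit 3, nat_lit 9, nat_lit 3, nat_lit 7, nat_lit 2, nat_lit 11, nat_lit 6, nat_lit 1, nat_lit 0, nat_lit 3, nat_lit 7, nat_lit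 2, nat_lit 11, nat_lit 6, nat_lit 1, nat_lit 0, nat_lit 3, nat_lit 7, nat_lit 2, nat_lit 11, nat_lit 6, nat_lit 1, nat_lit 0, nat_lit 3, nat_lit 7, nat_lit 2, nat_lit 11, nat_lit 6, nat_lit 1, nat_lit 0, nat_lit 3, nat_lit 7, nat_lit 2, nat_lit 11, nat_lit 6, nat_lit 1, nat_lit 0, nat_lit 3, nat_lit 7, nat_lit 2, nat_lit 11, nat_lit 6, nat_lit 1, nat_lit 0, nat_lit 3, nat_lit 7, nat_lit 2, nat_lit 11, nat_lit 6, nat_lit 1, nat_lit 0, nat_lit 3, nat_lit 7, nat_lit 2, nat_lit 11, nat_lit 6, nat_lit 1, nat_lit 0, nat_lit 3, nat_lit 7, nat_lit 2, nat_lit 11, nat_lit 6, nat_lit 1, nat_lit 0]]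
theorem i7 : Imp R0 R7 := imp_ext i6 (imp_comm (A := R6) (u := [nat_lit 3, nat_lit 7, nat_lit 2, nat_lit 11, nat_lit 6, nat_lit 1, nat_lit 0, nat_lit 3, nat_lit 7, nat_lit 2, nat_lit 11, nat_lit 6, nat_lit 1, nat_lit 0, nat_lit 3, nat_lit 7, nat_lit 2, nat_lit 11, nat_lit 6, nat_lit 1, nat_lit 0, nat_lit 3, nat_lit 7, nat_lit 2, nat_lit 11, nat_lit 6, nat_lit 1, nat_lit 0, nat_lit 3, nat_lit 7, nat_lit 2, nat_lit 11, nat_lit 6, nat_lit 1, nat_lit 0, nat_lit 3, nat_lit 7, nat_lit 2, nat_lit 11, nat_lit 6, nat_lit 1, nat_lit 0, nat_lit 3, nat_lit 7, nat_lit 2, nat_lit 11, nat_lit 6, nat_lit 1, nat_lit 0, nat_lit 3, nat_lit 7, nat_lit 2, nat_lit 11, nat_lit 6, nat_lit 1, nat_lit 0, nat_lit 3, nat_lit 7, nat_lit 2, nat_lit 11, nat_lit 6, nat_lit 1, nat_lit 0]) (v := [nat_lit 3, nat_lit 12, nat_lit 2, nat_lit 6, nat_lit 11, nat_lit 1, nat_lit 0, nat_lit 3,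 nat_lit 12, nat_lit 2, nat_lit 6, nat_lit 11, nat_lit 1, nat_lit 0, nat_lit 3, nat_lit 12, nat_lit 2, nat_lit 6, nat_lit 11, nat_lit 1, nat_lit 0, nat_lit 3, nat_lit 12, nat_lit 2, nat_lit 6, nat_lit 11, nat_lit 1, nat_lit 0, nat_lit 3, nat_lit 12, nat_lit 2, nat_lit 6, nat_lit 11, nat_lit 1, nat_lit 0, nat_lit 3, nat_lit 12, nat_lit 2, nat_lit 6, nat_lit 11, nat_lit 1, nat_lit 0, nat_lit 3, nat_lit 12, nat_lit 2, nat_lit 6, nat_lit 11, nat_lit 1, nat_lit 0, nat_lit 3, nat_lit 12, nat_lit 2, nat_lit 6, nat_lit 11, nat_lit 1, nat_lit 0, nat_lit 3, nat_lit 12, nat_lit 2, nat_lit 6, nat_lit 11, nat_lit 1, nat_lit 0]) (x := 9) (by decide +kernel)) (by decide +kernel)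
def R8 : List (List ℕ) := R7 ++ [[nat_lit 13, nat_lit 0, nat_lit 6, nat_lit 11, nat_lit 1, nat_lit 7, nat_lit 12, nat_lit 8, nat_lit 0, nat_lit 6, nat_lit 11, nat_lit 1, nat_lit 7, nat_lit 12, nat_lit 8, nat_lit 0, nat_lit 6, nat_lit 11, nat_lit 1, nat_lit 7, nat_lit 12, nat_lit 8, nat_lit 0, nat_lit 6, nat_lit 11, nat_lit 1, nat_lit 7, nat_lit 12, nat_lit 8, nat_lit 0, nat_lit 6, nat_lit 11, nat_lit 1, nat_lit 7, nat_lit 12, nat_lit 8, nat_lit 0, nat_lit 6, nat_lit 11, nat_lit 1, nat_lit 7, nat_lit 12, nat_lit 8, nat_lit 0, nat_lit 6, nat_lit 11, nat_lit 1, nat_lit 7, nat_lit 12, nat_lit 8, nat_lit 0, nat_lit 6, nat_lit 11, nat_lit 1, nat_lit 7, nat_lit 12, nat_lit 8, nat_lit 0, nat_lit 6, nat_lit 11, nat_lit 1, nat_lit 7, nat_lit 12, nat_lit 8, nat_lit 13, nat_lit 8, nat_lit 12, nat_lit 7, nat_lit 1, nat_lit 11, nat_lit 6, nat_lit 0, nat_lit 8, nat_lit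 12, nat_lit 7, nat_lit 1, nat_lit 11, nat_lit 6, nat_lit 0, nat_lit 8, nat_lit 12, nat_lit 7, nat_lit 1, nat_lit 11, nat_lit 6, nat_lit 0, nat_lit 8, nat_lit 12, nat_lit 7, nat_lit 1, nat_lit 11, nat_lit 6, nat_lit 0, nat_lit 8, nat_lit 12, nat_lit 7, nat_lit 1, nat_lit 11, nat_lit 6, nat_lit 0, nat_lit 8, nat_lit 12, nat_lit 7, nat_lit 1, nat_lit 11, nat_lit 6, nat_lit 0, nat_lit 8, nat_lit 12, nat_lit 7, nat_lit 1, nat_lit 11, nat_lit 6, nat_lit 0, nat_lit 8, nat_lit 12, nat_lit 7, nat_lit 1, nat_lit 11, nat_lit 6, nat_lit 0, nat_lit 8, nat_lit 12, nat_lit 7, nat_lit 1, nat_lit 11, nat_lit 6, nat_lit 0]]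
theorem i8 : Imp R0 R8 := imp_ext i7 (imp_comm (A := R7) (u := [nat_lit 8, nat_lit 12, nat_lit 7, nat_lit 1, nat_lit 11, nat_lit 6, nat_lit 0, nat_lit 8, nat_lit 12, nat_lit 7, nat_lit 1, nat_lit 11, nat_lit 6, nat_lit 0, nat_lit 8, nat_lit 12, nat_lit 7, nat_lit 1, nat_lit 11, nat_lit 6, nat_lit 0, nat_lit 8, nat_lit 12, nat_lit 7, nat_lit 1, nat_lit 11, nat_lit 6, nat_lit 0, nat_lit 8, nat_lit 12, nat_lit 7, nat_lit 1, nat_lit 11, nat_lit 6, nat_lit 0, nat_lit 8, nat_lit 12, nat_lit 7, nat_lit 1, nat_lit 11, nat_lit 6, nat_lit 0, nat_lit 8, nat_lit 12, nat_lit 7, nat_lit 1, nat_lit 11, nat_lit 6, nat_lit 0, nat_lit 8, nat_lit 12, nat_lit 7, nat_lit 1, nat_lit 11, nat_lit 6, nat_lit 0, nat_lit 8, nat_lit 12, nat_lit 7, nat_lit 1, nat_lit 11, nat_lit 6, nat_lit 0]) (v := [nat_lit 8, nat_lit 2, nat_lit 7, nat_lit 11, nat_lit 1, nat_lit 6, nat_lit 0, nat_lit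 8, nat_lit 2, nat_lit 7, nat_lit 11, nat_lit 1, nat_lit 6, nat_lit 0, nat_lit 8, nat_lit 2, nat_lit 7, nat_lit 11, nat_lit 1, nat_lit 6, nat_lit 0, nat_lit 8, nat_lit 2, nat_lit 7, nat_lit 11, nat_lit 1, nat_lit 6, nat_lit 0, nat_lit 8, nat_lit 2, nat_lit 7, nat_lit 11, nat_lit 1, nat_lit 6, nat_lit 0, nat_lit 8, nat_lit 2, nat_lit 7, nat_lit 11, nat_lit 1, nat_lit 6, nat_lit 0, nat_lit 8, nat_lit 2, nat_lit 7, nat_lit 11, nat_lit 1, nat_lit 6, nat_lit 0, nat_lit 8, nat_lit 2, nat_lit 7, nat_lit 11, nat_lit 1, nat_lit 6, nat_lit 0, nat_lit 8, nat_lit 2, nat_lit 7, nat_lit 11, nat_lit 1, nat_lit 6, nat_lit 0]) (x := 13) (by decide +kernel)) (by decide +kernel)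
def R9 : List (List ℕ) := R8 ++ [[nat_lit 14, nat_lit 0, nat_lit 6, nat_lit 11, nat_lit 1, nat_lit 7, nat_lit 12, nat_lit 8, nat_lit 0, nat_lit 6, nat_lit 11, nat_lit 1, nat_lit 7, nat_lit 12, nat_lit 8, nat_lit 0, nat_lit 6, nat_lit 11, nat_lit 1, nat_lit 7, nat_lit 12, nat_lit 8, nat_lit 0, nat_lit 6, nat_lit 11, nat_lit 1, nat_lit 7, nat_lit 12, nat_lit 8, nat_lit 0, nat_lit 6, nat_lit 11, nat_lit 1, nat_lit 7, nat_lit 12, nat_lit 8, nat_lit 0, nat_lit 6, nat_lit 11, nat_lit 1, nat_lit 7, nat_lit 12, nat_lit 8, nat_lit 0, nat_lit 6, nat_lit 11, nat_lit 1, nat_lit 7, nat_lit 12, nat_lit 8, nat_lit 0, nat_lit 6, nat_lit 11, nat_lit 1, nat_lit 7, nat_lit 12, nat_lit 8, nat_lit 0, nat_lit 6, nat_lit 11, nat_lit 1, nat_lit 7, nat_lit 12, nat_lit 8, nat_lit 14, nat_lit 8, nat_lit 12, nat_lit 7, nat_lit 1, nat_lit 11, nat_lit 6, nat_lit 0, nat_lit 8, nat_lit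 12, nat_lit 7, nat_lit 1, nat_lit 11, nat_lit 6, nat_lit 0, nat_lit 8, nat_lit 12, nat_lit 7, nat_lit 1, nat_lit 11, nat_lit 6, nat_lit 0, nat_lit 8, nat_lit 12, nat_lit 7, nat_lit 1, nat_lit 11, nat_lit 6, nat_lit 0, nat_lit 8, nat_lit 12, nat_lit 7, nat_lit 1, nat_lit 11, nat_lit 6, nat_lit 0, nat_lit 8, nat_lit 12, nat_lit 7, nat_lit 1, nat_lit 11, nat_lit 6, nat_lit 0, nat_lit 8, nat_lit 12, nat_lit 7, nat_lit 1, nat_lit 11, nat_lit 6, nat_lit 0, nat_lit 8, nat_lit 12, nat_lit 7, nat_lit 1, nat_lit 11, nat_lit 6, nat_lit 0, nat_lit 8, nat_lit 12, nat_lit 7, nat_lit 1, nat_lit 11, nat_lit 6, nat_lit 0]]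
theorem i9 : Imp R0 R9 := imp_ext i8 (imp_comm (A := R8) (u := [nat_lit 8, nat_lit 12, nat_lit 7, nat_lit 1, nat_lit 11, nat_lit 6, nat_lit 0, nat_lit 8, nat_lit 12, nat_lit 7, nat_lit 1, nat_lit 11, nat_lit 6, nat_lit 0, nat_lit 8, nat_lit 12, nat_lit 7, nat_lit 1, nat_lit 11, nat_lit 6, nat_lit 0, nat_lit 8, nat_lit 12, nat_lit 7, nat_lit 1, nat_lit 11, nat_lit 6, nat_lit 0, nat_lit 8, nat_lit 12, nat_lit 7, nat_lit 1, nat_lit 11, nat_lit 6, nat_lit 0, nat_lit 8, nat_lit 12, nat_lit 7, nat_lit 1, nat_lit 11, nat_lit 6, nat_lit 0, nat_lit 8, nat_lit 12, nat_lit 7, nat_lit 1, nat_lit 11, nat_lit 6, nat_lit 0, nat_lit 8, nat_lit 12, nat_lit 7, nat_lit 1, nat_lit 11, nat_lit 6, nat_lit 0, nat_lit 8, nat_lit 12, nat_lit 7, nat_lit 1, nat_lit 11, nat_lit 6, nat_lit 0]) (v := [nat_lit 8, nat_lit 2, nat_lit 7, nat_lit 11, nat_lit 1, nat_lit 6, nat_lit 0, nat_lit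 8, nat_lit 2, nat_lit 7, nat_lit 11, nat_lit 1, nat_lit 6, nat_lit 0, nat_lit 8, nat_lit 2, nat_lit 7, nat_lit 11, nat_lit 1, nat_lit 6, nat_lit 0, nat_lit 8, nat_lit 2, nat_lit 7, nat_lit 11, nat_lit 1, nat_lit 6, nat_lit 0, nat_lit 8, nat_lit 2, nat_lit 7, nat_lit 11, nat_lit 1, nat_lit 6, nat_lit 0, nat_lit 8, nat_lit 2, nat_lit 7, nat_lit 11, nat_lit 1, nat_lit 6, nat_lit 0, nat_lit 8, nat_lit 2, nat_lit 7, nat_lit 11, nat_lit 1, nat_lit 6, nat_lit 0, nat_lit 8, nat_lit 2, nat_lit 7, nat_lit 11, nat_lit 1, nat_lit 6, nat_lit 0, nat_lit 8, nat_lit 2, nat_lit 7, nat_lit 11, nat_lit 1, nat_lit 6, nat_lit 0]) (x := 14) (by decide +kernel)) (by decide +kernel)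
def R10 : List (List ℕ) := R9 ++ [[nat_lit 3, nat_lit 0, nat_lit 11, nat_lit 1, nat_lit 6, nat_lit 12, nat_lit 2, nat_lit 13, nat_lit 0, nat_lit 11, nat_lit 1, nat_lit 6, nat_lit 12, nat_lit 2, nat_lit 13, nat_lit 0, nat_lit 11, nat_lit 1, nat_lit 6, nat_lit 12, nat_lit 2, nat_lit 13, nat_lit 0, nat_lit 11, nat_lit 1, nat_lit 6, nat_lit 12, nat_lit 2, nat_lit 13, nat_lit 0, nat_lit 11, nat_lit 1, nat_lit 6, nat_lit 12, nat_lit 2, nat_lit 13, nat_lit 0, nat_lit 11, nat_lit 1, nat_lit 6, nat_lit 12, nat_lit 2, nat_lit 13, nat_lit 0, nat_lit 11, nat_lit 1, nat_lit 6, nat_lit 12, nat_lit 2, nat_lit 13, nat_lit 0, nat_lit 11, nat_lit 1, nat_lit 6, nat_lit 12, nat_lit 2, nat_lit 13, nat_lit 0, nat_lit 11, nat_lit 1, nat_lit 6, nat_lit 12, nat_lit 2, nat_lit 13, nat_lit 3, nat_lit 13, nat_lit 2, nat_lit 12, nat_lit 6, nat_lit 1, nat_lit 11, nat_lit 0, nat_lit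 13, nat_lit 2, nat_lit 12, nat_lit 6, nat_lit 1, nat_lit 11, nat_lit 0, nat_lit 13, nat_lit 2, nat_lit 12, nat_lit 6, nat_lit 1, nat_lit 11, nat_lit 0, nat_lit 13, nat_lit 2, nat_lit 12, nat_lit 6, nat_lit 1, nat_lit 11, nat_lit 0, nat_lit 13, nat_lit 2, nat_lit 12, nat_lit 6, nat_lit 1, nat_lit 11, nat_lit 0, nat_lit 13, nat_lit 2, nat_lit 12, nat_lit 6, nat_lit 1, nat_lit 11, nat_lit 0, nat_lit 13, nat_lit 2, nat_lit 12, nat_lit 6, nat_lit 1, nat_lit 11, nat_lit 0, nat_lit 13, nat_lit 2, nat_lit 12, nat_lit 6, nat_lit 1, nat_lit 11, nat_lit 0, nat_lit 13, nat_lit 2, nat_lit 12, nat_lit 6, nat_lit 1, nat_lit 11, nat_lit 0]]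
theorem i10 : Imp R0 R10 := imp_ext i9 (imp_comm (A := R9) (u := [nat_lit 13, nat_lit 2, nat_lit 12, nat_lit 6, nat_lit 1, nat_lit 11, nat_lit 0, nat_lit 13, nat_lit 2, nat_lit 12, nat_lit 6, nat_lit 1, nat_lit 11, nat_lit 0, nat_lit 13, nat_lit 2, nat_lit 12, nat_lit 6, nat_lit 1, nat_lit 11, nat_lit 0, nat_lit 13, nat_lit 2, nat_lit 12, nat_lit 6, nat_lit 1, nat_lit 11, nat_lit 0, nat_lit 13, nat_lit 2, nat_lit 12, nat_lit 6, nat_lit 1, nat_lit 11, nat_lit 0, nat_lit 13, nat_lit 2, nat_lit 12, nat_lit 6, nat_lit 1, nat_lit 11, nat_lit 0, nat_lit 13, nat_lit 2, nat_lit 12, nat_lit 6, nat_lit 1, nat_lit 11, nat_lit 0, nat_lit 13, nat_lit 2, nat_lit 12, nat_lit 6, nat_lit 1, nat_lit 11, nat_lit 0, nat_lit 13, nat_lit 2, nat_lit 12, nat_lit 6, nat_lit 1, nat_lit 11, nat_lit 0]) (v := [nat_lit 13, nat_lit 7, nat_lit 12, nat_lit 1, nat_lit 6, nat_lit 11,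 nat_lit 0, nat_lit 13, nat_lit 7, nat_lit 12, nat_lit 1, nat_lit 6, nat_lit 11, nat_lit 0, nat_lit 13, nat_lit 7, nat_lit 12, nat_lit 1, nat_lit 6, nat_lit 11, nat_lit 0, nat_lit 13, nat_lit 7, nat_lit 12, nat_lit 1, nat_lit 6, nat_lit 11, nat_lit 0, nat_lit 13, nat_lit 7, nat_lit 12, nat_lit 1, nat_lit 6, nat_lit 11, nat_lit 0, nat_lit 13, nat_lit 7, nat_lit 12, nat_lit 1, nat_lit 6, nat_lit 11, nat_lit 0, nat_lit 13, nat_lit 7, nat_lit 12, nat_lit 1, nat_lit 6, nat_lit 11, nat_lit 0, nat_lit 13, nat_lit 7, nat_lit 12, nat_lit 1, nat_lit 6, nat_lit 11, nat_lit 0, nat_lit 13, nat_lit 7, nat_lit 12, nat_lit 1, nat_lit 6, nat_lit 11, nat_lit 0]) (x := 3) (by decide +kernel)) (by decide +kernel)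
def R11 : List (List ℕ) := R10 ++ [[nat_lit 4, nat_lit 0, nat_lit 11, nat_lit 1, nat_lit 6, nat_lit 12, nat_lit 2, nat_lit 13, nat_lit 0, nat_lit 11, nat_lit 1, nat_lit 6, nat_lit 12, nat_lit 2, nat_lit 13, nat_lit 0, nat_lit 11, nat_lit 1, nat_lit 6, nat_lit 12, nat_lit 2, nat_lit 13, nat_lit 0, nat_lit 11, nat_lit 1, nat_lit 6, nat_lit 12, nat_lit 2, nat_lit 13, nat_lit 0, nat_lit 11, nat_lit 1, nat_lit 6, nat_lit 12, nat_lit 2, nat_lit 13, nat_lit 0, nat_lit 11, nat_lit 1, nat_lit 6, nat_lit 12, nat_lit 2, nat_lit 13, nat_lit 0, nat_lit 11, nat_lit 1, nat_lit 6, nat_lit 12, nat_lit 2, nat_lit 13, nat_lit 0, nat_lit 11, nat_lit 1, nat_lit 6, nat_lit 12, nat_lit 2, nat_lit 13, nat_lit 0, nat_lit 11, nat_lit 1, nat_lit 6, nat_lit 12, nat_lit 2, nat_lit 13, nat_lit 4, nat_lit 13, nat_lit 2, nat_lit 12, nat_lit 6, nat_lit 1, nat_lit 11, nat_lit 0, nat_lit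 13, nat_lit 2, nat_lit 12, nat_lit 6, nat_lit 1, nat_lit 11, nat_lit 0, nat_lit 13, nat_lit 2, nat_lit 12, nat_lit 6, nat_lit 1, nat_lit 11, nat_lit 0, nat_lit 13, nat_lit 2, nat_lit 12, nat_lit 6, nat_lit 1, nat_lit 11, nat_lit 0, nat_lit 13, nat_lit 2, nat_lit 12, nat_lit 6, nat_lit 1, nat_lit 11, nat_lit 0, nat_lit 13, nat_lit 2, nat_lit 12, nat_lit 6, nat_lit 1, nat_lit 11, nat_lit 0, nat_lit 13, nat_lit 2, nat_lit 12, nat_lit 6, nat_lit 1, nat_lit 11, nat_lit 0, nat_lit 13, nat_lit 2, nat_lit 12, nat_lit 6, nat_lit 1, nat_lit 11, nat_lit 0, nat_lit 13, nat_lit 2, nat_lit 12, nat_lit 6, nat_lit 1, nat_lit 11, nat_lit 0]]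
theorem i11 : Imp R0 R11 := imp_ext i10 (imp_comm (A := R10) (u := [nat_lit 13, nat_lit 2, nat_lit 12, nat_lit 6, nat_lit 1, nat_lit 11, nat_lit 0, nat_lit 13, nat_lit 2, nat_lit 12, nat_lit 6, nat_lit 1, nat_lit 11, nat_lit 0, nat_lit 13, nat_lit 2, nat_lit 12, nat_lit 6, nat_lit 1, nat_lit 11, nat_lit 0, nat_lit 13, nat_lit 2, nat_lit 12, nat_lit 6, nat_lit 1, nat_lit 11, nat_lit 0, nat_lit 13, nat_lit 2, nat_lit 12, nat_lit 6, nat_lit 1, nat_lit 11, nat_lit 0, nat_lit 13, nat_lit 2, nat_lit 12, nat_lit 6, nat_lit 1, nat_lit 11, nat_lit 0, nat_lit 13, nat_lit 2, nat_lit 12, nat_lit 6, nat_lit 1, nat_lit 11, nat_lit 0, nat_lit 13, nat_lit 2, nat_lit 12, nat_lit 6, nat_lit 1, nat_lit 11, nat_lit 0, nat_lit 13, nat_lit 2, nat_lit 12, nat_lit 6, nat_lit 1, nat_lit 11, nat_lit 0]) (v := [nat_lit 13, nat_lit 7, nat_lit 12, nat_lit 1, nat_lit 6, nat_lit 11,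 nat_lit 0, nat_lit 13, nat_lit 7, nat_lit 12, nat_lit 1, nat_lit 6, nat_lit 11, nat_lit 0, nat_lit 13, nat_lit 7, nat_lit 12, nat_lit 1, nat_lit 6, nat_lit 11, nat_lit 0, nat_lit 13, nat_lit 7, nat_lit 12, nat_lit 1, nat_lit 6, nat_lit 11, nat_lit 0, nat_lit 13, nat_lit 7, nat_lit 12, nat_lit 1, nat_lit 6, nat_lit 11, nat_lit 0, nat_lit 13, nat_lit 7, nat_lit 12, nat_lit 1, nat_lit 6, nat_lit 11, nat_lit 0, nat_lit 13, nat_lit 7, nat_lit 12, nat_lit 1, nat_lit 6, nat_lit 11, nat_lit 0, nat_lit 13, nat_lit 7, nat_lit 12, nat_lit 1, nat_lit 6, nat_lit 11, nat_lit 0, nat_lit 13, nat_lit 7, nat_lit 12, nat_lit 1, nat_lit 6, nat_lit 11, nat_lit 0]) (x := 4) (by decide +kernel)) (by decide +kernel)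
def R12 : List (List ℕ) := R11 ++ [[nat_lit 13, nat_lit 0, nat_lit 1, nat_lit 11, nat_lit 6, nat_lit 2, nat_lit 12, nat_lit 3, nat_lit 0, nat_lit 1, nat_lit 11, nat_lit 6, nat_lit 2, nat_lit 12, nat_lit 3, nat_lit 0, nat_lit 1, nat_lit 11, nat_lit 6, nat_lit 2, nat_lit 12, nat_lit 3, nat_lit 0, nat_lit 1, nat_lit 11, nat_lit 6, nat_lit 2, nat_lit 12, nat_lit 3, nat_lit 0, nat_lit 1, nat_lit 11, nat_lit 6, nat_lit 2, nat_lit 12, nat_lit 3, nat_lit 0, nat_lit 1, nat_lit 11, nat_lit 6, nat_lit 2, nat_lit 12, nat_lit 3, nat_lit 0, nat_lit 1, nat_lit 11, nat_lit 6, nat_lit 2, nat_lit 12, nat_lit 3, nat_lit 0, nat_lit 1, nat_lit 11, nat_lit 6, nat_lit 2, nat_lit 12, nat_lit 3, nat_lit 0, nat_lit 1, nat_lit 11, nat_lit 6, nat_lit 2, nat_lit 12, nat_lit 3, nat_lit 13, nat_lit 3, nat_lit 12, nat_lit 2, nat_lit 6, nat_lit 11, nat_lit 1, nat_lit 0, nat_lit 3, nat_lit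 12, nat_lit 2, nat_lit 6, nat_lit 11, nat_lit 1, nat_lit 0, nat_lit 3, nat_lit 12, nat_lit 2, nat_lit 6, nat_lit 11, nat_lit 1, nat_lit 0, nat_lit 3, nat_lit 12, nat_lit 2, nat_lit 6, nat_lit 11, nat_lit 1, nat_lit 0, nat_lit 3, nat_lit 12, nat_lit 2, nat_lit 6, nat_lit 11, nat_lit 1, nat_lit 0, nat_lit 3, nat_lit 12, nat_lit 2, nat_lit 6, nat_lit 11, nat_lit 1, nat_lit 0, nat_lit 3, nat_lit 12, nat_lit 2, nat_lit 6, nat_lit 11, nat_lit 1, nat_lit 0, nat_lit 3, nat_lit 12, nat_lit 2, nat_lit 6, nat_lit 11, nat_lit 1, nat_lit 0, nat_lit 3, nat_lit 12, nat_lit 2, nat_lit 6, nat_lit 11, nat_lit 1, nat_lit 0]]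
theorem i12 : Imp R0 R12 := imp_ext i11 (imp_comm (A := R11) (u := [nat_lit 3, nat_lit 12, nat_lit 2, nat_lit 6, nat_lit 11, nat_lit 1, nat_lit 0, nat_lit 3, nat_lit 12, nat_lit 2, nat_lit 6, nat_lit 11, nat_lit 1, nat_lit 0, nat_lit 3, nat_lit 12, nat_lit 2, nat_lit 6, nat_lit 11, nat_lit 1, nat_lit 0, nat_lit 3, nat_lit 12, nat_lit 2, nat_lit 6, nat_lit 11, nat_lit 1, nat_lit 0, nat_lit 3, nat_lit 12, nat_lit 2, nat_lit 6, nat_lit 11, nat_lit 1, nat_lit 0, nat_lit 3, nat_lit 12, nat_lit 2, nat_lit 6, nat_lit 11, nat_lit 1, nat_lit 0, nat_lit 3, nat_lit 12, nat_lit 2, nat_lit 6, nat_lit 11, nat_lit 1, nat_lit 0, nat_lit 3, nat_lit 12, nat_lit 2, nat_lit 6, nat_lit 11, nat_lit 1, nat_lit 0, nat_lit 3, nat_lit 12, nat_lit 2, nat_lit 6, nat_lit 11, nat_lit 1, nat_lit 0]) (v := [nat_lit 3, nat_lit 7, nat_lit 2, nat_lit 11, nat_lit 6, nat_lit 1, nat_lit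 0, nat_lit 3, nat_lit 7, nat_lit 2, nat_lit 11, nat_lit 6, nat_lit 1, nat_lit 0, nat_lit 3, nat_lit 7, nat_lit 2, nat_lit 11, nat_lit 6, nat_lit 1, nat_lit 0, nat_lit 3, nat_lit 7, nat_lit 2, nat_lit 11, nat_lit 6, nat_lit 1, nat_lit 0, nat_lit 3, nat_lit 7, nat_lit 2, nat_lit 11, nat_lit 6, nat_lit 1, nat_lit 0, nat_lit 3, nat_lit 7, nat_lit 2, nat_lit 11, nat_lit 6, nat_lit 1, nat_lit 0, nat_lit 3, nat_lit 7, nat_lit 2, nat_lit 11, nat_lit 6, nat_lit 1, nat_lit 0, nat_lit 3, nat_lit 7, nat_lit 2, nat_lit 11, nat_lit 6, nat_lit 1, nat_lit 0, nat_lit 3, nat_lit 7, nat_lit 2, nat_lit 11, nat_lit 6, nat_lit 1, nat_lit 0]) (x := 13) (by decide +kernel)) (by decide +kernel)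
def R13 : List (List ℕ) := R12 ++ [[nat_lit 14, nat_lit 0, nat_lit 1, nat_lit 11, nat_lit 6, nat_lit 2, nat_lit 12, nat_lit 3, nat_lit 0, nat_lit 1, nat_lit 11, nat_lit 6, nat_lit 2, nat_lit 12, nat_lit 3, nat_lit 0, nat_lit 1, nat_lit 11, nat_lit 6, nat_lit 2, nat_lit 12, nat_lit 3, nat_lit 0, nat_lit 1, nat_lit 11, nat_lit 6, nat_lit 2, nat_lit 12, nat_lit 3, nat_lit 0, nat_lit 1, nat_lit 11, nat_lit 6, nat_lit 2, nat_lit 12, nat_lit 3, nat_lit 0, nat_lit 1, nat_lit 11, nat_lit 6, nat_lit 2, nat_lit 12, nat_lit 3, nat_lit 0, nat_lit 1, nat_lit 11, nat_lit 6, nat_lit 2, nat_lit 12, nat_lit 3, nat_lit 0, nat_lit 1, nat_lit 11, nat_lit 6, nat_lit 2, nat_lit 12, nat_lit 3, nat_lit 0, nat_lit 1, nat_lit 11, nat_lit 6, nat_lit 2, nat_lit 12, nat_lit 3, nat_lit 14, nat_lit 3, nat_lit 12, nat_lit 2, nat_lit 6, nat_lit 11, nat_lit 1, nat_lit 0, nat_lit 3, nat_lit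 12, nat_lit 2, nat_lit 6, nat_lit 11, nat_lit 1, nat_lit 0, nat_lit 3, nat_lit 12, nat_lit 2, nat_lit 6, nat_lit 11, nat_lit 1, nat_lit 0, nat_lit 3, nat_lit 12, nat_lit 2, nat_lit 6, nat_lit 11, nat_lit 1, nat_lit 0, nat_lit 3, nat_lit 12, nat_lit 2, nat_lit 6, nat_lit 11, nat_lit 1, nat_lit 0, nat_lit 3, nat_lit 12, nat_lit 2, nat_lit 6, nat_lit 11, nat_lit 1, nat_lit 0, nat_lit 3, nat_lit 12, nat_lit 2, nat_lit 6, nat_lit 11, nat_lit 1, nat_lit 0, nat_lit 3, nat_lit 12, nat_lit 2, nat_lit 6, nat_lit 11, nat_lit 1, nat_lit 0, nat_lit 3, nat_lit 12, nat_lit 2, nat_lit 6, nat_lit 11, nat_lit 1, nat_lit 0]]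
theorem i13 : Imp R0 R13 := imp_ext i12 (imp_comm (A := R12) (u := [nat_lit 3, nat_lit 12, nat_lit 2, nat_lit 6, nat_lit 11, nat_lit 1, nat_lit 0, nat_lit 3, nat_lit 12, nat_lit 2, nat_lit 6, nat_lit 11, nat_lit 1, nat_lit 0, nat_lit 3, nat_lit 12, nat_lit 2, nat_lit 6, nat_lit 11, nat_lit 1, nat_lit 0, nat_lit 3, nat_lit 12, nat_lit 2, nat_lit 6, nat_lit 11, nat_lit 1, nat_lit 0, nat_lit 3, nat_lit 12, nat_lit 2, nat_lit 6, nat_lit 11, nat_lit 1, nat_lit 0, nat_lit 3, nat_lit 12, nat_lit 2, nat_lit 6, nat_lit 11, nat_lit 1, nat_lit 0, nat_lit 3, nat_lit 12, nat_lit 2, nat_lit 6, nat_lit 11, nat_lit 1, nat_lit 0, nat_lit 3, nat_lit 12, nat_lit 2, nat_lit 6, nat_lit 11, nat_lit 1, nat_lit 0, nat_lit 3, nat_lit 12, nat_lit 2, nat_lit 6, nat_lit 11, nat_lit 1, nat_lit 0]) (v := [nat_lit 3, nat_lit 7, nat_lit 2, nat_lit 11, nat_lit 6, nat_lit 1, nat_lit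 0, nat_lit 3, nat_lit 7, nat_lit 2, nat_lit 11, nat_lit 6, nat_lit 1, nat_lit 0, nat_lit 3, nat_lit 7, nat_lit 2, nat_lit 11, nat_lit 6, nat_lit 1, nat_lit 0, nat_lit 3, nat_lit 7, nat_lit 2, nat_lit 11, nat_lit 6, nat_lit 1, nat_lit 0, nat_lit 3, nat_lit 7, nat_lit 2, nat_lit 11, nat_lit 6, nat_lit 1, nat_lit 0, nat_lit 3, nat_lit 7, nat_lit 2, nat_lit 11, nat_lit 6, nat_lit 1, nat_lit 0, nat_lit 3, nat_lit 7, nat_lit 2, nat_lit 11, nat_lit 6, nat_lit 1, nat_lit 0, nat_lit 3, nat_lit 7, nat_lit 2, nat_lit 11, nat_lit 6, nat_lit 1, nat_lit 0, nat_lit 3, nat_lit 7, nat_lit 2, nat_lit 11, nat_lit 6, nat_lit 1, nat_lit 0]) (x := 14) (by decide +kernel)) (by decide +kernel)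
def R14 : List (List ℕ) := R13 ++ [[nat_lit 3, nat_lit 0, nat_lit 6, nat_lit 1, nat_lit 11, nat_lit 7, nat_lit 2, nat_lit 8, nat_lit 0, nat_lit 6, nat_lit 1, nat_lit 11, nat_lit 7, nat_lit 2, nat_lit 8, nat_lit 0, nat_lit 6, nat_lit 1, nat_lit 11, nat_lit 7, nat_lit 2, nat_lit 8, nat_lit 0, nat_lit 6, nat_lit 1, nat_lit 11, nat_lit 7, nat_lit 2, nat_lit 8, nat_lit 0, nat_lit 6, nat_lit 1, nat_lit 11, nat_lit 7, nat_lit 2, nat_lit 8, nat_lit 0, nat_lit 6, nat_lit 1, nat_lit 11, nat_lit 7, nat_lit 2, nat_lit 8, nat_lit 0, nat_lit 6, nat_lit 1, nat_lit 11, nat_lit 7, nat_lit 2, nat_lit 8, nat_lit 0, nat_lit 6, nat_lit 1, nat_lit 11, nat_lit 7, nat_lit 2, nat_lit 8, nat_lit 0, nat_lit 6, nat_lit 1, nat_lit 11, nat_lit 7, nat_lit 2, nat_lit 8, nat_lit 3, nat_lit 8, nat_lit 2, nat_lit 7, nat_lit 11, nat_lit 1, nat_lit 6, nat_lit 0, nat_lit 8, nat_lit 2, nat_lit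 7, nat_lit 11, nat_lit 1, nat_lit 6, nat_lit 0, nat_lit 8, nat_lit 2, nat_lit 7, nat_lit 11, nat_lit 1, nat_lit 6, nat_lit 0, nat_lit 8, nat_lit 2, nat_lit 7, nat_lit 11, nat_lit 1, nat_lit 6, nat_lit 0, nat_lit 8, nat_lit 2, nat_lit 7, nat_lit 11, nat_lit 1, nat_lit 6, nat_lit 0, nat_lit 8, nat_lit 2, nat_lit 7, nat_lit 11, nat_lit 1, nat_lit 6, nat_lit 0, nat_lit 8, nat_lit 2, nat_lit 7, nat_lit 11, nat_lit 1, nat_lit 6, nat_lit 0, nat_lit 8, nat_lit 2, nat_lit 7, nat_lit 11, nat_lit 1, nat_lit 6, nat_lit 0, nat_lit 8, nat_lit 2, nat_lit 7, nat_lit 11, nat_lit 1, nat_lit 6, nat_lit 0]]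
theorem i14 : Imp R0 R14 := imp_ext i13 (imp_comm (A := R13) (u := [nat_lit 8, nat_lit 2, nat_lit 7, nat_lit 11, nat_lit 1, nat_lit 6, nat_lit 0, nat_lit 8, nat_lit 2, nat_lit 7, nat_lit 11, nat_lit 1, nat_lit 6, nat_lit 0, nat_lit 8, nat_lit 2, nat_lit 7, nat_lit 11, nat_lit 1, nat_lit 6, nat_lit 0, nat_lit 8, nat_lit 2, nat_lit 7, nat_lit 11, nat_lit 1, nat_lit 6, nat_lit 0, nat_lit 8, nat_lit 2, nat_lit 7, nat_lit 11, nat_lit 1, nat_lit 6, nat_lit 0, nat_lit 8, nat_lit 2, nat_lit 7, nat_lit 11, nat_lit 1, nat_lit 6, nat_lit 0, nat_lit 8, nat_lit 2, nat_lit 7, nat_lit 11, nat_lit 1, nat_lit 6, nat_lit 0, nat_lit 8, nat_lit 2, nat_lit 7, nat_lit 11, nat_lit 1, nat_lit 6, nat_lit 0, nat_lit 8, nat_lit 2, nat_lit 7, nat_lit 11, nat_lit 1, nat_lit 6, nat_lit 0]) (v := [nat_lit 8, nat_lit 12, nat_lit 7, nat_lit 1, nat_lit 11, nat_lit 6, nat_lit 0, nat_lit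 8, nat_lit 12, nat_lit 7, nat_lit 1, nat_lit 11, nat_lit 6, nat_lit 0, nat_lit 8, nat_lit 12, nat_lit 7, nat_lit 1, nat_lit 11, nat_lit 6, nat_lit 0, nat_lit 8, nat_lit 12, nat_lit 7, nat_lit 1, nat_lit 11, nat_lit 6, nat_lit 0, nat_lit 8, nat_lit 12, nat_lit 7, nat_lit 1, nat_lit 11, nat_lit 6, nat_lit 0, nat_lit 8, nat_lit 12, nat_lit 7, nat_lit 1, nat_lit 11, nat_lit 6, nat_lit 0, nat_lit 8, nat_lit 12, nat_lit 7, nat_lit 1, nat_lit 11, nat_lit 6, nat_lit 0, nat_lit 8, nat_lit 12, nat_lit 7, nat_lit 1, nat_lit 11, nat_lit 6, nat_lit 0, nat_lit 8, nat_lit 12, nat_lit 7, nat_lit 1, nat_lit 11, nat_lit 6, nat_lit 0]) (x := 3) (by decide +kernel)) (by decide +kernel)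
def R15 : List (List ℕ) := R14 ++ [[nat_lit 4, nat_lit 0, nat_lit 6, nat_lit 1, nat_lit 11, nat_lit 7, nat_lit 2, nat_lit 8, nat_lit 0, nat_lit 6, nat_lit 1, nat_lit 11, nat_lit 7, nat_lit 2, nat_lit 8, nat_lit 0, nat_lit 6, nat_lit 1, nat_lit 11, nat_lit 7, nat_lit 2, nat_lit 8, nat_lit 0, nat_lit 6, nat_lit 1, nat_lit 11, nat_lit 7, nat_lit 2, nat_lit 8, nat_lit 0, nat_lit 6, nat_lit 1, nat_lit 11, nat_lit 7, nat_lit 2, nat_lit 8, nat_lit 0, nat_lit 6, nat_lit 1, nat_lit 11, nat_lit 7, nat_lit 2, nat_lit 8, nat_lit 0, nat_lit 6, nat_lit 1, nat_lit 11, nat_lit 7, nat_lit 2, nat_lit 8, nat_lit 0, nat_lit 6, nat_lit 1, nat_lit 11, nat_lit 7, nat_lit 2, nat_lit 8, nat_lit 0, nat_lit 6, nat_lit 1, nat_lit 11, nat_lit 7, nat_lit 2, nat_lit 8, nat_lit 4, nat_lit 8, nat_lit 2, nat_lit 7, nat_lit 11, nat_lit 1, nat_lit 6, nat_lit 0, nat_lit 8, nat_lit 2, nat_lit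 7, nat_lit 11, nat_lit 1, nat_lit 6, nat_lit 0, nat_lit 8, nat_lit 2, nat_lit 7, nat_lit 11, nat_lit 1, nat_lit 6, nat_lit 0, nat_lit 8, nat_lit 2, nat_lit 7, nat_lit 11, nat_lit 1, nat_lit 6, nat_lit 0, nat_lit 8, nat_lit 2, nat_lit 7, nat_lit 11, nat_lit 1, nat_lit 6, nat_lit 0, nat_lit 8, nat_lit 2, nat_lit 7, nat_lit 11, nat_lit 1, nat_lit 6, nat_lit 0, nat_lit 8, nat_lit 2, nat_lit 7, nat_lit 11, nat_lit 1, nat_lit 6, nat_lit 0, nat_lit 8, nat_lit 2, nat_lit 7, nat_lit 11, nat_lit 1, nat_lit 6, nat_lit 0, nat_lit 8, nat_lit 2, nat_lit 7, nat_lit 11, nat_lit 1, nat_lit 6, nat_lit 0]]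
theorem i15 : Imp R0 R15 := imp_ext i14 (imp_comm (A := R14) (u := [nat_lit 8, nat_lit 2, nat_lit 7, nat_lit 11, nat_lit 1, nat_lit 6, nat_lit 0, nat_lit 8, nat_lit 2, nat_lit 7, nat_lit 11, nat_lit 1, nat_lit 6, nat_lit 0, nat_lit 8, nat_lit 2, nat_lit 7, nat_lit 11, nat_lit 1, nat_lit 6, nat_lit 0, nat_lit 8, nat_lit 2, nat_lit 7, nat_lit 11, nat_lit 1, nat_lit 6, nat_lit 0, nat_lit 8, nat_lit 2, nat_lit 7, nat_lit 11, nat_lit 1, nat_lit 6, nat_lit 0, nat_lit 8, nat_lit 2, nat_lit 7, nat_lit 11, nat_lit 1, nat_lit 6, nat_lit 0, nat_lit 8, nat_lit 2, nat_lit 7, nat_lit 11, nat_lit 1, nat_lit 6, nat_lit 0, nat_lit 8, nat_lit 2, nat_lit 7, nat_lit 11, nat_lit 1, nat_lit 6, nat_lit 0, nat_lit 8, nat_lit 2, nat_lit 7, nat_lit 11, nat_lit 1, nat_lit 6, nat_lit 0]) (v := [nat_lit 8, nat_lit 12, nat_lit 7, nat_lit 1, nat_lit 11, nat_lit 6, nat_lit 0, nat_lit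 8, nat_lit 12, nat_lit 7, nat_lit 1, nat_lit 11, nat_lit 6, nat_lit 0, nat_lit 8, nat_lit 12, nat_lit 7, nat_lit 1, nat_lit 11, nat_lit 6, nat_lit 0, nat_lit 8, nat_lit 12, nat_lit 7, nat_lit 1, nat_lit 11, nat_lit 6, nat_lit 0, nat_lit 8, nat_lit 12, nat_lit 7, nat_lit 1, nat_lit 11, nat_lit 6, nat_lit 0, nat_lit 8, nat_lit 12, nat_lit 7, nat_lit 1, nat_lit 11, nat_lit 6, nat_lit 0, nat_lit 8, nat_lit 12, nat_lit 7, nat_lit 1, nat_lit 11, nat_lit 6, nat_lit 0, nat_lit 8, nat_lit 12, nat_lit 7, nat_lit 1, nat_lit 11, nat_lit 6, nat_lit 0, nat_lit 8, nat_lit 12, nat_lit 7, nat_lit 1, nat_lit 11, nat_lit 6, nat_lit 0]) (x := 4) (by decide +kernel)) (by decide +kernel)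
def R16 : List (List ℕ) := R15 ++ [[nat_lit 8, nat_lit 0, nat_lit 11, nat_lit 6, nat_lit 1, nat_lit 12, nat_lit 7, nat_lit 13, nat_lit 0, nat_lit 11, nat_lit 6, nat_lit 1, nat_lit 12, nat_lit 7, nat_lit 13, nat_lit 0, nat_lit 11, nat_lit 6, nat_lit 1, nat_lit 12, nat_lit 7, nat_lit 13, nat_lit 0, nat_lit 11, nat_lit 6, nat_lit 1, nat_lit 12, nat_lit 7, nat_lit 13, nat_lit 0, nat_lit 11, nat_lit 6, nat_lit 1, nat_lit 12, nat_lit 7, nat_lit 13, nat_lit 0, nat_lit 11, nat_lit 6, nat_lit 1, nat_lit 12, nat_lit 7, nat_lit 13, nat_lit 0, nat_lit 11, nat_lit 6, nat_lit 1, nat_lit 12, nat_lit 7, nat_lit 13, nat_lit 0, nat_lit 11, nat_lit 6, nat_lit 1, nat_lit 12, nat_lit 7, nat_lit 13, nat_lit 0, nat_lit 11, nat_lit 6, nat_lit 1, nat_lit 12, nat_lit 7, nat_lit 13, nat_lit 8, nat_lit 13, nat_lit 7, nat_lit 12, nat_lit 1, nat_lit 6, nat_lit 11, nat_lit 0, nat_lit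 13, nat_lit 7, nat_lit 12, nat_lit 1, nat_lit 6, nat_lit 11, nat_lit 0, nat_lit 13, nat_lit 7, nat_lit 12, nat_lit 1, nat_lit 6, nat_lit 11, nat_lit 0, nat_lit 13, nat_lit 7, nat_lit 12, nat_lit 1, nat_lit 6, nat_lit 11, nat_lit 0, nat_lit 13, nat_lit 7, nat_lit 12, nat_lit 1, nat_lit 6, nat_lit 11, nat_lit 0, nat_lit 13, nat_lit 7, nat_lit 12, nat_lit 1, nat_lit 6, nat_lit 11, nat_lit 0, nat_lit 13, nat_lit 7, nat_lit 12, nat_lit 1, nat_lit 6, nat_lit 11, nat_lit 0, nat_lit 13, nat_lit 7, nat_lit 12, nat_lit 1, nat_lit 6, nat_lit 11, nat_lit 0, nat_lit 13, nat_lit 7, nat_lit 12, nat_lit 1, nat_lit 6, nat_lit 11, nat_lit 0]]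
theorem i16 : Imp R0 R16 := imp_ext i15 (imp_comm (A := R15) (u := [nat_lit 13, nat_lit 7, nat_lit 12, nat_lit 1, nat_lit 6, nat_lit 11, nat_lit 0, nat_lit 13, nat_lit 7, nat_lit 12, nat_lit 1, nat_lit 6, nat_lit 11, nat_lit 0, nat_lit 13, nat_lit 7, nat_lit 12, nat_lit 1, nat_lit 6, nat_lit 11, nat_lit 0, nat_lit 13, nat_lit 7, nat_lit 12, nat_lit 1, nat_lit 6, nat_lit 11, nat_lit 0, nat_lit 13, nat_lit 7, nat_lit 12, nat_lit 1, nat_lit 6, nat_lit 11, nat_lit 0, nat_lit 13, nat_lit 7, nat_lit 12, nat_lit 1, nat_lit 6, nat_lit 11, nat_lit 0, nat_lit 13, nat_lit 7, nat_lit 12, nat_lit 1, nat_lit 6, nat_lit 11, nat_lit 0, nat_lit 13, nat_lit 7, nat_lit 12, nat_lit 1, nat_lit 6, nat_lit 11, nat_lit 0, nat_lit 13, nat_lit 7, nat_lit 12, nat_lit 1, nat_lit 6, nat_lit 11, nat_lit 0]) (v := [nat_lit 13, nat_lit 2, nat_lit 12, nat_lit 6, nat_lit 1, nat_lit 11,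 nat_lit 0, nat_lit 13, nat_lit 2, nat_lit 12, nat_lit 6, nat_lit 1, nat_lit 11, nat_lit 0, nat_lit 13, nat_lit 2, nat_lit 12, nat_lit 6, nat_lit 1, nat_lit 11, nat_lit 0, nat_lit 13, nat_lit 2, nat_lit 12, nat_lit 6, nat_lit 1, nat_lit 11, nat_lit 0, nat_lit 13, nat_lit 2, nat_lit 12, nat_lit 6, nat_lit 1, nat_lit 11, nat_lit 0, nat_lit 13, nat_lit 2, nat_lit 12, nat_lit 6, nat_lit 1, nat_lit 11, nat_lit 0, nat_lit 13, nat_lit 2, nat_lit 12, nat_lit 6, nat_lit 1, nat_lit 11, nat_lit 0, nat_lit 13, nat_lit 2, nat_lit 12, nat_lit 6, nat_lit 1, nat_lit 11, nat_lit 0, nat_lit 13, nat_lit 2, nat_lit 12, nat_lit 6, nat_lit 1, nat_lit 11, nat_lit 0]) (x := 8) (by decide +kernel)) (by decide +kernel)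
def R17 : List (List ℕ) := R16 ++ [[nat_lit 9, nat_lit 0, nat_lit 11, nat_lit 6, nat_lit 1, nat_lit 12, nat_lit 7, nat_lit 13, nat_lit 0, nat_lit 11, nat_lit 6, nat_lit 1, nat_lit 12, nat_lit 7, nat_lit 13, nat_lit 0, nat_lit 11, nat_lit 6, nat_lit 1, nat_lit 12, nat_lit 7, nat_lit 13, nat_lit 0, nat_lit 11, nat_lit 6, nat_lit 1, nat_lit 12, nat_lit 7, nat_lit 13, nat_lit 0, nat_lit 11, nat_lit 6, nat_lit 1, nat_lit 12, nat_lit 7, nat_lit 13, nat_lit 0, nat_lit 11, nat_lit 6, nat_lit 1, nat_lit 12, nat_lit 7, nat_lit 13, nat_lit 0, nat_lit 11, nat_lit 6, nat_lit 1, nat_lit 12, nat_lit 7, nat_lit 13, nat_lit 0, nat_lit 11, nat_lit 6, nat_lit 1, nat_lit 12, nat_lit 7, nat_lit 13, nat_lit 0, nat_lit 11, nat_lit 6, nat_lit 1, nat_lit 12, nat_lit 7, nat_lit 13, nat_lit 9, nat_lit 13, nat_lit 7, nat_lit 12, nat_lit 1, nat_lit 6, nat_lit 11, nat_lit 0, nat_lit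 13, nat_lit 7, nat_lit 12, nat_lit 1, nat_lit 6, nat_lit 11, nat_lit 0, nat_lit 13, nat_lit 7, nat_lit 12, nat_lit 1, nat_lit 6, nat_lit 11, nat_lit 0, nat_lit 13, nat_lit 7, nat_lit 12, nat_lit 1, nat_lit 6, nat_lit 11, nat_lit 0, nat_lit 13, nat_lit 7, nat_lit 12, nat_lit 1, nat_lit 6, nat_lit 11, nat_lit 0, nat_lit 13, nat_lit 7, nat_lit 12, nat_lit 1, nat_lit 6, nat_lit 11, nat_lit 0, nat_lit 13, nat_lit 7, nat_lit 12, nat_lit 1, nat_lit 6, nat_lit 11, nat_lit 0, nat_lit 13, nat_lit 7, nat_lit 12, nat_lit 1, nat_lit 6, nat_lit 11, nat_lit 0, nat_lit 13, nat_lit 7, nat_lit 12, nat_lit 1, nat_lit 6, nat_lit 11, nat_lit 0]]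
theorem i17 : Imp R0 R17 := imp_ext i16 (imp_comm (A := R16) (u := [nat_lit 13, nat_lit 7, nat_lit 12, nat_lit 1, nat_lit 6, nat_lit 11, nat_lit 0, nat_lit 13, nat_lit 7, nat_lit 12, nat_lit 1, nat_lit 6, nat_lit 11, nat_lit 0, nat_lit 13, nat_lit 7, nat_lit 12, nat_lit 1, nat_lit 6, nat_lit 11, nat_lit 0, nat_lit 13, nat_lit 7, nat_lit 12, nat_lit 1, nat_lit 6, nat_lit 11, nat_lit 0, nat_lit 13, nat_lit 7, nat_lit 12, nat_lit 1, nat_lit 6, nat_lit 11, nat_lit 0, nat_lit 13, nat_lit 7, nat_lit 12, nat_lit 1, nat_lit 6, nat_lit 11, nat_lit 0, nat_lit 13, nat_lit 7, nat_lit 12, nat_lit 1, nat_lit 6, nat_lit 11, nat_lit 0, nat_lit 13, nat_lit 7, nat_lit 12, nat_lit 1, nat_lit 6, nat_lit 11, nat_lit 0, nat_lit 13, nat_lit 7, nat_lit 12, nat_lit 1, nat_lit 6, nat_lit 11, nat_lit 0]) (v := [nat_lit 13, nat_lit 2, nat_lit 12, nat_lit 6, nat_lit 1, nat_lit 11,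 nat_lit 0, nat_lit 13, nat_lit 2, nat_lit 12, nat_lit 6, nat_lit 1, nat_lit 11, nat_lit 0, nat_lit 13, nat_lit 2, nat_lit 12, nat_lit 6, nat_lit 1, nat_lit 11, nat_lit 0, nat_lit 13, nat_lit 2, nat_lit 12, nat_lit 6, nat_lit 1, nat_lit 11, nat_lit 0, nat_lit 13, nat_lit 2, nat_lit 12, nat_lit 6, nat_lit 1, nat_lit 11, nat_lit 0, nat_lit 13, nat_lit 2, nat_lit 12, nat_lit 6, nat_lit 1, nat_lit 11, nat_lit 0, nat_lit 13, nat_lit 2, nat_lit 12, nat_lit 6, nat_lit 1, nat_lit 11, nat_lit 0, nat_lit 13, nat_lit 2, nat_lit 12, nat_lit 6, nat_lit 1, nat_lit 11, nat_lit 0, nat_lit 13, nat_lit 2, nat_lit 12, nat_lit 6, nat_lit 1, nat_lit 11, nat_lit 0]) (x := 9) (by decide +kernel)) (by decide +kernel)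
def R18 : List (List ℕ) := R17 ++ [[nat_lit 4, nat_lit 3, nat_lit 7, nat_lit 2, nat_lit 11, nat_lit 6, nat_lit 1, nat_lit 0, nat_lit 4, nat_lit 3, nat_lit 7, nat_lit 2, nat_lit 11, nat_lit 6, nat_lit 1, nat_lit 0, nat_lit 4, nat_lit 3, nat_lit 7, nat_lit 2, nat_lit 11, nat_lit 6, nat_lit 1, nat_lit 0, nat_lit 4, nat_lit 3, nat_lit 7, nat_lit 2, nat_lit 11, nat_lit 6, nat_lit 1, nat_lit 0, nat_lit 4, nat_lit 3, nat_lit 7, nat_lit 2, nat_lit 11, nat_lit 6, nat_lit 1, nat_lit 0, nat_lit 4, nat_lit 3, nat_lit 7, nat_lit 2, nat_lit 11, nat_lit 6, nat_lit 1, nat_lit 0, nat_lit 4, nat_lit 3, nat_lit 7, nat_lit 2, nat_lit 11, nat_lit 6, nat_lit 1, nat_lit 0, nat_lit 4, nat_lit 3, nat_lit 7, nat_lit 2, nat_lit 11, nat_lit 6, nat_lit 1, nat_lit 0, nat_lit 4, nat_lit 3, nat_lit 7, nat_lit 2, nat_lit 11, nat_lit 6, nat_lit 1, nat_lit 0, nat_lit 4, nat_lit 3, nat_lit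 7, nat_lit 2, nat_lit 11, nat_lit 6, nat_lit 1, nat_lit 0, nat_lit 4, nat_lit 3, nat_lit 7, nat_lit 2, nat_lit 11, nat_lit 6, nat_lit 1, nat_lit 0, nat_lit 4, nat_lit 3, nat_lit 7, nat_lit 2, nat_lit 11, nat_lit 6, nat_lit 1, nat_lit 0, nat_lit 4, nat_lit 3, nat_lit 7, nat_lit 2, nat_lit 11, nat_lit 6, nat_lit 1, nat_lit 0, nat_lit 4, nat_lit 3, nat_lit 7, nat_lit 2, nat_lit 11, nat_lit 6, nat_lit 1, nat_lit 0, nat_lit 4, nat_lit 3, nat_lit 7, nat_lit 2, nat_lit 11, nat_lit 6, nat_lit 1, nat_lit 0]]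
theorem i18 : Imp R0 R18 := imp_ext i17 (imp_rl (A := R17) Y5B.main (σ := [nat_lit 0, nat_lit 1, nat_lit 6, nat_lit 11, nat_lit 2, nat_lit 7, nat_lit 3, nat_lit 8, nat_lit 4]) (ix := [nat_lit 0, nat_lit 1, nat_lit 6, nat_lit 11, nat_lit 2, nat_lit 7, nat_lit 3, nat_lit 8, nat_lit 4, nat_lit 31, nat_lit 106, nat_lit 107, nat_lit 181, nat_lit 182, nat_lit 187, nat_lit 46, nat_lit 47, nat_lit 51, nat_lit 56, nat_lit 121, nat_lit 122, nat_lit 127, nat_lit 131, nat_lit 123, nat_lit 61, nat_lit 62, nat_lit 66, nat_lit 71, nat_lit 63, nat_lit 67, nat_lit 136, nat_lit 137, nat_lit 142, nat_lit 146, nat_lit 138, nat_lit 143, nat_lit 139, nat_lit 76, nat_lit 77, nat_lit 81, nat_lit 86, nat_lit 78, nat_lit 82, nat_lit 79, nat_lit 83, nat_lit 262, nat_lit 270, nat_lit 271]) (by decide +kernel)) (by decide +kernel)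
def R19 : List (List ℕ) := R18 ++ [[nat_lit 9, nat_lit 8, nat_lit 12, nat_lit 7, nat_lit 1, nat_lit 11, nat_lit 6, nat_lit 0, nat_lit 9, nat_lit 8, nat_lit 12, nat_lit 7, nat_lit 1, nat_lit 11, nat_lit 6, nat_lit 0, nat_lit 9, nat_lit 8, nat_lit 12, nat_lit 7, nat_lit 1, nat_lit 11, nat_lit 6, nat_lit 0, nat_lit 9, nat_lit 8, nat_lit 12, nat_lit 7, nat_lit 1, nat_lit 11, nat_lit 6, nat_lit 0, nat_lit 9, nat_lit 8, nat_lit 12, nat_lit 7, nat_lit 1, nat_lit 11, nat_lit 6, nat_lit 0, nat_lit 9, nat_lit 8, nat_lit 12, nat_lit 7, nat_lit 1, nat_lit 11, nat_lit 6, nat_lit 0, nat_lit 9, nat_lit 8, nat_lit 12, nat_lit 7, nat_lit 1, nat_lit 11, nat_lit 6, nat_lit 0, nat_lit 9, nat_lit 8, nat_lit 12, nat_lit 7, nat_lit 1, nat_lit 11, nat_lit 6, nat_lit 0, nat_lit 9, nat_lit 8, nat_lit 12, nat_lit 7, nat_lit 1, nat_lit 11, nat_lit 6, nat_lit 0, nat_lit 9, nat_lit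 8, nat_lit 12, nat_lit 7, nat_lit 1, nat_lit 11, nat_lit 6, nat_lit 0, nat_lit 9, nat_lit 8, nat_lit 12, nat_lit 7, nat_lit 1, nat_lit 11, nat_lit 6, nat_lit 0, nat_lit 9, nat_lit 8, nat_lit 12, nat_lit 7, nat_lit 1, nat_lit 11, nat_lit 6, nat_lit 0, nat_lit 9, nat_lit 8, nat_lit 12, nat_lit 7, nat_lit 1, nat_lit 11, nat_lit 6, nat_lit 0, nat_lit 9, nat_lit 8, nat_lit 12, nat_lit 7, nat_lit 1, nat_lit 11, nat_lit 6, nat_lit 0, nat_lit 9, nat_lit 8, nat_lit 12, nat_lit 7, nat_lit 1, nat_lit 11, nat_lit 6, nat_lit 0]]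
theorem i19 : Imp R0 R19 := imp_ext i18 (imp_rl (A := R18) Y5B.main (σ := [nat_lit 0, nat_lit 6, nat_lit 11, nat_lit 1, nat_lit 7, nat_lit 12, nat_lit 8, nat_lit 13, nat_lit 9]) (ix := [nat_lit 0, nat_lit 6, nat_lit 11, nat_lit 1, nat_lit 7, nat_lit 12, nat_lit 8, nat_lit 13, nat_lit 9, nat_lit 106, nat_lit 181, nat_lit 187, nat_lit 31, nat_lit 36, nat_lit 41, nat_lit 121, nat_lit 127, nat_lit 131, nat_lit 122, nat_lit 196, nat_lit 202, nat_lit 207, nat_lit 197, nat_lit 203, nat_lit 136, nat_lit 142, nat_lit 146, nat_lit 137, nat_lit 143, nat_lit 147, nat_lit 211, nat_lit 217, nat_lit 222, nat_lit 212, nat_lit 218, nat_lit 223, nat_lit 219, nat_lit 151, nat_lit 157, nat_lit 161, nat_lit 152, nat_lit 158, nat_lit 162, nat_lit 159, nat_lit 163, nat_lit 264, nat_lit 272, nat_lit 273]) (by decide +kernel)) (by decide +kernel)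
def R20 : List (List ℕ) := R19 ++ [[nat_lit 14, nat_lit 13, nat_lit 2, nat_lit 12, nat_lit 6, nat_lit 1, nat_lit 11, nat_lit 0, nat_lit 14, nat_lit 13, nat_lit 2, nat_lit 12, nat_lit 6, nat_lit 1, nat_lit 11, nat_lit 0, nat_lit 14, nat_lit 13, nat_lit 2, nat_lit 12, nat_lit 6, nat_lit 1, nat_lit 11, nat_lit 0, nat_lit 14, nat_lit 13, nat_lit 2, nat_lit 12, nat_lit 6, nat_lit 1, nat_lit 11, nat_lit 0, nat_lit 14, nat_lit 13, nat_lit 2, nat_lit 12, nat_lit 6, nat_lit 1, nat_lit 11, nat_lit 0, nat_lit 14, nat_lit 13, nat_lit 2, nat_lit 12, nat_lit 6, nat_lit 1, nat_lit 11, nat_lit 0, nat_lit 14, nat_lit 13, nat_lit 2, nat_lit 12, nat_lit 6, nat_lit 1, nat_lit 11, nat_lit 0, nat_lit 14, nat_lit 13, nat_lit 2, nat_lit 12, nat_lit 6, nat_lit 1, nat_lit 11, nat_lit 0, nat_lit 14, nat_lit 13, nat_lit 2, nat_lit 12, nat_lit 6, nat_lit 1, nat_lit 11, nat_lit 0,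 nat_lit 14, nat_lit 13, nat_lit 2, nat_lit 12, nat_lit 6, nat_lit 1, nat_lit 11, nat_lit 0, nat_lit 14, nat_lit 13, nat_lit 2, nat_lit 12, nat_lit 6, nat_lit 1, nat_lit 11, nat_lit 0, nat_lit 14, nat_lit 13, nat_lit 2, nat_lit 12, nat_lit 6, nat_lit 1, nat_lit 11, nat_lit 0, nat_lit 14, nat_lit 13, nat_lit 2, nat_lit 12, nat_lit 6, nat_lit 1, nat_lit 11, nat_lit 0, nat_lit 14, nat_lit 13, nat_lit 2, nat_lit 12, nat_lit 6, nat_lit 1, nat_lit 11, nat_lit 0, nat_lit 14, nat_lit 13, nat_lit 2, nat_lit 12, nat_lit 6, nat_lit 1, nat_lit 11, nat_lit 0]]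
theorem i20 : Imp R0 R20 := imp_ext i19 (imp_rl (A := R19) Y5B.main (σ := [nat_lit 0, nat_lit 11, nat_lit 1, nat_lit 6, nat_lit 12, nat_lit 2, nat_lit 13, nat_lit 3, nat_lit 14]) (ix := [nat_lit 0, nat_lit 11, nat_lit 1, nat_lit 6, nat_lit 12, nat_lit 2, nat_lit 13, nat_lit 3, nat_lit 14, nat_lit 181, nat_lit 31, nat_lit 41, nat_lit 106, nat_lit 116, nat_lit 107, nat_lit 196, nat_lit 207, nat_lit 197, nat_lit 202, nat_lit 46, nat_lit 56, nat_lit 47, nat_lit 51, nat_lit 57, nat_lit 211, nat_lit 222, nat_lit 212, nat_lit 217, nat_lit 223, nat_lit 213, nat_lit 61, nat_lit 71, nat_lit 62, nat_lit 66, nat_lit 72, nat_lit 63, nat_lit 73, nat_lit 226, nat_lit 237, nat_lit 227, nat_lit 232, nat_lit 238, nat_lit 228, nat_lit 239, nat_lit 229, nat_lit 266, nat_lit 268, nat_lit 269]) (by decide +kernel)) (by decide +kernel)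
def R21 : List (List ℕ) := R20 ++ [[nat_lit 4, nat_lit 3, nat_lit 12, nat_lit 2, nat_lit 6, nat_lit 11, nat_lit 1, nat_lit 0, nat_lit 4, nat_lit 3, nat_lit 12, nat_lit 2, nat_lit 6, nat_lit 11, nat_lit 1, nat_lit 0, nat_lit 4, nat_lit 3, nat_lit 12, nat_lit 2, nat_lit 6, nat_lit 11, nat_lit 1, nat_lit 0, nat_lit 4, nat_lit 3, nat_lit 12, nat_lit 2, nat_lit 6, nat_lit 11, nat_lit 1, nat_lit 0, nat_lit 4, nat_lit 3, nat_lit 12, nat_lit 2, nat_lit 6, nat_lit 11, nat_lit 1, nat_lit 0, nat_lit 4, nat_lit 3, nat_lit 12, nat_lit 2, nat_lit 6, nat_lit 11, nat_lit 1, nat_lit 0, nat_lit 4, nat_lit 3, nat_lit 12, nat_lit 2, nat_lit 6, nat_lit 11, nat_lit 1, nat_lit 0, nat_lit 4, nat_lit 3, nat_lit 12, nat_lit 2, nat_lit 6, nat_lit 11, nat_lit 1, nat_lit 0, nat_lit 4, nat_lit 3, nat_lit 12, nat_lit 2, nat_lit 6, nat_lit 11, nat_lit 1, nat_lit 0, nat_lit 4, nat_lit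 3, nat_lit 12, nat_lit 2, nat_lit 6, nat_lit 11, nat_lit 1, nat_lit 0, nat_lit 4, nat_lit 3, nat_lit 12, nat_lit 2, nat_lit 6, nat_lit 11, nat_lit 1, nat_lit 0, nat_lit 4, nat_lit 3, nat_lit 12, nat_lit 2, nat_lit 6, nat_lit 11, nat_lit 1, nat_lit 0, nat_lit 4, nat_lit 3, nat_lit 12, nat_lit 2, nat_lit 6, nat_lit 11, nat_lit 1, nat_lit 0, nat_lit 4, nat_lit 3, nat_lit 12, nat_lit 2, nat_lit 6, nat_lit 11, nat_lit 1, nat_lit 0, nat_lit 4, nat_lit 3, nat_lit 12, nat_lit 2, nat_lit 6, nat_lit 11, nat_lit 1, nat_lit 0]]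
theorem i21 : Imp R0 R21 := imp_ext i20 (imp_rl (A := R20) Y5B.main (σ := [nat_lit 0, nat_lit 1, nat_lit 11, nat_lit 6, nat_lit 2, nat_lit 12, nat_lit 3, nat_lit 13, nat_lit 4]) (ix := [nat_lit 0, nat_lit 1, nat_lit 11, nat_lit 6, nat_lit 2, nat_lit 12, nat_lit 3, nat_lit 13, nat_lit 4, nat_lit 31, nat_lit 181, nat_lit 182, nat_lit 106, nat_lit 107, nat_lit 116, nat_lit 46, nat_lit 47, nat_lit 56, nat_lit 51, nat_lit 196, nat_lit 197, nat_lit 207, nat_lit 202, nat_lit 198, nat_lit 61, nat_lit 62, nat_lit 71, nat_lit 66, nat_lit 63, nat_lit 72, nat_lit 211, nat_lit 212, nat_lit 222, nat_lit 217, nat_lit 213, nat_lit 223, nat_lit 214, nat_lit 76, nat_lit 77, nat_lit 86, nat_lit 81, nat_lit 78, nat_lit 87, nat_lit 79, nat_lit 88, nat_lit 268, nat_lit 266, nat_lit 267]) (by decide +kernel)) (by decide +kernel)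
def R22 : List (List ℕ) := R21 ++ [[nat_lit 9, nat_lit 8, nat_lit 2, nat_lit 7, nat_lit 11, nat_lit 1, nat_lit 6, nat_lit 0, nat_lit 9, nat_lit 8, nat_lit 2, nat_lit 7, nat_lit 11, nat_lit 1, nat_lit 6, nat_lit 0, nat_lit 9, nat_lit 8, nat_lit 2, nat_lit 7, nat_lit 11, nat_lit 1, nat_lit 6, nat_lit 0, nat_lit 9, nat_lit 8, nat_lit 2, nat_lit 7, nat_lit 11, nat_lit 1, nat_lit 6, nat_lit 0, nat_lit 9, nat_lit 8, nat_lit 2, nat_lit 7, nat_lit 11, nat_lit 1, nat_lit 6, nat_lit 0, nat_lit 9, nat_lit 8, nat_lit 2, nat_lit 7, nat_lit 11, nat_lit 1, nat_lit 6, nat_lit 0, nat_lit 9, nat_lit 8, nat_lit 2, nat_lit 7, nat_lit 11, nat_lit 1, nat_lit 6, nat_lit 0, nat_lit 9, nat_lit 8, nat_lit 2, nat_lit 7, nat_lit 11, nat_lit 1, nat_lit 6, nat_lit 0, nat_lit 9, nat_lit 8, nat_lit 2, nat_lit 7, nat_lit 11, nat_lit 1, nat_lit 6, nat_lit 0, nat_lit 9, nat_lit 8, nat_lit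 2, nat_lit 7, nat_lit 11, nat_lit 1, nat_lit 6, nat_lit 0, nat_lit 9, nat_lit 8, nat_lit 2, nat_lit 7, nat_lit 11, nat_lit 1, nat_lit 6, nat_lit 0, nat_lit 9, nat_lit 8, nat_lit 2, nat_lit 7, nat_lit 11, nat_lit 1, nat_lit 6, nat_lit 0, nat_lit 9, nat_lit 8, nat_lit 2, nat_lit 7, nat_lit 11, nat_lit 1, nat_lit 6, nat_lit 0, nat_lit 9, nat_lit 8, nat_lit 2, nat_lit 7, nat_lit 11, nat_lit 1, nat_lit 6, nat_lit 0, nat_lit 9, nat_lit 8, nat_lit 2, nat_lit 7, nat_lit 11, nat_lit 1, nat_lit 6, nat_lit 0]]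
theorem i22 : Imp R0 R22 := imp_ext i21 (imp_rl (A := R21) Y5B.main (σ := [nat_lit 0, nat_lit 6, nat_lit 1, nat_lit 11, nat_lit 7, nat_lit 2, nat_lit 8, nat_lit 3, nat_lit 9]) (ix := [nat_lit 0, nat_lit 6, nat_lit 1, nat_lit 11, nat_lit 7, nat_lit 2, nat_lit 8, nat_lit 3, nat_lit 9, nat_lit 106, nat_lit 31, nat_lit 36, nat_lit 181, nat_lit 187, nat_lit 182, nat_lit 121, nat_lit 127, nat_lit 122, nat_lit 131, nat_lit 46, nat_lit 51, nat_lit 47, nat_lit 56, nat_lit 52, nat_lit 136, nat_lit 142, nat_lit 137, nat_lit 146, nat_lit 143, nat_lit 138, nat_lit 61, nat_lit 66, nat_lit 62, nat_lit 71, nat_lit 67, nat_lit 63, nat_lit 68, nat_lit 151, nat_lit 157, nat_lit 152, nat_lit 161, nat_lit 158, nat_lit 153, nat_lit 159, nat_lit 154, nat_lit 270, nat_lit 262, nat_lit 263]) (by decide +kernel)) (by decide +kernel)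
def R23 : List (List ℕ) := R22 ++ [[nat_lit 14, nat_lit 13, nat_lit 7, nat_lit 12, nat_lit 1, nat_lit 6, nat_lit 11, nat_lit 0, nat_lit 14, nat_lit 13, nat_lit 7, nat_lit 12, nat_lit 1, nat_lit 6, nat_lit 11, nat_lit 0, nat_lit 14, nat_lit 13, nat_lit 7, nat_lit 12, nat_lit 1, nat_lit 6, nat_lit 11, nat_lit 0, nat_lit 14, nat_lit 13, nat_lit 7, nat_lit 12, nat_lit 1, nat_lit 6, nat_lit 11, nat_lit 0, nat_lit 14, nat_lit 13, nat_lit 7, nat_lit 12, nat_lit 1, nat_lit 6, nat_lit 11, nat_lit 0, nat_lit 14, nat_lit 13, nat_lit 7, nat_lit 12, nat_lit 1, nat_lit 6, nat_lit 11, nat_lit 0, nat_lit 14, nat_lit 13, nat_lit 7, nat_lit 12, nat_lit 1, nat_lit 6, nat_lit 11, nat_lit 0, nat_lit 14, nat_lit 13, nat_lit 7, nat_lit 12, nat_lit 1, nat_lit 6, nat_lit 11, nat_lit 0, nat_lit 14, nat_lit 13, nat_lit 7, nat_lit 12, nat_lit 1, nat_lit 6, nat_lit 11, nat_lit 0,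 nat_lit 14, nat_lit 13, nat_lit 7, nat_lit 12, nat_lit 1, nat_lit 6, nat_lit 11, nat_lit 0, nat_lit 14, nat_lit 13, nat_lit 7, nat_lit 12, nat_lit 1, nat_lit 6, nat_lit 11, nat_lit 0, nat_lit 14, nat_lit 13, nat_lit 7, nat_lit 12, nat_lit 1, nat_lit 6, nat_lit 11, nat_lit 0, nat_lit 14, nat_lit 13, nat_lit 7, nat_lit 12, nat_lit 1, nat_lit 6, nat_lit 11, nat_lit 0, nat_lit 14, nat_lit 13, nat_lit 7, nat_lit 12, nat_lit 1, nat_lit 6, nat_lit 11, nat_lit 0, nat_lit 14, nat_lit 13, nat_lit 7, nat_lit 12, nat_lit 1, nat_lit 6, nat_lit 11, nat_lit 0]]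
theorem i23 : Imp R0 R23 := imp_ext i22 (imp_rl (A := R22) Y5B.main (σ := [nat_lit 0, nat_lit 11, nat_lit 6, nat_lit 1, nat_lit 12, nat_lit 7, nat_lit 13, nat_lit 8, nat_lit 14]) (ix := [nat_lit 0, nat_lit 11, nat_lit 6, nat_lit 1, nat_lit 12, nat_lit 7, nat_lit 13, nat_lit 8, nat_lit 14, nat_lit 181, nat_lit 106, nat_lit 116, nat_lit 31, nat_lit 41, nat_lit 36, nat_lit 196, nat_lit 207, nat_lit 202, nat_lit 197, nat_lit 121, nat_lit 131, nat_lit 127, nat_lit 122, nat_lit 132, nat_lit 211, nat_lit 222, nat_lit 217, nat_lit 212, nat_lit 223, nat_lit 218, nat_lit 136, nat_lit 146, nat_lit 142, nat_lit 137, nat_lit 147, nat_lit 143, nat_lit 148, nat_lit 226, nat_lit 237, nat_lit 232, nat_lit 227, nat_lit 238, nat_lit 233, nat_lit 239, nat_lit 234, nat_lit 272, nat_lit 264, nat_lit 265]) (by decide +kernel)) (by decide +kernel)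
def R24 : List (List ℕ) := R23 ++ [[nat_lit 0, nat_lit 1, nat_lit 6, nat_lit 11, nat_lit 2, nat_lit 7, nat_lit 3, nat_lit 0, nat_lit 1, nat_lit 6, nat_lit 11, nat_lit 2, nat_lit 7, nat_lit 3, nat_lit 0, nat_lit 1, nat_lit 6, nat_lit 11, nat_lit 2, nat_lit 7, nat_lit 3, nat_lit 0, nat_lit 1, nat_lit 6, nat_lit 11, nat_lit 2, nat_lit 7, nat_lit 3, nat_lit 0, nat_lit 1, nat_lit 6, nat_lit 11, nat_lit 2, nat_lit 7, nat_lit 3, nat_lit 0, nat_lit 1, nat_lit 6, nat_lit 11, nat_lit 2, nat_lit 7, nat_lit 3, nat_lit 0, nat_lit 1, nat_lit 6, nat_lit 11, nat_lit 2, nat_lit 7, nat_lit 3, nat_lit 0, nat_lit 1, nat_lit 6, nat_lit 11, nat_lit 2, nat_lit 7, nat_lit 3, nat_lit 0, nat_lit 1, nat_lit 6, nat_lit 11, nat_lit 2, nat_lit 7, nat_lit 3, nat_lit 5]]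
theorem i24 : Imp R0 R24 := imp_ext i23 (imp_rl (A := R23) Y5C.main (σ := [nat_lit 0, nat_lit 1, nat_lit 6, nat_lit 7, nat_lit 11, nat_lit 12, nat_lit 2, nat_lit 3, nat_lit 4, nat_lit 5]) (ix := [nat_lit 0, nat_lit 1, nat_lit 6, nat_lit 7, nat_lit 11, nat_lit 12, nat_lit 2, nat_lit 3, nat_lit 4, nat_lit 5, nat_lit 31, nat_lit 106, nat_lit 107, nat_lit 121, nat_lit 122, nat_lit 127, nat_lit 181, nat_lit 182, nat_lit 187, nat_lit 188, nat_lit 196, nat_lit 197, nat_lit 202, nat_lit 203, nat_lit 207, nat_lit 46, nat_lit 47, nat_lit 51, nat_lit 52, nat_lit 56, nat_lit 57, nat_lit 61, nat_lit 62, nat_lit 66, nat_lit 67, nat_lit 71, nat_lit 72, nat_lit 63, nat_lit 76, nat_lit 77, nat_lit 81, nat_lit 82, nat_lit 86, nat_lit 87, nat_lit 78, nat_lit 79, nat_lit 91, nat_lit 92, nat_lit 96, nat_lit 97, nat_lit 101, nat_lit 102, nat_lit 93, nat_lit 94, nat_lit 95,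 nat_lit 256, nat_lit 259, nat_lit 274, nat_lit 277]) (by decide +kernel)) (by decide +kernel)
def R25 : List (List ℕ) := R24 ++ [[nat_lit 0, nat_lit 6, nat_lit 11, nat_lit 1, nat_lit 7, nat_lit 12, nat_lit 8, nat_lit 0, nat_lit 6, nat_lit 11, nat_lit 1, nat_lit 7, nat_lit 12, nat_lit 8, nat_lit 0, nat_lit 6, nat_lit 11, nat_lit 1, nat_lit 7, nat_lit 12, nat_lit 8, nat_lit 0, nat_lit 6, nat_lit 11, nat_lit 1, nat_lit 7, nat_lit 12, nat_lit 8, nat_lit 0, nat_lit 6, nat_lit 11, nat_lit 1, nat_lit 7, nat_lit 12, nat_lit 8, nat_lit 0, nat_lit 6, nat_lit 11, nat_lit 1, nat_lit 7, nat_lit 12, nat_lit 8, nat_lit 0, nat_lit 6, nat_lit 11, nat_lit 1, nat_lit 7, nat_lit 12, nat_lit 8, nat_lit 0, nat_lit 6, nat_lit 11, nat_lit 1, nat_lit 7, nat_lit 12, nat_lit 8, nat_lit 0, nat_lit 6, nat_lit 11, nat_lit 1, nat_lit 7, nat_lit 12, nat_lit 8, nat_lit 10]]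
theorem i25 : Imp R0 R25 := imp_ext i24 (imp_rl (A := R24) Y5C.main (σ := [nat_lit 0, nat_lit 6, nat_lit 11, nat_lit 12, nat_lit 1, nat_lit 2, nat_lit 7, nat_lit 8, nat_lit 9, nat_lit 10]) (ix := [nat_lit 0, nat_lit 6, nat_lit 11, nat_lit 12, nat_lit 1, nat_lit 2, nat_lit 7, nat_lit 8, nat_lit 9, nat_lit 10, nat_lit 106, nat_lit 181, nat_lit 187, nat_lit 196, nat_lit 202, nat_lit 207, nat_lit 31, nat_lit 36, nat_lit 41, nat_lit 42, nat_lit 46, nat_lit 51, nat_lit 56, nat_lit 57, nat_lit 47, nat_lit 121, nat_lit 127, nat_lit 131, nat_lit 132, nat_lit 122, nat_lit 123, nat_lit 136, nat_lit 142, nat_lit 146, nat_lit 147, nat_lit 137, nat_lit 138, nat_lit 143, nat_lit 151, nat_lit 157, nat_lit 161, nat_lit 162, nat_lit 152, nat_lit 153, nat_lit 158, nat_lit 159, nat_lit 166, nat_lit 172, nat_lit 176, nat_lit 177, nat_lit 167, nat_lit 168, nat_lit 173, nat_lit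 174, nat_lit 175, nat_lit 258, nat_lit 260, nat_lit 275, nat_lit 278]) (by decide +kernel)) (by decide +kernel)
def R26 : List (List ℕ) := R25 ++ [[nat_lit 0, nat_lit 11, nat_lit 1, nat_lit 6, nat_lit 12, nat_lit 2, nat_lit 13, nat_lit 0, nat_lit 11, nat_lit 1, nat_lit 6, nat_lit 12, nat_lit 2, nat_lit 13, nat_lit 0, nat_lit 11, nat_lit 1, nat_lit 6, nat_lit 12, nat_lit 2, nat_lit 13, nat_lit 0, nat_lit 11, nat_lit 1, nat_lit 6, nat_lit 12, nat_lit 2, nat_lit 13, nat_lit 0, nat_lit 11, nat_lit 1, nat_lit 6, nat_lit 12, nat_lit 2, nat_lit 13, nat_lit 0, nat_lit 11, nat_lit 1, nat_lit 6, nat_lit 12, nat_lit 2, nat_lit 13, nat_lit 0, nat_lit 11, nat_lit 1, nat_lit 6, nat_lit 12, nat_lit 2, nat_lit 13, nat_lit 0, nat_lit 11, nat_lit 1, nat_lit 6, nat_lit 12, nat_lit 2, nat_lit 13, nat_lit 0, nat_lit 11, nat_lit 1, nat_lit 6, nat_lit 12, nat_lit 2, nat_lit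 13, nat_lit 15]]
theorem i26 : Imp R0 R26 := imp_ext i25 (imp_rl (A := R25) Y5C.main (σ := [nat_lit 0, nat_lit 11, nat_lit 1, nat_lit 2, nat_lit 6, nat_lit 7, nat_lit 12, nat_lit 13, nat_lit 14, nat_lit 15]) (ix := [nat_lit 0, nat_lit 11, nat_lit 1, nat_lit 2, nat_lit 6, nat_lit 7, nat_lit 12, nat_lit 13, nat_lit 14, nat_lit 15, nat_lit 181, nat_lit 31, nat_lit 41, nat_lit 46, nat_lit 56, nat_lit 47, nat_lit 106, nat_lit 116, nat_lit 107, nat_lit 108, nat_lit 121, nat_lit 131, nat_lit 122, nat_lit 123, nat_lit 127, nat_lit 196, nat_lit 207, nat_lit 197, nat_lit 198, nat_lit 202, nat_lit 203, nat_lit 211, nat_lit 222, nat_lit 212, nat_lit 213, nat_lit 217, nat_lit 218, nat_lit 223, nat_lit 226, nat_lit 237, nat_lit 227, nat_lit 228, nat_lit 232, nat_lit 233, nat_lit 238, nat_lit 239, nat_lit 241, nat_lit 252, nat_lit 242, nat_lit 243, nat_lit 247, nat_lit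 248, nat_lit 253, nat_lit 254, nat_lit 255, nat_lit 257, nat_lit 261, nat_lit 276, nat_lit 279]) (by decide +kernel)) (by decide +kernel)
def R27 : List (List ℕ) := R26 ++ [[nat_lit 0, nat_lit 1, nat_lit 11, nat_lit 6, nat_lit 2, nat_lit 12, nat_lit 3, nat_lit 0, nat_lit 1, nat_lit 11, nat_lit 6, nat_lit 2, nat_lit 12, nat_lit 3, nat_lit 0, nat_lit 1, nat_lit 11, nat_lit 6, nat_lit 2, nat_lit 12, nat_lit 3, nat_lit 0, nat_lit 1, nat_lit 11, nat_lit 6, nat_lit 2, nat_lit 12, nat_lit 3, nat_lit 0, nat_lit 1, nat_lit 11, nat_lit 6, nat_lit 2, nat_lit 12, nat_lit 3, nat_lit 0, nat_lit 1, nat_lit 11, nat_lit 6, nat_lit 2, nat_lit 12, nat_lit 3, nat_lit 0, nat_lit 1, nat_lit 11, nat_lit 6, nat_lit 2, nat_lit 12, nat_lit 3, nat_lit 0, nat_lit 1, nat_lit 11, nat_lit 6, nat_lit 2, nat_lit 12, nat_lit 3, nat_lit 0, nat_lit 1, nat_lit 11, nat_lit 6, nat_lit 2,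 nat_lit 12, nat_lit 3, nat_lit 5]]
theorem i27 : Imp R0 R27 := imp_ext i26 (imp_tr (A := R26) (u := [nat_lit 3, nat_lit 7, nat_lit 2, nat_lit 11, nat_lit 6, nat_lit 1, nat_lit 0, nat_lit 3, nat_lit 7, nat_lit 2, nat_lit 11, nat_lit 6, nat_lit 1, nat_lit 0, nat_lit 3, nat_lit 7, nat_lit 2, nat_lit 11, nat_lit 6, nat_lit 1, nat_lit 0, nat_lit 3, nat_lit 7, nat_lit 2, nat_lit 11, nat_lit 6, nat_lit 1, nat_lit 0, nat_lit 3, nat_lit 7, nat_lit 2, nat_lit 11, nat_lit 6, nat_lit 1, nat_lit 0, nat_lit 3, nat_lit 7, nat_lit 2, nat_lit 11, nat_lit 6, nat_lit 1, nat_lit 0, nat_lit 3, nat_lit 7, nat_lit 2, nat_lit 11, nat_lit 6, nat_lit 1, nat_lit 0, nat_lit 3, nat_lit 7, nat_lit 2, nat_lit 11, nat_lit 6, nat_lit 1, nat_lit 0, nat_lit 3, nat_lit 7, nat_lit 2, nat_lit 11, nat_lit 6, nat_lit 1, nat_lit 0]) (v := [nat_lit 0, nat_lit 1, nat_lit 11, nat_lit 6, nat_lit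 2, nat_lit 12, nat_lit 3, nat_lit 0, nat_lit 1, nat_lit 11, nat_lit 6, nat_lit 2, nat_lit 12, nat_lit 3, nat_lit 0, nat_lit 1, nat_lit 11, nat_lit 6, nat_lit 2, nat_lit 12, nat_lit 3, nat_lit 0, nat_lit 1, nat_lit 11, nat_lit 6, nat_lit 2, nat_lit 12, nat_lit 3, nat_lit 0, nat_lit 1, nat_lit 11, nat_lit 6, nat_lit 2, nat_lit 12, nat_lit 3, nat_lit 0, nat_lit 1, nat_lit 11, nat_lit 6, nat_lit 2, nat_lit 12, nat_lit 3, nat_lit 0, nat_lit 1, nat_lit 11, nat_lit 6, nat_lit 2, nat_lit 12, nat_lit 3, nat_lit 0, nat_lit 1, nat_lit 11, nat_lit 6, nat_lit 2, nat_lit 12, nat_lit 3, nat_lit 0, nat_lit 1, nat_lit 11, nat_lit 6, nat_lit 2, nat_lit 12, nat_lit 3]) (x := [nat_lit 5]) (by decide +kernel)) (by decide +kernel)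
def R28 : List (List ℕ) := R27 ++ [[nat_lit 0, nat_lit 6, nat_lit 1, nat_lit 11, nat_lit 7, nat_lit 2, nat_lit 8, nat_lit 0, nat_lit 6, nat_lit 1, nat_lit 11, nat_lit 7, nat_lit 2, nat_lit 8, nat_lit 0, nat_lit 6, nat_lit 1, nat_lit 11, nat_lit 7, nat_lit 2, nat_lit 8, nat_lit 0, nat_lit 6, nat_lit 1, nat_lit 11, nat_lit 7, nat_lit 2, nat_lit 8, nat_lit 0, nat_lit 6, nat_lit 1, nat_lit 11, nat_lit 7, nat_lit 2, nat_lit 8, nat_lit 0, nat_lit 6, nat_lit 1, nat_lit 11, nat_lit 7, nat_lit 2, nat_lit 8, nat_lit 0, nat_lit 6, nat_lit 1, nat_lit 11, nat_lit 7, nat_lit 2, nat_lit 8, nat_lit 0, nat_lit 6, nat_lit 1, nat_lit 11, nat_lit 7, nat_lit 2, nat_lit 8, nat_lit 0, nat_lit 6, nat_lit 1, nat_lit 11, nat_lit 7, nat_lit 2, nat_lit 8, nat_lit 10]]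
theorem i28 : Imp R0 R28 := imp_ext i27 (imp_tr (A := R27) (u := [nat_lit 8, nat_lit 12, nat_lit 7, nat_lit 1, nat_lit 11, nat_lit 6, nat_lit 0, nat_lit 8, nat_lit 12, nat_lit 7, nat_lit 1, nat_lit 11, nat_lit 6, nat_lit 0, nat_lit 8, nat_lit 12, nat_lit 7, nat_lit 1, nat_lit 11, nat_lit 6, nat_lit 0, nat_lit 8, nat_lit 12, nat_lit 7, nat_lit 1, nat_lit 11, nat_lit 6, nat_lit 0, nat_lit 8, nat_lit 12, nat_lit 7, nat_lit 1, nat_lit 11, nat_lit 6, nat_lit 0, nat_lit 8, nat_lit 12, nat_lit 7, nat_lit 1, nat_lit 11, nat_lit 6, nat_lit 0, nat_lit 8, nat_lit 12, nat_lit 7, nat_lit 1, nat_lit 11, nat_lit 6, nat_lit 0, nat_lit 8, nat_lit 12, nat_lit 7, nat_lit 1, nat_lit 11, nat_lit 6, nat_lit 0, nat_lit 8, nat_lit 12, nat_lit 7, nat_lit 1, nat_lit 11, nat_lit 6, nat_lit 0]) (v := [nat_lit 0, nat_lit 6, nat_lit 1, nat_lit 11, nat_lit 7, nat_lit 2, nat_lit 8,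 nat_lit 0, nat_lit 6, nat_lit 1, nat_lit 11, nat_lit 7, nat_lit 2, nat_lit 8, nat_lit 0, nat_lit 6, nat_lit 1, nat_lit 11, nat_lit 7, nat_lit 2, nat_lit 8, nat_lit 0, nat_lit 6, nat_lit 1, nat_lit 11, nat_lit 7, nat_lit 2, nat_lit 8, nat_lit 0, nat_lit 6, nat_lit 1, nat_lit 11, nat_lit 7, nat_lit 2, nat_lit 8, nat_lit 0, nat_lit 6, nat_lit 1, nat_lit 11, nat_lit 7, nat_lit 2, nat_lit 8, nat_lit 0, nat_lit 6, nat_lit 1, nat_lit 11, nat_lit 7, nat_lit 2, nat_lit 8, nat_lit 0, nat_lit 6, nat_lit 1, nat_lit 11, nat_lit 7, nat_lit 2, nat_lit 8, nat_lit 0, nat_lit 6, nat_lit 1, nat_lit 11, nat_lit 7, nat_lit 2, nat_lit 8]) (x := [nat_lit 10]) (by decide +kernel)) (by decide +kernel)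
def R29 : List (List ℕ) := R28 ++ [[nat_lit 0, nat_lit 11, nat_lit 6, nat_lit 1, nat_lit 12, nat_lit 7, nat_lit 13, nat_lit 0, nat_lit 11, nat_lit 6, nat_lit 1, nat_lit 12, nat_lit 7, nat_lit 13, nat_lit 0, nat_lit 11, nat_lit 6, nat_lit 1, nat_lit 12, nat_lit 7, nat_lit 13, nat_lit 0, nat_lit 11, nat_lit 6, nat_lit 1, nat_lit 12, nat_lit 7, nat_lit 13, nat_lit 0, nat_lit 11, nat_lit 6, nat_lit 1, nat_lit 12, nat_lit 7, nat_lit 13, nat_lit 0, nat_lit 11, nat_lit 6, nat_lit 1, nat_lit 12, nat_lit 7, nat_lit 13, nat_lit 0, nat_lit 11, nat_lit 6, nat_lit 1, nat_lit 12, nat_lit 7, nat_lit 13, nat_lit 0, nat_lit 11, nat_lit 6, nat_lit 1, nat_lit 12, nat_lit 7, nat_lit 13, nat_lit 0, nat_lit 11, nat_lit 6, nat_lit 1, nat_lit 12, nat_lit 7, nat_lit 13, nat_lit 15]]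
theorem i29 : Imp R0 R29 := imp_ext i28 (imp_tr (A := R28) (u := [nat_lit 13, nat_lit 2, nat_lit 12, nat_lit 6, nat_lit 1, nat_lit 11, nat_lit 0, nat_lit 13, nat_lit 2, nat_lit 12, nat_lit 6, nat_lit 1, nat_lit 11, nat_lit 0, nat_lit 13, nat_lit 2, nat_lit 12, nat_lit 6, nat_lit 1, nat_lit 11, nat_lit 0, nat_lit 13, nat_lit 2, nat_lit 12, nat_lit 6, nat_lit 1, nat_lit 11, nat_lit 0, nat_lit 13, nat_lit 2, nat_lit 12, nat_lit 6, nat_lit 1, nat_lit 11, nat_lit 0, nat_lit 13, nat_lit 2, nat_lit 12, nat_lit 6, nat_lit 1, nat_lit 11, nat_lit 0, nat_lit 13, nat_lit 2, nat_lit 12, nat_lit 6, nat_lit 1, nat_lit 11, nat_lit 0, nat_lit 13, nat_lit 2, nat_lit 12, nat_lit 6, nat_lit 1, nat_lit 11, nat_lit 0, nat_lit 13, nat_lit 2, nat_lit 12, nat_lit 6, nat_lit 1, nat_lit 11, nat_lit 0]) (v := [nat_lit 0, nat_lit 11, nat_lit 6, nat_lit 1, nat_lit 12, nat_lit 7,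 nat_lit 13, nat_lit 0, nat_lit 11, nat_lit 6, nat_lit 1, nat_lit 12, nat_lit 7, nat_lit 13, nat_lit 0, nat_lit 11, nat_lit 6, nat_lit 1, nat_lit 12, nat_lit 7, nat_lit 13, nat_lit 0, nat_lit 11, nat_lit 6, nat_lit 1, nat_lit 12, nat_lit 7, nat_lit 13, nat_lit 0, nat_lit 11, nat_lit 6, nat_lit 1, nat_lit 12, nat_lit 7, nat_lit 13, nat_lit 0, nat_lit 11, nat_lit 6, nat_lit 1, nat_lit 12, nat_lit 7, nat_lit 13, nat_lit 0, nat_lit 11, nat_lit 6, nat_lit 1, nat_lit 12, nat_lit 7, nat_lit 13, nat_lit 0, nat_lit 11, nat_lit 6, nat_lit 1, nat_lit 12, nat_lit 7, nat_lit 13, nat_lit 0, nat_lit 11, nat_lit 6, nat_lit 1, nat_lit 12, nat_lit 7, nat_lit 13]) (x := [nat_lit 15]) (by decide +kernel)) (by decide +kernel)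

def col : Bimonster.Gen → ℕ
  | .a => 0
  | .b1 => 1
  | .c1 => 2
  | .d1 => 3
  | .e1 => 4
  | .f1 => 5
  | .b2 => 6
  | .c2 => 7
  | .d2 => 8
  | .e2 => 9
  | .f2 => 10
  | .b3 => 11
  | .c3 => 12
  | .d3 => 13
  | .e3 => 14
  | .f3 => 15

def all : List Bimonster.Gen := [.a, .b1, .c1, .d1, .e1, .f1, .b2, .c2, .d2, .e2, .f2, .b3, .c3, .d3, .e3, .f3]
theorem mem_all (x : Bimonster.Gen) : x ∈ all := by cases x <;> decide
open Bimonster in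
def sp : List (FreeGroup Bimonster.Gen) := [(a * b1 * c1 * a * b2 * c2 * a * b3 * c3) ^ 10]
theorem presOK : PresOK Bimonster.edges sp all col col R0 16 := by decide +kernel
theorem ex : ∀ r ∈ Bimonster.extra, toL col col r ∈ R29 := by decide +kernel

theorem main : ∀ r ∈ Bimonster.extra,
    PresentedGroup.mk (coxRelators Bimonster.edges ∪ {r' | r' ∈ sp}) r = 1 := by
  intro r hr
  obtain ⟨γ, g1, g2, g3, -⟩ := presOK.exists_tuple mem_all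
  have := i29.le g3 _ (ex r hr)
  rw [evA_toL g2] at this
  simp only [g1] at this
  rw [← this]
  exact (DFunLike.congr_fun (FreeGroup.ext_hom (FreeGroup.lift fun x =>
      (PresentedGroup.of x : CoxPresented _ Bimonster.edges sp)) (PresentedGroup.mk _)
      fun x => by simp; rfl) r).symm

end H15.Y5D
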