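import Cfsg.Agent.H15.PChain
import Cfsg.Agent.H15.Steiner

/-! The stabiliser chain of `M24` along the base `23, 0, 1, 2, 3, 5, 4` (indices). -/

set_option autoImplicit false

namespace H15
open Cfsg Finset MulAction
open scoped Pointwise

def m24T : ℕ := 0xbb1f3a4232ab916218ed4a8ab18820bbd8459e29b39559b606920b418820bb4c93ae2453ac893e8c9d4b018820b99b28523343aaa4b16f258a718820bc0ea332364b892451ebaccad18820bcc8cb2a265b8f47c9096c0b518820b926faa22da3a0b6255231cb618820ba91094e346b9e63d8955b0a918820b9e086be3593a6952d94b10a618820bae957b6289ba44b1cd0524ac18820bd268341c9595e46b2563d62a18820bca0fb4dcb49507aaa862362c18820ba64d4562f83a87312d362caa18820ba64d4562f83a87312d362caa18820bcd69958b5a44c4829ed621c718820bd268341c9595e46b2563d62a18820bbec66acb4ac52c41e72241ca18820bc92655a2c3b9706cea47d0a818820bbeb23b5ca6169682d0434e2918820ba1b4255cc516469a5e7b422b18820bc8e49a8a884589a59af355cb18820bd6cb22627638cfa224a834b318820bd9e854ca46461534967a25cd18820bc0ea332364b892451ebacc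ad18820ba613220aa3c5f25d4cc6d9d418820bd17661a2a23933ac1a7448af18820bce8d549c7216ab45a0c4be2618820bd58a410b37c4f66a6905c9c618820bbec66acb4ac52c41e72241ca18820ba1474922b3398d85676a3cb218820bc8e49a8a884589a59af355cb18820bc12ba18ad946c79b11553dc418820bca0fb4dcb49507aaa862362c18820bbd8459e29b39559b606920b418820bda536262d30c9451eaf5a1d028820ba124a14ccb564e1b61153ceb98820bbe15232343152b94ce86d86a70820bd5f04a1c6b166c911ab5522718820bbe504186969553ad88762dd488820bd0d03c56fb3145191ae9d50990820bd5ac83dc75c4c9549142587328820ba64d4562f83a87312d362caa18820bbc6d2c8cab1e8c5c08874669a8820b8ceb352d1934a97b10aacc8e80820bcd8f43475538d0251365ca2728820bc12ba18ad946c79b11553dc418820bc1075a4a4ab9b454ccf6487688820bc92da46ab81903712c553e6c38820ba20e224cb89d9450caf6da72a8820b8eca220f17ccac9268b834cea8820bc5955c1e3329c46ccf69228548820bb1c4199526bd079c2d52c52ba0820b9a4d60df3b26a5740915a147a0820bc0b28a4d66548a7ad1470ced98820b916591d2d1aa13345d5621f6a0820bbda38550a8ae93395c62598990820bb6935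45643a2ce2d4c34be5060820bc4876a90534869a566f8596e60820baece6be688d64aa0ca9240cc38820bc0742d5644b1a733d537451690820bc570950ceb4caa491af622a338820ba0896ce2c78e47ad146859cb28820b924763c70ac6caa4cc95a0ad70820bbe15232343152b94ce86d86a70820bda72395ed4288e1b171a9a9048820bc0b57212d9becc91ccb1c68450820bbab3624c22363282e877d90550c20baa32a126d5a4672b04f855c6b2020ba1b3839f23516329eb12592c50820bcc8c3c13118a4b75aa64154da3c20ba88f5a4a8ac5b2832c79d04670c20bb2758d8e252565a38866bc6884820bd8e5ad1048b20a4b86f99a4d58820bcdd2a3d554ac482c06463626b1c20bd8537b8c780d6491595a25116a820b94d153889942b43be6c40c4bb3420b9eaa42e4e115931a5e4846cd35020b8ca954aab718917d90d640f414c20ba6022bc963ad1289aad62a8e1cc20b94d153889942b43be6c40c4bb3420bac551a4e695208b2893895af63820bd98e321a71c955808b42266b7c420bae6a49e0c1d644799a575a22a2020bce8f64522240cbb20aa7365519c20bd64668ad422e0e1b1257cce854420bd4ac15a0a69889450f388df25b820b8a881ca15494ef6d9d122d8654c20b99875d5b44bca450e0e40a768c820baa32a126d5a4672b04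f855c6b2020b99c3ab4b159d30b52629290c79020bb1e45a4a7a89b69aa4881a341b820bd22d31e6fad8501acb2231ca42420b8d097c1d33556d1459629e5451020bd24b3cc48336a553dcc48c91b4020bac95b164ea1cd36222a1352f1c020bd195438908a5a598cc708aca7c960bc8618b8cd9a6823b0a8792abb4140bbd266b984a4ce21da51aae0851420b892a72e483866c7d471810cdb50a0baaa57ca7668c22a1a047250b61e20b9a6ca2550159f56a2451922e3ac20ba8323a6c665450734747a22b990a0bb071285b459eae440567989254d20b86342b052b212bacde4335c3540e0ba20a994d57b86c3d0365c64468920ba914ac5671da4120a092ba6f6b0c0bb0d639245136239d5c14a14f82e80bb53012dc4b22b161e650aa461be80bc5886a6ae59c2f9da0624942a0ca0ba236748930995010d8549daba3ea0bb1016a9e774ac65c464a4e09a88a0bb545448c29ba097d62ba30613d880bc9f1a15c724e0b6999512903b0520bc6463a84d8550c185e92ce84b2dc0ba1529d970315838b85421eaf0a5a0bb58b70c28898aab413223cf4acc40bc9559a07463a2f0c1654b6c2310e0baac53b2351b50271924a402b93e60bb5f231e8e4856c9954315aa484500bc9a57585358eaa245e8384c983280bd98d821c114d4930df4256512ace0b9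da804e21226b41c84c7a8d05bac5bb66680d34701f15a824454b23b056b952d32df5b3a84432121466009d43bb6c30d4865524f8ad8744e022a5c0bb17250c304bac8a54f1101af998a4b81d0a0d937a09111566b482daa927b9dea44cae14a8b346b6824811b1a0bc965826d443a2a985ed654c218087bc98155904a96227d0d002db33a46ebd5d49a643128ed61160896c60c10fbdab36996e116890290c38e0f91031b820768c52accaa7c58b438814d0d6ba64e34ce30ac16835eca28a48a055bd0b3482ad712269046c5c2c8128efbbce574831834406196941143b5693bd64ca2daa79d261808880625b0a6ebb02a7d687059b172cb090e6848886b8cae01ad27a62c386a4a4d7053448bba7278c090aacb41a1429c448b6acbc22baa5c0616d493d4838cc2985a4bac60642a57cdc6224478c9a8b0554bc8447d271658cb28e0aab52703828b91b1649f618269450f51142a33a0bb8ec775589444d0910226aa935bc05b9d4940dd122d942d66db480233c30bca652417641a878a861702ad4b1e2b94164488652575141ae9c5e1a3067bc97128ce61520db054f625c0aa093a102e2d6cb1324f50c068dd106a4f305cca622c12ba49a1c448556d1c5f3bc526148b40d4ee98c0c5d88f8214d4596aa0a69316037d40e0b257690f1b45e1941a024d8a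39af4189c92d56819de95b217aa8cd448a29c424a01d6a24c570df0bd64b8cdaa2059638900034d61b0574d64a740a8a1c93585f10216a0d6d338c8614185939afbc5345cdc341e8d4c6f57882592a0c258c0059c2a0de882aa725e65904cc6c569336079a8287dc838d56c70a89916c001ac360ae9ac94e815143926b0be2db2492355b38bc225c19438ca855dc001aa55458221e4eb3603ba0344be6b02d41ada67190c2830b2735f78a6885a20e79a254cda1a0ef515a47231407c462291a79b21649a97506a874960038541bd10554e4bccb20998d8ad360586c15d35929d02a28724d617c5a6b18a45b9f48a66c6c82285cf55206002835b4ce3218506164e6bef14d10b5be50a2a754a0b78b9a11b04621ec002ed70b1067114391ea28168d9a62f00d82ba6b253a05450e49ac2f8b4d6b2ce568d2289a817926c9220e556e005ae1620ce228723d4502d1b34c5eb05c2c419c450e47a8a05a36698bd76bba8ab116d7c52899d90286a219a40005883388a1c8f5140b46cd317aed7b82d5a4e5183dcd62d4941cc520c41bdab49ca307b9ac5a928398a418820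
def m24I : ℕ := 0xa70ac0a30ac0a709b0a309b0ab0970a70970a309709f09709b0970aa08708b0a908f0a808f0870a608f08f0a50870a408f08f0a208708b0a10870a009308709e08f08709d08f09c08709309a08708709909309808f08f09608f09309508f09408f08b09207507d09107009007006c08e07607908d07008c07c08008a07907a08907b08807a08108607607d08507608406c07707007c06c07807307707007707307606c07606c07507307407007407007306c07307007006c07007306c07006c06c06c05607206507105805306f06806806e05306d05f06306b05605706a06706905a05705306605306305305d05605c05305c05605b05305b05605a05305a05305905605805305805605705305705605605305605605305305304d05504505404804a05203f04a05104805004f03f03c04b03c04a03804803c04703804703c04603c04503c04303804303804203c04103c04003804003803f03c03e03c03d03803c03c03803803803b02302403a02e03902502c03702001d03603003501d02f01d03202002d02002b01d02a01d02902002802002601d02502002401d02402002301d02302002201d02202002101d02102002001d02002001d01d01d01401f00f01e01300b01c00e00401b01101a01200700201700101300101000300f00100d00200c00100c00300b00300a00100a003009002008003007001007003006003005002005001005003004002004001004001002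
def m24J0 : ℕ := 0x400500800700c01301801901401600900d01500f00e01100b00a010017012006002
def m24J1 : ℕ := 0x3002102702a02e02902802b02502f02d03102c01d032033022023020026034024000
def m24J2 : ℕ := 0x4d04f04603804e04103c04703e04804b04004304c04a04903d03f045042044000000
def m24J3 : ℕ := 0x5e06406605f06005706106805a05905305806305c05b05605d065062067000000000
def m24J4 : ℕ := 0x8307907d08108007608207e07707b07007407a06c07c07307f075078000000000000
def m24J5 : ℕ := 0x8700000008f000000000000000000000000000000000000000000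
def m24J6 : ℕ := 0xae0af0b309f0970000b209b0000b00ab0b40a70ad0a30b10ac000000000000000000

/-- The subgroup generated by the three standard generators. -/
noncomputable def K24 : Subgroup (Equiv.Perm GolayPt) :=
  Subgroup.closure {Equiv.optionCongr (Equiv.addRight (1 : ZMod 23)), projInv, cubeTwist}

theorem K24_le : K24 ≤ M24 := by
  unfold K24
  rw [Subgroup.closure_le]
  rintro x (rfl | rfl | rfl)
  · exact alpha_mem
  · exact gamma_mem
  · exact delta_mem

theorem m24_slp : slpOK m24T m24I 4 177 = true := by decide +kernel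

theorem m24_tab : ∀ k < 181, InK K24 (getP m24T k) := by
  apply slp_sound m24_slp
  intro k hk
  interval_cases k
  · rw [show getP m24T 0 = pid by decide +kernel]; exact InK.one _
  · rw [show getP m24T 1 = cAlpha by decide +kernel]
    exact ⟨_, Subgroup.subset_closure (by simp), rep_alpha⟩
  · rw [show getP m24T 2 = cGamma by decide +kernel]
    exact ⟨_, Subgroup.subset_closure (by simp), rep_gamma⟩
  · rw [show getP m24T 3 = cDelta by decide +kernel]
    exact ⟨_, Subgroup.subset_closure (by simp), rep_delta⟩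

theorem m24_lev0 : ∀ y ∈ S 16777215, ∃ σ ∈ K24 ⊓ Fx 0, σ • y = pt 23 :=
  lev_sound m24_tab (J := m24J0) (by decide +kernel)
theorem m24_lev1 : ∀ y ∈ S 8388607, ∃ σ ∈ K24 ⊓ Fx 8388608, σ • y = pt 0 :=
  lev_sound m24_tab (J := m24J1) (by decide +kernel)
theorem m24_lev2 : ∀ y ∈ S 8388606, ∃ σ ∈ K24 ⊓ Fx 8388609, σ • y = pt 1 :=
  lev_sound m24_tab (J := m24J2) (by decide +kernel)
theorem m24_lev3 : ∀ y ∈ S 8388604, ∃ σ ∈ K24 ⊓ Fx 8388611, σ • y = pt 2 :=
  lev_sound m24_tab (J := m24J3) (by decide +kernel)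
theorem m24_lev4 : ∀ y ∈ S 8388600, ∃ σ ∈ K24 ⊓ Fx 8388615, σ • y = pt 3 :=
  lev_sound m24_tab (J := m24J4) (by decide +kernel)
theorem m24_lev5 : ∀ y ∈ S 147488, ∃ σ ∈ K24 ⊓ Fx 8388623, σ • y = pt 5 :=
  lev_sound m24_tab (J := m24J5) (by decide +kernel)
theorem m24_lev6 : ∀ y ∈ S 8241104, ∃ σ ∈ K24 ⊓ Fx 8388655, σ • y = pt 4 :=
  lev_sound m24_tab (J := m24J6) (by decide +kernel)

/-- The standard octad: indices `0, 1, 2, 3, 5, 14, 17, 23`. -/
theorem isO_O0 : isO 8536111 = true := by decide +kernel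

theorem m24_bd0 : ∀ σ ∈ M24 ⊓ Fx 0, σ • pt 23 ∈ S 16777215 := fun σ hσ =>
  orbit_bound' (smul_S_all σ) hσ.2 (by decide +kernel)
theorem m24_bd1 : ∀ σ ∈ M24 ⊓ Fx 8388608, σ • pt 0 ∈ S 8388607 := fun σ hσ =>
  orbit_bound' (smul_S_all σ) hσ.2 (by decide +kernel)
theorem m24_bd2 : ∀ σ ∈ M24 ⊓ Fx 8388609, σ • pt 1 ∈ S 8388606 := fun σ hσ =>
  orbit_bound' (smul_S_all σ) hσ.2 (by decide +kernel)
theorem m24_bd3 : ∀ σ ∈ M24 ⊓ Fx 8388611, σ • pt 2 ∈ S 8388604 := fun σ hσ =>
  orbit_bound' (smul_S_all σ) hσ.2 (by decide +kernel)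
theorem m24_bd4 : ∀ σ ∈ M24 ⊓ Fx 8388615, σ • pt 3 ∈ S 8388600 := fun σ hσ =>
  orbit_bound' (smul_S_all σ) hσ.2 (by decide +kernel)
theorem m24_bd5 : ∀ σ ∈ M24 ⊓ Fx 8388623, σ • pt 5 ∈ S 147488 := fun σ hσ =>
  orbit_bound' (octad_fixed hσ.1 hσ.2 isO_O0 (by decide +kernel)) hσ.2 (by decide +kernel)
theorem m24_bd6 : ∀ σ ∈ M24 ⊓ Fx 8388655, σ • pt 4 ∈ S 8241104 := fun σ hσ => by
  have h := octad_fixed hσ.1 hσ.2 isO_O0 (by decide +kernel)
  have h2 : σ • S 8241104 = S 8241104 := by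
    rw [show 8241104 = 8536111 ^^^ 16777215 by decide, S_compl, smul_finset_compl', h]
  exact orbit_bound' h2 hσ.2 (by decide +kernel)

theorem m24_bot : M24 ⊓ Fx 8388671 = ⊥ :=
  close_bot le_rfl (fun σ _ => smul_S_all σ)
    [(12656663, 8663097, 13), (3416079, 9543722, 20), (3416079, 11538486, 21), (11100169, 12222476, 19), (9347075, 10305542, 18), (9347075, 13938692, 15), (9347075, 9347075, 17), (13938692, 10170384, 12), (13062145, 13938692, 22), (13062145, 10170384, 16), (13062145, 13062145, 14), (15515712, 15515712, 6), (2019456, 2019456, 7), (4038912, 4038912, 8), (8077824, 8077824, 9), (11654144, 11654144, 10), (14919680, 14919680, 11)]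
    (by decide +kernel)

theorem card_F7 : Nat.card ↥(M24 ⊓ Fx 8388671) = 1 := by rw [m24_bot, Subgroup.card_bot]
theorem card_F6 : Nat.card ↥(M24 ⊓ Fx 8388655) = 16 := by
  rw [step_card K24_le (by norm_num) (by norm_num) m24_bd6 m24_lev6,
    show 8388655 ||| 2 ^ 4 = 8388671 by decide, card_F7]
  decide +kernel
theorem card_F5 : Nat.card ↥(M24 ⊓ Fx 8388623) = 48 := by
  rw [step_card K24_le (by norm_num) (by norm_num) m24_bd5 m24_lev5,
    show 8388623 ||| 2 ^ 5 = 8388655 by decide, card_F6]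
  decide +kernel
theorem card_F4 : Nat.card ↥(M24 ⊓ Fx 8388615) = 960 := by
  rw [step_card K24_le (by norm_num) (by norm_num) m24_bd4 m24_lev4,
    show 8388615 ||| 2 ^ 3 = 8388623 by decide, card_F5]
  decide +kernel
theorem card_F3 : Nat.card ↥(M24 ⊓ Fx 8388611) = 20160 := by
  rw [step_card K24_le (by norm_num) (by norm_num) m24_bd3 m24_lev3,
    show 8388611 ||| 2 ^ 2 = 8388615 by decide, card_F4]
  decide +kernel
theorem card_F2 : Nat.card ↥(M24 ⊓ Fx 8388609) = 443520 := by
  rw [step_card K24_le (by norm_num) (by norm_num) m24_bd2 m24_lev2,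
    show 8388609 ||| 2 ^ 1 = 8388611 by decide, card_F3]
  decide +kernel
theorem card_F1 : Nat.card ↥(M24 ⊓ Fx 8388608) = 10200960 := by
  rw [step_card K24_le (by norm_num) (by norm_num) m24_bd1 m24_lev1,
    show 8388608 ||| 2 ^ 0 = 8388609 by decide, card_F2]
  decide +kernel
theorem card_F0 : Nat.card ↥(M24 ⊓ Fx 0) = 244823040 := by
  rw [step_card K24_le (by norm_num) (by norm_num) m24_bd0 m24_lev0,
    show 0 ||| 2 ^ 23 = 8388608 by decide, card_F1]
  decide +kernel

theorem card_M24 : Nat.card M24 = 244823040 := by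
  have := card_F0
  rwa [Fx_zero, inf_top_eq] at this

theorem M24_le_K24 : M24 ≤ K24 := by
  have h7 : M24 ⊓ Fx 8388671 ≤ K24 := by rw [m24_bot]; exact bot_le
  have h6 : M24 ⊓ Fx 8388655 ≤ K24 := step_le K24_le (by norm_num) m24_bd6 m24_lev6 h7
  have h5 : M24 ⊓ Fx 8388623 ≤ K24 := step_le K24_le (by norm_num) m24_bd5 m24_lev5 h6
  have h4 : M24 ⊓ Fx 8388615 ≤ K24 := step_le K24_le (by norm_num) m24_bd4 m24_lev4 h5
  have h3 : M24 ⊓ Fx 8388611 ≤ K24 := step_le K24_le (by norm_num) m24_bd3 m24_lev3 h4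
  have h2 : M24 ⊓ Fx 8388609 ≤ K24 := step_le K24_le (by norm_num) m24_bd2 m24_lev2 h3
  have h1 : M24 ⊓ Fx 8388608 ≤ K24 := step_le K24_le (by norm_num) m24_bd1 m24_lev1 h2
  have h0 : M24 ⊓ Fx 0 ≤ K24 := step_le K24_le (by norm_num) m24_bd0 m24_lev0 h1
  rwa [Fx_zero, inf_top_eq] at h0

theorem K24_eq : K24 = M24 := le_antisymm K24_le M24_le_K24

theorem m24_five_std (x : Fin 5 → GolayPt) (hx : Function.Injective x) :
    ∃ σ ∈ M24, ∀ i, σ (x i) = ![pt 23, pt 0, pt 1, pt 2, pt 3] i := by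
  refine multi_trans M24 Set.univ (fun _ _ _ _ => trivial) _ ?_ x hx (fun _ => trivial)
  intro l y _ hy
  fin_cases l
  · obtain ⟨σ, h1, h2⟩ := m24_lev0 y (by revert y; decide +kernel)
    exact ⟨σ, K24_le h1.1, fun i hi => mem_Fx.1 h1.2 _ (by revert i; decide +kernel), h2⟩
  · obtain ⟨σ, h1, h2⟩ := m24_lev1 y (by revert y; decide +kernel)
    exact ⟨σ, K24_le h1.1, fun i hi => mem_Fx.1 h1.2 _ (by revert i; decide +kernel), h2⟩
  · obtain ⟨σ, h1, h2⟩ := m24_lev2 y (by revert y; decide +kernel)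
    exact ⟨σ, K24_le h1.1, fun i hi => mem_Fx.1 h1.2 _ (by revert i; decide +kernel), h2⟩
  · obtain ⟨σ, h1, h2⟩ := m24_lev3 y (by revert y; decide +kernel)
    exact ⟨σ, K24_le h1.1, fun i hi => mem_Fx.1 h1.2 _ (by revert i; decide +kernel), h2⟩
  · obtain ⟨σ, h1, h2⟩ := m24_lev4 y (by revert y; decide +kernel)
    exact ⟨σ, K24_le h1.1, fun i hi => mem_Fx.1 h1.2 _ (by revert i; decide +kernel), h2⟩

theorem m24_five (x y : Fin 5 → GolayPt) (hx : Function.Injective x) (hy : Function.Injective y) :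
    ∃ σ ∈ M24, ∀ i, σ (x i) = y i :=
  multi_trans' M24 Set.univ _ (fun x hx _ => m24_five_std x hx) x y hx (fun _ => trivial) hy
    (fun _ => trivial)

theorem m24_isMultiplyPretransitive : IsMultiplyPretransitive M24 GolayPt 5 := by
  rw [isMultiplyPretransitive_iff]
  intro x y
  obtain ⟨σ, h1, h2⟩ := m24_five x y x.injective y.injective
  exact ⟨⟨σ, h1⟩, Function.Embedding.ext h2⟩

theorem m24_multi {n : ℕ} (hn : n ≤ 5) (x y : Fin n → GolayPt) (hx : Function.Injective x)
    (hy : Function.Injective y) : ∃ σ ∈ M24, ∀ i, σ (x i) = y i := by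
  have := m24_isMultiplyPretransitive
  have h := isMultiplyPretransitive_of_le (G := M24) (α := GolayPt) hn
    (by rw [Nat.card_eq_fintype_card, card_pt]; norm_num)
  obtain ⟨σ, hσ⟩ := isMultiplyPretransitive_iff.1 h ⟨x, hx⟩ ⟨y, hy⟩
  exact ⟨σ, σ.2, fun i => congrArg (fun z : Fin n ↪ GolayPt => z i) hσ⟩

theorem m24_trans1 (a a' : GolayPt) : ∃ σ ∈ M24, σ a = a' := by
  obtain ⟨σ, h1, h2⟩ := m24_multi (n := 1) (by norm_num) ![a] ![a']
    (Function.injective_of_subsingleton _) (Function.injective_of_subsingleton _)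
  exact ⟨σ, h1, h2 0⟩

theorem inj_vec2 {α : Type*} {a b : α} (h : a ≠ b) : Function.Injective ![a, b] := by
  intro i j; fin_cases i <;> fin_cases j <;> simp [h, h.symm]

theorem inj_vec3 {α : Type*} {a b c : α} (h1 : a ≠ b) (h2 : a ≠ c) (h3 : b ≠ c) :
    Function.Injective ![a, b, c] := by
  intro i j; fin_cases i <;> fin_cases j <;> simp [h1, h1.symm, h2, h2.symm, h3, h3.symm]

theorem inj_vec4 {α : Type*} {a b c d : α} (h1 : a ≠ b) (h2 : a ≠ c) (h3 : a ≠ d) (h4 : b ≠ c)
    (h5 : b ≠ d) (h6 : c ≠ d) : Function.Injective ![a, b, c, d] := by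
  intro i j
  fin_cases i <;> fin_cases j <;>
    simp [h1, h1.symm, h2, h2.symm, h3, h3.symm, h4, h4.symm, h5, h5.symm, h6, h6.symm]

theorem m24_trans2 {a b a' b' : GolayPt} (h : a ≠ b) (h' : a' ≠ b') :
    ∃ σ ∈ M24, σ a = a' ∧ σ b = b' := by
  obtain ⟨σ, h1, h2⟩ := m24_multi (n := 2) (by norm_num) _ _ (inj_vec2 h) (inj_vec2 h')
  exact ⟨σ, h1, h2 0, h2 1⟩

theorem m24_trans3 {a b c a' b' c' : GolayPt} (h1 : a ≠ b) (h2 : a ≠ c) (h3 : b ≠ c)
    (h1' : a' ≠ b') (h2' : a' ≠ c') (h3' : b' ≠ c') :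
    ∃ σ ∈ M24, σ a = a' ∧ σ b = b' ∧ σ c = c' := by
  obtain ⟨σ, h4, h5⟩ := m24_multi (n := 3) (by norm_num) _ _ (inj_vec3 h1 h2 h3)
    (inj_vec3 h1' h2' h3')
  exact ⟨σ, h4, h5 0, h5 1, h5 2⟩

/-- `M24` is transitive on subsets of any size at most five. -/
theorem m24_trans_sets {s t : Finset GolayPt} (hs : s.card ≤ 5) (h : s.card = t.card) :
    ∃ σ ∈ M24, σ • s = t := by
  obtain ⟨σ, h1, h2⟩ := m24_multi hs (fun i => (s.equivFin.symm i : GolayPt))
    (fun i => ((t.equivFinOfCardEq h.symm).symm i : GolayPt))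
    (Subtype.val_injective.comp s.equivFin.symm.injective)
    (Subtype.val_injective.comp (t.equivFinOfCardEq h.symm).symm.injective)
  refine ⟨σ, h1, eq_of_subset_of_card_le ?_ (by rw [card_smul_finset, h])⟩
  intro p hp
  obtain ⟨q, hq, rfl⟩ := mem_smul_finset.1 hp
  have := h2 (s.equivFin ⟨q, hq⟩)
  simp only [Equiv.symm_apply_apply] at this
  rw [Equiv.Perm.smul_def, this]
  exact Finset.coe_mem _

theorem octads_steiner : IsSteinerSystem 5 8 octads := by
  refine ⟨fun b hb => hb.2, fun s hs => ?_⟩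
  obtain ⟨σ, h1, h2⟩ := m24_trans_sets (s := S 8388623) (t := s) (by decide +kernel)
    (by rw [hs]; decide +kernel)
  have ho : σ • S 8536111 ∈ octads := smul_mem_octads h1 (S_mem_octads isO_O0)
  have hs' : s ⊆ σ • S 8536111 := by
    rw [← h2]; exact smul_finset_subset_smul_finset (S_subset_of_and (by decide))
  refine ⟨_, ⟨ho, hs'⟩, fun o h => octad_eq_of_inter h.1 ho ?_⟩
  rw [← hs]; exact card_le_card (subset_inter h.2 hs')

theorem m24_trans_octads {o o' : Finset GolayPt} (ho : o ∈ octads) (ho' : o' ∈ octads) :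
    ∃ σ ∈ M24, σ • o = o' := by
  obtain ⟨s, hs, hc⟩ := exists_subset_card_eq (show 5 ≤ o.card by rw [ho.2]; norm_num)
  obtain ⟨t, ht, hc'⟩ := exists_subset_card_eq (show 5 ≤ o'.card by rw [ho'.2]; norm_num)
  obtain ⟨σ, h1, h2⟩ := m24_trans_sets (s := s) (t := t) hc.le (hc.trans hc'.symm)
  refine ⟨σ, h1, octad_eq_of_inter (smul_mem_octads h1 ho) ho' ?_⟩
  rw [← hc']
  exact card_le_card (subset_inter (h2 ▸ smul_finset_subset_smul_finset hs) ht)

end H15
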