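import Cfsg.Prelude.Def_Spor_Mathieu
import Cfsg.Agent.H15.M24
import Cfsg.Agent.H15.PermSimple

/-! Orders, transitivity and simplicity of the five Mathieu groups. -/

set_option autoImplicit false
set_option linter.unusedVariables false

namespace H15
open Cfsg Finset MulAction
open scoped Pointwise

/-- Power of a permutation code. -/
noncomputable def ppow (g n : ℕ) : ℕ := Nat.rec pid (fun _ acc => pmul g acc) n

theorem Rep.pow {σ : Equiv.Perm GolayPt} {g : ℕ} (h : Rep σ g) (n : ℕ) :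
    Rep (σ ^ n) (ppow g n) := by
  induction n with
  | zero => exact Rep.one
  | succ n ih => rw [pow_succ']; exact h.mul ih

theorem Rep.pow_eq_one {σ : Equiv.Perm GolayPt} {g n : ℕ} (h : Rep σ g) (e : ppow g n = pid) :
    σ ^ n = 1 := by
  have := h.pow n
  rw [e] at this
  exact this.eq_one

theorem pt_23 : pt 23 = none := rfl
theorem pt_0 : pt 0 = some 0 := rfl

theorem M23_eq : Spor.M23 = M24 ⊓ Fx 8388608 := by
  have := Fx_inf_stab 0 (b := 23) (by norm_num)
  rw [Fx_zero, top_inf_eq, pt_23] at this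
  unfold Spor.M23; rw [this]; rfl

theorem M22_eq : Spor.M22 = M24 ⊓ Fx 8388609 := by
  have := Fx_inf_stab 8388608 (b := 0) (by norm_num)
  unfold Spor.M22; rw [M23_eq, inf_assoc, ← pt_0, this]; rfl

theorem squareDodecad_eq : Spor.squareDodecad = S 340831 := by
  unfold Spor.squareDodecad
  rw [← golay_aux4 0, support_W]
  congr 1

theorem isD_D0 : isD 340831 = true := by decide +kernel

theorem M12_eq : Spor.M12 = M24 ⊓ stabilizer (Equiv.Perm GolayPt) (S 340831) := by
  unfold Spor.M12; rw [squareDodecad_eq]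

theorem M11_eq : Spor.M11 = Spor.M12 ⊓ Fx 1 := by
  have := Fx_inf_stab 0 (b := 0) (by norm_num)
  rw [Fx_zero, top_inf_eq] at this
  unfold Spor.M11; rw [← pt_0, this]; rfl

theorem M23_le : Spor.M23 ≤ M24 := inf_le_left
theorem M22_le : Spor.M22 ≤ M24 := le_trans inf_le_left M23_le
theorem M12_le : Spor.M12 ≤ M24 := inf_le_left
theorem M11_le : Spor.M11 ≤ M24 := le_trans inf_le_left M12_le

theorem mem_M23 {σ : Equiv.Perm GolayPt} : σ ∈ Spor.M23 ↔ σ ∈ M24 ∧ σ (pt 23) = pt 23 := Iff.rfl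
theorem mem_M22 {σ : Equiv.Perm GolayPt} :
    σ ∈ Spor.M22 ↔ (σ ∈ M24 ∧ σ (pt 23) = pt 23) ∧ σ (pt 0) = pt 0 := Iff.rfl
theorem mem_M12 {σ : Equiv.Perm GolayPt} : σ ∈ Spor.M12 ↔ σ ∈ M24 ∧ σ • S 340831 = S 340831 := by
  rw [M12_eq]; rfl
theorem mem_M11 {σ : Equiv.Perm GolayPt} :
    σ ∈ Spor.M11 ↔ (σ ∈ M24 ∧ σ • S 340831 = S 340831) ∧ σ (pt 0) = pt 0 := by
  rw [← mem_M12]; rfl

theorem card_M23 : Nat.card Spor.M23 = 10200960 := by rw [M23_eq, card_F1]
theorem card_M22 : Nat.card Spor.M22 = 443520 := by rw [M22_eq, card_F2]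

theorem inK_of_pow {H K : Subgroup (Equiv.Perm GolayPt)} {p g : ℕ}
    (hK : ∀ σ ∈ H, σ ^ p = 1 → σ ∈ K) (hg : InK H g) (e : ppow g p = pid) : InK K g := by
  obtain ⟨σ, h1, h2⟩ := hg
  exact ⟨σ, hK σ h1 (h2.pow_eq_one e), h2⟩

theorem inK_Fx {F g : ℕ} (h : isM g = true) (h2 : fixes g F = true) : InK (M24 ⊓ Fx F) g :=
  ⟨_, ⟨isM_mem h, (isM_rep h).mem_Fx h2⟩, isM_rep h⟩

theorem inK_M12 {g : ℕ} (h : isM g = true) (h2 : act g 340831 = 340831) : InK Spor.M12 g :=
  ⟨_, mem_M12.2 ⟨isM_mem h, (isM_rep h).smul_S_eq h2⟩, isM_rep h⟩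

theorem inK_M11 {g : ℕ} (h : isM g = true) (h2 : act g 340831 = 340831) (h3 : ap g 0 = 0) :
    InK Spor.M11 g :=
  ⟨_, mem_M11.2 ⟨⟨isM_mem h, (isM_rep h).smul_S_eq h2⟩, (isM_rep h).app_eq (by norm_num) h3⟩,
    isM_rep h⟩

/-! ### Generation of `M23` and `M22` by two elements of prime order -/

/-- Two elements of order 23 generating `M23`. -/
def c23a : ℕ := 0xbbc09929b431c88aaca38326113ad1
def c23b : ℕ := 0xb8963240f54522d2b0d303dc154ac9
def m23T : ℕ := 0xb9e086be3593a6952d94b10a618820bd17661a2a23933ac1a7448af18820bbd8459e29b39559b606920b418820ba91094e346b9e63d8955b0a918820bd6cb22627638cfa224a834b318820bb1f3a4232ab916218ed4a8ab18820b99b28523343aaa4b16f258a718820bb4c93ae2453ac893e8c9d4b018820bcc8cb2a265b8f47c9096c0b518820bc0ea332364b892451ebaccad18820b926faa22da3a0b6255231cb618820bc92655a2c3b9706cea47d0a818820ba9b5b48a93468864ceb811cf18820ba64d4562f83a87312d362caa18820b92924d4b65c5b33a1867a9d018820ba9b5b48a93468864ceb811cf18820ba1b4255cc516469a5e7b4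22b18820bc92655a2c3b9706cea47d0a818820bc12ba18ad946c79b11553dc418820bd268341c9595e46b2563d62a18820ba1474922b3398d85676a3cb218820ba613220aa3c5f25d4cc6d9d418820b9e086be3593a6952d94b10a618820ba613220aa3c5f25d4cc6d9d418820bae957b6289ba44b1cd0524ac18820ba9b5b48a93468864ceb811cf18820b99b28523343aaa4b16f258a718820bdab49ca307b9ac5a928398a418820ba1474922b3398d85676a3cb218820b9166425d0996d4554ef9322d18820bbeb23b5ca6169682d0434e2918820bdab49ca307b9ac5a928398a418820bb2ad350abb464f5408999dc818820ba1474922b3398d85676a3cb218820b8daf8327151ca85d13225aae30820bccb48aec6534ec425f270c9580820bbad5829839aca9a1ccf6925140820b99b28523343aaa4b16f258a718820bc50f5cc85a587532547649ae80820b906929a50a22d3aa9e77458d58820bb2ad350abb464f5408999dc818820bca0fb4dcb49507aaa862362c18820bac6f8c2aca1d046a5562b8d298820bbd67916ca3368e1d6716208980820bb2c9819c8795753d1536923218820bbeb23b5ca6169682d0434e2918820b96c783d71331d44d66a6910390820b9a14215157b0ee1a9316da5358820b956493e6369a29542d4620eea882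0b8d865b531ad0b681e649214e78820bd5cb8b5e695264b31101952750820bba0a6ca6579e2b4268cb12a330820bb88c81d3193c759a166b368550820ba4688cdaa911e7aad862bad480820bd57640d476d0c571211931f348820b9da32494673eac5c4a8b4133a0820bbdab23aa991d511b105b40d498820bd5f2a39b3640e32ad114a886b0820bb948a58c391ca482d8d7a671a8820bbcb58d9693c94481a6d70d9440820bd2653ca0a1b52b445cca9acf20820bbe6c358aa93a8d221703d46988820b9e914d91574a6d214707a96660820b99c91b2d37b6ab951482c48780820bca844ba6bb1d058b6037aaac30820bb5eb555d090c933b106a24b688820b9a6b53e8413535b49032c1d13b020bb268a093651de5899ae22e5580c20bb1f03cccbab4564c68e215521a020bc8cdabc68b39944c08a3ce2b28820bc5d3ab5362d16333208249e712820bc6b24cdca41ad4189842b5e782c20ba2ac3aec3895507248f98a4da1820b9d855be13758d448e2a9209568820b912f8228a8daac5cda219cae34820bc6b24cdca41ad4189842b5e782c20bc6d03544d3b26a70d242d10f5c820ba45694da479e2a2d4705a1c6a3020baa6da8df1612d04d1d21190b29c20bc6502d5276b96f610433510a9d820ba2ac3aec3895507248f98a4da1820bd8d01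89cb2d6344cd8f4348792820bda32a9a6d3b04b7246f450a454020b9d9220d62a3e6d558a88a61571820b9e6e7b2c9a94625a8888b69034820bda424b56c2cea6545c83c08fa0c20b9aa4b454e3d1736a0b21b13013c20bc22399c4eaa8c8259856c92ba3c20bca64b546b7999181cb44b9426a020b8aa98bdab98e47259c58514c32020bbea551d6db0a2381a897111364820bbe2c154c49d0ed5c14970ec891420ba2651bd90b36a9148ca590f175020ba2ae6ce44899f06086a5a6c7a1420b962a34ceb14aae43e962320d1a420b96a3945ec6d26b3a0d6238504a820ba9b6a460443ea32cd2261d7233820b8c24625e56ce06a3a2790ab652d00bd8a698e2d651090a9f05b895148e0bb8653d6cb909b40a5509b0c47c500baaa67b667926248168260d0b75820b9874722d19882f8564d52ce42b120bbca83393111db522d8ab507380640bace54d8cdacd4c73c5108d1424a00b9541a0ab2b416f62124344676cdc0b88a97523231e64656086bc235d940b9823b3e843b6155458b724b212260bbe8550c4db2e47612a87192184660bb8653d6cb909b40a5509b0c47c500bd1c91496a0c10d2c4c37ceb639180b9874985ee8c1ab61c88558a9a8a40bcca6950f023c561b02d429cbaa620bd4c9934736408e51c4fa0571458a0bc9752a4f010e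c1329a47d26e44580bbd350b443b1e0b74ca861a8a94480b868f2566728a264b9b04306b92ac0baa858ae684d60f1d98d910ce09c40bc9657b13584d1471a2110c9651da0bbc92694d38a4e35b98808ab455a00bd12b63a4f8a2033054428ab369ec0bb2b4b2c28548e2499d0215e36ce20b917413952385151becd8a4a664e00b88a4851e1b2a6958dc86c655618e0b957588d849b512488d0b2a8f704e0bc8561adc64d0046ce21416a783d4cb8ccf125c03a88cb4ab06c5132d02bbd5eb180d3b05c2915b14b20855087bc6853d44d3302a5a4688589273e60ba173904b000ac91c555231ed3ba86ba6839daad1120e3a8ab09a408bd0cb82963ac35426058bc8a9198e10e6dbb47554113b1deb22445a30c074641bce3561db200c267aec54a090509d4b851329d2d23e56a0d51700505b2a6bc893328346c50c4c2ab3d84f2b803bd5403349159d21a590f93a6c11603bba4328827410cb8aa806d9ecace09bd68d114ce0b12019e76791528ae08ba9cd1ce3279c5059005486c861a95b8134118679383682a6c8b6a8595e4bc9860120b195e199d28ab6cea0951bc2277952d74c365086b2228605592bc1ccb2d2522807a450134c626d64fbd172b0ea951a2124db03bc022b10ebbcee614266d6ca4ac921ce02a0111baa6bb023590a0d390c128d2f451ccbb1b35d425452c28824e48d4f3c0c4bc8aa0d40b98cf1735e44a29664046ba1268322378033595caab49695047bbaa20d2001a5a49a192898f65a9e5b9a2552c896402305662a225671dedb8963240f54522d2b0d303dc154ac9bbc09929b431c88aaca38326113ad1bdab49ca307b9ac5a928398a418820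
def m23I : ℕ := 0x8f09308c09208c09008f08c08c08808f08108c08108808108c07d08107d07808e07008d07907408b06c07408a06c08906c07406c08707008607007408406c07908306c08207807908006c07907f07407e06c07907c07907807b06c07a07906c06c06c07705e05a07606107506306707305f05a07206407106006806f05a06306e06106d05805406b06305406a05f06905005a05406305806205406105005e05805d05005d05005c05005b05805a05405905005905005805405405005405805005005005704503505604405504a03d05303c04705203f05103a03f04f04803d04e04404d04104303904703504503504403504303904203504203904103504103904003503f03503e03503d03503c03903b03503b03903a03503a03903503503503802402403701a03601e02a03402a02a03302503203102901e02f01a02e01e02d01a02b01e02a01e02701e02501a02501e02201a02201e02101a02101a02001e01f01a01f01e01e01a01e01e01a01a01a01d01000801c01501b01300701901401401800401700f00700101300201100101000100e00200c00100c00200b00100a002009001008002007002006002005001005002004001003002002001002002001001001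
def m23J0 : ℕ := 0xe00101200d00800600401500500b01000300700f01100201400a01600c009013000
def m23J1 : ℕ := 0x2602f03102702b02101f02c02001a02802d02202a02402302903002e02501e000000
def m23J2 : ℕ := 0x4004c04403e04804204603b03f04704503d03c04a03504b04903a041043000000000
def m23J3 : ℕ := 0x6806406205a06305405f05d05806506006105005b05906705e05c066000000000000
def m23J4 : ℕ := 0x7900000006c000000000000000000000000000000000000000000
def m23J5 : ℕ := 0x8f09109709507d00009209800009008109408c096088093099000000000000000000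

theorem m23_slp : slpOK m23T m23I 3 151 = true := by decide +kernel

theorem m23_tab {K : Subgroup (Equiv.Perm GolayPt)} (ha : InK K c23a) (hb : InK K c23b) :
    ∀ k < 154, InK K (getP m23T k) := by
  apply slp_sound m23_slp
  intro k hk
  interval_cases k
  · rw [show getP m23T 0 = pid by decide +kernel]; exact InK.one _
  · rwa [show getP m23T 1 = c23a by decide +kernel]
  · rwa [show getP m23T 2 = c23b by decide +kernel]


theorem M23_le_of_gens {K : Subgroup (Equiv.Perm GolayPt)} (hK : K ≤ M24) (ha : InK K c23a)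
    (hb : InK K c23b) : Spor.M23 ≤ K := by
  have h7 : M24 ⊓ Fx 8388671 ≤ K := by rw [m24_bot]; exact bot_le
  have h6 : M24 ⊓ Fx 8388655 ≤ K := step_le hK (by norm_num) m24_bd6
    (lev_sound (m23_tab ha hb) (J := m23J5) (by decide +kernel)) h7
  have h5 : M24 ⊓ Fx 8388623 ≤ K := step_le hK (by norm_num) m24_bd5
    (lev_sound (m23_tab ha hb) (J := m23J4) (by decide +kernel)) h6
  have h4 : M24 ⊓ Fx 8388615 ≤ K := step_le hK (by norm_num) m24_bd4
    (lev_sound (m23_tab ha hb) (J := m23J3) (by decide +kernel)) h5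
  have h3 : M24 ⊓ Fx 8388611 ≤ K := step_le hK (by norm_num) m24_bd3
    (lev_sound (m23_tab ha hb) (J := m23J2) (by decide +kernel)) h4
  have h2 : M24 ⊓ Fx 8388609 ≤ K := step_le hK (by norm_num) m24_bd2
    (lev_sound (m23_tab ha hb) (J := m23J1) (by decide +kernel)) h3
  have h1 : M24 ⊓ Fx 8388608 ≤ K := step_le hK (by norm_num) m24_bd1
    (lev_sound (m23_tab ha hb) (J := m23J0) (by decide +kernel)) h2
  rwa [M23_eq]

/-- Two elements of order 11 generating `M22`. -/
def c22a : ℕ := 0xb9c8e8b44fa8d4bb15134869281980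
def c22b : ℕ := 0xbd52451ed20a22d1526f7320628d60
def m22T : ℕ := 0xba91094e346b9e63d8955b0a918820bcc8cb2a265b8f47c9096c0b518820b99b28523343aaa4b16f258a718820b926faa22da3a0b6255231cb618820ba1474922b3398d85676a3cb218820bae957b6289ba44b1cd0524ac18820bc0ea332364b892451ebaccad18820bb1f3a4232ab916218ed4a8ab18820bc92655a2c3b9706cea47d0a818820bbd8459e29b39559b606920b418820ba0d6aa4b26c56a792143cdcc18820bdab49ca307b9ac5a928398a418820bb4c93ae2453ac893e8c9d4b018820ba4eca91d491550b216d99a2f18820b99b28523343aaa4b16f258a718820b9e086be3593a6952d94b10a618820bc8e49a8a884589a59af355cb18820bd17661a2a23933ac1a7448af18820bc8e49a8a884589a59af355cb18820bd6cb22627638cfa224a834b318820bd268341c9595e46b2563d62a18820ba0d6aa4b26c56a792143cdcc18820bd17661a2a23933ac1a7448af18820ba8cb9d9cf4152d24990a9e3418820b9e086be3593a6952d94b10a618820b9d367add3814d263488a2a3518820ba64d4562f83a87312d362caa18820ba4eca91d491550b216d99a2f18820bd9e854ca46461534967a25cd18820ba0d6aa4b26c56a792143cdcc1882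0bac8a69dd2a159333d3585a2818820bd17661a2a23933ac1a7448af18820baced9a5ccb0d0a7c094354b288820bb8c9ad9917c8706d1443cd0558820b99d28d9555a4f06a1841969378820ba0d6aa4b26c56a792143cdcc18820b98ab1c135928f62310d8b9f3a0820bad464c0683965624eada3dcc88820b90f432dcd7c6089292cacc7628820bd9e854ca46461534967a25cd18820b8d537ae05359c891eac4d09168820bd6ce849331d0ec596286914678820bdab49ca307b9ac5a928398a418820b990f640a75466db512492dd518820b9596452a381e2a4b48f5c8ce98820bd175945a99d9e371cc56220a20820bae964c4d225583741a57a8e898820bd1d68ca696d5ec59208194ca38820bbcb01ae6a25688936cc8b8c938820bc569419a5540679be959308eb0820b9d6d43935b3e711c0859328650820b9c916ad262d2a890dcc8595378820b8ceb352d1934a97b10aacc8e80820ba4f63396a831e32b491acd1490820ba1f653aac21a458c1a3a266b38820b95f552ec33c22891a6ca25ae20820bc9534b4aca8d64b18f0a3e2870820ba8762aeaf6cd289120c744f430820ba0ee35a8c2aa448446dacd2b78820b90f432dcd7c6089292cacc7628820bc8b089d4cb3d66a91b370d28a0820b924763c70ac6caa4cc95a0ad70820baa436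34e974e84b44b05a0cfa8820b9a4d60df3b26a5740915a147a0820bd4d06c5ee9a647b30ab1a28412820ba58740db4359512d66e5ca0f20820bc89059ecd5223531582a0d2f74c20b964f61db1a41c6aa5535a083b0820bc5552d244b08c76bc6e9c1095b020b89e598c88a5569858c76c5cc54820b89e41c0e84ba4a99a25ad9aba3020bd6ce849331d0ec596286914678820b8cd38d2a74160a7d9c2611726a420bbe032da493128b8b5079b2a272820bc9642aa6365a027c4d46d5c742420b9455a2e671c88e832c6525a88bc20bc97353e831392829aa4b45b061c20ba065911d152eadb4d8249df434020bae6d3a64f1da0462151154aea1820bc92c28a241d1c79bec66ad0a85420bb12ba22a58ba061d8ed78a5322820bbac613e9248d483b2256c17599020b953271a075c5ed530439da84aa020b986ea3c51559283d6459ae0c69020bdaa85ce9019c8f919512a5c263420bcdd2a3d554ac482c06463626b1c20b91359c9a588dec1428bb394732020b8e0c75a6a48912a12255bead39820ba9e58b0884d8d47556794e0313420b9d26b55841adf0a355174c4592020badb09bac24d11551c648bccc2c820b89e41c0e84ba4a99a25ad9aba3020bb8cab546d7cd90889282c8875d020bd1e75b4a84cea2b48643399154020b8aa3a29d0322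2723cad64acb0a660baa8d33e681ad35830820d9d13c8a0bce427196c7da0d1d128254e58a820b863023d22b524aa94736b8cc3a160bd6c69b087141eb549a30a0b1a25c0bbd62406b688e0c6924e3255329e80ba9d0291b361e4941a950c5f658860bc4ab94d0333087a05d6a892a6be00b86a97c4625160e5cce8a199693480bc191499eb9b8619549411da8558a0bb62a74d05b0834640d279c8b1d520bcd4f0d1926d5c940c468da0522ce0bcd4c2212e106b629a8b7c4ed94060ba18fad8ab9c0834c834508ce3b620b99e784dd16a874622c92882b24aa0bcce51d18934a15711567b5110ac40ba22170c89b54e2848ac9a9ab7d0c0b8c3338a0c451c623ea58da496ad40bca6da212a5c4c508c4485aac73ce0ba1b03142493e874ba229ac6aab2c0ba666a3aa75bed1191414364c81440bb8c8b446149682ac1ea9ac87931a0b91122a4ed64c4a33a351ade1a42c0ba643128d5240b63d271431cd78560bd52451ed20a22d1526f7320628d60b9c8e8b44fa8d4bb15134869281980bdab49ca307b9ac5a928398a418820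
def m22I : ℕ := 0x6f06c06c06906c06506f06206906206506206f05e06905e06505e05a06e05506d05a04d05506b05a06a05a05106805a04d06705a06604d05904d06405506305905106104d05a06005105f05505105d04d04d05c05905b05905104d04d05803b04405703105604103a05403a04905304005203104505004704804f03104e03103104c04803e04b03104a04603b03504603104103903f03503f03103d03903c03503c03903b03503b03103a03503903903503503503103503903103503103801c02003702603601802b03401b02503302403201802703002601b02f01e02e02402c01802901b02601b02401802401b02301b02101802101b02001b01f01801f01801e01b01d01801d01b01c01b01b01801b01b01801801800e01a00d01900e00200701700101601100300101000100d00200a002009001008002007001007002006001006002005001005002004001004002003001003002002001002002001001001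
def m22J0 : ℕ := 0x1200900a00f01500700500200e01001100801300d00601400100c00400b003000000
def m22J1 : ℕ := 0x1d02d01802702902501e02c02102301b02201c02602b02a02801f024020000000000
def m22J2 : ℕ := 0x4403f03a04803903b04103104004704304604503e04204903c03d035000000000000
def m22J3 : ℕ := 0x4d00000005a000000000000000000000000000000000000000000
def m22J4 : ℕ := 0x7507706f06507400006c06200007207307105e078070076069000000000000000000

theorem m22_slp : slpOK m22T m22I 3 118 = true := by decide +kernel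

theorem m22_tab {K : Subgroup (Equiv.Perm GolayPt)} (ha : InK K c22a) (hb : InK K c22b) :
    ∀ k < 121, InK K (getP m22T k) := by
  apply slp_sound m22_slp
  intro k hk
  interval_cases k
  · rw [show getP m22T 0 = pid by decide +kernel]; exact InK.one _
  · rwa [show getP m22T 1 = c22a by decide +kernel]
  · rwa [show getP m22T 2 = c22b by decide +kernel]


theorem M22_le_of_gens {K : Subgroup (Equiv.Perm GolayPt)} (hK : K ≤ M24) (ha : InK K c22a)
    (hb : InK K c22b) : Spor.M22 ≤ K := by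
  have h7 : M24 ⊓ Fx 8388671 ≤ K := by rw [m24_bot]; exact bot_le
  have h6 : M24 ⊓ Fx 8388655 ≤ K := step_le hK (by norm_num) m24_bd6
    (lev_sound (m22_tab ha hb) (J := m22J4) (by decide +kernel)) h7
  have h5 : M24 ⊓ Fx 8388623 ≤ K := step_le hK (by norm_num) m24_bd5
    (lev_sound (m22_tab ha hb) (J := m22J3) (by decide +kernel)) h6
  have h4 : M24 ⊓ Fx 8388615 ≤ K := step_le hK (by norm_num) m24_bd4
    (lev_sound (m22_tab ha hb) (J := m22J2) (by decide +kernel)) h5
  have h3 : M24 ⊓ Fx 8388611 ≤ K := step_le hK (by norm_num) m24_bd3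
    (lev_sound (m22_tab ha hb) (J := m22J1) (by decide +kernel)) h4
  have h2 : M24 ⊓ Fx 8388609 ≤ K := step_le hK (by norm_num) m24_bd2
    (lev_sound (m22_tab ha hb) (J := m22J0) (by decide +kernel)) h3
  rwa [M22_eq]

theorem c23a_mem : InK Spor.M23 c23a := M23_eq ▸ inK_Fx (by decide +kernel) (by decide +kernel)
theorem c23b_mem : InK Spor.M23 c23b := M23_eq ▸ inK_Fx (by decide +kernel) (by decide +kernel)
theorem c22a_mem : InK Spor.M22 c22a := M22_eq ▸ inK_Fx (by decide +kernel) (by decide +kernel)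
theorem c22b_mem : InK Spor.M22 c22b := M22_eq ▸ inK_Fx (by decide +kernel) (by decide +kernel)

theorem m24_trans4 {a b c d a' b' c' d' : GolayPt} (h1 : a ≠ b) (h2 : a ≠ c) (h3 : a ≠ d)
    (h4 : b ≠ c) (h5 : b ≠ d) (h6 : c ≠ d) (h1' : a' ≠ b') (h2' : a' ≠ c') (h3' : a' ≠ d')
    (h4' : b' ≠ c') (h5' : b' ≠ d') (h6' : c' ≠ d') :
    ∃ σ ∈ M24, σ a = a' ∧ σ b = b' ∧ σ c = c' ∧ σ d = d' := by
  obtain ⟨σ, h7, h8⟩ := m24_multi (n := 4) (by norm_num) _ _ (inj_vec4 h1 h2 h3 h4 h5 h6)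
    (inj_vec4 h1' h2' h3' h4' h5' h6')
  exact ⟨σ, h7, h8 0, h8 1, h8 2, h8 3⟩

theorem twoTrans_M24 : TwoTransOn M24 univ (pt 23) where
  inv _ _ := mem_univ _
  tr y _ := m24_trans1 _ _
  two y _ z _ hy hz := m24_trans2 hy.symm hz.symm
  faith σ _ h := Equiv.ext fun y => h y (mem_univ _)

theorem twoTrans_M23 : TwoTransOn Spor.M23 (univ.erase (pt 23)) (pt 0) where
  inv σ hσ := by
    rw [mem_erase]
    refine ⟨fun e => ?_, mem_univ _⟩
    rw [← (mem_M23.1 hσ).2] at e
    exact absurd (σ.injective e) (by decide)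
  tr y hy := by
    obtain ⟨σ, h1, h2, h3⟩ := m24_trans2 (a := pt 23) (b := pt 0) (by decide)
      (mem_erase.1 hy).1.symm
    exact ⟨σ, mem_M23.2 ⟨h1, h2⟩, h3⟩
  two y hy z hz hy' hz' := by
    obtain ⟨σ, h1, h2, h3, h4⟩ := m24_trans3 (a := pt 23) (b := pt 0) (c := y) (a' := pt 23)
      (b' := pt 0) (c' := z) (by decide)
      (mem_erase.1 hy).1.symm hy'.symm (by decide) (mem_erase.1 hz).1.symm hz'.symm
    exact ⟨σ, mem_M23.2 ⟨h1, h2⟩, h3, h4⟩
  faith σ hσ h := Equiv.ext fun y => by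
    by_cases hy : y = pt 23
    · rw [hy]; exact (mem_M23.1 hσ).2
    · exact h y (mem_erase.2 ⟨hy, mem_univ _⟩)

theorem twoTrans_M22 : TwoTransOn Spor.M22 ((univ.erase (pt 23)).erase (pt 0)) (pt 1) where
  inv σ hσ := by
    rw [mem_erase, mem_erase]
    refine ⟨fun e => ?_, fun e => ?_, mem_univ _⟩
    · rw [← (mem_M22.1 hσ).2] at e
      exact absurd (σ.injective e) (by decide)
    · rw [← (mem_M22.1 hσ).1.2] at e
      exact absurd (σ.injective e) (by decide)
  tr y hy := by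
    rw [mem_erase, mem_erase] at hy
    obtain ⟨σ, h1, h2, h3, h4⟩ := m24_trans3 (a := pt 23) (b := pt 0) (c := pt 1) (a' := pt 23)
      (b' := pt 0) (c' := y) (by decide) (by decide) (by decide) (by decide) hy.2.1.symm hy.1.symm
    exact ⟨σ, mem_M22.2 ⟨⟨h1, h2⟩, h3⟩, h4⟩
  two y hy z hz hy' hz' := by
    rw [mem_erase, mem_erase] at hy hz
    obtain ⟨σ, h1, h2, h3, h4, h5⟩ := m24_trans4 (a := pt 23) (b := pt 0) (c := pt 1) (d := y)
      (a' := pt 23) (b' := pt 0) (c' := pt 1) (d' := z) (by decide) (by decide) hy.2.1.symm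
      (by decide) hy.1.symm hy'.symm (by decide) (by decide) hz.2.1.symm (by decide) hz.1.symm
      hz'.symm
    exact ⟨σ, mem_M22.2 ⟨⟨h1, h2⟩, h3⟩, h4, h5⟩
  faith σ hσ h := Equiv.ext fun y => by
    by_cases hy : y = pt 23
    · rw [hy]; exact (mem_M22.1 hσ).1.2
    by_cases hy' : y = pt 0
    · rw [hy']; exact (mem_M22.1 hσ).2
    exact h y (mem_erase.2 ⟨hy', mem_erase.2 ⟨hy, mem_univ _⟩⟩)

theorem simple_M22 : IsSimpleGroup Spor.M22 :=
  twoTrans_M22.simple_of_prime (p := 11) (by norm_num) (by decide) (by decide)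
    (by rw [card_M22]; norm_num) fun K hK h => M22_le_of_gens (hK.trans M22_le)
      (inK_of_pow h c22a_mem (by decide +kernel)) (inK_of_pow h c22b_mem (by decide +kernel))

theorem simple_M23 : IsSimpleGroup Spor.M23 :=
  twoTrans_M23.simple_of_prime (p := 23) (by norm_num) (by decide) (by decide)
    (by rw [card_M23]; norm_num) fun K hK h => M23_le_of_gens (hK.trans M23_le)
      (inK_of_pow h c23a_mem (by decide +kernel)) (inK_of_pow h c23b_mem (by decide +kernel))

theorem simple_M24 : IsSimpleGroup M24 :=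
  twoTrans_M24.simple_of_two simple_M23 (p := 2) (q := 3) (by norm_num) (by norm_num)
    (by norm_num) (by decide) (by decide) (by decide)

/-! ### `M12` and `M11` -/

/-- Two elements of order 11 generating `M11`, and an element of `M12` outside `M11`. -/
def c11a : ℕ := 0x71cb458ee4559868d5b078a720a120
def c11b : ℕ := 0x79eb12b5629de0375101532c692480
def c12c : ℕ := 0x8a8f6732922dcc35bd2d992a240201
def m11T : ℕ := 0x752cb3a4a455cd0acdac7ca28188208aa6fa22f2a96093ac8db31c61882089df3ac2eda150655992591c918820bae957b6289ba44b1cd0524ac1882075576518ac3dd28a3e449b63018820756eb8a1f055984a4da628ce990820ad2eb3b0ad8da5073c899994340820545f3a0ec67160c3ada4ba6b24082075576518ac3dd28a3e449b63018820baeae9c1522d18db4464399e8488209be27b25d0ba9122d4c4a3163688202bd47b11c65c5929d209aa2ed188203a9f37216ca946d8dcc9b4a84808202bd47b11c65c5929d209aa2ed18820bae957b6289ba44b1cd0524ac188202ccea5b1c9b448d7d506a42f21882051de5a1963acd908d912ba5c4688207ce2a599c8b9e0d2d12ca92c39082051e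6f742c4a14728dd265b6ac40820a56cb899ed3dc64716089b152488207ce2a599c8b9e0d2d12ca92c3908205deb478d4c2ba49b1e0689268688208a9e5ab6d074cc83dc69592926082079551bc1cc59cc39d488a26cd90820a3aeb54a643d90da96037a6266082089caf71ac9acdb252c90b8e8860820bae957b6289ba44b1cd0524ac1882074ceab88a68d870abd09a3572230202cd76b8dc48a848a3e0cab4f23242052df5718f02cd23bd84d8b28492020a55773a26355a4673d242c22d60820a55513c0ad5d84c7b9249a2e3348207baca5b2643dd222d606a2223934202d6f638a865c6099b9927a143690202ccea5b1c9b448d7d506a42f218820994eb519e9b5c837560ca22226c82089dc57cae29d1a4b2cc3532a982020abac7ba2898aa0d9964478d6233020995568b5e4bae50a3906a8ce2624208dab428ae873c6652d303b2646c820750ea88ca6bac4d7d6499c2c8610207baca5b2643dd222d606a2223934203aa857a5629d592bd9b0899c440c209d556bc9e489da3750462c1684b0208d8ae9b6e37d2493a98259aa4820207d2ca3a6645c588a946670af06c820a5ea5592cc8a8c83ce4d7a5c208e003aeafa2264558222dd837422d49a402d2ae38ae8b4d2d7ac868c943805805a9d57b0e89952d8da43b9a841402089d75b9ac97cc52a146c7114183500a45f55a6ed3d90353a04988ac0c8c0b15ee386a8a2922bce508b1661b480a4ecf28d6175cc43c448ab149941a05d4b1392cd9a90375d32a05e664040754f7b0d42a3c26894885b66c926003a974ba6c32bc4874cd2ac221691809aaabb41c92bc52bc424a0cec6a0c0baad1749e6a1c6c5d6029a4ad2050053cb79b2285b881b5209a98e21b640b3e74885d2a9cc2b9584521634c1a079eb12b5629de0375101532c69248071cb458ee4559868d5b078a720a120bdab49ca307b9ac5a928398a418820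
def m11I : ℕ := 0x3703c03703403703003003003a02a02a03901d03802802102c03602803501d02a03302102c03201d03101d01d02f02c02702e02102d02b02102102a02502802102702502602102602502101d02102401601302301602200e01802001801501f01501e00e01601c01801201b01201a01501901201501201400e01401201300e01301200e00e00e01100a00601000600f00600200d00200300c00200b008001002005002004001004001003002002001002002001001001
def m11J0 : ℕ := 0x300000a000000008004000000006002000009000007001005000000
def m11J1 : ℕ := 0x1800001500000001701600000001401300001200001900e000000000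
def m11J2 : ℕ := 0x2a00002100000002c02800000002902700002600002b000000000000
def m11J3 : ℕ := 0x3400003f00000003003c00000003e03700003d000000000000000000

theorem m11_slp : slpOK m11T m11I 3 61 = true := by decide +kernel

theorem m11_tab {K : Subgroup (Equiv.Perm GolayPt)} (ha : InK K c11a) (hb : InK K c11b) :
    ∀ k < 64, InK K (getP m11T k) := by
  apply slp_sound m11_slp
  intro k hk
  interval_cases k
  · rw [show getP m11T 0 = pid by decide +kernel]; exact InK.one _
  · rwa [show getP m11T 1 = c11a by decide +kernel]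
  · rwa [show getP m11T 2 = c11b by decide +kernel]


def m11cT : ℕ := 0xbd68b534e89d89274606784a360920b9d7173669aa864b5102798b260600bacea991c87c58db5130a98b218440bcd6f38dd0b548d54441a24b2620c0bd66bb3622a286c79cd0704a492120bbad57b1493ae43a4c308a0ad208c0bbdc7b1150a4583aacc2984ad92500bd66f884a972c4d552463b2c482060b96d5519e33ce498ae01a21cd11180bd26f885cc29c6db56445a54644040bcecfa8e2859e4ca3822524a46c0c0b9e3553563a3e0274d862a2c122640baec771ab22c58353c8d9a68280500ba9753c2232bda49b992a26c1120c0bd9f474942acc833c509598ad64020bd0b5585e2728c93cdb2b222c20e00b94eba1aac7b9a89d930889430c880b94ea70a6d7d188ac609b197208c80baab49c9e689c2c2d9247416810da0bdaa57196d7ce0c89d0954a8219020bbd6a2928d7552699c52b0e2c0a200bae968a4a15550d74c66391ec80a40bd4b3506887c530b398d598e391040bced1a0de671649aada2530f009100b95eb71ad23d0618d6099894d43080bc5569ca84a9d225bc682c1c668580bbcf3a8a28559a6a1423591c9941805166fb068d746043d4ccbc96940860ad0b7731e259da8544d0b266120e403ccb1592edaa9897d866a05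d240a00bd1d15a2cc2a86499db2786a249a007aa33a9a88b95b03b989586d21888054e25a12e9b1d8d7d43258dc68090099627ba2d273c2c550665c2a4689205deb6512618d183715b03a5e830a40516f4b31e95d6043c5019c9cd30c409d0b67a1d03adac54642b8ea1224c02d576889c4b9c6d7d24c9a150498207d634734e19a910b2c43292e9648c05d4b1392cd9a90375d32a05e6640403a974ba6c32bc4874cd2ac2216918053cb79b2285b881b5209a98e21b640b3e74885d2a9cc2b9584521634c1a079eb12b5629de0375101532c69248071cb458ee4559868d5b078a720a120bdab49ca307b9ac5a928398a418820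
def m11cI : ℕ := 0x1f02902702802702301f02302701f02301f02601500f02501902401601602201500f02101702001301301e01801601d01a01c01701700f01900f01801301700f01501301400f01301300f00f00f01200600601100201000300200e00800b00d00b00c008001001009001007002006002005001005002004001003002001001001
def m11cJ0 : ℕ := 0xb00a004005000001000008002000000003006000000009000007000000000000000
def m11cJ1 : ℕ := 0x1501701a01900001800000f01600000001b013000000014000000000000000000000
def m11cJ2 : ℕ := 0x2c02b02702a00002d00002802300000001f029000000000000000000000000000000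

theorem m11c_slp : slpOK m11cT m11cI 3 43 = true := by decide +kernel

theorem m11c_tab {K : Subgroup (Equiv.Perm GolayPt)} (ha : InK K c11a) (hb : InK K c11b) :
    ∀ k < 46, InK K (getP m11cT k) := by
  apply slp_sound m11c_slp
  intro k hk
  interval_cases k
  · rw [show getP m11cT 0 = pid by decide +kernel]; exact InK.one _
  · rwa [show getP m11cT 1 = c11a by decide +kernel]
  · rwa [show getP m11cT 2 = c11b by decide +kernel]


def m12T : ℕ := 0x9b94f8c8f02d9a3a54ccb856900888a4eae7894dbc432b148858ce664009b3d67bc264ac592a38c0534a11a502baeb3a4a2d79e0cb14087054410cc9bd5e5982d05a9a989c64a21d2105868b8ea5b6802bd02b4c8ca86e39193089cb3512c875c10a3cc35b2ad90449515d6a42ec3cc808d4627b5684c8c1a3e6ab8eccac48859526708e068650bceb65a2227a864a1cd2281cc835218a8f6732922dcc35bd2d992a24020171cb458ee4559868d5b078a720a120bdab49ca307b9ac5a928398a418820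
def m12I : ℕ := 0x200a002007002006001006002005001004002003001003002002001002
def m12J0 : ℕ := 0x800000700000000600500000000900a00000300000400c00200b000

theorem m12_slp : slpOK m12T m12I 3 10 = true := by decide +kernel

theorem m12_tab {K : Subgroup (Equiv.Perm GolayPt)} (ha : InK K c11a) (hb : InK K c12c) :
    ∀ k < 13, InK K (getP m12T k) := by
  apply slp_sound m12_slp
  intro k hk
  interval_cases k
  · rw [show getP m12T 0 = pid by decide +kernel]; exact InK.one _
  · rwa [show getP m12T 1 = c11a by decide +kernel]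
  · rwa [show getP m12T 2 = c12c by decide +kernel]


theorem c11a_mem : InK Spor.M11 c11a :=
  inK_M11 (by decide +kernel) (by decide +kernel) (by decide +kernel)
theorem c11b_mem : InK Spor.M11 c11b :=
  inK_M11 (by decide +kernel) (by decide +kernel) (by decide +kernel)
theorem c12c_mem : InK Spor.M12 c12c := inK_M12 (by decide +kernel) (by decide +kernel)

theorem InK.mono {H K : Subgroup (Equiv.Perm GolayPt)} {g : ℕ} (h : InK H g) (hK : H ≤ K) :
    InK K g := by
  obtain ⟨σ, h1, h2⟩ := h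
  exact ⟨σ, hK h1, h2⟩

theorem M11_le_M12 : Spor.M11 ≤ Spor.M12 := inf_le_left

def m12E : ℕ := 0x7d6c971a11bcd6c6aa853c90418820a20b75c6464b5cc9a9f63c2a418820451368ae6e2c0cc92ab73b5e4188208adb2452ef816acb28d33a5c4188206c22e496b65d2ec7aa663a24418820bdab49ca307b9ac5a928398a418820
def m12EJ : ℕ := 0x5000004000000003000000000002001000000000000000000000000

theorem m12_bot : Spor.M12 ⊓ Fx 31 = ⊥ := by
  have h1 : Spor.M12 ⊓ Fx 31 ≤ Spor.M12 ⊓ Fx 4127 :=
    close_le M12_le (fun _ h => (mem_M12.1 h).2) [(5279, 5279, 12)] (by decide +kernel)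
  have h2 : M24 ⊓ Fx (4127 ||| 2 ^ 6) = ⊥ :=
    close_bot le_rfl (fun σ _ => smul_S_all σ)
      [(806987, 6557781, 18), (3416079, 1413139, 20), (5902343, 421910, 17), (5902343, 2031657, 19), (9347075, 10305542, 23), (13062145, 13938692, 22), (13062145, 10170384, 16), (13062145, 13062145, 14), (4845570, 7221256, 13), (4845570, 4845570, 15), (7221256, 7221256, 21), (11952160, 11952160, 5), (2019456, 2019456, 7), (4038912, 4038912, 8), (8077824, 8077824, 9), (11654144, 11654144, 10), (14919680, 14919680, 11)]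
      (by decide +kernel)
  have h3 : Spor.M12 ⊓ Fx 4127 = ⊥ := by
    refine excl_bot M12_le (by norm_num) h2 (O := 336704)
      (fun _ hσ => orbit_bound' (mem_M12.1 hσ.1).2 hσ.2 (by decide +kernel)) fun y hy hy' => ?_
    obtain ⟨τ, h3, h4, h5⟩ := lev_sound' (tab_M24 (T := m12E) (N := 6) (by decide +kernel))
      (J := m12EJ) (F := 4127) (b := 6) (O := 336704) (by decide +kernel) y hy
    refine ⟨τ, h3, h4, fun h6 => ?_⟩
    have h7 := (mem_M12.1 h6).2
    rw [h5.smul_S] at h7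
    have h8 := S_inj (h5.lt_act _) (by norm_num) h7
    revert h8
    clear h5 h4 h7
    revert y
    decide +kernel
  rwa [h3, le_bot_iff] at h1

theorem m12_bd0 : ∀ σ ∈ Spor.M12 ⊓ Fx 0, σ • pt 0 ∈ S 340831 := fun _ hσ =>
  orbit_bound' (mem_M12.1 hσ.1).2 hσ.2 (by decide +kernel)
theorem m12_bd1 : ∀ σ ∈ Spor.M12 ⊓ Fx 1, σ • pt 1 ∈ S 340830 := fun _ hσ =>
  orbit_bound' (mem_M12.1 hσ.1).2 hσ.2 (by decide +kernel)
theorem m12_bd2 : ∀ σ ∈ Spor.M12 ⊓ Fx 3, σ • pt 2 ∈ S 340828 := fun _ hσ =>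
  orbit_bound' (mem_M12.1 hσ.1).2 hσ.2 (by decide +kernel)
theorem m12_bd3 : ∀ σ ∈ Spor.M12 ⊓ Fx 7, σ • pt 3 ∈ S 340824 := fun _ hσ =>
  orbit_bound' (mem_M12.1 hσ.1).2 hσ.2 (by decide +kernel)
theorem m12_bd4 : ∀ σ ∈ Spor.M12 ⊓ Fx 15, σ • pt 4 ∈ S 340816 := fun _ hσ =>
  orbit_bound' (mem_M12.1 hσ.1).2 hσ.2 (by decide +kernel)

theorem m12_lev0 : ∀ y ∈ S 340831, ∃ σ ∈ Spor.M12 ⊓ Fx 0, σ • y = pt 0 :=
  lev_sound (m12_tab (c11a_mem.mono M11_le_M12) c12c_mem) (J := m12J0) (by decide +kernel)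
theorem m12_lev1 {K : Subgroup (Equiv.Perm GolayPt)} (ha : InK K c11a) (hb : InK K c11b) :
    ∀ y ∈ S 340830, ∃ σ ∈ K ⊓ Fx 1, σ • y = pt 1 :=
  lev_sound (m11_tab ha hb) (J := m11J0) (by decide +kernel)
theorem m12_lev2 {K : Subgroup (Equiv.Perm GolayPt)} (ha : InK K c11a) (hb : InK K c11b) :
    ∀ y ∈ S 340828, ∃ σ ∈ K ⊓ Fx 3, σ • y = pt 2 :=
  lev_sound (m11_tab ha hb) (J := m11J1) (by decide +kernel)
theorem m12_lev3 {K : Subgroup (Equiv.Perm GolayPt)} (ha : InK K c11a) (hb : InK K c11b) :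
    ∀ y ∈ S 340824, ∃ σ ∈ K ⊓ Fx 7, σ • y = pt 3 :=
  lev_sound (m11_tab ha hb) (J := m11J2) (by decide +kernel)
theorem m12_lev4 {K : Subgroup (Equiv.Perm GolayPt)} (ha : InK K c11a) (hb : InK K c11b) :
    ∀ y ∈ S 340816, ∃ σ ∈ K ⊓ Fx 15, σ • y = pt 4 :=
  lev_sound (m11_tab ha hb) (J := m11J3) (by decide +kernel)

theorem card_G5 : Nat.card ↥(Spor.M12 ⊓ Fx 31) = 1 := by rw [m12_bot, Subgroup.card_bot]
theorem card_G4 : Nat.card ↥(Spor.M12 ⊓ Fx 15) = 8 := by
  rw [step_card M11_le_M12 (by norm_num) (by norm_num) m12_bd4 (m12_lev4 c11a_mem c11b_mem),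
    show 15 ||| 2 ^ 4 = 31 by decide, card_G5]
  decide +kernel
theorem card_G3 : Nat.card ↥(Spor.M12 ⊓ Fx 7) = 72 := by
  rw [step_card M11_le_M12 (by norm_num) (by norm_num) m12_bd3 (m12_lev3 c11a_mem c11b_mem),
    show 7 ||| 2 ^ 3 = 15 by decide, card_G4]
  decide +kernel
theorem card_G2 : Nat.card ↥(Spor.M12 ⊓ Fx 3) = 720 := by
  rw [step_card M11_le_M12 (by norm_num) (by norm_num) m12_bd2 (m12_lev2 c11a_mem c11b_mem),
    show 3 ||| 2 ^ 2 = 7 by decide, card_G3]
  decide +kernel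
theorem card_G1 : Nat.card ↥(Spor.M12 ⊓ Fx 1) = 7920 := by
  rw [step_card M11_le_M12 (by norm_num) (by norm_num) m12_bd1 (m12_lev1 c11a_mem c11b_mem),
    show 1 ||| 2 ^ 1 = 3 by decide, card_G2]
  decide +kernel
theorem card_G0 : Nat.card ↥(Spor.M12 ⊓ Fx 0) = 95040 := by
  rw [step_card le_rfl (by norm_num) (by norm_num) m12_bd0 m12_lev0,
    show 0 ||| 2 ^ 0 = 1 by decide, card_G1]
  decide +kernel

theorem card_M12 : Nat.card Spor.M12 = 95040 := by
  have := card_G0
  rwa [Fx_zero, inf_top_eq] at this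

theorem card_M11 : Nat.card Spor.M11 = 7920 := by rw [M11_eq, card_G1]

theorem M11_le_of_gens {K : Subgroup (Equiv.Perm GolayPt)} (hK : K ≤ Spor.M12) (ha : InK K c11a)
    (hb : InK K c11b) : Spor.M11 ≤ K := by
  have h5 : Spor.M12 ⊓ Fx 31 ≤ K := by rw [m12_bot]; exact bot_le
  have h4 : Spor.M12 ⊓ Fx 15 ≤ K := step_le hK (by norm_num) m12_bd4 (m12_lev4 ha hb) h5
  have h3 : Spor.M12 ⊓ Fx 7 ≤ K := step_le hK (by norm_num) m12_bd3 (m12_lev3 ha hb) h4
  have h2 : Spor.M12 ⊓ Fx 3 ≤ K := step_le hK (by norm_num) m12_bd2 (m12_lev2 ha hb) h3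
  have h1 : Spor.M12 ⊓ Fx 1 ≤ K := step_le hK (by norm_num) m12_bd1 (m12_lev1 ha hb) h2
  rwa [M11_eq]

theorem m12_maps {σ : Equiv.Perm GolayPt} (hσ : σ ∈ Spor.M12) {x : GolayPt} :
    σ x ∈ S 340831 ↔ x ∈ S 340831 := by
  conv_lhs => rw [← (mem_M12.1 hσ).2]
  exact smul_mem_smul_finset_iff σ

theorem m12_five_std (x : Fin 5 → GolayPt) (hx : Function.Injective x) (hD : ∀ i, x i ∈ S 340831) :
    ∃ σ ∈ Spor.M12, ∀ i, σ (x i) = ![pt 0, pt 1, pt 2, pt 3, pt 4] i := by
  refine multi_trans Spor.M12 (S 340831) (fun σ hσ y hy => (m12_maps hσ).2 hy) _ ?_ x hx hD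
  intro l y hy' hy
  rw [mem_coe] at hy'
  fin_cases l
  · obtain ⟨σ, h1, h2⟩ := m12_lev0 y hy'
    exact ⟨σ, h1.1, fun i hi => mem_Fx.1 h1.2 _ (by revert i; decide +kernel), h2⟩
  · obtain ⟨σ, h1, h2⟩ := m12_lev1 c11a_mem c11b_mem y (by revert y; decide +kernel)
    exact ⟨σ, M11_le_M12 h1.1, fun i hi => mem_Fx.1 h1.2 _ (by revert i; decide +kernel), h2⟩
  · obtain ⟨σ, h1, h2⟩ := m12_lev2 c11a_mem c11b_mem y (by revert y; decide +kernel)
    exact ⟨σ, M11_le_M12 h1.1, fun i hi => mem_Fx.1 h1.2 _ (by revert i; decide +kernel), h2⟩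
  · obtain ⟨σ, h1, h2⟩ := m12_lev3 c11a_mem c11b_mem y (by revert y; decide +kernel)
    exact ⟨σ, M11_le_M12 h1.1, fun i hi => mem_Fx.1 h1.2 _ (by revert i; decide +kernel), h2⟩
  · obtain ⟨σ, h1, h2⟩ := m12_lev4 c11a_mem c11b_mem y (by revert y; decide +kernel)
    exact ⟨σ, M11_le_M12 h1.1, fun i hi => mem_Fx.1 h1.2 _ (by revert i; decide +kernel), h2⟩

theorem m12_five (x y : Fin 5 → GolayPt) (hx : Function.Injective x) (hxD : ∀ i, x i ∈ S 340831)
    (hy : Function.Injective y) (hyD : ∀ i, y i ∈ S 340831) : ∃ σ ∈ Spor.M12, ∀ i, σ (x i) = y i :=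
  multi_trans' Spor.M12 (S 340831) _ m12_five_std x y hx hxD hy hyD

theorem m12_fix_five {σ : Equiv.Perm GolayPt} (hσ : σ ∈ Spor.M12) (x : Fin 5 → GolayPt)
    (hx : Function.Injective x) (hD : ∀ i, x i ∈ S 340831) (h : ∀ i, σ (x i) = x i) : σ = 1 := by
  obtain ⟨τ, h1, h2⟩ := m12_five_std x hx hD
  have : τ * σ * τ⁻¹ ∈ Spor.M12 ⊓ Fx 31 := by
    refine Subgroup.mem_inf.2 ⟨mul_mem (mul_mem h1 hσ) (inv_mem h1), mem_Fx.2 fun p hp => ?_⟩
    have : ∃ i, p = ![pt 0, pt 1, pt 2, pt 3, pt 4] i := by revert p; decide +kernel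
    obtain ⟨i, rfl⟩ := this
    rw [← h2 i]
    simp [h i]
  rw [m12_bot, Subgroup.mem_bot] at this
  simpa using this

theorem m11c_three_std (x : Fin 3 → GolayPt) (hx : Function.Injective x)
    (hD : ∀ i, x i ∈ S 16436384) : ∃ σ ∈ Spor.M11, ∀ i, σ (x i) = ![pt 23, pt 5, pt 7] i := by
  have hc : S 16436384 = (S 340831)ᶜ := by rw [← S_compl]; rfl
  refine multi_trans Spor.M11 (S 16436384) (fun σ hσ y hy => ?_) _ ?_ x hx hD
  · rw [mem_coe, hc, mem_compl] at hy ⊢
    rwa [m12_maps (M11_le_M12 hσ)]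
  intro l y hy' hy
  rw [mem_coe] at hy'
  fin_cases l
  · obtain ⟨σ, h1, h2⟩ := lev_sound (m11c_tab c11a_mem c11b_mem) (J := m11cJ0) (F := 1)
      (b := 23) (O := 16436384) (by decide +kernel) y (by revert y; decide +kernel)
    exact ⟨σ, h1.1, fun i hi => mem_Fx.1 h1.2 _ (by revert i; decide +kernel), h2⟩
  · obtain ⟨σ, h1, h2⟩ := lev_sound (m11c_tab c11a_mem c11b_mem) (J := m11cJ1) (F := 8388609)
      (b := 5) (O := 8047776) (by decide +kernel) y (by revert y; decide +kernel)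
    exact ⟨σ, h1.1, fun i hi => mem_Fx.1 h1.2 _ (by revert i; decide +kernel), h2⟩
  · obtain ⟨σ, h1, h2⟩ := lev_sound (m11c_tab c11a_mem c11b_mem) (J := m11cJ2) (F := 8388641)
      (b := 7) (O := 8047744) (by decide +kernel) y (by revert y; decide +kernel)
    exact ⟨σ, h1.1, fun i hi => mem_Fx.1 h1.2 _ (by revert i; decide +kernel), h2⟩

theorem m11c_three (x y : Fin 3 → GolayPt) (hx : Function.Injective x) (hxD : ∀ i, x i ∉ S 340831)
    (hy : Function.Injective y) (hyD : ∀ i, y i ∉ S 340831) : ∃ σ ∈ Spor.M11, ∀ i, σ (x i) = y i := by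
  have hc : S 16436384 = (S 340831)ᶜ := by rw [← S_compl]; rfl
  exact multi_trans' Spor.M11 (S 16436384) _ m11c_three_std x y hx
    (fun i => by rw [mem_coe, hc, mem_compl]; exact hxD i) hy
    (fun i => by rw [mem_coe, hc, mem_compl]; exact hyD i)

theorem m12_faith {σ : Equiv.Perm GolayPt} (hσ : σ ∈ Spor.M12) (h : ∀ y ∈ S 340831, σ y = y) :
    σ = 1 := by
  have : σ ∈ Spor.M12 ⊓ Fx 31 :=
    ⟨hσ, mem_Fx.2 fun p hp => h p (S_subset_of_and (by decide) hp)⟩
  rwa [m12_bot, Subgroup.mem_bot] at this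

theorem twoTrans_M12 : TwoTransOn Spor.M12 (S 340831) (pt 0) where
  inv σ hσ := (m12_maps hσ).2 (by decide +kernel)
  tr y hy := by
    obtain ⟨σ, h1, h2⟩ := m12_lev0 y hy
    exact ⟨σ⁻¹, inv_mem h1.1, by rw [← h2]; simp⟩
  two y hy z hz hy' hz' := by
    obtain ⟨σ, h1, h2⟩ := m12_lev1 c11a_mem c11b_mem y (by revert y; decide +kernel)
    obtain ⟨τ, h3, h4⟩ := m12_lev1 c11a_mem c11b_mem z (by revert z; decide +kernel)
    have : τ⁻¹ * σ ∈ Spor.M11 := mul_mem (inv_mem h3.1) h1.1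
    refine ⟨τ⁻¹ * σ, M11_le_M12 this, (mem_M11.1 this).2, ?_⟩
    rw [Equiv.Perm.smul_def] at h2 h4
    rw [Equiv.Perm.mul_apply, h2, ← h4]; simp
  faith σ hσ h := m12_faith hσ h

theorem twoTrans_M11 : TwoTransOn Spor.M11 (S 340830) (pt 1) where
  inv σ hσ := m12_bd1 σ (M11_eq ▸ hσ)
  tr y hy := by
    obtain ⟨σ, h1, h2⟩ := m12_lev1 c11a_mem c11b_mem y hy
    exact ⟨σ⁻¹, inv_mem h1.1, by rw [← h2]; simp⟩
  two y hy z hz hy' hz' := by
    obtain ⟨σ, h1, h2⟩ := m12_lev2 c11a_mem c11b_mem y (by revert y; decide +kernel)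
    obtain ⟨τ, h3, h4⟩ := m12_lev2 c11a_mem c11b_mem z (by revert z; decide +kernel)
    have : τ⁻¹ * σ ∈ Spor.M11 ⊓ Fx 3 := mul_mem (inv_mem h3) h1
    refine ⟨τ⁻¹ * σ, this.1, mem_Fx.1 this.2 _ (by decide +kernel), ?_⟩
    rw [Equiv.Perm.smul_def] at h2 h4
    rw [Equiv.Perm.mul_apply, h2, ← h4]; simp
  faith σ hσ h := m12_faith (M11_le_M12 hσ) fun y hy => by
    by_cases e : y = pt 0
    · rw [e]; exact (mem_M11.1 hσ).2
    · exact h y (by revert y; decide +kernel)

theorem simple_M11 : IsSimpleGroup Spor.M11 :=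
  twoTrans_M11.simple_of_prime (p := 11) (by norm_num) (by decide +kernel) (by decide +kernel)
    (by rw [card_M11]; norm_num) fun K hK h => M11_le_of_gens (hK.trans M11_le_M12)
      (inK_of_pow h c11a_mem (by decide +kernel)) (inK_of_pow h c11b_mem (by decide +kernel))

theorem simple_M12 : IsSimpleGroup Spor.M12 :=
  twoTrans_M12.simple_of_two simple_M11 (p := 2) (q := 3) (by norm_num) (by norm_num)
    (by norm_num) (by decide +kernel) (by decide +kernel) (by decide +kernel)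

theorem m24_trans_dodecads_std {d : Finset GolayPt} (hd : d ∈ dodecads) :
    ∃ σ ∈ M24, σ • S 340831 = d := by
  refine transitive_of_card M24 (S 340831) dodecads (Set.toFinite _)
    (fun σ hσ => smul_mem_dodecads hσ (S_mem_dodecads isD_D0)) ?_ d hd
  rw [← M12_eq, card_M12, card_M24, dodecads_ncard]

theorem m24_trans_dodecads {d d' : Finset GolayPt} (hd : d ∈ dodecads) (hd' : d' ∈ dodecads) :
    ∃ σ ∈ M24, σ • d = d' := by
  obtain ⟨σ, h1, rfl⟩ := m24_trans_dodecads_std hd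
  obtain ⟨τ, h2, rfl⟩ := m24_trans_dodecads_std hd'
  exact ⟨τ * σ⁻¹, mul_mem h2 (inv_mem h1), by rw [mul_smul, inv_smul_smul]⟩

theorem m24_trans_dodecad_point {d : Finset GolayPt} (hd : d ∈ dodecads) {p : GolayPt}
    (hp : p ∈ d) : ∃ σ ∈ M24, σ • S 340831 = d ∧ σ (pt 0) = p := by
  obtain ⟨σ, h1, rfl⟩ := m24_trans_dodecads_std hd
  obtain ⟨q, hq, rfl⟩ := mem_smul_finset.1 hp
  obtain ⟨τ, h2, rfl⟩ := twoTrans_M12.tr q hq
  exact ⟨σ * τ, mul_mem h1 (M12_le h2), by rw [mul_smul, (mem_M12.1 h2).2], rfl⟩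

/-! ### The stabilisers of arbitrary points and dodecads -/

theorem stab_iso_M23 (p : GolayPt) : Nonempty (stabilizer M24 p ≃* Spor.M23) := by
  obtain ⟨σ, h1, rfl⟩ := m24_trans1 (pt 23) p
  refine ⟨equivOfConj _ _ M23_le σ h1 fun x => ?_⟩
  rw [mem_M23, conj_apply_eq_iff, mem_stabilizer_iff]
  exact ⟨fun h => ⟨mul_mem (mul_mem (inv_mem h1) x.2) h1, h⟩, fun h => h.2⟩

theorem stab_iso_M22 {p q : GolayPt} (h : p ≠ q) :
    Nonempty (↥(stabilizer M24 p ⊓ stabilizer M24 q) ≃* Spor.M22) := by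
  obtain ⟨σ, h1, rfl, rfl⟩ := m24_trans2 (a := pt 23) (b := pt 0) (by decide) h
  refine ⟨equivOfConj _ _ M22_le σ h1 fun x => ?_⟩
  rw [mem_M22, conj_apply_eq_iff, conj_apply_eq_iff, Subgroup.mem_inf, mem_stabilizer_iff, mem_stabilizer_iff]
  exact ⟨fun h => ⟨⟨mul_mem (mul_mem (inv_mem h1) x.2) h1, h.1⟩, h.2⟩, fun h => ⟨h.1.2, h.2⟩⟩

theorem stab_iso_M12 {d : Finset GolayPt} (hd : d ∈ dodecads) :
    Nonempty (stabilizer M24 d ≃* Spor.M12) := by
  obtain ⟨σ, h1, rfl⟩ := m24_trans_dodecads_std hd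
  refine ⟨equivOfConj _ _ M12_le σ h1 fun x => ?_⟩
  rw [mem_M12, conj_smul_eq_iff, mem_stabilizer_iff]
  exact ⟨fun h => ⟨mul_mem (mul_mem (inv_mem h1) x.2) h1, h⟩, fun h => h.2⟩

theorem stab_iso_M11 {d : Finset GolayPt} (hd : d ∈ dodecads) {p : GolayPt} (hp : p ∈ d) :
    Nonempty (↥(stabilizer M24 d ⊓ stabilizer M24 p) ≃* Spor.M11) := by
  obtain ⟨σ, h1, rfl, rfl⟩ := m24_trans_dodecad_point hd hp
  refine ⟨equivOfConj _ _ M11_le σ h1 fun x => ?_⟩
  rw [mem_M11, conj_apply_eq_iff, conj_smul_eq_iff, Subgroup.mem_inf, mem_stabilizer_iff, mem_stabilizer_iff]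
  exact ⟨fun h => ⟨⟨mul_mem (mul_mem (inv_mem h1) x.2) h1, h.1⟩, h.2⟩, fun h => ⟨h.1.2, h.2⟩⟩

end H15
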