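import Cfsg.Agent.H15.Octad
import Cfsg.Agent.H15.Levels

/-! Chains from known orders; the classes of elements of order two and three in `M24`;
the centraliser of a fixed-point-free involution. -/

set_option autoImplicit false
set_option maxRecDepth 100000

namespace H15
open Cfsg Finset MulAction
open scoped Pointwise

/-! ### Chains from orders -/

/-- Checks the transversals of a chain given as base point, index table, orbit. -/
noncomputable def lchk (T N : ℕ) (L : List (ℕ × ℕ × ℕ)) : ℕ → Bool :=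
  List.rec (fun _ => true) (fun l _ ih F => band (band (band (Nat.blt l.1 24)
    (Nat.blt l.2.2 16777216)) (levOK T N l.2.1 F l.1 l.2.2)) (force (Nat.lor F (Nat.pow 2 l.1)) ih)) L

/-- The product of the orbit lengths. -/
noncomputable def lprod (L : List (ℕ × ℕ × ℕ)) : ℕ :=
  List.rec 1 (fun l _ ih => Nat.mul (pc l.2.2) ih) L

theorem lchk_cons {T N : ℕ} {l : ℕ × ℕ × ℕ} {L : List (ℕ × ℕ × ℕ)} {F : ℕ}
    (h : lchk T N (l :: L) F = true) : l.1 < 24 ∧ l.2.2 < 2 ^ 24 ∧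
      levOK T N l.2.1 F l.1 l.2.2 = true ∧ lchk T N L (F ||| 2 ^ l.1) = true := by
  have h' : band (band (band (Nat.blt l.1 24) (Nat.blt l.2.2 16777216))
    (levOK T N l.2.1 F l.1 l.2.2)) (force (Nat.lor F (Nat.pow 2 l.1)) (lchk T N L)) = true := h
  simp only [band_iff, Nat.blt_eq, force_eq, Nat.lor_eq, Nat.pow_eq] at h'
  exact ⟨h'.1.1.1, h'.1.1.2, h'.1.2, h'.2⟩

theorem card_step_eq (H : Subgroup (Equiv.Perm GolayPt)) (F : ℕ) {b : ℕ} (hb : b < 24) :
    Nat.card ↥(H ⊓ Fx F) = {y | ∃ h ∈ H ⊓ Fx F, h • pt b = y}.ncard *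
      Nat.card ↥(H ⊓ Fx (F ||| 2 ^ b)) := by
  rw [card_eq_of_orbit (H ⊓ Fx F) (pt b) {y | ∃ h ∈ H ⊓ Fx F, h • pt b = y}
    (fun h hh => ⟨h, hh, rfl⟩) (fun y hy => hy), inf_assoc, Fx_inf_stab F hb]

theorem card_step_le {H : Subgroup (Equiv.Perm GolayPt)} {F b O F' c : ℕ}
    (h1 : ∀ σ ∈ H ⊓ Fx F, σ • pt b ∈ S O) (h2 : Nat.card ↥(H ⊓ Fx F') ≤ c)
    (h : b < 24 ∧ O < 2 ^ 24 ∧ F ||| 2 ^ b = F') : Nat.card ↥(H ⊓ Fx F) ≤ pc O * c := by
  obtain ⟨hb, hO, rfl⟩ := h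
  rw [card_step_eq H F hb, ← card_S hO, ← Set.ncard_coe_finset]
  refine Nat.mul_le_mul (Set.ncard_le_ncard ?_ (Set.toFinite _)) h2
  rintro y ⟨h, hh, rfl⟩
  exact h1 h hh

theorem lev_sub {H : Subgroup (Equiv.Perm GolayPt)} {T N J F b O : ℕ}
    (hT : ∀ k < N, InK H (getP T k)) (h : levOK T N J F b O = true) :
    (↑(S O) : Set GolayPt) ⊆ {y | ∃ h ∈ H ⊓ Fx F, h • pt b = y} := fun y hy => by
  obtain ⟨σ, h1, h2⟩ := lev_sound hT h y hy
  exact ⟨σ⁻¹, inv_mem h1, inv_smul_eq_iff.2 h2.symm⟩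

theorem lchk_ge {H : Subgroup (Equiv.Perm GolayPt)} {T N : ℕ} (hT : ∀ k < N, InK H (getP T k))
    {L : List (ℕ × ℕ × ℕ)} : ∀ {F : ℕ}, lchk T N L F = true → lprod L ≤ Nat.card ↥(H ⊓ Fx F) := by
  induction L with
  | nil => intro F _; exact Nat.card_pos
  | cons l L ih =>
    intro F h
    obtain ⟨h1, h2, h3, h4⟩ := lchk_cons h
    rw [card_step_eq H F h1]
    refine Nat.mul_le_mul ?_ (ih h4)
    rw [← card_S h2, ← Set.ncard_coe_finset]
    exact Set.ncard_le_ncard (lev_sub hT h3) (Set.toFinite _)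

theorem Chain.of_card {H : Subgroup (Equiv.Perm GolayPt)} {T N : ℕ}
    (hT : ∀ k < N, InK H (getP T k)) {L : List (ℕ × ℕ × ℕ)} : ∀ {F : ℕ}, lchk T N L F = true →
      Nat.card ↥(H ⊓ Fx F) ≤ lprod L → Chain H T (L.map Prod.snd) F := by
  induction L with
  | nil =>
    intro F _ h
    exact Subgroup.eq_bot_of_card_le _ h
  | cons l L ih =>
    intro F h hc
    obtain ⟨h1, h2, h3, h4⟩ := lchk_cons h
    have c1 := lchk_ge hT h4
    have c2 : pc l.2.2 ≤ {y | ∃ h ∈ H ⊓ Fx F, h • pt l.1 = y}.ncard := by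
      rw [← card_S h2, ← Set.ncard_coe_finset]
      exact Set.ncard_le_ncard (lev_sub hT h3) (Set.toFinite _)
    have c3 : 0 < {y | ∃ h ∈ H ⊓ Fx F, h • pt l.1 = y}.ncard :=
      (Set.ncard_pos (Set.toFinite _)).2 ⟨_, 1, one_mem _, rfl⟩
    have c4 : 0 < Nat.card ↥(H ⊓ Fx (F ||| 2 ^ l.1)) := Nat.card_pos
    have hc' : Nat.card ↥(H ⊓ Fx F) ≤ pc l.2.2 * lprod L := hc
    rw [card_step_eq H F h1] at hc'
    have c5 : {y | ∃ h ∈ H ⊓ Fx F, h • pt l.1 = y}.ncard ≤ pc l.2.2 :=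
      Nat.le_of_mul_le_mul_right (hc'.trans (Nat.mul_le_mul_left _ c1)) c4
    have c6 : Nat.card ↥(H ⊓ Fx (F ||| 2 ^ l.1)) ≤ lprod L :=
      Nat.le_of_mul_le_mul_left (hc'.trans (Nat.mul_le_mul_right _ c2)) c3
    have e := Set.eq_of_subset_of_ncard_le (lev_sub hT h3)
      (by rw [Set.ncard_coe_finset, card_S h2]; exact c5) (Set.toFinite _)
    refine ⟨l.1, h1, h2, fun σ hσ => ?_, fun y hy => ?_, ih h4 c6⟩
    · rw [← mem_coe, e]; exact ⟨σ, hσ, rfl⟩
    · obtain ⟨τ, h7, h8⟩ := lev_sound' hT h3 y hy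
      exact ⟨τ, h7, h8⟩

theorem lchk_card {H : Subgroup (Equiv.Perm GolayPt)} {T N : ℕ}
    (hT : ∀ k < N, InK H (getP T k)) {L : List (ℕ × ℕ × ℕ)} {F c : ℕ}
    (h : band (lchk T N L F) (Nat.beq (lprod L) c) = true) (hc : Nat.card ↥(H ⊓ Fx F) ≤ c) :
    Nat.card ↥(H ⊓ Fx F) = c ∧ Chain H T (L.map Prod.snd) F := by
  rw [band_iff, Nat.beq_eq] at h
  obtain ⟨h1, rfl⟩ := h
  exact ⟨le_antisymm hc (lchk_ge hT h1), Chain.of_card hT h1 hc⟩

theorem inf_Fx_zero (H : Subgroup (Equiv.Perm GolayPt)) : H ⊓ Fx 0 = H := by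
  rw [Fx_zero, inf_top_eq]

/-- A table of elements of `M24` passing a membership test. -/
theorem tab_chk {H : Subgroup (Equiv.Perm GolayPt)} {chk : ℕ → Bool}
    (hchk : ∀ σ g, Rep σ g → σ ∈ M24 → chk g = true → σ ∈ H) {T N : ℕ}
    (h : allTo (fun k => force (getP T k) fun g => band (isM g) (chk g)) N = true) :
    ∀ k < N, InK H (getP T k) := fun k hk => by
  have := (allTo_iff _ _).1 h k hk
  rw [force_eq, band_iff] at this
  exact ⟨_, hchk _ _ (isM_rep this.1) (isM_mem this.1) this.2, isM_rep this.1⟩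

/-- The order of a subgroup cut out by a test, by running through a chain. -/
theorem Chain.card_sub {H K : Subgroup (Equiv.Perm GolayPt)} {T : ℕ} {L : List (ℕ × ℕ)} {F : ℕ}
    (h : Chain K T L F) (hHK : H ≤ K) {q : Equiv.Perm GolayPt → Prop} {Q : ℕ → Bool}
    (hq : ∀ σ g, Rep σ g → (q σ ↔ Q g = true)) (hH : ∀ σ ∈ K, σ ∈ H ↔ q σ) :
    Nat.card ↥(H ⊓ Fx F) = sumC T (fun g => Bool.rec 0 1 (Q g)) L pid := by
  rw [← Chain.ncard hq h Rep.one, ← Nat.card_coe_set_eq]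
  apply Nat.card_congr
  refine Equiv.subtypeEquivRight fun σ => ?_
  simp only [Set.mem_setOf_eq, mul_one, Subgroup.mem_inf]
  exact ⟨fun h => ⟨⟨hHK h.1, h.2⟩, (hH σ (hHK h.1)).1 h.1⟩, fun h => ⟨(hH σ h.1.1).2 h.2, h.1.2⟩⟩

/-! ### Lazy identities between codes -/

/-- `g a = b g`. -/
noncomputable def cjq (g a b : ℕ) : Bool :=
  allTo (fun i => Nat.beq (ap g (ap a i)) (ap b (ap g i))) 24
/-- `g g = 1`. -/
noncomputable def sq1 (g : ℕ) : Bool := allTo (fun i => Nat.beq (ap g (ap g i)) i) 24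
/-- `g g g = 1`. -/
noncomputable def cb1 (g : ℕ) : Bool := allTo (fun i => Nat.beq (ap g (ap g (ap g i))) i) 24
/-- `g = 1`. -/
noncomputable def is1 (g : ℕ) : Bool := allTo (fun i => Nat.beq (ap g i) i) 24

theorem perm_ext_iff {σ τ : Equiv.Perm GolayPt} : σ = τ ↔ ∀ i < 24, σ (pt i) = τ (pt i) :=
  ⟨fun h _ _ => by rw [h], fun h => Equiv.ext fun p => by
    obtain ⟨i, hi, rfl⟩ := exists_pt p; exact h i hi⟩

theorem pt_eq_iff {m n : ℕ} (hm : m < 24) (hn : n < 24) : pt m = pt n ↔ m = n :=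
  ⟨pt_inj hm hn, fun h => by rw [h]⟩

theorem cjq_iff {σ α β : Equiv.Perm GolayPt} {g a b : ℕ} (hσ : Rep σ g) (hα : Rep α a)
    (hβ : Rep β b) : σ * α = β * σ ↔ cjq g a b = true := by
  unfold cjq
  simp only [allTo_iff, Nat.beq_eq, perm_ext_iff, Equiv.Perm.mul_apply]
  refine forall₂_congr fun i hi => ?_
  rw [hα.app hi, hσ.app hi, hσ.app (hα.lt hi), hβ.app (hσ.lt hi),
    pt_eq_iff (hσ.lt (hα.lt hi)) (hβ.lt (hσ.lt hi))]

theorem sq1_iff {σ : Equiv.Perm GolayPt} {g : ℕ} (hσ : Rep σ g) : σ * σ = 1 ↔ sq1 g = true := by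
  unfold sq1
  simp only [allTo_iff, Nat.beq_eq, perm_ext_iff, Equiv.Perm.mul_apply, Equiv.Perm.one_apply]
  refine forall₂_congr fun i hi => ?_
  rw [hσ.app hi, hσ.app (hσ.lt hi), pt_eq_iff (hσ.lt (hσ.lt hi)) hi]

theorem cb1_iff {σ : Equiv.Perm GolayPt} {g : ℕ} (hσ : Rep σ g) :
    σ * σ * σ = 1 ↔ cb1 g = true := by
  unfold cb1
  simp only [allTo_iff, Nat.beq_eq, perm_ext_iff, Equiv.Perm.mul_apply, Equiv.Perm.one_apply]
  refine forall₂_congr fun i hi => ?_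
  rw [hσ.app hi, hσ.app (hσ.lt hi), hσ.app (hσ.lt (hσ.lt hi)),
    pt_eq_iff (hσ.lt (hσ.lt (hσ.lt hi))) hi]

theorem is1_iff {σ : Equiv.Perm GolayPt} {g : ℕ} (hσ : Rep σ g) : σ = 1 ↔ is1 g = true := by
  unfold is1
  simp only [allTo_iff, Nat.beq_eq, perm_ext_iff, Equiv.Perm.one_apply]
  refine forall₂_congr fun i hi => ?_
  rw [hσ.app hi, pt_eq_iff (hσ.lt hi) hi]

/-- The mask of the fixed points. -/
noncomputable def fixM (g : ℕ) : ℕ :=
  lin (fun j => Nat.mul (Bool.rec 0 1 (Nat.beq (ap g j) j)) (Nat.pow 2 j)) 24 16777215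

/-- The fixed points of a permutation. -/
abbrev fixS (σ : Equiv.Perm GolayPt) : Finset GolayPt := univ.filter fun p => σ p = p

theorem Rep.fixS_eq {σ : Equiv.Perm GolayPt} {g m : ℕ} (h : Rep σ g)
    (e : allTo (fun i => Nat.beq (Bool.rec 0 1 (Nat.beq (ap g i) i))
      (Nat.land (Nat.shiftRight m i) 1)) 24 = true) : fixS σ = S m := by
  ext p
  obtain ⟨i, hi, rfl⟩ := exists_pt p
  have := (allTo_iff _ _).1 e i hi
  rw [mem_filter, pt_mem_S hi, h.app hi, pt_eq_iff (h.lt hi) hi, ← tb_eq]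
  unfold tb
  rw [← Nat.eq_of_beq_eq_true this, ← Nat.beq_eq]
  cases Nat.beq (ap g i) i <;> simp

theorem fixS_conj {σ ρ τ : Equiv.Perm GolayPt} (h : τ * σ = ρ * τ) : fixS ρ = τ • fixS σ := by
  ext p
  obtain ⟨q, rfl⟩ := τ.surjective p
  rw [apply_mem_smul_iff, mem_filter, mem_filter, ← Equiv.Perm.mul_apply, ← h,
    Equiv.Perm.mul_apply, τ.injective.eq_iff]
  simp

theorem fpf_iff {σ : Equiv.Perm GolayPt} : (∀ p, σ p ≠ p) ↔ (fixS σ).card = 0 := by
  rw [card_eq_zero, filter_eq_empty_iff]; simp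

theorem smul_eq_conj {G X : Type*} [Group G] [MulAction G X] {σ ρ τ : G} (h : τ * σ = ρ * τ)
    (x : X) : ρ • τ • x = τ • x ↔ σ • x = x := by
  rw [← mul_smul, ← h, mul_smul, smul_left_cancel_iff]

theorem fix_ncard_conj {X : Type*} [MulAction (Equiv.Perm GolayPt) X] {Ω : Set X}
    (hΩ : ∀ σ ∈ M24, ∀ x ∈ Ω, σ • x ∈ Ω) {σ ρ τ : Equiv.Perm GolayPt} (hτ : τ ∈ M24)
    (h : τ * σ = ρ * τ) :
    {x | x ∈ Ω ∧ σ • x = x}.ncard = {x | x ∈ Ω ∧ ρ • x = x}.ncard :=
  (ncard_eq_of_smul τ _ _ fun x => by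
    simp only [Set.mem_setOf_eq, smul_eq_conj h]
    refine and_congr_left' ⟨fun h' => ?_, hΩ τ hτ x⟩
    simpa using hΩ _ (inv_mem hτ) _ h').symm

theorem fix_cw {ρ : Equiv.Perm GolayPt} {r : ℕ} (h : Rep ρ r) (k : ℕ) :
    {x | x ∈ (cwE k).Ω ∧ ρ • x = x}.ncard = cntTo2 (fun i => force i fun i =>
      band ((cwE k).V i) (force (enc i) fun m => Nat.beq (act r m) m)) 64 64 :=
  (cwE k).ncard _ _ fun i _ _ => by
    show ρ • S (enc i) = S (enc i) ↔ _
    rw [force_eq, Nat.beq_eq, h.smul_S]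
    exact ⟨S_inj (h.lt_act _) (enc_lt i), fun e => by rw [e]⟩

theorem fix_sx {ρ : Equiv.Perm GolayPt} {r : ℕ} (h : Rep ρ r) :
    {x | x ∈ sextets ∧ ρ • x = x}.ncard = cntTo2 (fun i => force i fun i =>
      band (sxE.V i) (force (sx i) fun c => mapsSS 6 r c c)) 23 77 :=
  sxE.ncard _ _ fun i _ _ => by rw [force_eq]; exact smul_SS_self_iff h

theorem fix_tr {ρ : Equiv.Perm GolayPt} {r : ℕ} (h : Rep ρ r) :
    {x | x ∈ trios ∧ ρ • x = x}.ncard = cntTo2 (fun i => force i fun i =>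
      band (trE.V i) (force (tr i) fun c => mapsSS 3 r c c)) 55 69 :=
  trE.ncard _ _ fun i _ _ => by rw [force_eq]; exact smul_SS_self_iff h

/-! ### Classes of elements of order two and three -/

theorem few_moved {σ : Equiv.Perm GolayPt} (hσ : σ ∈ M24) {s : Finset GolayPt} (hs : s.card ≤ 5)
    (h : ∀ p, p ∉ s → σ p = p) : σ = 1 := by
  obtain ⟨s', h1, h2⟩ := exists_superset_card_eq hs (by rw [card_pt]; norm_num)
  obtain ⟨τ, h3, h4⟩ := m24_trans_sets (s := S 1984) (t := s') (by decide +kernel)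
    (by rw [h2]; decide +kernel)
  have : τ⁻¹ * σ * τ ∈ M24 ⊓ Fx 8388671 := by
    refine ⟨conj_mem_M24 h3 hσ, conj_mem_Fx_iff.2 fun p hp => h p fun hp' => ?_⟩
    have h5 : Disjoint (τ • S 8388671) (τ • S 1984) :=
      (disjoint_smul_iff _ _ _).2 (S_disjoint_of_and (by decide))
    exact disjoint_left.1 h5 hp (h4 ▸ h1 hp')
  rw [m24_bot] at this
  exact eq_one_of_conj this

/-- Looks up a conjugating element. -/
noncomputable def cjL (r₁ r₂ : ℕ) (L : List (ℕ × ℕ)) (g : ℕ) : Bool :=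
  anyL (fun e => band (Nat.beq e.1 g) (bor (cjq e.2 g r₁) (cjq e.2 g r₂))) L

theorem cjL_sound {r₁ r₂ : ℕ} {L : List (ℕ × ℕ)} (h1 : isM r₁ = true) (h2 : isM r₂ = true)
    (hL : allL (fun e => isM e.2) L = true) {σ : Equiv.Perm GolayPt} {g : ℕ} (hg : Rep σ g)
    (h : cjL r₁ r₂ L g = true) : ∃ τ ∈ M24, τ * σ = P r₁ * τ ∨ τ * σ = P r₂ * τ := by
  obtain ⟨e, he, h3⟩ := (anyL_iff _ _).1 h
  have h4 := (allL_iff _ _).1 hL e he
  rw [band_iff, bor_iff, ← cjq_iff (isM_rep h4) hg (isM_rep h1),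
    ← cjq_iff (isM_rep h4) hg (isM_rep h2)] at h3
  exact ⟨_, isM_mem h4, h3.2⟩

/-- An involution fixing the standard octad. -/
def cT1 : ℕ := 0xbd6cb22627638cfa224a834b318820
/-- A fixed-point-free involution. -/
def cT2 : ℕ := 0xd467b0859b5d2454eb4d211b0457
/-- An element of order three with six fixed points. -/
def cX1 : ℕ := 0xbb5135bdd63160aa1ea964a2418820
/-- A fixed-point-free element of order three. -/
def cX2 : ℕ := 0xcb332e0c735f13a50a9509515ae1
def cRho2 : ℕ := 0x4a03228cc29d6f4ba346da68a8457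
def cRho3 : ℕ := 0x54cc459249d1c75961168df212ae1
def cl2 : List (ℕ × ℕ) := [(0xd467b0859b5d2454eb4d211b0457, 0xbdab49ca307b9ac5a928398a418820),
  (0xe49655ae542333be865a085b0457, 0xbd9e854ca46461534967a25cd18820),
  (0xe6babe11910aaa310931daeb0457, 0xbd987929cda948f4ccd442e3018820),
  (0x106b728ed44e09a498f894d6a8457, 0xbb2c9819c8795753d1536923218820),
  (0x10a88a66d59e0a7b25470eb630457, 0xbac8a69dd2a159333d3585a2818820),
  (0x10c93a1cd5460b63e929d47628457, 0xbd52d34a0f216620c5cca1eca1ad00),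
  (0x10ef3306da16124254bacdd688457, 0xba836951d31c5e63c0a9130956ad00),
  (0x11d21d0cd6560f52d092c4f698457, 0xbca0fb4dcb49507aaa862362c18820),
  (0x122c2bead91a144a16a1ba7638457, 0xba1b4255cc516469a5e7b422b18820),
  (0x1274ac8ad78e0c5a92831e3670457, 0xac2574c58a011011b845335e79d176),
  (0x12aa9ae2d4ba08951ec398b618457, 0xaa4047406d604c83cdeab88b28d176),
  (0x156941e11535c6abe93932c320457, 0xbb54c79cb044486aae534d1d618820),
  (0x15e7531a3a923244ccba26ce80457, 0xbc0ea332364b892451ebaccad18820),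
  (0x166caa48e4407452e4f31ed168457, 0xb9166425d0996d4554ef9322d18820),
  (0x18916a2872a66b60dd2859f550457, 0xbce8d549c7216ab45a0c4be2618820),
  (0x19a883cb390ea952d9425a2770457, 0xbba07b5243320af556692359158820),
  (0x1a0f24655a2ce3725456d91360457, 0xbbeb23b5ca6169682d0434e2918820),
  (0x1c8f80d93a20d12a54eb357590457, 0xba8cb9d9cf4152d24990a9e3418820),
  (0x1dae221261d2ab61632b415378457, 0xbd5f04a1c6b166c911ab5522718820),
  (0x1e126d0b540e6a4b16fb122670457, 0xbb46f2cd9652e063d1357464440820),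
  (0x206a8c272499646d1f62b8eca8457, 0xbd6cb22627638cfa224a834b318820),
  (0x20e53352c73e5020e36ace8b50457, 0xba91094e346b9e63d8955b0a918820),
  (0x2295791cb9c58d81cd65247228457, 0xbba6f3c2514b07622a8da996540820),
  (0x24702acd421d48936cc7466fa8457, 0xbbec66acb4ac52c41e72241ca18820),
  (0x24c438d6a6b1ee8c2c59d51490457, 0xbcd69958b5a44c4829ed621c718820),
  (0x256d6186f81693a92c7449ca88457, 0xb8e9079d11230b3336d55264e58820),
  (0x28cd3c649222851da0e9d58f58457, 0xb990f640a75466db512492dd518820),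
  (0x299059c74695f59d886921c988457, 0xb92a33d196721aa4c4af34d7090820),
  (0x29c48ae6f85528959ac194d438457, 0xbd087830af9c54b91aa8b35c918820),
  (0x2cf1342921a98db38a4acd2878457, 0xbbd8459e29b39559b606920b418820),
  (0x2d474b5c834644b5670a3c6c28457, 0xba9b181e4f1b126ab8b32597440820),
  (0x2e2a192ac49d10b51ed714d298457, 0xbcc8cb2a265b8f47c9096c0b518820),
  (0x30aa734cb4ce56851e41c6a838457, 0xb9e086be3593a6952d94b10a618820),
  (0x30ee311482d1766c470acdf248457, 0xba64d4562f83a87312d362caa18820),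
  (0x3126541d23c51624ead7d06b28457, 0xba611699141ad479b8b5b118f90820),
  (0x34ca3b0a448ed2451eb9d63070457, 0xb95b521a56986144a9e78b98312d00),
  (0x34f4322247bacb62932accb018457, 0xabd6234cb008d8a45e24a340774936),
  (0x350361d242aad333a3592df0a0457, 0xba0d6aa4b26c56a792143cdcc18820),
  (0x356594d441a6c7ac5c66229078457, 0xbb2ad350abb464f5408999dc818820),
  (0x358e419e48d2d538cb35c93050457, 0xbc8e49a8a884589a59af355cb18820),
  (0x36515d68473ec6994674315048457, 0xbae703bcac245144b6caa99d218820),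
  (0x366faadc4a46c89254c31c7028457, 0xb8950aa5b22b82638ed47ce2c22160),
  (0x36a99c864516cc5be88399d088457, 0xaa06714569331402b617705f2a1276),
  (0x390959883558a79be95649b180457, 0xb92924d4b65c5b33a1867a9d018820),
  (0x3933a32113587241eab53c8568457, 0xbb4c93ae2453ac893e8c9d4b018820),
  (0x3a68aa9a565a2f4c97431e0320457, 0xbc255651c4395a979a6a5a23618820),
  (0x3cd039594b2d31711a39d64a40457, 0xb9e545b4a64c6b023d56431d318820),
  (0x3d0494c69b15463b6155b1d488457, 0xbb4e3aaa5072c947c4a99991660820),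
  (0x3e2d72eaab4e889408c28ce930457, 0xba613220aa3c5f25d4cc6d9d418820),
  (0x40cf3ca36a388c5a5489d4ad18457, 0xac9707dc4938551019a56506874c96),
  (0x40e932cb650c8893e8cace2d70457, 0xb84adb2a822258fac5d380cd23ad00),
  (0x41277b9969c89119aa5a290d58457, 0xbae957b6289ba44b1cd0524ac18820),
  (0x4153a46563b08e2d4c37a56d40457, 0xba1474922b3398d85676a3cb218820),
  (0x41e648d16aac8571e715518d90457, 0xbc92655a2c3b9706cea47d0a818820),
  (0x426aaa0764948b651f231dcd88457, 0xbb0f54bad29c031229eda18a21ad00),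
  (0x429551576320838ccee4be4d60457, 0xbb1f3a4232ab916218ed4a8ab18820),
  (0x42b49b1d67c4924292b3986d28457, 0xaa8b7891281c8d358414708ed831f6),
  (0x458994ec55107533e8742e0e68457, 0xbc12ba18ad946c79b11553dc418820),
  (0x4672ad2c35b5c97a18a31c8580457, 0xbb5135bdd63160aa1ea964a2418820),
  (0x46954b2ce3c0b241a6b7a9a320457, 0xb926faa22da3a0b6255231cb618820),
  (0x48e3359eb8a504815cdacd4ca0457, 0xbd17661a2a23933ac1a7448af18820),
  (0x49ca2d8e84d58d251f088e6b30457, 0xb99b28523343aaa4b16f258a718820),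
  (0x49f3a59ccac570698e44a86828457, 0xb9a361d167222697c1aa7165560820),
  (0x4c8bb24a660cefa224a6c23570457, 0xb8e06b296e3b229a4eaf2350590820),
  (0x4dafb3967a4aa58a5438118640457, 0xbd268341c9595e46b2563d62a18820),
  (0x4e05b21f58a8cb638722368748457, 0xb9944a31d5694e85c2d27a63318820),
  (0x50b61ace9699e89120c8baaa98457, 0xba9b5b48a93468864ceb811cf18820),
  (0x50d63b90f849432b4919d56960457, 0xbd58a410b37c4f66a6905c9c618820),
  (0x52564546a21527341b362dcf88457, 0xbbdd31b5093315021eb62c65458820),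
  (0x56c38215373ceb644b269126a0457, 0xb9d367add3814d263488a2a3518820),
  (0x56cc228a758cd47c9098363370457, 0xb9d25a11751b270b45cd53d0690820),
  (0x56cf69506a326e1a5512424758457, 0xba4eca91d491550b216d99a2f18820),
  (0x58d43ac70795a89292c9d5c488457, 0xadd426c283290123c5c9322615bd96),
  (0x58ea349d04c5ac5d1e8acc6428457, 0xab90c9dd603d0620be11511a534936),
  (0x5a69ab230539b243e8b31ca418457, 0xa8e083d225606eb4bd5224c02734d6),
  (0x5aaf9a0b0a0dab6255239a2470457, 0xadc481adb15400f62654704c53cc96)]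
def cl3 : List (ℕ × ℕ) := [(0xcb332e0c735f13a50a9509515ae1, 0xbdab49ca307b9ac5a928398a418820),
  (0xdca498958c185a2cf29a1af15ae1, 0xbd56c9d91249dcd844c2a0dea29020),
  (0xe325a5af292ae41a9351e0c15ae1, 0xb924cb4568534ee1ce02a192fa9420),
  (0x11ab452a981e36939e550e6c11ae1, 0xbb696a88d23a66e1a9654408f64420),
  (0x1209a1a47b2cad53a63ac58f122e1, 0xbbe28496b068972b0d54610ee99820),
  (0x12c63b2926bdd098d055c53512ae1, 0xbce8d549c7216ab45a0c4be2618820),
  (0x1470b28e98996e222927b26d156e1, 0xbbec66acb4ac52c41e72241ca18820),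
  (0x15d5335441d1119b2d282d2713ee1, 0xba9cf1d17023672b1d068892ca9420),
  (0x162733d6a74a03ab69649113132e1, 0xb906e4485159d94b41e56aaa999820),
  (0x18e3721329bed58917063545152e1, 0xbd6099ac72a1891b3c47615ae42820),
  (0x1a697b2c8ac067a156e9448a136e1, 0xbb1a479a0270d742aab69c5283c820),
  (0x1ab68486c3b9336a96f450a4146e1, 0x8508ba8a48501c9884ac3cc77799b6),
  (0x1cc8595a3ad9336522a73c92142e1, 0xbca911b51531d56131305cdee29020),
  (0x1e68611363523590dae815eb12ae1, 0xbbab62cd8f50a04a1e236a50692c20),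
  (0x1ea893e3498da65d930510ac13ae1, 0x848542c46b7248a01af379c2caa1b6),
  (0x21651bea961ad28c14da10ee14ee1, 0xbda49accf033c545c5835390d29020),
  (0x21933a60a9106bac5e5a3ac6136e1, 0xbd964ac2938bd07919832b44e52420),
  (0x224db2a2f5b8ec85533a1864116e1, 0x84ceea3009a8ca44284b885f7349b6),
  (0x25479ca2b7b9b43111664075116e1, 0x81d34b848f00c4b3558a9ca28715b6),
  (0x25f53b596a49ca3460321573122e1, 0xbd6c249e041ae4ca44ad44cca7b820),
  (0x2693ab8835364f330ab8a2c7142e1, 0xb9d0a4c4cd24185156439d9747b820),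
  (0x292c5cc86a586f938f1a9608136e1, 0xbb4c93ae2453ac893e8c9d4b018820),
  (0x29e574d074cad41b6a43419112ee1, 0xbae957b6289ba44b1cd0524ac18820),
  (0x2a906ce3578e49b2cc83b0a413ae1, 0x815095cc7512a8f744c124ae03b1b6),
  (0x2d159b63090dec3a894b24a613ae1, 0x82caeb9c6453d81a0ab19a408349b6),
  (0x2d858d61345a9273cea325a3112e1, 0xbd151921671198998cb62560d7b820),
  (0x2e4d8167161948251cf1a6b611ee1, 0xb890faa885919cbb36678512364420),
  (0x31038d94d5a4f22cc86855ee152e1, 0xbd17661a2a23933ac1a7448af18820),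
  (0x3167ab95193c889c0762b686126e1, 0xb98aaa8d90b09f4244f34b50e92c20),
  (0x324d21df3424abb0cd1aba9012ae1, 0xbccef54888ac1c6a0d855c5a915820),
  (0x3486a8d91b2df03d0a97291314ae1, 0xbcd69958b5a44c4829ed621c718820),
  (0x360f4c4ce25596520ab1ca7411ee1, 0xba2cf912a3709498c16ca14ed99820),
  (0x36d24468582aa461c6674deb126e1, 0xbb5c2ad871625f432165512133c820),
  (0x386b6426429d51425b4b3cd2156e1, 0xbb510992951bd6661e517584552420),
  (0x38a4855078ae83b24cf9aa4d132e1, 0xbb956621719344479a8784d23a9420),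
  (0x3a2c91d261aa0545aa49b68b13ee1, 0xbd5f04a1c6b166c911ab5522718820),
  (0x3d2b93aa554c9465a2d1c0c811ee1, 0xba1b4255cc516469a5e7b422b18820),
  (0x3d566b0eba4dc92165140eb011ae1, 0xba5ca8d2b2432135b4c4289e7b0c20),
  (0x3e8e1c0ed4d64a2a2cc22cd114ee1, 0xbb991595246c2b4b4de64086a3c820),
  (0x40911a0cc69d5673e495d2a514ee1, 0xba9b5b48a93468864ceb811cf18820),
  (0x41b12d24fb30c419d534d50e12ee1, 0xb8dea9a122b11d581d74934c564420),
  (0x42c329df52290d72e6c34931152e1, 0xba12282dea754d3216343c98db0c20),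
  (0x446a7acc874e054924d658f4156e1, 0xbce0b40ccf525a511ecead09264420),
  (0x44b622e921a66e8558641d4d13ee1, 0xbb56e1b1f0aa2c98c9469d0e229020),
  (0x45caa5a442a0c37ce1569d69132e1, 0xbbeb23b5ca6169682d0434e2918820),
  (0x490954276654ab7c48e68cf411ae1, 0xba613220aa3c5f25d4cc6d9d418820),
  (0x497451873439ac4c2a43d8af146e1, 0x825619554675c40a3e65220713b1b6),
  (0x498f546c3590e8a19d52cda9142e1, 0xbc0ea332364b892451ebaccad18820),
  (0x4cd0215ee3d1156c86b8b156126e1, 0xba64d4562f83a87312d362caa18820),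
  (0x4cee2a5b4ac1668c94c7a2c3112e1, 0xb926faa22da3a0b6255231cb618820),
  (0x4eb449230339877cac86ac6a116e1, 0x84ae47b02298dc5a1cc08ad0a4d5b6),
  (0x5132658707baaa5cda7218a8146e1, 0x851137ae20b92a60c92a3886c715b6),
  (0x5151722cb4b66f2998795603112e1, 0xbd9c35b04541e492355183eb499820),
  (0x51e468d05530c9855c78cd7614ae1, 0xb94c471d89a09b654c7183d1592c20),
  (0x54cfa0d6e9a0874b6302d98a14ae1, 0xbb9b08989660d27aa8a293d68a4c20),
  (0x54ee8918d321331be14b2a4512ee1, 0xbc18324aaf509c5a21b68a4eb99820),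
  (0x5664b29743b226695e34ba50122e1, 0xba1474922b3398d85676a3cb218820),
  (0x588c4562683a8d5aa693bc72116e1, 0x811678cc0940d4c088aebd4d493db6),
  (0x59a69d06a23970ab1287c8a7146e1, 0x80934badea882ac41c242cc6e349b6),
  (0x5a147ca2868e6451d95598a913ae1, 0x808c040472496ac9acefa5c8a8b9b6)]

theorem isM_T1 : isM cT1 = true := by decide +kernel
theorem isM_T2 : isM cT2 = true := by decide +kernel
theorem isM_X1 : isM cX1 = true := by decide +kernel
theorem isM_X2 : isM cX2 = true := by decide +kernel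
theorem isM_Rho2 : isM cRho2 = true := by decide +kernel
theorem isM_Rho3 : isM cRho3 = true := by decide +kernel
theorem fixS_T1 : fixS (P cT1) = S 8536111 := (isM_rep isM_T1).fixS_eq (by decide +kernel)
theorem fixS_T2 : fixS (P cT2) = S 0 := (isM_rep isM_T2).fixS_eq (by decide +kernel)
theorem fixS_X1 : fixS (P cX1) = S 8388639 := (isM_rep isM_X1).fixS_eq (by decide +kernel)
theorem fixS_X2 : fixS (P cX2) = S 0 := (isM_rep isM_X2).fixS_eq (by decide +kernel)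

theorem cl2_aux : enumC m24T (fun g => bimp (sq1 g) (cjL cT1 cT2 cl2 g))
    [(m24J4, 8388600), (m24J5, 147488), (m24J6, 8241104)] cRho2 = true := by decide +kernel
theorem cl3_aux : enumC m24T (fun g => bimp (cb1 g) (cjL cX1 cX2 cl3 g))
    [(m24J4, 8388600), (m24J5, 147488), (m24J6, 8241104)] cRho3 = true := by decide +kernel

theorem mem_F4 {σ : Equiv.Perm GolayPt} (h1 : σ (pt 23) = pt 23) (h2 : σ (pt 0) = pt 0)
    (h3 : σ (pt 1) = pt 1) (h4 : σ (pt 2) = pt 2) : σ ∈ Fx 8388615 := by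
  rw [mem_Fx]
  intro p hp
  have : p = pt 23 ∨ p = pt 0 ∨ p = pt 1 ∨ p = pt 2 := by revert p; decide +kernel
  rcases this with rfl | rfl | rfl | rfl <;> assumption

theorem conj_class_of {σ κ r₁ r₂ : Equiv.Perm GolayPt} (hκ : κ ∈ M24)
    (h : ∃ τ ∈ M24, τ * (κ * σ * κ⁻¹) = r₁ * τ ∨ τ * (κ * σ * κ⁻¹) = r₂ * τ) :
    ∃ τ ∈ M24, τ * σ = r₁ * τ ∨ τ * σ = r₂ * τ := by
  obtain ⟨τ, h1, h2⟩ := h
  refine ⟨τ * κ, mul_mem h1 hκ, h2.imp (fun h => ?_) (fun h => ?_)⟩ <;>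
  · rw [← mul_assoc _ τ, ← h]; group

theorem inv_class {σ : Equiv.Perm GolayPt} (hσ : σ ∈ M24) (h2 : σ * σ = 1) (h1 : σ ≠ 1) :
    ∃ τ ∈ M24, τ * σ = P cT1 * τ ∨ τ * σ = P cT2 * τ := by
  have hh : ∀ p, σ (σ p) = p := fun p => by rw [← Equiv.Perm.mul_apply, h2]; rfl
  obtain ⟨a, ha⟩ : ∃ a, σ a ≠ a := by
    by_contra h; push Not at h; exact h1 (Equiv.ext h)
  obtain ⟨c, hc, hc'⟩ : ∃ c, c ∉ ({a, σ a} : Finset GolayPt) ∧ σ c ≠ c := by
    by_contra h; push Not at h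
    exact h1 (few_moved hσ (card_le_two.trans (by norm_num)) h)
  simp only [mem_insert, mem_singleton, not_or] at hc
  obtain ⟨κ, k0, k1, k2, k3, k4⟩ := m24_trans4 (a := a) (b := σ a) (c := c) (d := σ c)
    (a' := pt 23) (b' := pt 0) (c' := pt 1) (d' := pt 2) ha.symm (Ne.symm hc.1)
    (fun e => hc.2 (by rw [e, hh])) (Ne.symm hc.2) (fun e => hc.1 (σ.injective e).symm) hc'.symm
    (by decide) (by decide) (by decide) (by decide) (by decide) (by decide)
  apply conj_class_of k0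
  have r := isM_rep isM_Rho2
  have f : ∀ {x y : GolayPt} {i j : ℕ}, κ x = pt i → κ y = pt j → σ x = y → i < 24 →
      ap cRho2 i = j → (κ * σ * κ⁻¹ * (P cRho2)⁻¹) (pt j) = pt j := by
    intro x y i j e1 e2 e3 hi e4
    rw [Equiv.Perm.mul_apply, ← r.app_eq hi e4, inv_app, r.app_eq hi e4, ← e1, ← e2,
      Equiv.Perm.mul_apply, inv_app, Equiv.Perm.mul_apply, e3]
  obtain ⟨g, h3, h4⟩ := m24_chain4.enum r cl2_aux (κ * σ * κ⁻¹ * (P cRho2)⁻¹)
    ⟨M24.mul_mem (M24.mul_mem (M24.mul_mem k0 hσ) (M24.inv_mem k0)) (M24.inv_mem (isM_mem isM_Rho2)),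
      mem_F4 (f k2 k1 (hh a) (by norm_num) (by decide +kernel))
        (f k1 k2 rfl (by norm_num) (by decide +kernel))
        (f k4 k3 (hh c) (by norm_num) (by decide +kernel))
        (f k3 k4 rfl (by norm_num) (by decide +kernel))⟩
  rw [inv_mul_cancel_right] at h3
  rw [bimp_iff, ← sq1_iff h3] at h4
  refine cjL_sound isM_T1 isM_T2 (by decide +kernel) h3 (h4 ?_)
  calc κ * σ * κ⁻¹ * (κ * σ * κ⁻¹) = κ * (σ * σ) * κ⁻¹ := by group
    _ = 1 := by rw [h2]; group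

theorem three_class {σ : Equiv.Perm GolayPt} (hσ : σ ∈ M24) (h2 : σ * σ * σ = 1) (h1 : σ ≠ 1) :
    ∃ τ ∈ M24, τ * σ = P cX1 * τ ∨ τ * σ = P cX2 * τ := by
  have hh : ∀ p, σ (σ (σ p)) = p := fun p => by
    rw [← Equiv.Perm.mul_apply, ← Equiv.Perm.mul_apply, h2]; rfl
  obtain ⟨a, ha⟩ : ∃ a, σ a ≠ a := by
    by_contra h; push Not at h; exact h1 (Equiv.ext h)
  obtain ⟨c, hc, hc'⟩ : ∃ c, c ∉ ({a, σ a, σ (σ a)} : Finset GolayPt) ∧ σ c ≠ c := by
    by_contra h; push Not at h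
    exact h1 (few_moved hσ (card_le_three.trans (by norm_num)) h)
  simp only [mem_insert, mem_singleton, not_or] at hc
  have n1 : σ (σ a) ≠ σ a := fun e => ha (σ.injective e)
  have n2 : σ (σ a) ≠ a := fun e => ha (by have := hh a; rwa [e] at this)
  have n3 : σ c ≠ a := fun e => hc.2.2 (by rw [← e, hh])
  have n4 : σ c ≠ σ a := fun e => hc.1 (σ.injective e)
  have n5 : σ c ≠ σ (σ a) := fun e => hc.2.1 (σ.injective e)
  obtain ⟨κ, k0, k⟩ := m24_five ![a, σ a, σ (σ a), c, σ c] ![pt 23, pt 0, pt 1, pt 3, pt 2]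
    (by
      intro i j
      fin_cases i <;> fin_cases j <;>
        simp [ha, ha.symm, n1, n1.symm, n2, n2.symm, n3, n3.symm, n4, n4.symm, n5, n5.symm, hc.1,
          hc.2.1, hc.2.2, Ne.symm hc.1, Ne.symm hc.2.1, Ne.symm hc.2.2, hc', hc'.symm])
    (by decide +kernel)
  apply conj_class_of k0
  have r := isM_rep isM_Rho3
  have f : ∀ {x y : GolayPt} {i j : ℕ}, κ x = pt i → κ y = pt j → σ x = y → i < 24 →
      ap cRho3 i = j → (κ * σ * κ⁻¹ * (P cRho3)⁻¹) (pt j) = pt j := by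
    intro x y i j e1 e2 e3 hi e4
    rw [Equiv.Perm.mul_apply, ← r.app_eq hi e4, inv_app, r.app_eq hi e4, ← e1, ← e2,
      Equiv.Perm.mul_apply, inv_app, Equiv.Perm.mul_apply, e3]
  obtain ⟨g, h3, h4⟩ := m24_chain4.enum r cl3_aux (κ * σ * κ⁻¹ * (P cRho3)⁻¹)
    ⟨M24.mul_mem (M24.mul_mem (M24.mul_mem k0 hσ) (M24.inv_mem k0)) (M24.inv_mem (isM_mem isM_Rho3)),
      mem_F4 (f (i := 1) (k 2) (k 0) (hh a) (by norm_num) (by decide +kernel))
        (f (i := 23) (k 0) (k 1) rfl (by norm_num) (by decide +kernel))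
        (f (i := 0) (k 1) (k 2) rfl (by norm_num) (by decide +kernel))
        (f (i := 3) (k 3) (k 4) rfl (by norm_num) (by decide +kernel))⟩
  rw [inv_mul_cancel_right] at h3
  rw [bimp_iff, ← cb1_iff h3] at h4
  refine cjL_sound isM_X1 isM_X2 (by decide +kernel) h3 (h4 ?_)
  calc κ * σ * κ⁻¹ * (κ * σ * κ⁻¹) * (κ * σ * κ⁻¹) = κ * (σ * σ * σ) * κ⁻¹ := by group
    _ = 1 := by rw [h2]; group

theorem sq_of_orderOf {G : Type*} [Group G] {σ : G} (h : orderOf σ = 2) : σ * σ = 1 ∧ σ ≠ 1 :=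
  ⟨by rw [← sq, ← h, pow_orderOf_eq_one], by rintro rfl; simp at h⟩

theorem cb_of_orderOf {G : Type*} [Group G] {σ : G} (h : orderOf σ = 3) :
    σ * σ * σ = 1 ∧ σ ≠ 1 :=
  ⟨by rw [← pow_three', ← h, pow_orderOf_eq_one], by rintro rfl; simp at h⟩

theorem card_fixS_conj {σ ρ τ : Equiv.Perm GolayPt} (h : τ * σ = ρ * τ) :
    (fixS σ).card = (fixS ρ).card := by rw [fixS_conj h, card_smul_finset]

theorem inv_cases {σ : Equiv.Perm GolayPt} (hσ : σ ∈ M24) (h : orderOf σ = 2) :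
    ((fixS σ).card = 8 ∧ fixS σ ∈ octads ∧ ∃ τ ∈ M24, τ * σ = P cT1 * τ) ∨
      ((fixS σ).card = 0 ∧ ∃ τ ∈ M24, τ * σ = P cT2 * τ) := by
  obtain ⟨τ, h1, h2 | h2⟩ := inv_class hσ (sq_of_orderOf h).1 (sq_of_orderOf h).2
  · have : fixS σ ∈ octads := by
      rw [← smul_mem_octads_iff h1, ← fixS_conj h2, fixS_T1]; exact O0_mem
    exact Or.inl ⟨this.2, this, τ, h1, h2⟩
  · exact Or.inr ⟨by rw [card_fixS_conj h2, fixS_T2, S_zero, card_empty], τ, h1, h2⟩

theorem three_cases {σ : Equiv.Perm GolayPt} (hσ : σ ∈ M24) (h : orderOf σ = 3) :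
    ((fixS σ).card = 6 ∧ ∃ τ ∈ M24, τ * σ = P cX1 * τ) ∨
      ((fixS σ).card = 0 ∧ ∃ τ ∈ M24, τ * σ = P cX2 * τ) := by
  obtain ⟨τ, h1, h2 | h2⟩ := three_class hσ (cb_of_orderOf h).1 (cb_of_orderOf h).2
  · exact Or.inl ⟨by rw [card_fixS_conj h2, fixS_X1]; decide +kernel, τ, h1, h2⟩
  · exact Or.inr ⟨by rw [card_fixS_conj h2, fixS_X2, S_zero, card_empty], τ, h1, h2⟩

theorem orderOf_T1 : orderOf (P cT1) = 2 :=
  orderOf_eq_prime (by rw [sq, sq1_iff (isM_rep isM_T1)]; decide +kernel)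
    (by rw [Ne, is1_iff (isM_rep isM_T1)]; decide +kernel)
theorem orderOf_T2 : orderOf (P cT2) = 2 :=
  orderOf_eq_prime (by rw [sq, sq1_iff (isM_rep isM_T2)]; decide +kernel)
    (by rw [Ne, is1_iff (isM_rep isM_T2)]; decide +kernel)
theorem orderOf_X1 : orderOf (P cX1) = 3 :=
  haveI : Fact (Nat.Prime 3) := ⟨by norm_num⟩
  orderOf_eq_prime (by rw [pow_three', cb1_iff (isM_rep isM_X1)]; decide +kernel)
    (by rw [Ne, is1_iff (isM_rep isM_X1)]; decide +kernel)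
theorem orderOf_X2 : orderOf (P cX2) = 3 :=
  haveI : Fact (Nat.Prime 3) := ⟨by norm_num⟩
  orderOf_eq_prime (by rw [pow_three', cb1_iff (isM_rep isM_X2)]; decide +kernel)
    (by rw [Ne, is1_iff (isM_rep isM_X2)]; decide +kernel)

/-! ### The centraliser of a fixed-point-free involution -/

theorem smul_eq_of_mem_part {X : Finset (Finset GolayPt)}
    (hX : ∀ t ∈ X, ∀ u ∈ X, t ≠ u → Disjoint t u) {σ : Equiv.Perm GolayPt} (h : σ • X = X)
    {u v : Finset GolayPt} (hu : u ∈ X) (hv : v ∈ X) {p : GolayPt} (hp : p ∈ u) (hq : σ p ∈ v) :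
    σ • u = v := by
  by_contra e
  exact disjoint_left.1 (hX _ (h ▸ smul_mem_smul_finset hu) _ hv e)
    ((apply_mem_smul_iff _ _ _).2 hp) hq

/-- The sextet of the standard fixed-point-free involution. -/
def cXT : ℕ := 3529408792836500841113060817484805706877185

theorem XT_mem : SS 6 cXT ∈ sextets := (isSx_spec (by decide +kernel)).2

theorem XT_fix : ∀ u ∈ SS 6 cXT, P cT2 • u = u := by
  intro u hu
  obtain ⟨j, hj, rfl⟩ := mem_SS.1 hu
  apply (isM_rep isM_T2).smul_S_eq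
  revert j; decide +kernel

theorem XT_unique : ∀ X ∈ sextets, (∀ u ∈ X, P cT2 • u = u) → X = SS 6 cXT :=
  sxE.forall _ (fun i => force (sx i) fun c => bimp (allTo (fun j => force (part c j) fun m =>
    Nat.beq (act cT2 m) m) 6) (Nat.beq c cXT)) (fun i _ _ h h' => by
      simp only [force_eq, bimp_iff, allTo_iff, Nat.beq_eq] at h
      show SS 6 (sx i) = _
      rw [h fun j hj => S_inj ((isM_rep isM_T2).lt_act _) (part_lt _ _)
        (by rw [← (isM_rep isM_T2).smul_S]; exact h' _ (mem_SS.2 ⟨j, hj, rfl⟩))])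
    (by decide +kernel)

/-- The centraliser of the standard fixed-point-free involution. -/
noncomputable def CT : Subgroup (Equiv.Perm GolayPt) := M24 ⊓ Subgroup.centralizer {P cT2}

theorem mem_CT {σ : Equiv.Perm GolayPt} : σ ∈ CT ↔ σ ∈ M24 ∧ σ * P cT2 = P cT2 * σ := by
  unfold CT
  rw [Subgroup.mem_inf, Subgroup.mem_centralizer_singleton_iff]

theorem CT_sextet {σ : Equiv.Perm GolayPt} (h : σ ∈ CT) : σ • SS 6 cXT = SS 6 cXT := by
  obtain ⟨h1, h2⟩ := mem_CT.1 h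
  refine XT_unique _ (smul_mem_sextets h1 XT_mem) fun u hu => ?_
  obtain ⟨v, hv, rfl⟩ := mem_smul_finset.1 hu
  rw [smul_eq_conj h2]; exact XT_fix v hv

theorem CT_app {σ : Equiv.Perm GolayPt} (h : σ ∈ CT) {i j : ℕ} (hi : i < 24) (e : ap cT2 i = j)
    (h' : σ (pt i) = pt i) : σ (pt j) = pt j := by
  rw [← (isM_rep isM_T2).app_eq hi e, ← Equiv.Perm.mul_apply, (mem_CT.1 h).2, Equiv.Perm.mul_apply,
    h']

def ctT : ℕ := 0xbc269ac9d65448c5be8831c6d28820b90ca3c86d4960c5d1e89d5d688820ba9d08b0cf21d32436cb19674a8820ba4642b27485552459ab744cf38820b95467c9a39922c5d4e84d2ce80820bc533a4ace340ac59ea853da320820bba954ca113d86c59a687a88568820bd4836b293724f2444ab859e650820b9e0eb31e61aab24162b2369348820bcda5231358d0d24386bb414778820b9ad1831472be7240dcb69135a0820bb4ef348a4a0ecc5a548ace3070820b8de754885ab5cc5ccc8a2611b0820bbe36730ea69a924120b28ea998820bd0ad1b2a9b4df24408b8b8ea30820b9d930c1a6144854494babe8e48ec0bcc29610b59587140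8cba1d507b9a0ba455941d461225405eb9a8cd38ec0bc4a91bc2db4993440cba1dc222aa0bcc6181daa292295da4860aae7d0c0bc58511eae0be695cac81c1aa250c0b9aa39b8497c98d5aa082d8e1a4480bcd31a5a4a3082359da8712ac7c0a0bce844958a38450599c86c6b278ec0b89a7896b223e705b8c8a258a08ec0bc8b3b468219d245c2a853c26639a0bbcacb1dd51c4895c0480c94d9d0c0bb1c9216618aab05b68831c4f90ec0b9dd222874896155b428130d64cde0b92934b0ad38ed259aa853dd088440b86b17a4729c0a7429cb69196150c0b92a27c28e9a4e542a4b605a688ec0b98ae18a67b55414422b2352fa3240bbdc38852a250c2434ab85aa79c98000ea99c9a57922c42a8b31e0eb08371381043cd15a4f365c72b14946d541354a01b593b082e4c16745df2544948c93334161a5c0571d4dabc4860ec48c8cf4d901382e3752ad54c4b616048dd479d84b7b2437568d32501016044244a91634635d0b86607d4c43d86b8aed284cd729d2f70c4d0b01445544588d04ce2c3b5cf052d7196440d5484857003672bd54e322d41958f144878a2a97da4098443728cda1eec596048bcd24a2ca3960b7504d0b2a3982e41506b856272b9aa65af20212433e6111170ba92d01a9562072b15c78cde1140876cc037216f9468c326d72d5411186883dc92c49365812baceda554198ef45ba454082da812a39a0cb448f88053624ab90ec7686ae53d10b9a848bc5760cd5924f66856e40154996048d2d52de478082068e6e7a92c321648b2a59812179a976aace1c04792d04115c68cef622d0f9352c3d060855418c04692e63655487052d3d2cf2dc04bdab49ca307b9ac5a928398a418820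
def ctL : List (ℕ × ℕ × ℕ) := [(23, 0x1200700500a00400201000e01401300301101600b00f00801500d00900600100c017, 16777215), (0, 0x0, 1), (1, 0x1b02902602a01802701e02502202301900002801d00001f01a02002402101c000000, 8386302), (2, 0x0, 4), (3, 0x2d03603202b00003803503102e03300000002f03000003702c039034000000000000, 8120056)]

theorem ct_tab : ∀ k < 58, InK CT (getP ctT k) :=
  tab_chk (chk := fun g => cjq g cT2 cT2) (fun _ _ h h1 h2 =>
    mem_CT.2 ⟨h1, (cjq_iff h (isM_rep isM_T2) (isM_rep isM_T2)).2 h2⟩) (by decide +kernel)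

theorem ct_aux : Nat.card ↥(CT ⊓ Fx 0) = 7680 ∧ Chain CT ctT (ctL.map Prod.snd) 0 := by
  have c4 : Nat.card ↥(CT ⊓ Fx 8388615) ≤ 16 := by
    rw [m24_chain4.card_sub (H := CT) inf_le_left (q := fun σ => σ * P cT2 = P cT2 * σ)
      (Q := fun g => cjq g cT2 cT2) (fun _ _ h => cjq_iff h (isM_rep isM_T2) (isM_rep isM_T2))
      (fun σ h => by rw [mem_CT]; simp [h])]
    decide +kernel
  have c3 := card_step_le (H := CT) (F := 8388611) (b := 2) (O := 4) (fun σ h => by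
    rw [Equiv.Perm.smul_def, CT_app h.1 (i := 1) (j := 2) (by norm_num) (by decide +kernel)
      (mem_Fx.1 h.2 _ (by decide +kernel))]
    decide +kernel) c4 (by decide)
  have c2 := card_step_le (H := CT) (F := 8388609) (b := 1) (O := 8386302) (fun σ h => by
    have h1 : σ • S 8390913 = S 8390913 :=
      smul_eq_of_mem_part (fun t ht u hu => sextet_disjoint XT_mem ht hu) (CT_sextet h.1)
        (mem_SS.2 ⟨0, by norm_num, by decide +kernel⟩) (mem_SS.2 ⟨0, by norm_num, by decide +kernel⟩)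
        (p := pt 23) (by decide +kernel)
        (by rw [mem_Fx.1 h.2 _ (by decide +kernel)]; decide +kernel)
    have h2 : σ • S 8386302 = S 8386302 := by
      rw [show 8386302 = 8390913 ^^^ 16777215 from rfl, S_compl, smul_finset_compl', h1]
    exact orbit_bound' h2 h.2 (by decide +kernel)) c3 (by decide)
  have c1 := card_step_le (H := CT) (F := 8388608) (b := 0) (O := 1) (fun σ h => by
    rw [Equiv.Perm.smul_def, CT_app h.1 (i := 23) (j := 0) (by norm_num) (by decide +kernel)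
      (mem_Fx.1 h.2 _ (by decide +kernel))]
    decide +kernel) c2 (by decide)
  have c0 := card_step_le (H := CT) (F := 0) (b := 23) (O := 16777215) (fun σ h => by
    rw [S_all]; exact mem_univ _) c1 (by decide)
  exact lchk_card ct_tab (by decide +kernel) (c0.trans (by decide +kernel))

theorem card_CT : Nat.card CT = 7680 := by rw [← inf_Fx_zero CT, ct_aux.1]
theorem ct_chain : Chain CT ctT (ctL.map Prod.snd) 0 := ct_aux.2

theorem CT_trans (p : GolayPt) : ∃ σ ∈ CT, σ p = pt 23 := by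
  obtain ⟨σ, h1, h2⟩ := lev_sound ct_tab (J := (ctL.getD 0 (0, 0, 0)).2.1) (F := 0) (b := 23)
    (O := 16777215) (by decide +kernel) p (by rw [S_all]; exact mem_univ _)
  exact ⟨σ, h1.1, h2⟩

end H15
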