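import Cfsg.Agent.H15.MX0

/-! The group `2 ^ 10` of a group of Monster type. -/

set_option autoImplicit false
set_option linter.unusedSectionVars false

namespace H15.MX
open Cfsg H15 H19 H0 H0.Mo H0.Y H12 H15.ML Subgroup QuadraticMap
open scoped commutatorElement

universe u
variable {G : Type u} [Group G] [Finite G]

theorem comm_fix {Q : Subgroup G} {z b x y : G} (h : ES Q z) (hb : b ∈ N(Q)) (hx : x ∈ Q) (hy : y ∈ Q)
    (k : ⁅b, x⁆ ∈ zpowers z) : ⁅b, y⁆ * x = x * ⁅b, y⁆ := by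
  have hy' := conj_mem_of_norm hb hy
  have e : b * x * b⁻¹ = ⁅b, x⁆ * x := by rw [commutatorElement_def]; group
  have k1 : ⁅b * y * b⁻¹, x⁆ = 1 ↔ ⁅y, x⁆ = 1 := by
    rw [comm_eq_one, comm_eq_one, ← (MulAut.conj b).injective.eq_iff (a := y * x), map_mul, map_mul, MulAut.conj_apply,
      MulAut.conj_apply, e, ← mul_assoc _ ⁅b, x⁆, h.zp_comm k hy', mul_assoc ⁅b, x⁆, mul_assoc ⁅b, x⁆, mul_right_inj]
  have k2 : ⁅b * y * b⁻¹, x⁆ = ⁅y, x⁆ := by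
    rcases h.comm _ hy' _ hx with a | a <;> rcases h.comm _ hy _ hx with c | c <;> simp_all
  rw [← comm_eq_one, commutatorElement_def b, h.comm_mul hy' (inv_mem hy) hx, k2, ← h.comm_mul hy (inv_mem hy) hx]
  simp

structure At (E : Subgroup G) (u : G) : Prop where
  Qn : Qo u ≤ N(E)
  cW : C(E ⊓ Qo u) ≤ C(E)
  cD : C(Qo u ⊓ C(E)) ≤ E
  cardD : #(Qo u ⊓ C(E)) = 2 ^ 17
  e1 : ∀ w ∈ Qo u ⊔ E, w ∉ Qo u → Qo u ⊓ C[w] ≤ C(E)
  e2 : ∀ w ∈ Qo u ⊔ E, w ∉ Qo u → C[u] ⊓ C[w] ≤ N(E)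
  e3 : ∀ w ∈ Qo u ⊔ E, w ∉ Qo u → w * w = 1 → w ∈ C(E)

theorem At.cj {E : Subgroup G} {u : G} (a : At E u) (g : G) : At (cj g E) (g * u * g⁻¹) := by
  have k : ∀ w ∈ Qo (g * u * g⁻¹) ⊔ H19.cj g E, w ∉ Qo (g * u * g⁻¹) → ∃ v ∈ Qo u ⊔ E, v ∉ Qo u ∧ g * v * g⁻¹ = w := fun w b c => by
    rw [← cj_Qo, ← cj_sup] at b
    obtain ⟨v, d, rfl⟩ := mem_cj'.1 b
    exact ⟨v, d, fun t => c (Qo_conj t g), rfl⟩
  refine ⟨?_, ?_, ?_, ?_, fun w b c => ?_, fun w b c => ?_, fun w b c d => ?_⟩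
  · simpa only [← cj_Qo, ← cj_norm, cj_le_cj] using a.Qn
  · simpa only [← cj_Qo, ← cj_cent, ← cj_inf, cj_le_cj] using a.cW
  · simpa only [← cj_Qo, ← cj_cent, ← cj_inf, cj_le_cj] using a.cD
  · simpa only [← cj_Qo, ← cj_cent, ← cj_inf, card_cj] using a.cardD
  · obtain ⟨v, b', c', rfl⟩ := k w b c
    simpa only [← cj_Qo, ← cj_cent, ← cj_cent1, ← cj_inf, cj_le_cj] using a.e1 v b' c'
  · obtain ⟨v, b', c', rfl⟩ := k w b c
    simpa only [← cj_norm, ← cj_cent1, ← cj_inf, cj_le_cj] using a.e2 v b' c'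
  · obtain ⟨v, b', c', rfl⟩ := k w b c
    rw [← cj_cent, conj_mem_cj]
    exact a.e3 v b' c' (by simpa [conj_mul] using d)

section
variable {z s : G} {f : C[z] →* Spor.Co1} {R : G → Lam → Prop} {e : V10 → G} (h : Ten (Qo z) (Qo s) s f R e)
include h

theorem memQz {y : V10} : e y ∈ Qo z ↔ y ∈ W0 := ⟨fun a => by_contra fun n => h.nQ
  ((mul_mem_cancel_left a).1 (h.par.add y f0 ▸ h.WQ (h.par.mem_sub.2 (add_f0 n)))), fun a => h.WQ (h.par.mem_sub.2 a)⟩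

theorem EQ : h.E ⊓ Qo z = h.W := le_antisymm (by rintro _ ⟨⟨y, -, rfl⟩, a⟩; exact h.par.mem_sub.2 ((memQz h).1 a))
  (le_inf h.WE h.WQ)

theorem dec {w : G} (a : w ∈ Qo z ⊔ h.E) (b : w ∉ Qo z) : ∃ q ∈ Qo z, w = q * e f0 := by
  obtain ⟨q, c, _, ⟨y, -, rfl⟩, rfl⟩ := (mem_sup_of_norm ((h.EC.trans (cent_le_cent1 (h.WE h.zW))).trans h.M.le.norm)).1 a
  exact ⟨q * e (y + f0), mul_mem c ((memQz h).2 (add_f0 fun t => b (mul_mem c ((memQz h).2 t)))), by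
    rw [h.par.add, mul_assoc, mul_assoc, h.par.sq, mul_one]⟩

theorem Aw {w : G} (a : w ∈ Qo z ⊔ h.E) (b : w ∉ Qo z) : A f w ε := by
  obtain ⟨q, c, rfl⟩ := dec h a b
  simpa using (h.M.aQ c).mul h.aε

theorem fixK {x : G} {v : Lam} (a : R x v) (c : Cg (ε • v) v) : x ∈ C(h.E) := by
  have k := (h.M.rk (h.M.comm h.aε a)).2 (Cg.add_zero.2 c)
  refine h.K_eq ▸ h.par.mem_cent.2 (W0_ind (by simp [h.par.zero]) (fun i n => mul_inv_eq_iff_eq_mul.2 ?_)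
    fun x _ y _ a b => by rw [h.par.add, ← conj_mul, a, b])
  by_cases m : i = .inl 0
  · rw [m, h.ez]; exact h.M.le.es.cent x (h.M.mem a)
  obtain ⟨y, b, t⟩ := h.ey i ⟨m, n⟩
  rw [t, comm_fix h.M.le.es (h.M.le.norm h.aε.1) (h.M.mem a) (h.M.mem b) k]

theorem at0 : At h.E z := by
  refine ⟨h.Q_norm, by rw [EQ h, h.K_eq], by rw [← h.K_eq, h.cent_D], by rw [← h.K_eq, h.card_D], fun w a b x c => ?_,
    fun w a b c d => h.norm_W ⟨d.1, mem_norm_of_cj_le (cj_le_iff.2 ?_)⟩, fun w a b c => ?_⟩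
  · obtain ⟨v, r⟩ := h.M.tot x c.1
    exact fixK h r (h.fix_of (Aw h a b) r (mem_cent1.1 c.2))
  · rintro _ ⟨x, m, rfl⟩
    rw [mem_cj_inv]
    have cz : c * z * c⁻¹ ∈ h.W := by rw [mem_cent1.1 d.1, mul_inv_cancel_right]; exact h.zW
    refine W0_ind (P := fun x => c * e x * c⁻¹ ∈ h.W) (by simp [h.par.zero]) (fun i n => ?_)
      (fun x _ y _ a b => by rw [h.par.add, ← conj_mul]; exact mul_mem a b) x m
    by_cases t : i = .inl 0
    · rwa [t, h.ez]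
    obtain ⟨y, r, t⟩ := h.ey i ⟨t, n⟩
    obtain ⟨γ, k⟩ := A.tot (f := f) d.1
    have k1 : c * ⁅w, y⁆ * c⁻¹ ∈ h.W := by
      have := h.memW (h.M.comm (Aw h a b) (h.M.act k r)) (ε_WL _)
      rwa [show ⁅w, c * y * c⁻¹⁆ = c * ⁅c⁻¹ * w * c, y⁆ * c⁻¹ by simp only [commutatorElement_def]; group,
        mul_assoc c⁻¹, ← mem_cent1.1 d.2, inv_mul_cancel_left] at this
    rcases (h.M.uniq (h.M.comm (Aw h a b) r) (h.M.comm h.aε r)).1 (.refl _) with k | k <;> rw [t, k]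
    exacts [k1, by rw [← conj_mul]; exact mul_mem k1 cz]
  · obtain ⟨q, hq, rfl⟩ := dec h a b
    obtain ⟨v, r⟩ := h.M.tot q hq
    refine mul_mem (fixK h r ((h.M.uniq (h.M.act h.aε r) (h.M.inv r)).2 (.inl ?_))) (h.EC (h.par.mem f0))
    rw [inv_eq_of_mul_eq_one_right (h.par.sq f0), inv_eq_iff_mul_eq_one, ← c]; group

theorem cls (x : V10) (n : x ≠ 0) : q10 x = 0 ↔ IsConj z (e x) := by
  obtain ⟨θ, h1, -, h2⟩ := h.omega
  refine ⟨fun a => let ⟨g, b⟩ := h2 x n a; isConj_iff.2 ⟨g, by rw [← b, h1, h.ez]⟩, fun a => by_contra fun b => ?_⟩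
  obtain ⟨y, y0, y1, y2⟩ : ∃ y, y ≠ 0 ∧ q10 y = 0 ∧ polar q10 y x = 0 := by
    by_cases c : x ∈ W0
    · exact ⟨z0, z0_ne, q_single _, mem_W0'.1 c⟩
    obtain ⟨c, c1, c2, c3⟩ := exists_Q_eq_of_two nd10 (by simp) z0_ne (x := x) (fun m => by
      obtain ⟨r, rfl⟩ := Submodule.mem_span_singleton.1 m
      exact c (W0.smul_mem _ z0_mem)) 1 0 0
    exact ⟨c, by rintro rfl; rw [polar_zero_right] at c1; exact zero_ne_one c1, c3, by rwa [polar_comm]⟩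
  obtain ⟨g, rfl⟩ := h2 y y0 y1
  have m : (θ g)⁻¹.1 x ∈ W0 := mem_W0'.2 (by rwa [orth_polar_inv])
  have c : IsConj z (e ((θ g)⁻¹.1 x)) := by rw [← map_inv, h1]; exact cjB a _
  have q : q10 ((θ g)⁻¹.1 x) ≠ 0 := by rwa [orth_Q]
  obtain (t | t) | ⟨v, k, t | t⟩ := tab m
  · exact q (by rw [t, map_zero])
  · exact q (t ▸ q_single _)
  · exact (a2_of h.M h.L (h.M.cg (h.lift _ m) k) t.2).2.2 c
  · exact q t.1

theorem ark0 (g : G) : Ark z (cj g h.E) := by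
  obtain ⟨θ, h1, h3, h2⟩ := h.omega
  have p : Par fun x => g * e x * g⁻¹ := ⟨fun x y => by rw [h.par.add, conj_mul], fun x a => h.par.inj x (by simpa using a)⟩
  have k : ∀ u ∈ cj g h.E, IsConj z u → At (cj g h.E) u := fun u a b => by
    obtain ⟨_, ⟨x, -, rfl⟩, rfl⟩ := mem_cj'.1 a
    have n : x ≠ 0 := fun t => h.M.le.es.z1 (isConj_one_left.1 (by simpa [t, h.par.zero] using b))
    obtain ⟨k, rfl⟩ := h2 x n ((cls h x n).2 (b.trans (isConj_iff.2 ⟨g, rfl⟩).symm))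
    have := (at0 h).cj k
    rw [cj_of_mem_norm k.2] at this
    rw [h1, h.ez]
    exact this.cj g
  refine ⟨⟨_, p, Subgroup.ext fun x => ⟨?_, fun a => ?_⟩, fun x n => (cls h x n).trans
    ⟨fun a => cjB a g, fun a => a.trans (isConj_iff.2 ⟨g, rfl⟩).symm⟩, fun x y n a => ?_, fun n a x b c => ?_⟩,
    by rw [← cj_cent, card_cj, h.card_K], by rw [← cj_cent, ← cj_comm, h.special.1], fun u a b => (k u a b).Qn,
    fun u a b => (k u a b).cW, fun u a b => (k u a b).cD, fun u a b => (k u a b).cardD, fun u a b => (k u a b).e1,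
    fun u a b => (k u a b).e2, fun u a b => (k u a b).e3⟩
  · rintro ⟨y, -, rfl⟩; exact conj_mem_cj.2 (h.par.mem y)
  · obtain ⟨_, ⟨y, -, rfl⟩, rfl⟩ := mem_cj'.1 a; exact p.mem y
  · obtain ⟨k, rfl⟩ := h2 x n a
    obtain ⟨y, rfl⟩ := (θ k).1.surjective y
    rw [← cj_Qo, conj_mem_cj, h1, h1, h.ez, ← cj_Qo, conj_mem_cj, orth_polar, memQz h, mem_W0']
  · rw [← cj_norm, mem_cj] at a
    have t : θ ⟨_, a⟩ = refl q10 x := orth_ext fun y => h.par.injective (by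
      rw [h1, refl_apply, b, inv_one, one_mul, sub_eq_add_neg, neg_self, ← (MulAut.conj g).injective.eq_iff,
        MulAut.conj_apply, MulAut.conj_apply, ← c]
      simp [mul_assoc])
    have := Abelianization.commutator_subset_ker (dickson q10) (h3.le ⟨_, t⟩)
    rw [MonoidHom.mem_ker, dickson_refl nd10 (.inr (by simp)) (b ▸ one_ne_zero)] at this
    exact absurd this (by decide)

end

theorem ar : AR := fun _ _ _ _ _ _ _ _ h _ g => ark0 h g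

end H15.MX
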