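import Cfsg.Agent.H15.MX0

/-! 2A-pure subgroups of `Q`. -/

set_option autoImplicit false
set_option linter.unusedSectionVars false

namespace H15.MX
open Cfsg H15 H19 H0 H0.Mo H0.Y H15.ML Subgroup
open scoped commutatorElement

variable {G : Type} [Group G] [Finite G] {z s p q r : G} {f : C[z] →* Spor.Co1} {R : G → Lam → Prop} {X X' : Subgroup G}

theorem Pure.sq (a : Pure z X) : ∀ x ∈ X, x * x = 1 := fun x b => by
  by_cases n : x = 1
  exacts [by simp [n], (a x b n).1]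

theorem Pure.cj (a : Pure z X) (g : G) : Pure z (cj g X) := fun _ b n => by
  obtain ⟨x, c, rfl⟩ := mem_cj'.1 b
  exact (a x c (by simpa using n)).cj g

theorem fixmove {Q : Subgroup G} (E : ES Q z) (hp : p ∈ Q) (hq : q ∈ Q) (n : q ∉ zpowers z ⊔ zpowers p) :
    ∃ y ∈ Q, y * p * y⁻¹ = p ∧ y * q * y⁻¹ = q * z := by
  by_contra! k
  refine n ((E.cent_four hp).le ⟨hq, mem_cent.2 fun y hy => by_contra fun t => ?_⟩)
  exact k y hy.1 (by rw [mem_cent1.1 hy.2, mul_inv_cancel_right]) (E.conj_eq hy.1 hq t)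

theorem ex_out {A : Subgroup G} (n : #A < #X) : ∃ x ∈ X, x ∉ A := by
  by_contra! k
  exact absurd (card_le k) (by omega)

theorem four_of (a : Pure z X) (hp : p ∈ X) (p1 : p ≠ 1) (hq : q ∈ X) (n : q ∉ zpowers p) :
    q ≠ 1 ∧ p * q ≠ 1 ∧ p * q = q * p ∧ #(zpowers p ⊔ zpowers q) = 4 := by
  have c : p * q = q * p := mem_cent.1 (comm_of_sq a.sq hq) p hp
  have q1 : q ≠ 1 := fun e => n (e ▸ one_mem _)
  have k : p ≠ q := fun e => n (e ▸ mem_zpowers _)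
  exact ⟨q1, fun e => k (by rw [eq_inv_of_mul_eq_one_left e, (a q hq q1).inv]), c,
    card_four (a.sq p hp) (a.sq q hq) c p1 q1 k⟩

section
variable (M : MT (Qo z) z f R) (L : LP (Qo z) z (Qo s) s)
include M L

theorem nz0 {v : Lam} (a : A2 z p) (r : R p v) : sqNorm (cf v) ≠ 0 ∧ sqNorm (cf v) ≠ 64 :=
  ⟨fun e => (M.le.es.mem_zp.1 ((M.rk r).2 (by rw [show v = 0 from Subtype.ext (sqNorm_eq_zero e)]; exact .refl 0))).elim
    a.2.1 fun t => a.2.2 (t ▸ .refl _), fun e => a.2.2 (b2_of M L r e).1⟩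

theorem tri {v : Lam} (rp : R p v) (n : sqNorm (cf v) = 32) (hq : q ∈ Qo z) (b : A2 z q) (c : A2 z (p * q))
    (k : p * q = q * p) : ∃ w, R q w ∧ sqNorm (cf w) = 32 ∧ dotInt (cf v) (cf w) = -16 := by
  have t : ∀ w, R q w → sqNorm (cf w) = 32 → dotInt (cf v) (cf w) ≤ 0 → dotInt (cf v) (cf w) = -16 := fun w rw m l => by
    have k1 := (M.comm_iff L rp rw).1 k
    have k2 := nz0 M L c (M.mul rp rw)
    have k3 := sqNorm_nonneg (cf (v + w))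
    rw [show cf (v + w) = cf v + cf w from rfl, sqNorm_add, n, m] at k2 k3
    omega
  obtain ⟨w, rw, m⟩ := of_a2 M L hq b
  by_cases l : dotInt (cf v) (cf w) ≤ 0
  · exact ⟨w, rw, m, t w rw m l⟩
  have m' : sqNorm (cf (-w)) = 32 := (sqNorm_neg _).trans m
  exact ⟨-w, M.cg rw (Cg.neg w).symm, m', t _ (M.cg rw (Cg.neg w).symm) m' (by
    rw [show cf (-w) = -cf w from rfl, dotInt_neg_right]; omega)⟩

theorem le4 (l : X ≤ Qo z) (a : Pure z X) : #X ≤ 4 := by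
  by_contra! k
  obtain ⟨p, hp, p1⟩ := ex_out (X := X) (A := ⊥) (by rw [card_bot]; omega)
  rw [mem_bot] at p1
  obtain ⟨q, hq, n⟩ := ex_out (X := X) (A := zpowers p) (by rw [Nat.card_zpowers, orderOf_inv2 p1 (a.sq p hp)]; omega)
  obtain ⟨q1, pq, c, c4⟩ := four_of a hp p1 hq n
  obtain ⟨r, hr, n'⟩ := ex_out (X := X) (A := zpowers p ⊔ zpowers q) (by omega)
  obtain ⟨r1, pr, c', -⟩ := four_of a hp p1 hr fun t => n' (mem_sup_left t)
  obtain ⟨-, qr, c'', -⟩ := four_of a hq q1 hr fun t => n' (mem_sup_right t)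
  obtain ⟨v, rp, nv⟩ := of_a2 M L (l hp) (a p hp p1)
  obtain ⟨w, rq, nw, d1⟩ := tri M L rp nv (l hq) (a q hq q1) (a _ (mul_mem hp hq) pq) c
  obtain ⟨x, rr, nx, d2⟩ := tri M L rp nv (l hr) (a r hr r1) (a _ (mul_mem hp hr) pr) c'
  obtain ⟨y, rr', ny, d3⟩ := tri M L rq nw (l hr) (a r hr r1) (a _ (mul_mem hq hr) qr) c''
  have k2 := nz0 M L (a _ (mul_mem (mul_mem hp hq) hr) fun e => n' (by
    rw [eq_inv_of_mul_eq_one_right e]; exact inv_mem (mul_mem_sup (mem_zpowers p) (mem_zpowers q)))) (M.mul (M.mul rp rq) rr)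
  rw [show cf (v + w + x) = cf v + cf w + cf x from rfl, sqNorm_add, sqNorm_add, dotInt_add_left, nv, nw, nx, d1, d2] at k2
  rcases ((M.uniq rr' rr).2 (.inl rfl)).short (by omega) (by omega) with e | e <;> rw [e] at d3
  · omega
  · rw [show cf (-x) = -cf x from rfl, dotInt_neg_right] at d3; omega

theorem std4 (l : X ≤ Qo z) (a : Pure z X) (c : #X = 4) : ∃ k p q, cj k X = zpowers p ⊔ zpowers q ∧ R p lU ∧ R q x4600 ∧
    q ∉ zpowers z ⊔ zpowers p ∧ p ∉ zpowers z ⊔ zpowers q := by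
  obtain ⟨p, hp, p1⟩ := ex_out (X := X) (A := ⊥) (by rw [card_bot]; omega)
  rw [mem_bot] at p1
  obtain ⟨q, hq, n⟩ := ex_out (X := X) (A := zpowers p) (by rw [Nat.card_zpowers, orderOf_inv2 p1 (a.sq p hp)]; omega)
  obtain ⟨q1, pq, c', c4⟩ := four_of a hp p1 hq n
  obtain ⟨v, rp, nv⟩ := of_a2 M L (l hp) (a p hp p1)
  obtain ⟨w, rq, nw, d⟩ := tri M L rp nv (l hq) (a q hq q1) (a _ (mul_mem hp hq) pq) c'
  obtain ⟨γ, rfl, rfl⟩ := pair_std trans4600 (trans_min nv) (w := w) ⟨nw, d⟩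
  obtain ⟨k, ak⟩ := M.asur γ⁻¹
  have t : ∀ {p q}, p ∈ X → q ∈ X → p ≠ 1 → q ≠ 1 → p * q ≠ 1 → k * q * k⁻¹ ∉ zpowers z ⊔ zpowers (k * p * k⁻¹) :=
    fun {p q} hp hq p1 q1 pq m => by
      have e : k * z * k⁻¹ = z := by rw [mem_cent1.1 ak.1, mul_inv_cancel_right]
      rw [← e, ← cj_zpowers, ← cj_zpowers, ← cj_sup, conj_mem_cj,
        mem_four M.le.es.zz (a.sq p hp) (M.le.es.cent p (l hp)).symm] at m
      rcases m with m | m | m | m
      · exact q1 m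
      · exact (a q hq q1).2.2 (m ▸ .refl _)
      · exact pq (by rw [m, a.sq p hp])
      · exact (a _ (mul_mem hp hq) pq).2.2 (by rw [m, ← M.le.es.cent p (l hp), ← mul_assoc, a.sq p hp, one_mul])
  refine ⟨k, _, _, ?_, by simpa using M.act ak rp, by simpa using M.act ak rq, t hp hq p1 q1 pq, t hq hp q1 p1 (c' ▸ pq)⟩
  rw [← cj_zpowers, ← cj_zpowers, ← cj_sup, cj_inj]
  exact (eq_of_le_of_card_eq (sup_le (zpowers_le.2 hp) (zpowers_le.2 hq)) (by omega)).symm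

theorem conj4 (l : X ≤ Qo z) (a : Pure z X) (l' : X' ≤ Qo z) (a' : Pure z X') (c : #X = #X') : ∃ g, cj g X = X' := by
  have E := M.le.es
  obtain ⟨n, hn⟩ := (pg_of_sq a.sq).isPGroup.exists_card_eq
  have := le4 M L l a
  have two : ∀ {X : Subgroup G}, X ≤ Qo z → Pure z X → #X = 2 → ∃ p g, X = zpowers p ∧ R p (g • lU) := fun {X} l a c => by
    obtain ⟨p, hp, p1⟩ := ex_out (X := X) (A := ⊥) (by rw [card_bot]; omega)
    rw [mem_bot] at p1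
    obtain ⟨g, r⟩ := M.typ2 L (l hp) (orderOf_inv2 p1 (a.sq p hp)) (a p hp p1).2.2
    exact ⟨p, g, (eq_of_le_of_card_eq (zpowers_le.2 hp) (by rw [Nat.card_zpowers, orderOf_inv2 p1 (a.sq p hp), c])).symm, r⟩
  obtain e | e | e : #X = 1 ∨ #X = 2 ∨ #X = 4 := by
    have : n ≤ 2 := (Nat.pow_le_pow_iff_right (by norm_num : 1 < 2)).1 (by omega)
    interval_cases n <;> simp [hn]
  · exact ⟨1, by rw [card_eq_one.1 e, card_eq_one.1 (c.symm.trans e), cj_bot]⟩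
  · obtain ⟨p, g, rfl, r⟩ := two l a e
    obtain ⟨p', g', rfl, r'⟩ := two l' a' (c ▸ e)
    obtain ⟨k, -, rfl⟩ := M.conj_type r r' nz_U
    exact ⟨k, cj_zpowers _ _⟩
  obtain ⟨k, p, q, e1, rp, rq, n1, n2⟩ := std4 M L l a e
  obtain ⟨k', p', q', e2, rp', rq', -⟩ := std4 M L l' a' (c ▸ e)
  obtain ⟨x, hx, x1, x2⟩ := fixmove E (M.mem rp) (M.mem rq) n1
  obtain ⟨y, hy, y1, y2⟩ := fixmove E (M.mem rq) (M.mem rp) n2
  obtain ⟨g, g1, g2⟩ : ∃ g, g * p * g⁻¹ = p' ∧ g * q * g⁻¹ = q' := by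
    rcases (M.uniq rp rp').1 (.refl _) with rfl | rfl <;> rcases (M.uniq rq rq').1 (.refl _) with rfl | rfl
    exacts [⟨1, by simp⟩, ⟨x, x1, x2⟩, ⟨y, y2, y1⟩, ⟨x * y, by
      rw [show x * y * p * (x * y)⁻¹ = x * (y * p * y⁻¹) * x⁻¹ by group, y2, ← conj_mul, x1, E.cent x hx, mul_inv_cancel_right], by
      rw [show x * y * q * (x * y)⁻¹ = x * (y * q * y⁻¹) * x⁻¹ by group, y1, x2]⟩]
  exact ⟨k'⁻¹ * (g * k), by rw [cj_mul, cj_mul, e1, cj_sup, cj_zpowers, cj_zpowers, g1, g2, ← e2, cj_inv_cj]⟩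

end

theorem ta : TA := fun G _ _ z h => by
  obtain ⟨s, f, R, L, -, M, -⟩ := h.ex
  have k : ∀ {u} {X : Subgroup G}, IsConj z u → X ≤ Qo u → ∃ g, cj g X ≤ Qo z := fun b l => by
    obtain ⟨g, rfl⟩ := isConj_iff.1 b
    exact ⟨g⁻¹, le_cj_iff.1 (cj_Qo g z ▸ l)⟩
  refine ⟨fun u b X l a => ?_, fun u u' b b' X l X' l' a a' c => ?_⟩
  · obtain ⟨g, m⟩ := k b l
    exact card_cj g X ▸ le4 M L m (a.cj g)
  · obtain ⟨g, m⟩ := k b l
    obtain ⟨g', m'⟩ := k b' l'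
    obtain ⟨t, e⟩ := conj4 M L m (a.cj g) m' (a'.cj g') (by simpa using c)
    exact ⟨g'⁻¹ * (t * g), by rw [cj_mul, cj_mul, e, cj_inv_cj]⟩

end H15.MX
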