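import Cfsg.Agent.H15.MX4

/-! Singular subgroups of order 16. Data generated by tools/h15/mx/sq.py. -/

set_option autoImplicit false
set_option linter.unusedSectionVars false

namespace H15.MX
open Cfsg H15 H19 H0 H0.Mo H0.Y H15.ML Subgroup
open scoped commutatorElement

def BT : ℕ := 0x8208a08a08228208a28a28a08208208208208208208208a08208228a28a08208a08228a08228208208a28228a08208208208a28a08208208a08a08a08228208208208a28a08a08208208228208a08a28208228a08208a08a08208208208228a08228228a08228208a08a08208208208a08208228a28a08208a08228a08208208208208208a08208a28228a28208228a08208208208208228208228a08a28a08208a28208208208208208a08a08228208a28a28a08208208a08208a08a08228a28208a08208a07618618e18618e18e38618e38e18e38e3863820820820820824820820820820820920820820820820820820820820820924820820820820820820820820820824920820820820820920820820820820820820820820820820824920820820820824820820820820820920824920820820820820820820820820820824924a20820820820820820820820820820820820820820820820820820820820820820820820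
def WT : ℕ := 0x8207a07a081e8207a28a28a08208208208208208208207a08208228a28a08207a081e7a081e82082089e8227a082082082089e8a08208207a07a08a082282082082079e8a08a082082081e8208a07a282081e7a08208a08a082082082081e8a082281e7a081e8208a08a0820824820820820820820820820820824820820820820820820820824920820820820820820820820820820824820820820820820920820820820820920820820820820820920820820820920920820820820820820820820820820820824820820920820820820820820820820820820820820820820820820820820824920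
def RT : ℕ := 0x82082082092082082082082082082092481c820820820820820820824920924820820820920820820820820820820820924820820824820820820820820820820820924820820820920820820820820820824920820820820824820820820820820820824920820820820820920820820820820820820820820820820824820820820820820820820820820820820820

noncomputable def bv (k : Fin 20) : Lam := lm (ML.tv BT k)
theorem cf_bv (k : Fin 20) : cf (bv k) = ML.tv BT k := cf_lm (by revert k; decide +kernel)

abbrev I7 := Fin 4 ⊕ Fin 3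
abbrev V7 := I7 → ZMod 2
def ps : I7 → Fin 20 := Sum.elim (fun i => ⟨i, by omega⟩) fun i => ⟨4 + i, by omega⟩
def pw (i : I7) : Fin 20 := ps i + 7
def pc (i : Fin 12) : Fin 20 := ⟨8 + i, by omega⟩
/-- the number of the last three coordinates that are not zero -/
def wt (t : Fin 3 → ZMod 2) : ℕ := (t 0).val + (t 1).val + (t 2).val
def tl (a : V7) : Fin 3 → ZMod 2 := fun i => a (.inr i)
def up (t : Fin 3 → ZMod 2) : V7 := Sum.elim 0 t
def W7 : Submodule (ZMod 2) V7 := LinearMap.ker (LinearMap.funLeft _ _ Sum.inr)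

theorem mem_W7 {a : V7} : a ∈ W7 ↔ tl a = 0 := .rfl
theorem tl_add (a b : V7) : tl (a + b) = tl a + tl b := rfl
theorem tl_up (t : Fin 3 → ZMod 2) : tl (up t) = t := rfl
theorem card_W7 : Nat.card W7 = 16 := by
  rw [show Nat.card W7 = Nat.card {a : V7 // tl a = 0} from rfl, Nat.card_eq_fintype_card]
  decide +kernel

theorem bv_dot (i j : I7) : (16 ∣ dotInt (cf (bv (ps i))) (cf (bv (ps j))) ∧ 32 ∣ sqNorm (cf (bv (ps i)))) ∧ Ev (bv (ps i)) ∧
    (j ≠ .inl 0 → (16 ∣ dotInt (cf (bv (ps i))) (cf (bv (pw j))) ↔ i ≠ j)) := by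
  simp only [Ev, cf_bv]; revert i j; decide +kernel
theorem bv0 : bv 0 = 0 := Subtype.ext ((cf_bv _).trans (by decide +kernel))
theorem bv1 : bv 1 = lE := Subtype.ext ((cf_bv _).trans (by decide +kernel))
theorem bv3 : Cg (bv 4 + bv 7) (bv 3) := cg_of (x := ML.tv BT 4 + ML.tv BT 7) (congrArg₂ (· + ·) (cf_bv 4) (cf_bv 7)) (cf_bv _) (by decide +kernel)
theorem n64 (i : Fin 4) (h : i ≠ 0) : sqNorm (cf (bv (ps (.inl i)))) = 64 := by rw [cf_bv]; revert i; decide +kernel

/-- pairs (minimal vector, sextet) -/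
def pk : Fin 13 → Fin 20 × Fin 4 := ![(4, 2), (5, 2), (6, 2), (7, 2), (4, 3), (5, 3), (6, 3), (14, 2), (15, 2), (16, 2),
  (17, 2), (18, 3), (19, 3)]
theorem pk_ok (k : Fin 13) : (pk k).2 ≠ 0 ∧ sqNorm (cf (bv (pk k).1)) = 32 ∧
    ∃ w, Cg (bv (pk k).1 + bv (ps (.inl (pk k).2))) w ∧ sqNorm (cf w) = 32 := by
  refine ⟨by revert k; decide, by rw [cf_bv]; revert k; decide +kernel, ?_⟩
  obtain ⟨w, a, b⟩ := short_of (v := bv (pk k).1 + bv (ps (.inl (pk k).2))) (x := ML.tv BT (pk k).1 + ML.tv BT (ps (.inl (pk k).2)))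
    (r := ML.tv WT k) (by rw [← cf_bv, ← cf_bv]; rfl) (by revert k; decide +kernel)
  exact ⟨w, a, by rw [b]; clear a b; revert k; decide +kernel⟩

theorem rep_ok (t : Fin 3 → ZMod 2) (h : t ≠ 0) : ∃ w, Cg (ML.lam (fun i => bv (ps i)) (up t)) w ∧
    sqNorm (cf w) = if wt t = 1 then 32 else 64 := by
  obtain ⟨w, a, b⟩ := short_of (cf_lam (fun i => cf_bv (ps i)) (up t))
    (r := ML.tv RT ((t 0).val + 2 * (t 1).val + 4 * (t 2).val)) (by clear h; revert t; decide +kernel)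
  exact ⟨w, a, by rw [b]; clear a b; revert t; decide +kernel⟩

theorem span20 {T : AddSubgroup Lam} (h1 : ∀ v, Ev v → v ∈ T) (h2 : ∀ i, bv (pc i) ∈ T) : T = ⊤ := span_BZ T fun k hk => by
  let x : Fin 12 → ZMod 2 := fun i => if (getT 0x397cc7f21c02d2366ad23803c03f2ae67e27f6000000000000000000000000000000000000000000000000000000000000000000000000 12 4095 k).testBit i then 1 else 0
  have := h1 (lv (gz BZ k) + ML.lam (fun i => bv (pc i)) x) (by
    have e : cf (lv (gz BZ k) + ML.lam (fun i => bv (pc i)) x) = pv (gz BZ k) + lamf (fun i => ML.tv BT (pc i)) x := by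
      rw [← cf_BZ hk, ← cf_lam (fun i => cf_bv (pc i))]; rfl
    rw [Ev, e]
    clear e; revert k; decide +kernel)
  simpa using sub_mem this (lam_mem h2 x)

variable {G : Type} [Group G] [Finite G] {z : G} {U : Subgroup G}

theorem T4.cj {g : G} (t : T4 z U g) (k : G) : T4 z (cj k U) (k * g * k⁻¹) := by
  have b : ∀ {x}, IsConj z (k * x * k⁻¹) → IsConj z x := fun a => a.trans (isConj_iff.2 ⟨k, rfl⟩).symm
  refine ⟨by rw [← cj_QU, card_cj, t.card], t.dist.cj k, fun g' d => ?_, fun s a s' a' c c' d => ?_,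
    fun s a s' a' c c' d d' e => ?_⟩
  · have := t.uniq _ (by simpa using d.cj k⁻¹)
    rw [mem_cj]; simpa [mul_assoc] using this
  · obtain ⟨s, m, rfl⟩ := mem_cj'.1 (cj_QU k U ▸ a)
    obtain ⟨s', m', rfl⟩ := mem_cj'.1 (cj_QU k U ▸ a')
    rw [conj_mul] at d
    simpa only [conj_mul, conj_mem_cj] using t.d2 s m s' m' (b c) (b c') (d.conj (isConj_iff.2 ⟨k, rfl⟩).symm)
  · obtain ⟨s, m, rfl⟩ := mem_cj'.1 (cj_QU k U ▸ a)
    obtain ⟨s', m', rfl⟩ := mem_cj'.1 (cj_QU k U ▸ a')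
    rw [← cj_Qo, conj_mem_cj] at e
    rw [conj_mem_cj] at d d'
    simpa only [conj_mul, conj_mem_cj] using t.d3 s m s' m' (b c) (b c') d d' e

theorem t4_of (h : MG z) {e : V7 → G} (p : Par e) (s : Sing z (p.sub W7)) (hz : z ∈ p.sub W7) (q : QU (p.sub W7) = p.grp)
    (c : ∀ t, t ≠ 0 → (IsConj z (e (up t)) ↔ wt t ≠ 1)) : T4 z (p.sub W7) (e (up 1)) := by
  have mU : ∀ {a}, e a ∈ p.sub W7 ↔ tl a = 0 := p.mem_sub
  have mQ : ∀ {u}, u ∈ p.sub W7 → u ≠ 1 → ∀ a, e a ∈ Qo u := fun m n a => mem_QU.1 (q.ge (p.mem a)) _ m n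
  have k : ∀ a, tl a ≠ 0 → (IsConj z (e a) ↔ wt (tl a) ≠ 1) := fun a n => by
    have m : e (up (tl a) + a) ∈ p.sub W7 := mU.2 (by rw [tl_add, tl_up, add_self])
    have t : e a = e (up (tl a)) * e (up (tl a) + a) := by rw [← p.add, ← add_assoc, add_self, zero_add]
    have i : IsConj (e (up (tl a))) (e a) := by
      by_cases o : e (up (tl a) + a) = 1
      · rw [t, o, mul_one]
      · exact t ▸ conj_mul' h (s _ m o).1 (mQ m o _) (fun u => n (mU.1 (u ▸ one_mem _) :)) fun u => n (mU.1 (u ▸ m) :)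
    exact ⟨fun b => (c _ n).1 (b.trans i.symm), fun b => ((c _ n).2 b).trans i⟩
  have hA : ∀ a, A2 z (e a) ↔ wt (tl a) = 1 := fun a => ⟨fun b => by_contra fun n => b.2.2 (by
      by_cases o : tl a = 0
      exacts [(s _ (mU.2 o) b.2.1).1, (k a o).2 n]), fun b => by
    have n : tl a ≠ 0 := fun o => by rw [o] at b; exact absurd b (by decide)
    exact ⟨p.sq a, fun o => n (mU.1 (o ▸ one_mem _)), fun o => (k a n).1 o b⟩⟩
  have hB : ∀ {a}, IsConj z (e a) → wt (tl a) ≠ 1 := fun b n => ((hA _).2 n).2.2 b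
  have ex : ∀ x ∈ QU (p.sub W7), ∃ a, e a = x := fun x m => let ⟨a, _, b⟩ := q.le m; ⟨a, b⟩
  refine ⟨by rw [q, p.card]; simp, ⟨q.ge (p.mem _), (c 1 (by decide)).2 (by decide), fun m => absurd (mU.1 m) (by decide),
    fun x m b n n' => ?_⟩, fun x d => ?_, fun x m x' m' b b' d => ?_, fun x m x' m' b b' n n' d => ?_⟩
  · obtain ⟨a, rfl⟩ := ex x m
    rw [← p.add, mU, tl_add, tl_up] at n'
    rw [← p.add, hA, tl_add, tl_up]
    exact (by decide : ∀ t : Fin 3 → ZMod 2, wt t ≠ 1 → t ≠ 0 → t + 1 ≠ 0 → wt (t + 1) = 1) _ (hB b) (mt mU.2 n) n'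
  · obtain ⟨a, rfl⟩ := ex x d.1
    rw [← p.add, mU, tl_add, tl_up]
    by_contra n
    obtain ⟨r, r1, r2, r3, r4⟩ := (by decide : ∀ t : Fin 3 → ZMod 2, wt t ≠ 1 → t ≠ 0 → t + 1 ≠ 0 →
      ∃ r, wt r ≠ 1 ∧ r ≠ 0 ∧ r + t ≠ 0 ∧ wt (r + t) ≠ 1) _ (hB d.2.1) (mt mU.2 d.2.2.1) n
    have := d.2.2.2 _ (q.ge (p.mem (up r))) ((c r r2).2 r1) (mt mU.1 r2) (by rwa [← p.add, mU])
    exact r4 ((hA (up r + a)).1 (p.add _ _ ▸ this))
  · obtain ⟨a, rfl⟩ := ex x m
    obtain ⟨a', rfl⟩ := ex x' m'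
    rw [← p.add, hA, tl_add] at d
    rw [← p.add, ← p.add, mU, mU, tl_add, tl_add, tl_up]
    exact (by decide : ∀ t t' : Fin 3 → ZMod 2, wt t ≠ 1 → wt t' ≠ 1 → wt (t + t') = 1 → t + 1 = 0 ∨ t' + 1 = 0) _ _
      (hB b) (hB b') d
  · obtain ⟨a, rfl⟩ := ex x m
    obtain ⟨a', rfl⟩ := ex x' m'
    rw [← p.add, mU, tl_add]
    by_contra o
    have o' := mul_b h b b' d fun t => o (by rw [p.injective t, add_self])
    rw [← p.add] at o'
    obtain ⟨r, r1, r2, r3, r4⟩ := (by decide +kernel : ∀ t t' : Fin 3 → ZMod 2, wt t ≠ 1 ∧ wt t' ≠ 1 ∧ t ≠ 0 ∧ t' ≠ 0 ∧ t + t' ≠ 0 ∧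
      wt (t' + t) ≠ 1 → ∃ r : Fin 3 → ZMod 2, wt r = 1 ∧ wt (r + t) = 1 ∧ wt (r + t') = 1 ∧ wt (r + t' + t) ≠ 1) _ _
      ⟨hB b, hB b', mt mU.2 n, mt mU.2 n', o, hB o'⟩
    have z1 := ne1 h (.refl z)
    have k1 := memQ h (.refl z) b (mQ hz z1 a) (mQ hz z1 (up r)) ((hA _).2 r1) (p.add _ _ ▸ (hA _).2 r2)
    have k2 : A2 z (e (up r + a')) := (hA _).2 r3
    exact r4 ((hA (up r + a' + a)).1 (p.add _ a ▸ k2.conj (conj_mul' h b (p.add _ a' ▸ mul_mem k1 d) k2.2.1
      fun t => k2.2.2 (t ▸ b))))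

theorem ex_t4 (h : MG z) : ∃ U g, Sing z U ∧ #U = 16 ∧ T4 z U g := by
  obtain ⟨_, f, R, L₀, -, M, -⟩ := h.ex
  have E := M.le.es
  choose y hy using fun k => M.sur (bv k)
  have r : R (y 1) lE := bv1 ▸ hy 1
  obtain ⟨b, L⟩ := bs0 h M r
  let γ : I7 → G := fun i => if i = .inl 0 then z else y (ps i)
  have rγ : ∀ i, R (γ i) (bv (ps i)) := fun i => by
    simp only [γ]
    split_ifs with t
    exacts [M.zero (mem_zpowers z) (by rw [t, show ps (.inl 0) = 0 from rfl, bv0]; exact .refl 0), hy _]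
  obtain ⟨e, e1, e2⟩ := exists_par γ (fun i j => (M.comm_iff L (rγ i) (rγ j)).2 (bv_dot i j).1.1)
    fun i => (M.sq_iff L (rγ i)).2 (bv_dot i i).1.2
  have e0 : e 0 = 1 := by simpa using e1 0 0
  have ez : e (Pi.single (.inl 0) 1) = z := e2 _
  have lift := pi_ind (P := fun a => R (e a) (ML.lam (fun i => bv (ps i)) a)) (by rw [e0, lam_zero]; exact M.zero (one_mem _) (.refl 0))
    (fun i => by rw [e2, lam_single]; exact rγ i) fun a a' c d => e1 a a' ▸ M.cg (M.mul c d) (lam_add _ a a').symm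
  have add : ∀ {x x'} j, x ∈ Qo z → x' ∈ Qo z → lg ⁅x * x', y (pw j)⁆ = lg ⁅x, y (pw j)⁆ + lg ⁅x', y (pw j)⁆ :=
    fun j a c => by rw [E.comm_mul a c (M.mem (hy _)), E.lg_mul (E.comm_mem a (M.mem (hy _))) (E.comm_mem c (M.mem (hy _)))]
  have key : ∀ a j, j ≠ .inl 0 → lg ⁅e a, y (pw j)⁆ = a j := fun a j n => by
    refine pi_ind (P := fun a => lg ⁅e a, y (pw j)⁆ = a j) (by simp [e0, lg_eq_zero]) (fun i => ?_)
      (fun a a' c d => by rw [e1, add j (M.mem (lift a)) (M.mem (lift a')), c, d]; rfl) a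
    have := lg_eq_zero.trans (comm_eq_one.trans ((M.comm_iff L (rγ i) (hy (pw j))).trans ((bv_dot i j).2.2 n)))
    rw [e2, Pi.single_apply]
    split_ifs with t
    exacts [(zmod2_cases _).resolve_left fun u => this.1 u t.symm, this.2 (Ne.symm t)]
  have p : Par e := ⟨e1, fun a c => by
    have k : ∀ j ≠ .inl 0, a j = 0 := fun j n => by rw [← key a j n, c, lg_eq_zero]; simp
    rcases zmod2_cases (a (.inl 0)) with t | t
    · exact funext fun j => if u : j = .inl 0 then u ▸ t else k j u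
    · refine absurd (ez.symm.trans (.trans (congrArg e (funext fun j => ?_)) c)) E.z1
      by_cases u : j = .inl 0
      exacts [by simp [u, t], by simp [u, k j u]]⟩
  have bγ : ∀ i : Fin 4, IsConj z (γ (.inl i)) := fun i => by
    by_cases t : i = 0
    exacts [by rw [t]; exact .refl z, (b2_of M L (rγ _) (n64 i t)).1]
  have pq : ∀ k, y (pk k).1 ∈ Qo (γ (.inl (pk k).2)) := fun k => by
    obtain ⟨-, a, w, c, d⟩ := pk_ok k
    exact memQ h (.refl z) (bγ _) (M.mem (rγ _)) (M.mem (hy _)) (a2_of M L (hy _) a)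
      (a2_of M L (M.cg (M.mul (hy _) (rγ _)) c) d)
  have a1 : ∀ j, γ j ∈ Qo (γ (.inl 1)) := fun j => (inA h M r (rγ j) (evT h M r (bv_dot j j).2.1)).2
  have a23 : γ (.inl 3) ∈ Qo (γ (.inl 2)) := mem_of M (symm h (bγ 0) (bγ 2) (M.mem (rγ _))) (mul_mem (pq 0) (pq 3))
    (M.mul (hy _) (hy _)) (rγ _) bv3
  have adj : ∀ (i : Fin 4) j, γ j ∈ Qo (γ (.inl i)) := fun i j => by
    have s0 := fun i => symm h (bγ 0) (bγ i) (M.mem (rγ _))
    have s1 := fun i => symm h (bγ 1) (bγ i) (a1 _)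
    fin_cases i
    · exact M.mem (rγ j)
    · exact a1 j
    · rcases j with j | j <;> fin_cases j
      exacts [s0 2, s1 2, self h (bγ 2), a23, pq 0, pq 1, pq 2]
    · rcases j with j | j <;> fin_cases j
      exacts [s0 3, s1 3, symm h (bγ 2) (bγ 3) a23, self h (bγ 3), pq 4, pq 5, pq 6]
  obtain ⟨S1, S2⟩ := closure_sing h (S := Set.range fun i => γ (.inl i)) (by rintro _ ⟨i, rfl⟩; exact bγ i)
    (by rintro _ ⟨i, rfl⟩ _ ⟨j, rfl⟩; exact adj i _)
  have le : p.sub W7 ≤ closure (Set.range fun i => γ (.inl i)) := by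
    rintro _ ⟨a, m, rfl⟩
    have := pi_ind (P := fun a : V7 => e (a + up (tl a)) ∈ closure (Set.range fun i => γ (.inl i)))
      (by rw [show (0 : V7) + up (tl 0) = 0 by decide, e0]; exact one_mem _) (fun i => by
        rcases i with i | i
        · rw [show Pi.single (.inl i) 1 + up (tl (Pi.single (.inl i) 1)) = Pi.single (.inl i) 1 by revert i; decide, e2]
          exact subset_closure ⟨i, rfl⟩
        · rw [show Pi.single (.inr i) 1 + up (tl (Pi.single (.inr i) 1)) = 0 by revert i; decide, e0]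
          exact one_mem _) (fun a a' c d => by
        rw [show up (tl (a + a')) = up (tl a) + up (tl a') from funext fun i => by cases i <;> simp [up, tl],
          add_add_add_comm, e1]
        exact mul_mem c d) a
    rwa [mem_W7.1 m, show up 0 = 0 by decide, add_zero] at this
  have mγ : ∀ i : Fin 4, γ (.inl i) ∈ p.sub W7 := fun i => e2 _ ▸ p.mem_sub.2 (mem_W7.2 (by revert i; decide))
  have ge : p.grp ≤ QU (p.sub W7) := by
    rintro _ ⟨a, -, rfl⟩
    exact pi_ind (P := fun a => e a ∈ QU (p.sub W7)) (e0 ▸ one_mem _) (fun i => e2 i ▸ QU_anti le (S2 _ (by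
      rintro _ ⟨j, rfl⟩; exact adj j i))) (fun a a' c d => e1 a a' ▸ mul_mem c d) a
  refine ⟨_, _, S1.mono le, (p.card_sub _).trans card_W7, t4_of h p (S1.mono le) (mγ 0) (le_antisymm (fun c m => ?_) ge)
    fun t n => ?_⟩
  · have mq : ∀ x ∈ QU (p.sub W7), ∀ i, x ∈ Qo (γ (.inl i)) := fun x a i => mem_QU.1 a _ (mγ i) (ne1 h (bγ i))
    let a : V7 := fun j => lg ⁅c, y (pw j)⁆
    have m' := mq _ (mul_mem m (ge (p.mem a)))
    have top : LT M C[c * e a] = ⊤ := span20 (fun v t => by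
      obtain ⟨x, t1, t2⟩ := evT h M r t
      exact ⟨x, mem_cent1.2 (mul_comm_of_comm L.abelem_E.1 t1 ⟨m' 0, m' 1⟩), t2⟩) fun i => ⟨y _, mem_cent1.2 (by
      by_cases t : i.1 < 6
      · obtain ⟨j, n, u⟩ : ∃ j ≠ .inl 0, pc i = pw j := by clear * - t; revert i; decide
        rw [eq_comm, ← comm_eq_one, ← lg_eq_zero, u, add j (mq c m 0) (M.mem (lift a)), key a j n]
        exact add_self (V := ZMod 2) _
      · obtain ⟨k, u⟩ : ∃ k, pc i = (pk k).1 := by clear * - t; revert i; decide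
        rw [u]
        exact mul_comm_of_comm (lp h (.refl z) (bγ _) (M.mem (rγ _))
          (b2_of M L (rγ _) (n64 _ (pk_ok k).1)).2).abelem_E.1 ⟨M.mem (hy _), pq k⟩ ⟨m' 0, m' _⟩), hy _⟩
    have : c * e a ∈ zpowers z := E.center_eq.le ⟨m' 0, mem_cent.2 fun x hx => by
      obtain ⟨v, rx⟩ := M.tot x hx
      obtain ⟨x', t1, t2⟩ := top.ge (AddSubgroup.mem_top v)
      exact mem_cent1.1 (mem_of M (mem_cent1_symm.1 (E.le_cent (m' 0))) t1 t2 rx (.refl _))⟩
    exact (mul_mem_cancel_right (p.mem a)).1 (zpowers_le.2 (ez ▸ p.mem _) this)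
  · obtain ⟨w, c, d⟩ := rep_ok t n
    split_ifs at d with u
    · exact iff_of_false (a2_of M L (M.cg (lift _) c) d).2.2 (not_not.2 u)
    · exact iff_of_true (b2_of M L (M.cg (lift _) c) d).1 u

theorem sq' : SQ := fun _ _ _ _ h sc U s c => by
  obtain ⟨U₀, g, s₀, c₀, t⟩ := ex_t4 h
  obtain ⟨k, rfl⟩ := sc U₀ U s₀ s (c₀.trans c.symm) c₀.le
  exact ⟨_, t.cj k⟩

end H15.MX
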