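import Cfsg.Agent.H15.ML.E
import Cfsg.Prelude.Def_CaseTheorems

/-! Maximal 2-local subgroups of a group of Monster type: vocabulary and the pieces of the proof. -/

set_option autoImplicit false
set_option linter.unusedSectionVars false

namespace H15.MX
open Cfsg H15 H19 H0 H0.Mo H0.Y H15.ML Subgroup QuadraticMap
open scoped commutatorElement

section
universe u
variable {G : Type u} [Group G]

/-- the intersection of the `Q u` -/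
def QU (U : Subgroup G) : Subgroup G := ⨅ u ∈ U, ⨅ _ : u ≠ 1, Qo u

theorem mem_QU {U : Subgroup G} {x : G} : x ∈ QU U ↔ ∀ u ∈ U, u ≠ 1 → x ∈ Qo u := by simp [QU, mem_iInf]

/-- singular subgroups -/
def Sing (z : G) (U : Subgroup G) : Prop := ∀ u ∈ U, u ≠ 1 → IsConj z u ∧ U ≤ Qo u

/-- 2A-pure subgroups -/
def Pure (z : G) (X : Subgroup G) : Prop := ∀ x ∈ X, x ≠ 1 → A2 z x

/-- the singular `u ∈ E` with `x ∈ Q u ⊔ E` -/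
def Ux (z : G) (E : Subgroup G) (x : G) : Subgroup G := closure {u | u ∈ E ∧ IsConj z u ∧ x ∈ Qo u ⊔ E}

/-- the singular `u ∈ U` with `x ∈ Q u` -/
def Nb (z : G) (U : Subgroup G) (x : G) : Subgroup G := closure {u | u ∈ U ∧ IsConj z u ∧ x ∈ Qo u}

/-- the distinguished coset over a singular group of order 16 -/
def Dist (z : G) (U : Subgroup G) (g : G) : Prop :=
  g ∈ QU U ∧ IsConj z g ∧ g ∉ U ∧ ∀ s ∈ QU U, IsConj z s → s ∉ U → s * g ∉ U → A2 z (s * g)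

/-- the singular group of order 32 given by the distinguished coset -/
def FU (z : G) (U : Subgroup G) : Subgroup G := U ⊔ closure {g | Dist z U g}

structure T4 (z : G) (U : Subgroup G) (g : G) : Prop where
  card : #(QU U) = 2 ^ 7
  dist : Dist z U g
  uniq : ∀ g', Dist z U g' → g' * g ∈ U
  d2 : ∀ s ∈ QU U, ∀ s' ∈ QU U, IsConj z s → IsConj z s' → A2 z (s * s') → s * g ∈ U ∨ s' * g ∈ U
  d3 : ∀ s ∈ QU U, ∀ s' ∈ QU U, IsConj z s → IsConj z s' → s ∉ U → s' ∉ U → s' ∈ Qo s → s * s' ∈ U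

/-- `w` acts at `u` as a sign change on a dodecad -/
def KindC (z u w : G) : Prop := ∃ s, IsConj z s ∧ s ∈ Qo u ∧ s ≠ u ∧ w ∈ Qo s ∧ C[u] ⊓ C[w] ≤ C[s] ∧
  Qo u ⊓ C[w] ≤ Qo s ∧ IsConj w (w * u)

/-- the group `2 ^ 10`: what comes from the Leech lattice -/
structure Ark (z : G) (E : Subgroup G) : Prop where
  co : ∃ e : V10 → G, ∃ p : Par e, p.grp = E ∧ (∀ x, x ≠ 0 → (q10 x = 0 ↔ IsConj z (e x))) ∧
    (∀ x y, x ≠ 0 → q10 x = 0 → (e y ∈ Qo (e x) ↔ polar q10 x y = 0)) ∧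
    ∀ n ∈ N(E), ∀ a, q10 a = 1 → ¬ ∀ x, n * e x * n⁻¹ = e (x + polar q10 a x • a)
  cardK : #C(E) = 2 ^ 26
  sp : ⁅C(E), C(E)⁆ ≤ E
  Qn : ∀ u ∈ E, IsConj z u → Qo u ≤ N(E)
  cW : ∀ u ∈ E, IsConj z u → C(E ⊓ Qo u) ≤ C(E)
  cD : ∀ u ∈ E, IsConj z u → C(Qo u ⊓ C(E)) ≤ E
  cardD : ∀ u ∈ E, IsConj z u → #(Qo u ⊓ C(E)) = 2 ^ 17
  e1 : ∀ u ∈ E, IsConj z u → ∀ w ∈ Qo u ⊔ E, w ∉ Qo u → Qo u ⊓ C[w] ≤ C(E)
  e2 : ∀ u ∈ E, IsConj z u → ∀ w ∈ Qo u ⊔ E, w ∉ Qo u → C[u] ⊓ C[w] ≤ N(E)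
  e3 : ∀ u ∈ E, IsConj z u → ∀ w ∈ Qo u ⊔ E, w ∉ Qo u → w * w = 1 → w ∈ C(E)

/-- linear algebra in `E`, first part -/
structure La (z : G) (E : Subgroup G) : Prop where
  ab : ∀ x ∈ E, x * x = 1
  EC : E ≤ C(E)
  card : #E = 2 ^ 10
  cardW : ∀ u ∈ E, IsConj z u → #(E ⊓ Qo u) = 2 ^ 9
  idx : ∀ u ∈ E, IsConj z u → ∀ x ∈ Qo u ⊔ E, ∀ y ∈ Qo u ⊔ E, x ∉ Qo u → y ∉ Qo u → x * y ∈ Qo u
  half : ∀ u ∈ E, IsConj z u → ∀ A ≤ Qo u ⊔ E, #A ≤ 2 * #(A ⊓ Qo u)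
  hyp : ∀ u ∈ E, IsConj z u → ∀ c ∈ E, c ∉ Qo u → (IsConj z c ↔ ¬ IsConj z (c * u))
  two : ∀ u ∈ E, ∀ v ∈ E, IsConj z u → IsConj z v → u ≠ v → ∃ c ∈ E, c ∈ Qo u ∧ c ∉ Qo v
  sing : ∀ U ≤ E, (∀ u ∈ U, u ≠ 1 → IsConj z u) → Sing z U
  perp : ∀ U ≤ E, Sing z U → #U * #(E ⊓ QU U) = 2 ^ 10
  rep : ∀ U ≤ E, Sing z U → ∀ x, (∀ u ∈ U, u ≠ 1 → x ∈ Qo u ⊔ E) → ∃ c ∈ E, x * c ∈ QU U
  nb : ∀ U ≤ E, Sing z U → ∀ x, (∀ u ∈ U, u ≠ 1 → x ∈ Qo u ⊔ E) → #U ≤ 2 * #(Nb z U x)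

/-- linear algebra in `E`, second part -/
structure Lb (z : G) (E : Subgroup G) : Prop where
  fixa : ∀ A ≤ E, Pure z A → ∀ T, PG 2 T → T ≤ N(E) → T ≤ C(A) → ∃ u ∈ E, IsConj z u ∧ T ≤ C[u] ∧ A ≤ Qo u
  trv : ∀ v ∈ N(E), v * v = 1 → v ∉ C(E) →
    ∃ X, X ≠ ⊥ ∧ X ≤ E ∧ Sing z X ∧ N(E) ⊓ C[v] ≤ N(X) ∧ E ⊓ C[v] ≤ QU X
  alt : ∀ U ≤ E, Sing z U → ∀ L₁ ≤ U, ∀ L₂ ≤ U, ∀ L₃ ≤ U, #L₁ = 4 → #L₂ = 4 → #L₃ = 4 →
    ∀ y₁ ∈ N(E), ∀ y₂ ∈ N(E), y₁ ∉ C(E) → y₂ ∉ C(E) → y₁ * y₂ ∉ C(E) → (∀ c ∈ E, ⁅c, y₁⁆ ∈ L₁) →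
      (∀ c ∈ E, ⁅c, y₂⁆ ∈ L₂) → (∀ c ∈ E, ⁅c, y₁ * y₂⁆ ∈ L₃) → L₁ ⊓ L₂ ≠ ⊥ ∧ L₁ ≠ L₂

/-- the centralizer of `E`, elementary facts -/
structure Lc (z : G) (E : Subgroup G) : Prop where
  dec : ∀ u ∈ E, IsConj z u → ∀ x ∈ Qo u ⊔ E, x ∈ C(E) → ∃ d ∈ Qo u ⊓ C(E), ∃ c ∈ E, x = d * c
  e6 : ∀ u ∈ E, ∀ v ∈ E, IsConj z u → IsConj z v → v ∉ Qo u → (Qo u ⊔ E) ⊓ (Qo v ⊔ E) ⊓ C(E) ≤ E
  e6' : ∀ u ∈ E, ∀ v ∈ E, IsConj z u → IsConj z v → v ∉ Qo u → Qo u ⊓ Qo v ≤ E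
  gen : ∀ u ∈ E, ∀ v ∈ E, IsConj z u → IsConj z v → v ∉ Qo u → E = zpowers u ⊔ zpowers v ⊔ Qo u ⊓ Qo v
  kk : ∀ u ∈ E, ∀ v ∈ E, IsConj z u → IsConj z v → v ∉ Qo u →
    ∀ k ∈ C(E), ∃ d ∈ Qo u ⊓ C(E), ∃ d' ∈ Qo v ⊓ C(E), ∃ c ∈ E, k = d * d' * c
  e7 : ∀ u ∈ E, ∀ v ∈ E, IsConj z u → IsConj z v → v ∈ Qo u → v ≠ u → 2 ^ 12 ≤ #(Qo u ⊓ Qo v ⊓ C(E))
  nd : ∀ u ∈ E, IsConj z u → ∀ x ∈ (Qo u ⊔ E) ⊓ C(E), ∀ y ∈ (Qo u ⊔ E) ⊓ C(E), y ∉ E ⊔ zpowers x →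
    ∃ k ∈ Qo u ⊓ C(E), k * x = x * k ∧ ⁅k, y⁆ = u
  mUx : ∀ x ∈ C(E), x ∉ E → ∀ u, u ∈ Ux z E x ↔ u = 1 ∨ u ∈ E ∧ IsConj z u ∧ x ∈ Qo u ⊔ E
  sUx : ∀ x ∈ C(E), x ∉ E → Sing z (Ux z E x)

/-- involutions near a singular point -/
def K1 (z : G) (E : Subgroup G) : Prop :=
  ∀ u ∈ E, IsConj z u → ∀ x ∈ (Qo u ⊔ E) ⊓ C(E), x ∉ E → x * x = 1 → #(Ux z E x) = 32

/-- the involutions of the centralizer of `E` -/
structure Kf (z : G) (E : Subgroup G) : Prop where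
  k32 : ∀ x ∈ C(E), x ∉ E → x * x = 1 → #(Ux z E x) = 32
  kc : ∀ x ∈ C(E), x ∉ E → x * x = 1 → ∀ k ∈ C(E), ⁅k, x⁆ ∈ Ux z E x
  k8 : ∀ x ∈ C(E), x ∉ E → x * x = 1 → ∀ y ∈ C(E), y ∉ E → y * y = 1 → x * y = y * x →
    8 ≤ #(Ux z E x ⊓ Ux z E y) ∧ (x * y ∉ E → #(Ux z E x ⊓ Ux z E y) = 8)
  a0 : ∀ u ∈ E, IsConj z u → ∀ w ∈ Qo u ⊔ E, w ∉ Qo u → w ∉ E → w * w = 1 → IsConj z w ∧ IsConj z (w * u)

/-- small singular subgroups of the same order are conjugate -/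
def Sc (z : G) : Prop := ∀ U U', Sing z U → Sing z U' → #U = #U' → #U ≤ 16 → ∃ g, cj g U = U'

/-- singular subgroups of order 16 -/
def Sq (z : G) : Prop := ∀ U, Sing z U → #U = 16 → ∃ g, T4 z U g

/-- 2A-pure subgroups of the groups `Q u` -/
structure Ta (z : G) : Prop where
  le : ∀ u, IsConj z u → ∀ X ≤ Qo u, Pure z X → #X ≤ 4
  conj : ∀ u u', IsConj z u → IsConj z u' → ∀ X ≤ Qo u, ∀ X' ≤ Qo u', Pure z X → Pure z X' → #X = #X' →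
    ∃ g, cj g X = X'

/-- the context of the main argument; `𝒜` is the class of the groups `2 ^ 10` -/
structure Cx (z : G) (𝒜 : Subgroup G → Prop) : Prop where
  mg : MG z
  ark : ∀ {E}, 𝒜 E → Ark z E
  la : ∀ {E}, 𝒜 E → La z E
  lb : ∀ {E}, 𝒜 E → Lb z E
  lc : ∀ {E}, 𝒜 E → Lc z E
  kf : ∀ {E}, 𝒜 E → Kf z E
  cj : ∀ {E} (g : G), 𝒜 E → 𝒜 (cj g E)
  kind : ∀ {u w}, IsConj z u → w ∈ C[u] → w ∉ Qo u → w * w = 1 →
    (∃ E, 𝒜 E ∧ u ∈ E ∧ w ∈ Qo u ⊔ E) ∨ KindC z u w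
  t4 : Sq z
  rk : ∀ A : Subgroup G, (∀ a ∈ A, a * a = 1) → #A ≤ 2 ^ 15

/-- the seven types -/
def Good (z : G) (𝒜 : Subgroup G → Prop) (X : Subgroup G) : Prop :=
  (X ≠ ⊥ ∧ Pure z X ∧ ∃ u, IsConj z u ∧ X ≤ Qo u) ∨ (X ≠ ⊥ ∧ Sing z X ∧ #X ≤ 8) ∨
    (∃ U, Sing z U ∧ #U = 16 ∧ X = FU z U) ∨ 𝒜 X

/-- `V` meets every elementary abelian 2-group normalized by its centralizer -/
structure St (V : Subgroup G) : Prop where
  ab : ∀ v ∈ V, v * v = 1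
  P : ∀ X : Subgroup G, (∀ x ∈ X, x * x = 1) → X ≠ ⊥ → C(V) ≤ N(X) → ∃ v ∈ V, v ∈ X ∧ v ≠ 1

/-- `V ⊓ Q s` is as large as possible -/
structure Mx (z : G) (V : Subgroup G) (s : G) : Prop where
  mem : s ∈ V
  b : IsConj z s
  max : ∀ u ∈ V, IsConj z u → #(V ⊓ Qo u) ≤ #(V ⊓ Qo s)

/-- a pair of singular involutions not in a common group `2 ^ 10` (one half of the hypothesis) -/
structure Pr (z : G) (𝒜 : Subgroup G → Prop) (E : Subgroup G) (s s' : G) : Prop where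
  a : 𝒜 E
  sE : s ∈ E
  b : IsConj z s
  mem : s' ∈ Qo s ⊔ E
  nQ : s' ∉ Qo s
  nE : s' ∉ E

/-- the geometry of such a pair -/
structure Geo (z : G) (E E' : Subgroup G) (s s' : G) (U : Subgroup G) : Prop where
  sing : Sing z U
  card : #U = 16
  le : U ≤ E
  nrm : C[s] ⊓ C[s'] ≤ N(U)
  sQ : s' ∈ QU U
  sU : s ∉ U
  ux : Ux z E s' = U ⊔ zpowers s
  cE : E' ≤ C(E)
  zz : ∀ y ∈ C(E) ⊓ C(E'), y * y = 1 → y ∈ Qo s ⊔ E → y ∈ E ⊔ zpowers s'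
  v7 : (E ⊔ zpowers s') ⊓ (E' ⊔ zpowers s) ≤ QU U
  cm : ∀ y ∈ C(E) ⊓ C[s'], ∀ c ∈ E', ⁅c, y⁆ ∈ U

/-- involutions centralizing `E` and `s'` but not `E'` -/
structure Yy (E E' : Subgroup G) (s s' y : G) : Prop where
  sq : y * y = 1
  cE : y ∈ C(E)
  cs : y ∈ C[s']
  mem : y ∈ Qo s ⊔ E
  nE : y ∉ C(E')

/-- their lines -/
structure Lf (z : G) (E E' : Subgroup G) (s s' : G) (U : Subgroup G) : Prop where
  c4 : ∀ y, Yy E E' s s' y → #(Ux z E y ⊓ U) = 4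
  pen : ∀ y₁ y₂, Yy E E' s s' y₁ → Yy E E' s s' y₂ → Yy E E' s s' (y₁ * y₂) →
    Ux z E y₁ ⊓ U ⊓ (Ux z E y₂ ⊓ U) ≠ ⊥ ∧ Ux z E y₁ ⊓ U ≠ Ux z E y₂ ⊓ U
  x4 : ∀ y y', Yy E E' s s' y → Yy E' E s' s y' → y * y' = y' * y → Ux z E y ⊓ U ⊓ (Ux z E' y' ⊓ U) ≠ ⊥

/-- everything about a pair -/
structure Pa (z : G) (𝒜 : Subgroup G → Prop) (V E E' : Subgroup G) (s s' : G) (U : Subgroup G) : Prop where
  cx : Cx z 𝒜
  st : St V
  m : Mx z V s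
  m' : Mx z V s'
  p : Pr z 𝒜 E s s'
  p' : Pr z 𝒜 E' s' s
  g : Geo z E E' s s' U
  g' : Geo z E' E s' s U
  l : Lf z E E' s s' U
  l' : Lf z E' E s' s U

/-- two independent elements of `(V ⊓ Q s) ⊔ ⟨s'⟩` modulo the centralizer of `E'` -/
def Big (V E' : Subgroup G) (s s' : G) : Prop :=
  ∃ y₁ ∈ V ⊓ Qo s ⊔ zpowers s', ∃ y₂ ∈ V ⊓ Qo s ⊔ zpowers s', y₁ ∉ C(E') ∧ y₂ ∉ C(E') ∧ y₁ * y₂ ∉ C(E')

end

/-! ### the pieces -/

def AR : Prop := ∀ (G : Type) [Group G] [Finite G] (z s : G) (f : C[z] →* Spor.Co1) (R : G → Lam → Prop)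
  (e : V10 → G) (h : Ten (Qo z) (Qo s) s f R e), MG z → ∀ g, Ark z (cj g h.E)

def KC : Prop := ∀ (G : Type) [Group G] [Finite G] (z : G) (f : C[z] →* Spor.Co1) (R : G → Lam → Prop),
  MG z → MT (Qo z) z f R → ∀ (D : Finset GolayPt) (hD : D ∈ cw), D.card = 12 → ∀ (w : G) (γ : Co0),
    w * w = 1 → A f w (γ * sgn hD * γ⁻¹) → KindC z z w

def KD : Prop := ∀ (G : Type) [Group G] [Finite G] (z s : G) (f : C[z] →* Spor.Co1) (R : G → Lam → Prop)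
  (e : V10 → G) (h : Ten (Qo z) (Qo s) s f R e), MG z → ∀ u w, IsConj z u → w ∈ C[u] → w ∉ Qo u → w * w = 1 →
    (∃ g, u ∈ cj g h.E ∧ w ∈ Qo u ⊔ cj g h.E) ∨ KindC z u w

def SC : Prop := ∀ (G : Type) [Group G] [Finite G] (z : G), MG z → Sc z
def SQ : Prop := ∀ (G : Type) [Group G] [Finite G] (z : G), MG z → Sc z → Sq z
def TA : Prop := ∀ (G : Type) [Group G] [Finite G] (z : G), MG z → Ta z

def LA : Prop := ∀ (G : Type) [Group G] [Finite G] (z : G) (E : Subgroup G), MG z → Ark z E → La z E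
def LB : Prop := ∀ (G : Type) [Group G] [Finite G] (z : G) (E : Subgroup G), MG z → Ark z E → La z E → Lb z E
def LC : Prop := ∀ (G : Type) [Group G] [Finite G] (z : G) (E : Subgroup G), MG z → Ark z E → La z E → Lc z E
def KA : Prop := ∀ (G : Type) [Group G] [Finite G] (z : G) (E : Subgroup G), MG z → Ark z E → La z E → Lc z E →
  K1 z E
def KB : Prop := ∀ (G : Type) [Group G] [Finite G] (z : G) (E : Subgroup G), MG z → Sq z → Ark z E → La z E →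
  Lc z E → K1 z E → Kf z E

def ST : Prop := ∀ (G : Type) [Group G] [Finite G] (z : G), MG z → ∀ H : Subgroup G, IsMaximalTwoLocal H →
  ∃ V : Subgroup G, V ≠ ⊥ ∧ (∀ v ∈ V, v * v = 1) ∧ H ≤ N(V) ∧ ((∃ s ∈ V, IsConj z s) → St V)

def CA : Prop := ∀ (G : Type) [Group G] [Finite G] (z : G) (𝒜 : Subgroup G → Prop), Cx z 𝒜 →
  ∀ V, Pure z V → ∃ u, IsConj z u ∧ V ≤ Qo u

def BS : Prop := ∀ (G : Type) [Group G] [Finite G] (z : G) (𝒜 : Subgroup G → Prop), Cx z 𝒜 →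
  ∀ U, Sing z U → U ≠ ⊥ → ∃ X, Good z 𝒜 X ∧ N(U) ≤ N(X)

def A1 : Prop := ∀ (G : Type) [Group G] [Finite G] (z : G) (𝒜 : Subgroup G → Prop), Cx z 𝒜 →
  ∀ V E s s', St V → Mx z V s → Mx z V s' → 𝒜 E → s ∈ E → s' ∈ E → s' ∉ Qo s → V ⊓ Qo s ≤ E

def A1' : Prop := ∀ (G : Type) [Group G] [Finite G] (z : G) (𝒜 : Subgroup G → Prop), Cx z 𝒜 →
  ∀ V E s s', St V → Mx z V s → s' ∈ V → 𝒜 E → s ∈ E → s' ∈ E → s' ∉ Qo s → V ⊓ Qo s ≤ E → V ≤ E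

def G3 : Prop := ∀ (G : Type) [Group G] [Finite G] (z : G) (𝒜 : Subgroup G → Prop), Cx z 𝒜 →
  ∀ E E' s s', Pr z 𝒜 E s s' → Pr z 𝒜 E' s' s → ∃ U, Geo z E E' s s' U ∧ Geo z E' E s' s U

def L3 : Prop := ∀ (G : Type) [Group G] [Finite G] (z : G) (𝒜 : Subgroup G → Prop), Cx z 𝒜 →
  ∀ E E' s s' U, Pr z 𝒜 E s s' → Pr z 𝒜 E' s' s → Geo z E E' s s' U → Geo z E' E s' s U → Lf z E E' s s' U

def A3 : Prop := ∀ (G : Type) [Group G] [Finite G] (z : G) (𝒜 : Subgroup G → Prop) (V E E' : Subgroup G)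
  (s s' : G) (U : Subgroup G), Pa z 𝒜 V E E' s s' U → ¬ Big V E' s s'

def A3' : Prop := ∀ (G : Type) [Group G] [Finite G] (z : G) (𝒜 : Subgroup G → Prop) (V E E' : Subgroup G)
  (s s' : G) (U : Subgroup G), Pa z 𝒜 V E E' s s' U → Big V E' s s' ∨ Big V E s' s

def FN : Prop := ∀ (G : Type) [Group G] [Finite G] (z : G) (𝒜 : Subgroup G → Prop), Cx z 𝒜 → Sc z → Ta z →
  (∃ E, 𝒜 E) → (∀ E E', 𝒜 E → 𝒜 E' → ∃ g, cj g E = E') →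
  (∀ H : Subgroup G, IsMaximalTwoLocal H → ∃ X, Good z 𝒜 X ∧ H ≤ N(X)) →
  ∃ S : Finset (Subgroup G), S.card = 7 ∧ (∀ H ∈ S, IsTwoLocal H) ∧ ∀ H : Subgroup G, IsMaximalTwoLocal H →
    ∃ H₀ ∈ S, ∃ g : G, H = H₀.map (MulAut.conj g).toMonoidHom

/-! ### a small kit -/

section
universe u
variable {G : Type u} [Group G] [Finite G] {z u v x p : G} {U E : Subgroup G}

theorem es (h : MG z) (a : IsConj z u) : ES (Qo u) u := (h.conj a).es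
theorem le (h : MG z) (a : IsConj z u) : LE (Qo u) u := (h.conj a).le
theorem sq (h : MG z) (a : IsConj z u) : u * u = 1 := (es h a).zz
theorem ne1 (h : MG z) (a : IsConj z u) : u ≠ 1 := (es h a).z1
theorem self (h : MG z) (a : IsConj z u) : u ∈ Qo u := (es h a).zQ
theorem nQ (h : MG z) (a : IsConj z u) : C[u] ≤ N(Qo u) := (le h a).norm
theorem lp (h : MG z) (a : IsConj z u) (b : IsConj z v) (m : v ∈ Qo u) (n : v ≠ u) : LP (Qo u) u (Qo v) v :=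
  (h.conj a).lp m (a.symm.trans b) n

theorem symm (h : MG z) (a : IsConj z u) (b : IsConj z v) (m : v ∈ Qo u) : u ∈ Qo v := by
  by_cases n : v = u
  exacts [n ▸ self h b, (lp h a b m n).zQ]

theorem conj_mul' (h : MG z) (a : IsConj z u) (m : x ∈ Qo u) (n1 : x ≠ 1) (n : x ≠ u) : IsConj x (x * u) :=
  let ⟨y, _, e⟩ := (es h a).exists_conj m fun k => ((es h a).mem_zp.1 k).elim n1 n
  isConj_iff.2 ⟨y, e⟩

theorem mul_b (h : MG z) (a : IsConj z u) (b : IsConj z v) (m : v ∈ Qo u) (n : v ≠ u) : IsConj z (v * u) :=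
  b.trans (conj_mul' h a m (ne1 h b) n)

theorem inf_le_mul (h : MG z) (a : IsConj z u) (b : IsConj z v) (m : v ∈ Qo u) (n : v ≠ u) :
    Qo u ⊓ Qo v ≤ Qo (v * u) := fun p hp => by
  obtain ⟨y, hy, e⟩ := (es h a).exists_conj m (lp h a b m n).notMem
  have k : u ∈ Qo (v * u) := by
    have := Qo_conj (symm h a b m) y
    rwa [e, (es h a).cent y hy, mul_inv_cancel_right] at this
  have := Qo_conj hp.2 y
  rw [e] at this
  rcases (es h a).conj_cases hy hp.1 with t | t <;> rw [t] at this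
  exacts [this, (mul_mem_cancel_right k).1 this]

theorem card13 (h : MG z) (a : IsConj z u) (b : IsConj z v) (m : v ∈ Qo u) (n : v ≠ u) : #(Qo u ⊓ Qo v) = 2 ^ 13 :=
  let ⟨_, _, M⟩ := (h.conj a).1; M.card_E (lp h a b m n)

theorem memQ (h : MG z) (a : IsConj z u) (b : IsConj z v) (m : v ∈ Qo u) (hp : p ∈ Qo u) (c : A2 z p)
    (d : A2 z (p * v)) : p ∈ Qo v := by
  by_cases n : v = u
  · exact n ▸ hp
  obtain ⟨_, _, M⟩ := (h.conj a).1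
  exact memQ' M (lp h a b m n) hp (c.base a) (d.base a)

theorem exB (h : MG z) {T : Subgroup G} (t : PG 2 T) : ∃ u, IsConj z u ∧ T ≤ C[u] := by
  obtain ⟨S, hS⟩ := exists_syl 2 C[z]
  obtain ⟨g, -, k⟩ := (h.le.syl_top hS).sle_cj le_top t
  exact ⟨g * z * g⁻¹, isConj_iff.2 ⟨_, rfl⟩, cj_cent1 g z ▸ k.trans (cj_mono g hS.le)⟩

omit [Finite G] in
theorem cjB (a : IsConj z u) (g : G) : IsConj z (g * u * g⁻¹) := a.trans (isConj_iff.2 ⟨g, rfl⟩)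

omit [Finite G] in
theorem a2_of_not (h1 : x * x = 1) (h2 : x ≠ 1) (h3 : ¬ IsConj z x) : A2 z x := ⟨h1, h2, h3⟩

theorem pg_of_sq (h : ∀ x ∈ U, x * x = 1) : PG 2 U :=
  PiN.of_isPGroup Nat.prime_two fun x => ⟨1, Subtype.ext (by simpa [pow_two] using h x x.2)⟩

omit [Finite G] in
theorem comm_of_sq (h : ∀ x ∈ U, x * x = 1) : U ≤ C(U) := comm_iff_le_cent.1 (abelem2_iff.2 h).1

omit [Finite G] in
theorem QU_anti {U' : Subgroup G} (h : U ≤ U') : QU U' ≤ QU U := fun _ a => mem_QU.2 fun u b => mem_QU.1 a u (h b)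

omit [Finite G] in
theorem Sing.le_QU (s : Sing z U) : U ≤ QU U := fun _ a => mem_QU.2 fun u b n => (s u b n).2 a

omit [Finite G] in
theorem Sing.mono {U' : Subgroup G} (s : Sing z U) (h : U' ≤ U) : Sing z U' :=
  fun u a n => ⟨(s u (h a) n).1, h.trans (s u (h a) n).2⟩

theorem Sing.sq (s : Sing z U) (h : MG z) : ∀ u ∈ U, u * u = 1 := fun u a => by
  by_cases n : u = 1
  exacts [by simp [n], MX.sq h (s u a n).1]

theorem Sing.QU_cent (s : Sing z U) (h : MG z) : QU U ≤ C(U) := fun x a => mem_cent.2 fun u b => by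
  by_cases n : u = 1
  exacts [by simp [n], ((es h (s u b n).1).cent x (mem_QU.1 a u b n)).symm]

/-- the group generated by pairwise adjacent singular involutions -/
theorem closure_sing (h : MG z) {S : Set G} (b : ∀ s ∈ S, IsConj z s) (m : ∀ s ∈ S, ∀ t ∈ S, t ∈ Qo s) :
    Sing z (closure S) ∧ ∀ x, (∀ s ∈ S, x ∈ Qo s) → x ∈ QU (closure S) := by
  have k : ∀ u ∈ closure S, u ≠ 1 → IsConj z u ∧ ∀ x, (∀ s ∈ S, x ∈ Qo s) → x ∈ Qo u := fun u a => by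
    induction a using closure_induction_right with
    | one => exact fun n => absurd rfl n
    | mul_right u _ s hs ih =>
      intro n
      by_cases e : u = 1
      · rw [e, one_mul]; exact ⟨b s hs, fun x c => c s hs⟩
      have n' : u ≠ s := fun t => n (by rw [t, sq h (b s hs)])
      have c := symm h (ih e).1 (b s hs) ((ih e).2 s fun t ht => m t ht s hs)
      exact ⟨mul_b h (b s hs) (ih e).1 c n', fun x d => inf_le_mul h (b s hs) (ih e).1 c n' ⟨d s hs, (ih e).2 x d⟩⟩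
    | mul_inv_cancel u _ s hs ih =>
      rw [inv_eq_of_mul_eq_one_right (sq h (b s hs))]
      intro n
      by_cases e : u = 1
      · rw [e, one_mul]; exact ⟨b s hs, fun x c => c s hs⟩
      have n' : u ≠ s := fun t => n (by rw [t, sq h (b s hs)])
      have c := symm h (ih e).1 (b s hs) ((ih e).2 s fun t ht => m t ht s hs)
      exact ⟨mul_b h (b s hs) (ih e).1 c n', fun x d => inf_le_mul h (b s hs) (ih e).1 c n' ⟨d s hs, (ih e).2 x d⟩⟩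
  exact ⟨fun u a n => ⟨(k u a n).1, (closure_le _).2 fun t ht => (k u a n).2 t fun s hs => m s hs t ht⟩,
    fun x c => mem_QU.2 fun u a n => (k u a n).2 x c⟩

omit [Finite G] in
theorem Nb_le : Nb z U x ≤ U := (closure_le _).2 fun _ a => a.1
omit [Finite G] in
theorem Ux_le : Ux z E x ≤ E := (closure_le _).2 fun _ a => a.1

theorem mem_Nb (h : MG z) (s : Sing z U) : u ∈ Nb z U x ↔ u = 1 ∨ u ∈ U ∧ x ∈ Qo u := by
  refine ⟨fun a => or_iff_not_imp_left.2 fun n => ⟨Nb_le a, mem_QU.1 ((closure_sing h (fun _ b => b.2.1)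
    fun t b r c => (s t b.1 (ne1 h b.2.1)).2 c.1).2 x fun _ b => b.2.2) u a n⟩, fun a => ?_⟩
  by_cases n : u = 1
  exacts [n ▸ one_mem _, subset_closure ⟨(a.resolve_left n).1, (s u (a.resolve_left n).1 n).1, (a.resolve_left n).2⟩]

omit [Finite G] in
theorem cj_QU (g : G) (U : Subgroup G) : cj g (QU U) = QU (cj g U) := by
  ext x
  rw [mem_cj, mem_QU, mem_QU]
  refine ⟨fun a u b n => ?_, fun a u b n => ?_⟩
  · simpa [mul_assoc] using Qo_conj (a _ (mem_cj.1 b) (by simpa [mul_assoc, inv_mul_eq_iff_eq_mul] using n)) g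
  · simpa [mul_assoc] using Qo_conj (a _ (conj_mem_cj.2 b) (by simpa using n)) g⁻¹

omit [Finite G] in
theorem Sing.cj (s : Sing z U) (g : G) : Sing z (cj g U) := fun _ a n => by
  obtain ⟨u, b, rfl⟩ := mem_cj'.1 a
  have := s u b (by simpa using n)
  exact ⟨cjB this.1 g, cj_Qo g u ▸ cj_mono g this.2⟩

theorem norm_QU : N(U) ≤ N(QU U) := fun g a => mem_norm_of_cj_le (by rw [cj_QU, cj_of_mem_norm a])

theorem norm_closure {S : Set G} {g : G} (h : ∀ s ∈ S, g * s * g⁻¹ ∈ S) : g ∈ N(closure S) :=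
  mem_norm_of_cj_le (cj_le_iff.2 ((closure_le _).2 fun s a => mem_cj_inv.2 (subset_closure (h s a))))

theorem norm_Ux : N(E) ⊓ C[x] ≤ N(Ux z E x) := fun g a => norm_closure fun u b =>
  ⟨conj_mem_of_norm a.1 b.1, cjB b.2.1 g, by
    have := conj_mem_cj (g := g).2 b.2.2
    rwa [cj_sup, cj_Qo, cj_of_mem_norm a.1, mem_cent1.1 a.2, mul_inv_cancel_right] at this⟩

theorem norm_Nb : N(U) ⊓ C[x] ≤ N(Nb z U x) := fun g a => norm_closure fun u b =>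
  ⟨conj_mem_of_norm a.1 b.1, cjB b.2.1 g, by
    have := Qo_conj b.2.2 g
    rwa [mem_cent1.1 a.2, mul_inv_cancel_right] at this⟩

omit [Finite G] in
theorem Dist.cj {g : G} (d : Dist z U g) (k : G) : Dist z (cj k U) (k * g * k⁻¹) :=
  ⟨cj_QU k U ▸ conj_mem_cj.2 d.1, cjB d.2.1 k, mt conj_mem_cj.1 d.2.2.1, fun s a b c e => by
    obtain ⟨t, a', rfl⟩ := mem_cj'.1 (cj_QU k U ▸ a)
    rw [conj_mul] at e ⊢
    exact (d.2.2.2 t a' (b.trans (isConj_iff.2 ⟨k, rfl⟩).symm) (mt conj_mem_cj.2 c) (mt conj_mem_cj.2 e)).cj k⟩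

omit [Finite G] in
theorem cj_FU (k : G) (U : Subgroup G) : cj k (FU z U) = FU z (cj k U) := by
  have l : ∀ (k : G) (U : Subgroup G), cj k (FU z U) ≤ FU z (cj k U) := fun k U => cj_le_iff.2 (sup_le
    (fun x a => mem_cj_inv.2 (mem_sup_left (conj_mem_cj.2 a)))
    ((closure_le _).2 fun g d => mem_cj_inv.2 (mem_sup_right (subset_closure (Dist.cj d k)))))
  refine le_antisymm (l k U) fun x a => mem_cj.2 ?_
  have := l k⁻¹ _ (conj_mem_cj.2 a)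
  rwa [← cj_mul, inv_mul_cancel, cj_one, inv_inv] at this

omit [Finite G] in
theorem T4.FU_eq {g : G} (t : T4 z U g) (h : g * g = 1) : FU z U = U ⊔ zpowers g :=
  le_antisymm (sup_le le_sup_left ((closure_le _).2 fun k d => by
    simpa [mul_assoc, h] using mul_mem (mem_sup_left (t.uniq k d)) (mem_sup_right (mem_zpowers g) : g ∈ U ⊔ zpowers g)))
    (sup_le le_sup_left (zpowers_le.2 (mem_sup_right (subset_closure t.dist))))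

end

end H15.MX
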