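import Cfsg.Agent.H15.Uniq3
import Cfsg.Agent.H15.MK
import Mathlib.GroupTheory.Sylow
import Mathlib.LinearAlgebra.Matrix.GeneralLinearGroup.Card

/-! Small subgroups of `M24` given by tables; arbitrary dodecads; six-point sets. -/

set_option autoImplicit false
set_option maxRecDepth 100000

namespace H15
open Cfsg Finset MulAction
open scoped Pointwise

/-! ### Generalities -/

theorem exists_enum {α : Type*} {s : Finset α} {n : ℕ} (h : s.card = n) :
    ∃ x : Fin n → α, Function.Injective x ∧ (∀ i, x i ∈ s) ∧ ∀ p ∈ s, ∃ i, x i = p :=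
  ⟨fun i => ((s.equivFinOfCardEq h).symm i : α),
    Subtype.val_injective.comp (s.equivFinOfCardEq h).symm.injective, fun _ => coe_mem _,
    fun p hp => ⟨s.equivFinOfCardEq h ⟨p, hp⟩, by simp⟩⟩

theorem exists_inj {α : Type*} {s : Finset α} {n : ℕ} (h : n ≤ s.card) :
    ∃ x : Fin n → α, Function.Injective x ∧ ∀ i, x i ∈ s := by
  obtain ⟨t, h1, h2⟩ := exists_subset_card_eq h
  obtain ⟨x, h3, h4, -⟩ := exists_enum h2
  exact ⟨x, h3, fun i => h1 (h4 i)⟩

theorem exists_mem_notMem {α : Type*} {s t : Finset α} (h : t.card < s.card) : ∃ p ∈ s, p ∉ t :=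
  exists_mem_notMem_of_card_lt_card h

theorem inj_snoc {α : Type*} {n : ℕ} {x : Fin n → α} {a : α} (hx : Function.Injective x)
    (h : ∀ i, x i ≠ a) : Function.Injective (Fin.snoc x a : Fin (n + 1) → α) := by
  intro i j
  induction i using Fin.lastCases <;> induction j using Fin.lastCases <;> simp [h, (h _).symm]
  exact fun e => hx e

section
variable {G X : Type*} [Group G] [MulAction G X] [DecidableEq X]

theorem iso_perm_of_inj' (K : Subgroup G) (Y : Finset X) (h : ∀ g ∈ K, g • Y = Y)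
    (hi : ∀ g ∈ K, (∀ y ∈ Y, g • y = y) → g = 1) {n : ℕ} (hY : Y.card = n)
    (hK : n.factorial ≤ Nat.card K) : Nonempty (K ≃* Equiv.Perm (Fin n)) := by
  have := (resHom_inj K Y h hi).bijective_of_nat_card_le (by
    rwa [Nat.card_perm, Nat.card_eq_fintype_card, Fintype.card_coe, hY])
  exact ⟨(MulEquiv.ofBijective _ this).trans (Y.equivFinOfCardEq hY).permCongrHom⟩

theorem resHom_surj (K : Subgroup G) (Y : Finset X) (h : ∀ g ∈ K, g • Y = Y) {n : ℕ}
    (hY : Y.card ≤ n + 1) (hY' : n ≤ Y.card) (ht : ∀ x y : Fin n → X, Function.Injective x →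
      Function.Injective y → (∀ i, x i ∈ Y) → (∀ i, y i ∈ Y) → ∃ g ∈ K, ∀ i, g • x i = y i) :
    Function.Surjective (resHom K Y h) := by
  intro e
  obtain ⟨x, h1, h2⟩ := exists_inj hY'
  obtain ⟨g, h3, h4⟩ := ht x (fun i => e ⟨x i, h2 i⟩) h1 (fun i j hij => h1 (congrArg Subtype.val
    (e.injective (Subtype.ext hij)))) h2 (fun i => coe_mem _)
  refine ⟨⟨g, h3⟩, ?_⟩
  rw [← inv_mul_eq_one, ← Equiv.Perm.card_support_le_one]
  have h5 : ((resHom K Y h ⟨g, h3⟩)⁻¹ * e).support ⊆ (univ.image fun i => (⟨x i, h2 i⟩ : Y))ᶜ := by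
    intro y hy
    rw [mem_compl, mem_image]
    rintro ⟨i, -, rfl⟩
    rw [Equiv.Perm.mem_support, Equiv.Perm.mul_apply, Ne, Equiv.Perm.inv_eq_iff_eq] at hy
    exact hy (Subtype.ext (h4 i).symm)
  refine (card_le_card h5).trans ?_
  rw [card_compl, card_image_of_injective _ (fun i j hij => h1 (congrArg Subtype.val hij))]
  simp only [Fintype.card_coe, card_univ, Fintype.card_fin]
  omega

theorem iso_perm_of_bij (K : Subgroup G) (Y : Finset X) (h : ∀ g ∈ K, g • Y = Y)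
    (hi : ∀ g ∈ K, (∀ y ∈ Y, g • y = y) → g = 1) {n : ℕ} (hY : Y.card = n)
    (hs : Function.Surjective (resHom K Y h)) : Nonempty (K ≃* Equiv.Perm (Fin n)) :=
  ⟨(MulEquiv.ofBijective _ ⟨resHom_inj K Y h hi, hs⟩).trans (Y.equivFinOfCardEq hY).permCongrHom⟩

end

theorem quot_of_compl {G B : Type*} [Group G] [Finite G] [Group B] (N : Subgroup G) [N.Normal]
    (ψ : B →* G) (h : ∀ b, ψ b ∈ N → b = 1) (hc : Nat.card G ≤ Nat.card N * Nat.card B) :
    Nonempty (G ⧸ N ≃* B) := by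
  have h1 : Function.Injective ((QuotientGroup.mk' N).comp ψ) :=
    (injective_iff_map_eq_one _).2 fun b hb => h b ((QuotientGroup.eq_one_iff _).1 hb)
  have h2 := h1.bijective_of_nat_card_le (by
    rw [Subgroup.card_eq_card_quotient_mul_card_subgroup N, mul_comm] at hc
    exact Nat.le_of_mul_le_mul_left hc Nat.card_pos)
  exact ⟨(MulEquiv.ofBijective _ h2).symm⟩

theorem sylow_mem_iff {G : Type*} [Group G] [Finite G] {p k m : ℕ} [Fact p.Prime] (P : Sylow p G)
    (hP : Nat.card P = p ^ k) (hm : m.Coprime p) (h1 : ∀ x : G, x ^ p = 1 ∨ x ^ m = 1)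
    (h2 : {x : G | x ^ p = 1}.ncard ≤ p ^ k) (x : G) : x ∈ (P : Subgroup G) ↔ x ^ p = 1 := by
  have h3 : ((P : Subgroup G) : Set G) ⊆ {x : G | x ^ p = 1} := fun y hy => by
    rcases h1 y with h | h
    · exact h
    · have h4 : y ^ p ^ k = 1 := by
        have := pow_card_eq_one' (x := (⟨y, hy⟩ : (P : Subgroup G)))
        rw [show Nat.card (P : Subgroup G) = p ^ k from hP] at this
        exact congrArg Subtype.val this
      have : y = 1 := by
        rw [← orderOf_eq_one_iff]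
        exact Nat.eq_one_of_dvd_coprimes (hm.pow_right k) (orderOf_dvd_of_pow_eq_one h)
          (orderOf_dvd_of_pow_eq_one h4)
      simp [this]
  have := Set.eq_of_subset_of_ncard_le h3 (by
    rw [← Nat.card_coe_set_eq]; exact h2.trans hP.ge) (Set.toFinite _)
  exact Set.ext_iff.1 this x

theorem normal_of_pow {G : Type*} [Group G] {N K : Subgroup G} [hK : K.Normal] {p : ℕ}
    (h : ∀ x, x ∈ N ↔ x ∈ K ∧ x ^ p = 1) : N.Normal :=
  ⟨fun n hn g => (h _).2 ⟨hK.conj_mem _ ((h n).1 hn).1 g, by rw [conj_pow, ((h n).1 hn).2]; simp⟩⟩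

/-- Centralisers along an isomorphism onto a subgroup. -/
def centEquiv {G Γ : Type*} [Group G] [Group Γ] {H : Subgroup Γ} (e : G ≃* H) (x : G) :
    Subgroup.centralizer {x} ≃* ↥(H ⊓ Subgroup.centralizer {(e x : Γ)}) where
  toFun y := ⟨e y, (e y).2, Subgroup.mem_centralizer_singleton_iff.2 (by
    rw [← Subgroup.coe_mul, ← map_mul, Subgroup.mem_centralizer_singleton_iff.1 y.2, map_mul,
      Subgroup.coe_mul])⟩
  invFun y := ⟨e.symm ⟨y, y.2.1⟩, Subgroup.mem_centralizer_singleton_iff.2 (e.injective (by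
    simp only [map_mul, MulEquiv.apply_symm_apply]
    exact Subtype.ext (Subgroup.mem_centralizer_singleton_iff.1 y.2.2)))⟩
  left_inv y := by simp
  right_inv y := by simp
  map_mul' x y := Subtype.ext (by simp)

/-! ### Tables -/

theorem lchk_le {H K : Subgroup (Equiv.Perm GolayPt)} (hK : K ≤ H) {T N : ℕ}
    (hT : ∀ k < N, InK K (getP T k)) {L : List (ℕ × ℕ × ℕ)} {F c : ℕ}
    (h : band (lchk T N L F) (Nat.beq (lprod L) c) = true) (hc : Nat.card ↥(H ⊓ Fx F) ≤ c) :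
    H ⊓ Fx F ≤ K := by
  rw [band_iff, Nat.beq_eq] at h
  rw [← Subgroup.eq_of_le_of_card_ge (inf_le_inf_right (Fx F) hK)
    (hc.trans (h.2.ge.trans (lchk_ge hT h.1)))]
  exact inf_le_left

theorem hom_of_table {Q : Type*} [Group Q] (H : Subgroup (Equiv.Perm GolayPt)) (f : Q → ℕ)
    (h1 : ∀ a, InK H (f a)) (h2 : ∀ a b, pmul (f a) (f b) = f (a * b)) :
    ∃ φ : Q →* H, ∀ a, Rep (φ a) (f a) := by
  choose σ h3 h4 using h1
  exact ⟨MonoidHom.mk' (fun a => ⟨σ a, h3 a⟩) fun a b => Subtype.ext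
    ((h4 _).unique (h2 a b ▸ (h4 a).mul (h4 b))), h4⟩

theorem iso_of_table {Q : Type*} [Group Q] (H : Subgroup (Equiv.Perm GolayPt)) (f : Q → ℕ)
    (h1 : ∀ a, InK H (f a)) (h2 : ∀ a b, pmul (f a) (f b) = f (a * b))
    (h3 : ∀ a, is1 (f a) = true → a = 1) (h4 : Nat.card H ≤ Nat.card Q) : Nonempty (H ≃* Q) := by
  obtain ⟨φ, h⟩ := hom_of_table H f h1 h2
  have : Function.Injective φ := (injective_iff_map_eq_one _).2 fun a ha =>
    h3 a ((is1_iff (h a)).1 (congrArg Subtype.val ha))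
  exact ⟨(MulEquiv.ofBijective _ (this.bijective_of_nat_card_le h4)).symm⟩

/-- Membership of a code in a table. -/
noncomputable def memT (T n g : ℕ) : Bool := anyTo (fun k => Nat.beq (getP T k) g) n
/-- The table lists the elements of a subgroup of `M24` without repetition. -/
noncomputable def subOK (T n : ℕ) : Bool :=
  band (memT T n pid) (allTo (fun i => force (getP T i) fun a => band (isM a)
    (allTo (fun j => force (getP T j) fun b => band (force (pmul a b) (memT T n))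
      (bimp (peq a b) (Nat.beq i j))) n)) n)

theorem subOK_spec {T n : ℕ} (h : subOK T n = true) : (∃ k < n, getP T k = pid) ∧
    ∀ i < n, isM (getP T i) = true ∧ ∀ j < n, (∃ k < n, getP T k = pmul (getP T i) (getP T j)) ∧
      (peq (getP T i) (getP T j) = true → i = j) := by
  simpa only [subOK, memT, band_iff, allTo_iff, anyTo_iff, force_eq, bimp_iff, Nat.beq_eq] using h

/-- The subgroup listed in a table. -/
def tabSub (T n : ℕ) (h : subOK T n = true) : Subgroup (Equiv.Perm GolayPt) :=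
  let M : Submonoid (Equiv.Perm GolayPt) :=
    { carrier := {σ | ∃ k < n, Rep σ (getP T k)}
      one_mem' := by
        obtain ⟨k, h1, h2⟩ := (subOK_spec h).1
        exact ⟨k, h1, h2 ▸ Rep.one⟩
      mul_mem' := by
        rintro σ τ ⟨i, hi, h1⟩ ⟨j, hj, h2⟩
        obtain ⟨k, h3, h4⟩ := (((subOK_spec h).2 i hi).2 j hj).1
        exact ⟨k, h3, h4 ▸ h1.mul h2⟩ }
  { M with
    inv_mem' := fun {σ} hσ => (Submonoid.powers_le (P := M)).2 hσ
      (mem_powers_iff_mem_zpowers.2 (inv_mem (Subgroup.mem_zpowers σ))) }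

theorem mem_tabSub {T n : ℕ} {h : subOK T n = true} {σ : Equiv.Perm GolayPt} :
    σ ∈ tabSub T n h ↔ ∃ k < n, Rep σ (getP T k) := Iff.rfl

theorem tabSub_forall {T n : ℕ} {h : subOK T n = true} {q : Equiv.Perm GolayPt → Prop}
    {Q : ℕ → Bool} (hq : ∀ σ g, Rep σ g → σ ∈ M24 → Q g = true → q σ)
    (hQ : allTo (fun k => force (getP T k) Q) n = true) : ∀ σ ∈ tabSub T n h, q σ := by
  rintro σ ⟨k, hk, h1⟩
  have h2 := ((subOK_spec h).2 k hk).1
  refine hq σ _ h1 (h1.P_eq ▸ isM_mem h2) ?_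
  simpa only [force_eq] using (allTo_iff _ _).1 hQ k hk

theorem card_tabSub {T n : ℕ} (h : subOK T n = true) : Nat.card (tabSub T n h) = n := by
  have h1 := fun i hi => isM_rep ((subOK_spec h).2 i hi).1
  have : Function.Bijective (fun i : Fin n => (⟨P (getP T i), i, i.2, h1 i i.2⟩ : tabSub T n h)) :=
    ⟨fun i j e => Fin.ext ((((subOK_spec h).2 i i.2).2 j j.2).2
      (((h1 i i.2).eq_iff (h1 j j.2)).1 (congrArg Subtype.val e))),
      fun ⟨σ, k, hk, h2⟩ => ⟨⟨k, hk⟩, Subtype.ext h2.P_eq⟩⟩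
  rw [← Nat.card_eq_of_bijective _ this, Nat.card_eq_fintype_card, Fintype.card_fin]

/-- Membership of the element coded by `g` in the listed subgroup. -/
noncomputable def memT' (T n g : ℕ) : Bool := anyTo (fun k => peq (getP T k) g) n

theorem mem_tabSub_iff {T n : ℕ} {h : subOK T n = true} {σ : Equiv.Perm GolayPt} {g : ℕ}
    (hg : Rep σ g) : σ ∈ tabSub T n h ↔ memT' T n g = true := by
  rw [mem_tabSub, memT', anyTo_iff]
  refine exists_congr fun k => and_congr_right fun hk => ⟨fun h1 => (h1.eq_iff hg).1 rfl, fun h1 => ?_⟩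
  have h2 := isM_rep ((subOK_spec h).2 k hk).1
  exact (h2.eq_iff hg).2 h1 ▸ h2

/-- The element coded by `g` normalises the listed subgroup. -/
noncomputable def normOK (T n g : ℕ) : Bool :=
  allTo (fun i => force (getP T i) fun a => anyTo (fun j => force (getP T j) (cjq g a)) n) n

theorem normOK_sound {T n : ℕ} {h : subOK T n = true} {σ : Equiv.Perm GolayPt} {g : ℕ}
    (hg : Rep σ g) (h1 : normOK T n g = true) :
    σ ∈ Subgroup.normalizer (tabSub T n h : Set (Equiv.Perm GolayPt)) := by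
  refine Subgroup.mem_normalizer_fintype ?_
  rintro τ ⟨i, hi, h2⟩
  have := (allTo_iff _ _).1 h1 i hi
  simp only [force_eq, anyTo_iff] at this
  obtain ⟨j, hj, h3⟩ := this
  have h4 := isM_rep ((subOK_spec h).2 j hj).1
  rw [mul_inv_eq_iff_eq_mul.2 ((cjq_iff hg h2 h4).2 h3)]
  exact ⟨j, hj, h4⟩

/-- A normal subgroup with a complement, transported along an isomorphism. -/
theorem split_of_tables {G B : Type*} [Group G] [Group B] {H N : Subgroup (Equiv.Perm GolayPt)}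
    (e : G ≃* H) (hN : N ≤ H) (hn : H ≤ Subgroup.normalizer (N : Set (Equiv.Perm GolayPt)))
    (ψ : B →* H) (h : ∀ b, (ψ b : Equiv.Perm GolayPt) ∈ N → b = 1)
    (hc : Nat.card H ≤ Nat.card N * Nat.card B) : ∃ (M : Subgroup G) (_ : M.Normal),
      Nat.card M = Nat.card N ∧ (∀ x ∈ M, (e x : Equiv.Perm GolayPt) ∈ N) ∧ Nonempty (G ⧸ M ≃* B) := by
  have : Finite G := Finite.of_equiv _ e.symm.toEquiv
  have h1 : (N.subgroupOf H).Normal := Subgroup.normal_subgroupOf_of_le_normalizer hn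
  have h2 : Nat.card ((N.subgroupOf H).comap e.toMonoidHom) = Nat.card N := by
    rw [← Nat.card_congr (Subgroup.subgroupOfEquivOfLe hN).toEquiv]
    exact Nat.card_congr (e.toEquiv.subtypeEquiv fun _ => Iff.rfl)
  refine ⟨(N.subgroupOf H).comap e.toMonoidHom, inferInstance, h2, fun x hx => hx,
    quot_of_compl _ (e.symm.toMonoidHom.comp ψ) (fun b hb => h b (by
      simpa [Subgroup.mem_subgroupOf] using hb)) ?_⟩
  rwa [h2, Nat.card_congr e.toEquiv]

/-- Index of a `2 × 2` matrix over the field with three elements. -/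
def cd3 (a b c d : ZMod 3) : ℕ := a.val + 3 * b.val + 9 * c.val + 27 * d.val

theorem card_gl23 : Nat.card (GL (Fin 2) (ZMod 3)) = 48 := by
  rw [Matrix.card_GL_field]; simp [Fin.prod_univ_two]

theorem gl23_hom (H : Subgroup (Equiv.Perm GolayPt)) (T : ℕ) (q : ℕ → Bool)
    (h1 : ∀ a b c d : ZMod 3, a * d - b * c ≠ 0 → InK H (getP T (cd3 a b c d)))
    (h2 : ∀ a b c d : ZMod 3, a * d - b * c ≠ 0 → ∀ a' b' c' d' : ZMod 3, a' * d' - b' * c' ≠ 0 →
      pmul (getP T (cd3 a b c d)) (getP T (cd3 a' b' c' d')) =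
        getP T (cd3 (a * a' + b * c') (a * b' + b * d') (c * a' + d * c') (c * b' + d * d')))
    (h3 : ∀ a b c d : ZMod 3, a * d - b * c ≠ 0 → q (getP T (cd3 a b c d)) = true →
      a = 1 ∧ b = 0 ∧ c = 0 ∧ d = 1) : ∃ ψ : GL (Fin 2) (ZMod 3) →* H,
      ∀ A, ∃ g, Rep (ψ A) g ∧ (q g = true → A = 1) := by
  have hd : ∀ A : GL (Fin 2) (ZMod 3), A 0 0 * A 1 1 - A 0 1 * A 1 0 ≠ 0 := fun A => by
    rw [← Matrix.det_fin_two]; exact A.det_ne_zero
  obtain ⟨ψ, h⟩ := hom_of_table H (fun A : GL (Fin 2) (ZMod 3) =>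
    getP T (cd3 (A 0 0) (A 0 1) (A 1 0) (A 1 1))) (fun A => h1 _ _ _ _ (hd A)) (fun A B => by
      rw [h2 _ _ _ _ (hd A) _ _ _ _ (hd B)]
      simp [Matrix.mul_apply, Fin.sum_univ_two])
  refine ⟨ψ, fun A => ⟨_, h A, fun e => ?_⟩⟩
  obtain ⟨h4, h5, h6, h7⟩ := h3 _ _ _ _ (hd A) e
  ext i j
  fin_cases i <;> fin_cases j <;> simpa

/-! ### Dodecads -/

def dT : ℕ := 0x2ccea5b1c9b448d7d506a42f2188202bd47b11c65c5929d209aa2ed18820bae957b6289ba44b1cd0524ac18820752cb3a4a455cd0acdac7ca281882075576518ac3dd28a3e449b630188208aa6fa22f2a96093ac8db31c61882089df3ac2eda150655992591c918820b2eb42b4e99b870bc584521e6908207ce2a599c8b9e0d2d12ca92c39082079551bc1cc59cc39d488a26cd90820bda8e7a0ed2d4925c46c52670308209bd515caa3b1e042d189736e830820b5dd4799509d4895c5833c8ad40820756eb8a1f055984a4da628ce990820abacb50e708dd2da3c922a0ec3082075237b30a25a8929be03ab4e84982052df5718f02cd23bd84d8b284920208aa9570ef02bc44b1d885a6666c820994eb519e9b5c837560ca22226c8209b96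7b11ec55cc22d109ac2236c820b46952b4e49bc6c52e09b99c8148205aa8570cf0acd06b5da28c9e4624202d576889c4b9c6d7d24c9a150498207d2ca3a6645c588a946670af06c8209be95bcac85144c74526590f06846099eb6a19707a84371501ba62d232409bad578961a28cd3dd302a22323240b15d1bc144a9cd2a2d82985ed1a1205bca7a0a2455501b4e09736ec91860baa33588e87b9b0a152cacac1218603d1cfb04b09ada25564cb9a28490605ddf4ac262b442929c66735482324071cb458ee4559868d5b078a720a1208b954291683dd2d9bc22b32b0918605a9f5892e6b1460a1c299a1d2835825b951284e4a5c097d58d9a2c334a02a3e6ab8eccac48859526708e068650a9d6aa02e28cd062d983735f249201bceb65a2227a864a1cd2281cc83521a5df6a896d9c5267160050cf2611019c5f7a85c0b1c705d12c2a14d918449d5f15b1c6b524db9501510f000d22bced179963ab9283a804a48a1835828a8f6732922dcc35bd2d992a240201750b13c2e154d125d923ab5e661002bdab49ca307b9ac5a928398a418820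
def dL : List (ℕ × ℕ × ℕ) := [(0, 0x800000500000000a00b000000003006000007000009004002001000, 340831), (1, 0xf00001300000000e01100000000c01400001200001000d015000000, 340830), (2, 0x1700001e00000001c01a00000001d01800001600001b019000000000, 340828), (3, 0x1f000022000000026024000000023021000020000025000000000000, 340824), (4, 0x2c00002a00000002d02b000000028029000027000000000000000000, 340816)]

theorem d_tab : ∀ k < 46, InK Spor.M12 (getP dT k) :=
  tab_chk (chk := fun g => Nat.beq (act g 340831) 340831) (fun _ _ h h1 h2 =>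
    mem_M12.2 ⟨h1, chk_S _ _ _ h h2⟩) (by decide +kernel)

theorem d_chain1 : Chain Spor.M12 dT ((dL.drop 1).map Prod.snd) 1 :=
  (lchk_card d_tab (by decide +kernel) card_G1.le).2
theorem d_chain2 : Chain Spor.M12 dT ((dL.drop 2).map Prod.snd) 3 :=
  (lchk_card d_tab (by decide +kernel) card_G2.le).2
theorem d_chain3 : Chain Spor.M12 dT ((dL.drop 3).map Prod.snd) 7 :=
  (lchk_card d_tab (by decide +kernel) card_G3.le).2
theorem d_chain4 : Chain Spor.M12 dT ((dL.drop 4).map Prod.snd) 15 :=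
  (lchk_card d_tab (by decide +kernel) card_G4.le).2

theorem inK_G {g F : ℕ} (h : isM g = true ∧ act g 340831 = 340831 ∧ fixes g F = true) :
    InK (Spor.M12 ⊓ Fx F) g :=
  ⟨_, ⟨mem_M12.2 ⟨isM_mem h.1, (isM_rep h.1).smul_S_eq h.2.1⟩, (isM_rep h.1).mem_Fx h.2.2⟩,
    isM_rep h.1⟩

theorem D0_compl : S 16436384 = (S 340831)ᶜ := by rw [← S_compl]; rfl

theorem dod_multi {n : ℕ} (hn : n ≤ 5) {d d' : Finset GolayPt} (hd : d ∈ dodecads)
    (hd' : d' ∈ dodecads) (x y : Fin n → GolayPt) (hx : Function.Injective x)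
    (hy : Function.Injective y) (hD : ∀ i, x i ∈ d) (hD' : ∀ i, y i ∈ d') :
    ∃ σ ∈ M24, σ • d = d' ∧ ∀ i, σ (x i) = y i := by
  induction hn using Nat.decreasingInduction with
  | self =>
    obtain ⟨σ, h1, rfl⟩ := m24_trans_dodecads_std hd
    obtain ⟨τ, h2, rfl⟩ := m24_trans_dodecads_std hd'
    obtain ⟨ρ, h3, h4⟩ := m12_five (fun i => σ⁻¹ (x i)) (fun i => τ⁻¹ (y i))
      (σ⁻¹.injective.comp hx) (fun i => (inv_apply_mem_iff _ _ _).2 (hD i))
      (τ⁻¹.injective.comp hy) (fun i => (inv_apply_mem_iff _ _ _).2 (hD' i))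
    refine ⟨τ * ρ * σ⁻¹, mul_mem (mul_mem h2 (M12_le h3)) (inv_mem h1), ?_, fun i => ?_⟩
    · rw [mul_smul, inv_smul_smul, mul_smul, (mem_M12.1 h3).2]
    · rw [Equiv.Perm.mul_apply, Equiv.Perm.mul_apply, h4, app_inv]
  | of_succ k hk ih =>
    obtain ⟨a, h1, h2⟩ := exists_mem_notMem (s := d) (t := univ.image x)
      (card_image_le.trans_lt (by rw [hd.2]; simp; omega))
    obtain ⟨b, h3, h4⟩ := exists_mem_notMem (s := d') (t := univ.image y)
      (card_image_le.trans_lt (by rw [hd'.2]; simp; omega))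
    obtain ⟨σ, h5, h6, h7⟩ := ih (Fin.cons a x) (Fin.cons b y)
      (inj_cons hx fun i e => h2 (mem_image.2 ⟨i, mem_univ _, e⟩))
      (inj_cons hy fun i e => h4 (mem_image.2 ⟨i, mem_univ _, e⟩))
      (fun i => by induction i using Fin.cases <;> simp [h1, hD])
      (fun i => by induction i using Fin.cases <;> simp [h3, hD'])
    exact ⟨σ, h5, h6, fun i => h7 i.succ⟩

theorem dod_fix_five {d : Finset GolayPt} (hd : d ∈ dodecads) {g : Equiv.Perm GolayPt}
    (hg : g ∈ M24) (hgd : g • d = d) {s : Finset GolayPt} (hs : s ⊆ d) (h5 : 5 ≤ s.card)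
    (hf : ∀ p ∈ s, g p = p) : g = 1 := by
  obtain ⟨σ, h1, rfl⟩ := m24_trans_dodecads_std hd
  obtain ⟨x, h2, h3⟩ := exists_inj h5
  refine eq_one_of_conj (τ := σ) (m12_fix_five (mem_M12.2 ⟨conj_mem_M24 h1 hg,
    (conj_smul_eq_iff _ _ _).2 hgd⟩) (fun i => σ⁻¹ (x i)) (σ⁻¹.injective.comp h2)
    (fun i => (inv_apply_mem_iff _ _ _).2 (hs (h3 i))) fun i => ?_)
  rw [conj_apply_eq_iff, app_inv, hf _ (h3 i)]

theorem dod_fix_le {d : Finset GolayPt} (hd : d ∈ dodecads) {g : Equiv.Perm GolayPt}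
    (hg : g ∈ M24) (hgd : g • d = d) (h1 : g ≠ 1) : (fixS g ∩ d).card ≤ 4 := by
  by_contra h
  exact h1 (dod_fix_five hd hg hgd (s := fixS g ∩ d) inter_subset_right (by omega)
    fun p hp => (mem_filter.1 (mem_inter.1 hp).1).2)

theorem dod_std3 {d : Finset GolayPt} (hd : d ∈ dodecads) {p q r : GolayPt} (hp : p ∈ d)
    (hq : q ∈ d) (hr : r ∈ d) (hpq : p ≠ q) (hpr : p ≠ r) (hqr : q ≠ r) :
    ∃ σ ∈ M24, σ • S 340831 = d ∧ σ (pt 0) = p ∧ σ (pt 1) = q ∧ σ (pt 2) = r := by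
  obtain ⟨σ, h1, h2, h3⟩ := dod_multi (n := 3) (by norm_num) D0_mem hd ![pt 0, pt 1, pt 2]
    ![p, q, r] (by decide +kernel) (inj_vec3 hpq hpr hqr) (by decide +kernel)
    (fun i => by fin_cases i <;> simpa)
  exact ⟨σ, h1, h2, h3 0, h3 1, h3 2⟩

theorem mem_G3 {σ : Equiv.Perm GolayPt} : σ ∈ Spor.M12 ⊓ Fx 7 ↔ σ ∈ M24 ∧
    ((σ • S 340831 = S 340831 ∧ σ (pt 0) = pt 0) ∧ σ (pt 1) = pt 1) ∧ σ (pt 2) = pt 2 := by
  rw [Subgroup.mem_inf, mem_M12, mem_Fx, show S 7 = {pt 0, pt 1, pt 2} by decide +kernel]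
  simp [and_assoc]

/-- The stabiliser of a dodecad and three of its points. -/
def G3equiv {σ : Equiv.Perm GolayPt} (hσ : σ ∈ M24) :
    ↥(stabilizer M24 (σ • S 340831) ⊓ stabilizer M24 (σ (pt 0)) ⊓ stabilizer M24 (σ (pt 1)) ⊓
      stabilizer M24 (σ (pt 2))) ≃* ↥(Spor.M12 ⊓ Fx 7) :=
  equivOfConj _ _ (inf_le_left.trans M12_le) σ hσ fun x => by
    rw [mem_G3, conj_smul_eq_iff, conj_apply_eq_iff, conj_apply_eq_iff, conj_apply_eq_iff]
    exact ⟨fun h => ⟨conj_mem_M24 hσ x.2, h⟩, fun h => h.2⟩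

/-- A dodecad, a point in it and up to three points outside. -/
theorem dod_frame {n : ℕ} (hn : n ≤ 3) {d : Finset GolayPt} (hd : d ∈ dodecads) {p : GolayPt}
    (hp : p ∈ d) (x : Fin n → GolayPt) (hx : Function.Injective x) (hD : ∀ i, x i ∉ d) :
    ∃ σ ∈ M24, σ • S 340831 = d ∧ σ (pt 0) = p ∧
      ∀ i, σ (![pt 23, pt 5, pt 7] (Fin.castLE hn i)) = x i := by
  induction hn using Nat.decreasingInduction with
  | self =>
    obtain ⟨σ, h1, rfl, rfl⟩ := m24_trans_dodecad_point hd hp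
    obtain ⟨τ, h2, h3⟩ := m11c_three ![pt 23, pt 5, pt 7] (fun i => σ⁻¹ (x i)) (by decide +kernel)
      (by decide +kernel) (σ⁻¹.injective.comp hx) (fun i h => hD i ((inv_apply_mem_iff _ _ _).1 h))
    refine ⟨σ * τ, mul_mem h1 (M11_le h2), by rw [mul_smul, (mem_M11.1 h2).1.2], ?_, fun i => ?_⟩
    · rw [Equiv.Perm.mul_apply, (mem_M11.1 h2).2]
    · rw [Equiv.Perm.mul_apply, Fin.castLE_refl, h3, app_inv]
  | of_succ k hk ih =>
    obtain ⟨a, h1, h2⟩ := exists_mem_notMem (s := dᶜ) (t := univ.image x)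
      (card_image_le.trans_lt (by rw [(compl_mem_dodecads hd).2]; simp; omega))
    obtain ⟨σ, h3, h4, h5, h6⟩ := ih (Fin.snoc x a)
      (inj_snoc hx fun i e => h2 (mem_image.2 ⟨i, mem_univ _, e⟩))
      (fun i => by induction i using Fin.lastCases <;> simp [mem_compl.1 h1, hD])
    exact ⟨σ, h3, h4, h5, fun i => by simpa using h6 i.castSucc⟩

/-! ### Six points -/

theorem umbral_std (x : Fin 6 → GolayPt) (hx : Function.Injective x)
    (h : ¬ ∃ o ∈ octads, ∀ i, x i ∈ o) :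
    ∃ σ ∈ M24, ∀ i, σ (x i) = ![pt 4, pt 23, pt 0, pt 1, pt 2, pt 3] i := by
  obtain ⟨σ, h1, h2⟩ := m24_five_std (fun i => x i.succ) (hx.comp (Fin.succ_injective _))
  obtain ⟨τ, h3, h4⟩ := o8_out (y := σ (x 0)) fun h3 => h ⟨σ⁻¹ • S 8536111,
    smul_mem_octads (inv_mem h1) O0_mem, fun i => by
      rw [← apply_mem_smul_iff σ, smul_inv_smul]
      induction i using Fin.cases with
      | zero => exact h3
      | succ i => rw [h2]; revert i; decide +kernel⟩
  refine ⟨τ * σ, mul_mem h3.1 h1, fun i => ?_⟩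
  induction i using Fin.cases with
  | zero => exact h4
  | succ i =>
    rw [Equiv.Perm.mul_apply, h2, mem_Fx.1 h3.2 _ (by revert i; decide +kernel)]; rfl

theorem card_umbral : Nat.card ↥(M24 ⊓ Fx 8388639) = 3 := by
  have := step_card (H := M24) (K := M24) le_rfl (F := 8388623) (b := 4) (O := 8241104)
    (by norm_num) (by norm_num) (fun σ h => orbit_bound' (D := 8241104) (by
      rw [show 8241104 = 8536111 ^^^ 16777215 from rfl, S_compl, smul_finset_compl',
        octad_fixed h.1 h.2 isO_O0 (by decide +kernel)]) h.2 (by decide +kernel))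
    (fun y hy => by
      obtain ⟨σ, h1, h2⟩ := o8_out (y := y) (by revert y; decide +kernel)
      exact ⟨σ, ⟨h1.1, Fx_mono (by decide) h1.2⟩, h2⟩)
  rw [card_F5, show pc 8241104 = 16 by decide +kernel, show 8388623 ||| 2 ^ 4 = 8388639 from rfl]
    at this
  omega

theorem six_sym {E : Finset GolayPt} (hE : E.card = 6) (e : Equiv.Perm E) :
    ∃ g ∈ M24, ∀ p : E, g p = e p := by
  obtain ⟨x, h1, h2, h3⟩ := exists_enum hE
  have h4 : Function.Injective fun i => (e ⟨x i, h2 i⟩ : GolayPt) := fun i j hij =>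
    h1 (congrArg Subtype.val (e.injective (Subtype.ext hij)))
  suffices ∃ g ∈ M24, ∀ i, g (x i) = e ⟨x i, h2 i⟩ by
    obtain ⟨g, h5, h6⟩ := this
    refine ⟨g, h5, fun ⟨p, hp⟩ => ?_⟩
    obtain ⟨i, rfl⟩ := h3 p hp
    exact h6 i
  by_cases h : ∃ o ∈ octads, E ⊆ o
  · obtain ⟨o, ho, h⟩ := h
    obtain ⟨g, h5, -, h6⟩ := oct_frame' le_rfl ho ho x _ h1 h4 (fun i => h (h2 i))
      (fun i => h (coe_mem _))
    exact ⟨g, h5, h6⟩
  · obtain ⟨σ, h5, h6⟩ := umbral_std x h1 fun ⟨o, ho, h'⟩ => h ⟨o, ho, fun p hp => by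
      obtain ⟨i, rfl⟩ := h3 p hp; exact h' i⟩
    obtain ⟨τ, h7, h8⟩ := umbral_std _ h4 fun ⟨o, ho, h'⟩ => h ⟨o, ho, fun p hp => by
      obtain ⟨i, hi⟩ := h3 _ (e.symm ⟨p, hp⟩).2
      have := h' i
      simp only [hi, Subtype.coe_eta, Equiv.apply_symm_apply] at this
      exact this⟩
    exact ⟨τ⁻¹ * σ, mul_mem (inv_mem h7) h5, fun i => by
      rw [Equiv.Perm.mul_apply, h6, ← h8, inv_app]⟩

theorem card_fix_six {E : Finset GolayPt} (hE : E.card = 6) :
    Nat.card ↥(M24 ⊓ fixingSubgroup (Equiv.Perm GolayPt) (E : Set GolayPt)) =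
      if inO (msk E) then 16 else 3 := by
  have h0 := inO_iff (msk_lt E)
  rw [S_msk] at h0
  split_ifs with h
  · obtain ⟨o, ho, h1⟩ := h0.2 h
    obtain ⟨σ, h2, -, rfl⟩ := std_six_in ho hE h1
    rw [card_fix_smul h2, card_F6]
  · obtain ⟨x, h1, h2, h3⟩ := exists_enum hE
    obtain ⟨σ, h5, h6⟩ := umbral_std x h1 fun ⟨o, ho, h'⟩ => h (h0.1 ⟨o, ho, fun p hp => by
      obtain ⟨i, rfl⟩ := h3 p hp; exact h' i⟩)
    have : E = σ⁻¹ • S 8388639 := by
      refine eq_of_subset_of_card_le (fun p hp => ?_) (by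
        rw [card_smul_finset, hE]; decide +kernel)
      obtain ⟨i, rfl⟩ := h3 p hp
      rw [← apply_mem_smul_iff σ, smul_inv_smul, h6]
      clear hp; revert i; decide +kernel
    rw [this, card_fix_smul (inv_mem h5), card_umbral]

end H15
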