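import Cfsg.Agent.H15.Levels

/-! The octad group; restriction of a group action to an invariant finite set. -/

set_option autoImplicit false

namespace H15
open Cfsg Finset MulAction
open scoped Pointwise

section
variable {G X : Type*} [Group G] [MulAction G X] [DecidableEq X]

/-- The action of `K` on an invariant finite set. -/
def resHom (K : Subgroup G) (Y : Finset X) (h : ∀ g ∈ K, g • Y = Y) : K →* Equiv.Perm Y where
  toFun g := Equiv.Perm.subtypePerm (MulAction.toPerm (g : G)) fun x => by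
    conv_lhs => rw [← h g g.2]
    exact smul_mem_smul_finset_iff (g : G)
  map_one' := by ext; simp
  map_mul' a b := by ext x; exact mul_smul (a : G) (b : G) (x : X)

theorem resHom_apply (K : Subgroup G) (Y : Finset X) (h : ∀ g ∈ K, g • Y = Y) (g : K) (y : Y) :
    (resHom K Y h g y : X) = (g : G) • (y : X) := rfl

theorem mem_ker_resHom (K : Subgroup G) (Y : Finset X) (h : ∀ g ∈ K, g • Y = Y) (g : K) :
    g ∈ (resHom K Y h).ker ↔ ∀ y ∈ Y, (g : G) • y = y := by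
  rw [MonoidHom.mem_ker]
  constructor
  · intro e y hy
    exact congrArg (fun f : Equiv.Perm Y => (f ⟨y, hy⟩ : X)) e
  · intro e; ext y; exact e y y.2

theorem card_eq_range_mul_ker {H H' : Type*} [Group H] [Group H'] (φ : H →* H') :
    Nat.card H = Nat.card φ.range * Nat.card φ.ker := by
  rw [← Subgroup.index_ker, Subgroup.index_mul_card]

theorem resHom_inj (K : Subgroup G) (Y : Finset X) (h : ∀ g ∈ K, g • Y = Y)
    (hi : ∀ g ∈ K, (∀ y ∈ Y, g • y = y) → g = 1) : Function.Injective (resHom K Y h) := by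
  rw [injective_iff_map_eq_one]
  intro g hg
  exact Subtype.ext (hi g g.2 ((mem_ker_resHom K Y h g).1 hg))

theorem iso_perm_of_inj (K : Subgroup G) (Y : Finset X) (h : ∀ g ∈ K, g • Y = Y)
    (hi : ∀ g ∈ K, (∀ y ∈ Y, g • y = y) → g = 1) {n : ℕ} (hY : Y.card = n)
    (hK : Nat.card K = n.factorial) : Nonempty (K ≃* Equiv.Perm (Fin n)) := by
  have := (resHom_inj K Y h hi).bijective_of_nat_card_le (by
    rw [hK, Nat.card_perm, Nat.card_eq_fintype_card, Fintype.card_coe, hY])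
  exact ⟨(MulEquiv.ofBijective _ this).trans (Y.equivFinOfCardEq hY).permCongrHom⟩

theorem range_eq_alt {H : Type*} [Group H] {Y : Type*} [Fintype Y] [DecidableEq Y]
    (φ : H →* Equiv.Perm Y) (h : Nat.card φ.range * 2 = (Fintype.card Y).factorial) :
    φ.range = alternatingGroup Y := by
  apply Equiv.Perm.eq_alternatingGroup_of_index_eq_two
  have := φ.range.card_mul_index
  rw [Nat.card_perm, Nat.card_eq_fintype_card (α := Y), ← h] at this
  exact Nat.eq_of_mul_eq_mul_left Nat.card_pos this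

theorem iso_alt_of_inj (K : Subgroup G) (Y : Finset X) (h : ∀ g ∈ K, g • Y = Y)
    (hi : ∀ g ∈ K, (∀ y ∈ Y, g • y = y) → g = 1) {n : ℕ} (hY : Y.card = n)
    (hK : Nat.card K * 2 = n.factorial) : Nonempty (K ≃* alternatingGroup (Fin n)) := by
  have h1 := resHom_inj K Y h hi
  have h2 := range_eq_alt (resHom K Y h) (by
    rw [← Nat.card_congr (MonoidHom.ofInjective h1).toEquiv, hK, Fintype.card_coe, hY])
  exact ⟨((MonoidHom.ofInjective h1).trans (MulEquiv.subgroupCongr h2)).trans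
    (Y.equivFinOfCardEq hY).altCongrHom⟩

theorem surj_of_swaps {H Y : Type*} [Group H] [Finite Y] [DecidableEq Y] (φ : H →* Equiv.Perm Y)
    (h : ∀ x y, x ≠ y → ∃ g, φ g = Equiv.swap x y) : Function.Surjective φ := by
  intro e
  induction e using Equiv.Perm.swap_induction_on with
  | one => exact ⟨1, map_one φ⟩
  | swap_mul f x y hxy ih =>
    obtain ⟨a, ha⟩ := h x y hxy
    obtain ⟨b, hb⟩ := ih
    exact ⟨a * b, by rw [map_mul, ha, hb]⟩

end

theorem multi_trans_le {α : Type*} (K : Subgroup (Equiv.Perm α)) (D : Set α)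
    (hD : ∀ σ ∈ K, ∀ x ∈ D, σ x ∈ D) {n m : ℕ} (hm : m ≤ n) (b : Fin n → α)
    (h : ∀ l : Fin n, ∀ y ∈ D, (∀ i < l, y ≠ b i) → ∃ τ ∈ K, (∀ i < l, τ (b i) = b i) ∧ τ y = b l)
    (x : Fin m → α) (hx : Function.Injective x) (hxD : ∀ i, x i ∈ D) :
    ∃ σ ∈ K, ∀ i, σ (x i) = b (Fin.castLE hm i) := by
  refine multi_trans K D hD (fun i => b (Fin.castLE hm i)) (fun l y hy h1 => ?_) x hx hxD
  obtain ⟨τ, h2, h3, h4⟩ := h (Fin.castLE hm l) y hy (fun i hi =>
    h1 ⟨i, lt_trans hi l.2⟩ hi)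
  exact ⟨τ, h2, fun i hi => h3 _ hi, h4⟩

theorem conj_mem_M24 {τ g : Equiv.Perm GolayPt} (hτ : τ ∈ M24) (hg : g ∈ M24) :
    τ⁻¹ * g * τ ∈ M24 := mul_mem (mul_mem (inv_mem hτ) hg) hτ

theorem conj_mem_Fx_iff {τ g : Equiv.Perm GolayPt} {F : ℕ} :
    τ⁻¹ * g * τ ∈ Fx F ↔ ∀ p ∈ τ • S F, g p = p := by
  rw [mem_Fx]
  constructor
  · intro h p hp
    obtain ⟨q, hq, rfl⟩ := mem_smul_finset.1 hp
    exact (conj_apply_eq_iff _ _ _).1 (h q hq)
  · intro h p hp
    exact (conj_apply_eq_iff _ _ _).2 (h _ (smul_mem_smul_finset hp))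

theorem eq_one_of_conj {G : Type*} [Group G] {τ g : G} (h : τ⁻¹ * g * τ = 1) : g = 1 := by
  have : g = τ * (τ⁻¹ * g * τ) * τ⁻¹ := by group
  rw [this, h]; group

theorem mem_fixing {s : Finset GolayPt} {g : Equiv.Perm GolayPt} :
    g ∈ fixingSubgroup (Equiv.Perm GolayPt) (s : Set GolayPt) ↔ ∀ p ∈ s, g p = p := by
  rw [mem_fixingSubgroup_iff]; rfl

theorem card_fix_smul {τ : Equiv.Perm GolayPt} (hτ : τ ∈ M24) (F : ℕ) :
    Nat.card ↥(M24 ⊓ fixingSubgroup (Equiv.Perm GolayPt) ((τ • S F : Finset GolayPt) : Set GolayPt))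
      = Nat.card ↥(M24 ⊓ Fx F) :=
  Nat.card_congr (equivOfConj' _ _ τ fun x => by
    rw [Subgroup.mem_inf, Subgroup.mem_inf, conj_mem_Fx_iff, mem_fixing]
    refine and_congr_left' ⟨conj_mem_M24 hτ, fun h => ?_⟩
    simpa [mul_assoc] using mul_mem (mul_mem hτ h) (inv_mem hτ)).toEquiv

theorem smul_eq_of_fix {s : Finset GolayPt} {g : Equiv.Perm GolayPt} (h : ∀ p ∈ s, g p = p) :
    g • s = s := by
  apply eq_of_subset_of_card_le _ (card_smul_finset _ _).ge
  intro p hp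
  obtain ⟨q, hq, rfl⟩ := mem_smul_finset.1 hp
  rwa [Equiv.Perm.smul_def, h q hq]

theorem apply_mem_of_smul_eq {s : Finset GolayPt} {g : Equiv.Perm GolayPt} (h : g • s = s)
    (p : GolayPt) : g p ∈ s ↔ p ∈ s := by
  conv_lhs => rw [← h]
  exact apply_mem_smul_iff g s p

theorem Chain.card {H : Subgroup (Equiv.Perm GolayPt)} {T : ℕ} {L : List (ℕ × ℕ)} :
    ∀ {F : ℕ}, Chain H T L F → Nat.card ↥(H ⊓ Fx F) = (L.map fun l => pc l.2).prod := by
  induction L with
  | nil => intro F h; rw [show H ⊓ Fx F = ⊥ from h]; simp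
  | cons l L ih =>
    rintro F ⟨b, hb, h0, h1, h2, h3⟩
    rw [step_card le_rfl hb h0 h1 (fun y hy => by
      obtain ⟨τ, h4, h5, -⟩ := h2 y hy; exact ⟨τ, h4, h5⟩), ih h3]
    simp

/-! ### The group of the standard octad -/

theorem fix6_aux : ∀ σ ∈ M24 ⊓ Fx 8388655, σ ∈ Fx 8536111 ∧ σ * σ = 1 := fun σ hσ => by
  obtain ⟨g, h1, h2⟩ := m24_chain6.forall
    (Q := fun g => band (fixes g 8536111) (peq (pmul g g) pid)) (by decide +kernel) σ hσ
  rw [band_iff] at h2
  exact ⟨h1.mem_Fx h2.1, ((h1.mul h1).eq_iff Rep.one).2 h2.2⟩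

theorem Fx_mono {F F' : ℕ} (h : F &&& F' = F) : Fx F' ≤ Fx F := fun _ hσ =>
  mem_Fx.2 fun p hp => mem_Fx.1 hσ p (S_subset_of_and h hp)

theorem fix_O0_eq : M24 ⊓ Fx 8536111 = M24 ⊓ Fx 8388655 :=
  le_antisymm (inf_le_inf_left _ (Fx_mono (by decide))) fun σ hσ => ⟨hσ.1, (fix6_aux σ hσ).1⟩

theorem card_fix_octad {o : Finset GolayPt} (ho : o ∈ octads) :
    Nat.card ↥(M24 ⊓ fixingSubgroup (Equiv.Perm GolayPt) (o : Set GolayPt)) = 16 := by
  obtain ⟨τ, h1, rfl⟩ := std_octad ho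
  rw [card_fix_smul h1, fix_O0_eq, card_F6]

theorem sq_of_fix_octad {o : Finset GolayPt} (ho : o ∈ octads) {g : Equiv.Perm GolayPt}
    (hg : g ∈ M24) (h : ∀ p ∈ o, g p = p) : g * g = 1 := by
  obtain ⟨τ, h1, rfl⟩ := std_octad ho
  have := (fix6_aux _ (fix_O0_eq.le ⟨conj_mem_M24 h1 hg, conj_mem_Fx_iff.2 h⟩)).2
  apply eq_one_of_conj (τ := τ)
  rw [← this]; group

/-- The stabiliser of the standard octad. -/
abbrev K8 : Subgroup (Equiv.Perm GolayPt) := M24 ⊓ stabilizer (Equiv.Perm GolayPt) (S 8536111)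

def o8T : ℕ := 0xb9e086be3593a6952d94b10a618820bd6cb22627638cfa224a834b318820ba91094e346b9e63d8955b0a918820bd17661a2a23933ac1a7448af18820bbd8459e29b39559b606920b418820ba64d4562f83a87312d362caa18820bae957b6289ba44b1cd0524ac18820bb4c93ae2453ac893e8c9d4b018820b99b28523343aaa4b16f258a718820b926faa22da3a0b6255231cb618820bcc8cb2a265b8f47c9096c0b518820bc92655a2c3b9706cea47d0a818820bc0ea332364b892451ebaccad18820bb1f3a4232ab916218ed4a8ab18820ba1474922b3398d85676a3cb218820bd9e854ca46461534967a25cd18820bb5135bdd63160aa1ea964a2418820ba20ab18aca3a553bd332346b88820bb532a4c705b8953218753e3628820bb0d0aa9cb20e49a36cf3cca888820b9d13819d678d6463649a544a2c420b921452e28b38ed49a5564c6f11420bd9e66d1cb608f5424909c8aa1c420ba89034c56a8cf27d10d4b0ab74420bbea9b182b93a903a14d24c6c144a0ba9b664e34438e67c1692485509460bb1f6a1e2820e53ab606524ab70440ba6d369a243860c4497553c74138a0bda0c6bc465c4e8929349d4242b860b9c89828ada06d25a18fa987303a22bae047a40d516959227661dc61c441bd0927d430301483cd8b4b5d6188b1bd0d25ce27a9589b11487c04d181c1ba9eb21c69a89a693268a58102b831ba28463452a8d5035a677adc909411132867a1d63808d829329d42b2de231c147a340cac64b43d24999d6b94417316755075b4604349e89b6e92882075987418529c5744bd558100d286e32b16755454b5d04336707ca2970c0111d64450a66ba6f4da0a64a35184171a5aaa4ee62156f81d889563670820bdab49ca307b9ac5a928398a418820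
def o8J0 : ℕ := 0x1000000003000000000000000000000000005000006007004002
def o8J1 : ℕ := 0xc00000000b00000000000000000000000000900000d00a008000
def o8J2 : ℕ := 0x1200000000f00000000000000000000000000e000011010000000
def o8J3 : ℕ := 0x13000000014000000000000000000000000016000015000000000
def o8J4 : ℕ := 0x18000000017000000000000000000000000019000000000000000
def o8J5 : ℕ := 0x1b00000001a000000000000000000000000000000000000000000
def o8J6 : ℕ := 0x2102002602901c00002302700001e02401d02502801f02202a000000000000000000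

theorem o8_tab : ∀ k < 43, InK K8 (getP o8T k) := tab_stab _ (chk_S _) (by decide +kernel)

theorem o8_bd {F b O : ℕ}
    (h : b < 24 ∧ Nat.testBit 8536111 b = true ∧ F.testBit b = false ∧
      8536111 &&& (F ^^^ 16777215) = O) : ∀ σ ∈ K8 ⊓ Fx F, σ • pt b ∈ S O :=
  fun _ hσ => orbit_bound' hσ.1.2 hσ.2 h

theorem o8_chain7 : Chain K8 o8T [] 8388671 :=
  Chain.nil (eq_bot_iff.2 fun _ hσ => m24_bot.le ⟨hσ.1.1, hσ.2⟩)
theorem o8_chain6 : Chain K8 o8T [(o8J6, 8241104)] 8388655 :=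
  Chain.cons le_rfl o8_tab (fun σ hσ => m24_bd6 σ ⟨hσ.1.1, hσ.2⟩) (by decide +kernel) o8_chain7
theorem o8_chain5 : Chain K8 o8T [(o8J5, 147488), (o8J6, 8241104)] 8388623 :=
  Chain.cons le_rfl o8_tab (o8_bd (b := 5) (by decide +kernel)) (by decide +kernel) o8_chain6
theorem o8_chain4 : Chain K8 o8T [(o8J4, 147496), (o8J5, 147488), (o8J6, 8241104)] 8388615 :=
  Chain.cons le_rfl o8_tab (o8_bd (b := 3) (by decide +kernel)) (by decide +kernel) o8_chain5
theorem o8_chain3 :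
    Chain K8 o8T [(o8J3, 147500), (o8J4, 147496), (o8J5, 147488), (o8J6, 8241104)] 8388611 :=
  Chain.cons le_rfl o8_tab (o8_bd (b := 2) (by decide +kernel)) (by decide +kernel) o8_chain4
theorem o8_chain2 : Chain K8 o8T
    [(o8J2, 147502), (o8J3, 147500), (o8J4, 147496), (o8J5, 147488), (o8J6, 8241104)] 8388609 :=
  Chain.cons le_rfl o8_tab (o8_bd (b := 1) (by decide +kernel)) (by decide +kernel) o8_chain3

theorem o8_multi {n : ℕ} (hn : n ≤ 6) (x : Fin n → GolayPt) (hx : Function.Injective x)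
    (hD : ∀ i, x i ∈ S 8536111) :
    ∃ σ ∈ K8, ∀ i, σ (x i) = ![pt 23, pt 0, pt 1, pt 2, pt 3, pt 5] (Fin.castLE hn i) := by
  refine multi_trans_le K8 (S 8536111) (fun σ hσ y hy => (apply_mem_of_smul_eq hσ.2 y).2 hy) hn
    _ ?_ x hx hD
  intro l y hy' hy
  rw [mem_coe] at hy'
  fin_cases l
  · obtain ⟨σ, h1, h2⟩ := lev_sound o8_tab (J := o8J0) (F := 0) (b := 23) (O := 8536111)
      (by decide +kernel) y (by revert y; decide +kernel)
    exact ⟨σ, h1.1, fun i hi => mem_Fx.1 h1.2 _ (by revert i; decide +kernel), h2⟩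
  · obtain ⟨σ, h1, h2⟩ := lev_sound o8_tab (J := o8J1) (F := 8388608) (b := 0) (O := 147503)
      (by decide +kernel) y (by revert y; decide +kernel)
    exact ⟨σ, h1.1, fun i hi => mem_Fx.1 h1.2 _ (by revert i; decide +kernel), h2⟩
  · obtain ⟨σ, h1, h2⟩ := lev_sound o8_tab (J := o8J2) (F := 8388609) (b := 1) (O := 147502)
      (by decide +kernel) y (by revert y; decide +kernel)
    exact ⟨σ, h1.1, fun i hi => mem_Fx.1 h1.2 _ (by revert i; decide +kernel), h2⟩
  · obtain ⟨σ, h1, h2⟩ := lev_sound o8_tab (J := o8J3) (F := 8388611) (b := 2) (O := 147500)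
      (by decide +kernel) y (by revert y; decide +kernel)
    exact ⟨σ, h1.1, fun i hi => mem_Fx.1 h1.2 _ (by revert i; decide +kernel), h2⟩
  · obtain ⟨σ, h1, h2⟩ := lev_sound o8_tab (J := o8J4) (F := 8388615) (b := 3) (O := 147496)
      (by decide +kernel) y (by revert y; decide +kernel)
    exact ⟨σ, h1.1, fun i hi => mem_Fx.1 h1.2 _ (by revert i; decide +kernel), h2⟩
  · obtain ⟨σ, h1, h2⟩ := lev_sound o8_tab (J := o8J5) (F := 8388623) (b := 5) (O := 147488)
      (by decide +kernel) y (by revert y; decide +kernel)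
    exact ⟨σ, h1.1, fun i hi => mem_Fx.1 h1.2 _ (by revert i; decide +kernel), h2⟩

theorem o8_out {y : GolayPt} (hy : y ∉ S 8536111) : ∃ σ ∈ M24 ⊓ Fx 8536111, σ y = pt 4 := by
  obtain ⟨σ, h1, h2⟩ := m24_lev6 y (by revert y; decide +kernel)
  exact ⟨σ, fix_O0_eq ▸ ⟨K24_le h1.1, h1.2⟩, h2⟩

theorem oct_frame_std {n : ℕ} (hn : n ≤ 6) {o : Finset GolayPt} (ho : o ∈ octads)
    (x : Fin n → GolayPt) (hx : Function.Injective x) (hD : ∀ i, x i ∈ o) {p : GolayPt}
    (hp : p ∉ o) : ∃ σ ∈ M24, σ • o = S 8536111 ∧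
      (∀ i, σ (x i) = ![pt 23, pt 0, pt 1, pt 2, pt 3, pt 5] (Fin.castLE hn i)) ∧ σ p = pt 4 := by
  obtain ⟨σ, h1, h2⟩ := m24_trans_octads ho O0_mem
  obtain ⟨τ, h3, h4⟩ := o8_multi hn (fun i => σ (x i)) (σ.injective.comp hx)
    (fun i => by rw [← h2, apply_mem_smul_iff]; exact hD i)
  obtain ⟨ρ, h5, h6⟩ := o8_out (y := τ (σ p)) (by
    rwa [apply_mem_of_smul_eq h3.2, ← h2, apply_mem_smul_iff])
  refine ⟨ρ * τ * σ, mul_mem (mul_mem h5.1 h3.1) h1, ?_, fun i => ?_, h6⟩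
  · rw [mul_smul, mul_smul, h2, h3.2, smul_eq_of_fix (mem_Fx.1 h5.2)]
  · rw [Equiv.Perm.mul_apply, Equiv.Perm.mul_apply, h4]
    apply mem_Fx.1 h5.2
    generalize Fin.castLE hn i = j
    revert j; decide +kernel

/-- `M24` is transitive on octads with up to six marked points inside and one outside. -/
theorem oct_frame {n : ℕ} (hn : n ≤ 6) {o o' : Finset GolayPt} (ho : o ∈ octads)
    (ho' : o' ∈ octads) (x y : Fin n → GolayPt) (hx : Function.Injective x)
    (hy : Function.Injective y) (hD : ∀ i, x i ∈ o) (hD' : ∀ i, y i ∈ o') {p q : GolayPt}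
    (hp : p ∉ o) (hq : q ∉ o') : ∃ σ ∈ M24, σ • o = o' ∧ (∀ i, σ (x i) = y i) ∧ σ p = q := by
  obtain ⟨σ, h1, h2, h3, h4⟩ := oct_frame_std hn ho x hx hD hp
  obtain ⟨τ, h5, h6, h7, h8⟩ := oct_frame_std hn ho' y hy hD' hq
  refine ⟨τ⁻¹ * σ, mul_mem (inv_mem h5) h1, by rw [mul_smul, h2, ← h6, inv_smul_smul],
    fun i => ?_, ?_⟩
  · rw [Equiv.Perm.mul_apply, h3, ← h7, inv_app]
  · rw [Equiv.Perm.mul_apply, h4, ← h8, inv_app]

theorem exists_not_mem_octad {o : Finset GolayPt} (ho : o ∈ octads) : ∃ p, p ∉ o := by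
  obtain ⟨p, -, h⟩ := exists_mem_notMem_of_card_lt_card (s := o) (t := univ)
    (by rw [ho.2, card_univ, card_pt]; norm_num)
  exact ⟨p, h⟩

theorem oct_frame' {n : ℕ} (hn : n ≤ 6) {o o' : Finset GolayPt} (ho : o ∈ octads)
    (ho' : o' ∈ octads) (x y : Fin n → GolayPt) (hx : Function.Injective x)
    (hy : Function.Injective y) (hD : ∀ i, x i ∈ o) (hD' : ∀ i, y i ∈ o') :
    ∃ σ ∈ M24, σ • o = o' ∧ ∀ i, σ (x i) = y i := by
  obtain ⟨p, hp⟩ := exists_not_mem_octad ho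
  obtain ⟨q, hq⟩ := exists_not_mem_octad ho'
  obtain ⟨σ, h1, h2, h3, -⟩ := oct_frame hn ho ho' x y hx hy hD hD' hp hq
  exact ⟨σ, h1, h2, h3⟩

theorem std_oct_in {o : Finset GolayPt} (ho : o ∈ octads) {p : GolayPt} (hp : p ∈ o) :
    ∃ σ ∈ M24, σ • (pt 23, S 8536111) = (p, o) := by
  obtain ⟨σ, h1, h2, h3⟩ := oct_frame' (n := 1) (by norm_num) O0_mem ho ![pt 23] ![p]
    (Function.injective_of_subsingleton _) (Function.injective_of_subsingleton _)
    (by decide +kernel) (by simpa)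
  exact ⟨σ, h1, Prod.ext (h3 0) h2⟩

theorem std_oct_out {o : Finset GolayPt} (ho : o ∈ octads) {p : GolayPt} (hp : p ∉ o) :
    ∃ σ ∈ M24, σ • (pt 4, S 8536111) = (p, o) := by
  obtain ⟨σ, h1, h2, -, h3⟩ := oct_frame (n := 0) (by norm_num) O0_mem ho ![] ![]
    (Function.injective_of_subsingleton _) (Function.injective_of_subsingleton _)
    (by simp) (by simp) (p := pt 4) (by decide +kernel) hp
  exact ⟨σ, h1, Prod.ext h3 h2⟩

theorem std_oct_in_in {o : Finset GolayPt} (ho : o ∈ octads) {p q : GolayPt} (hp : p ∈ o)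
    (hq : q ∈ o) (h : p ≠ q) : ∃ σ ∈ M24, σ • ((pt 23, pt 0), S 8536111) = ((p, q), o) := by
  obtain ⟨σ, h1, h2, h3⟩ := oct_frame' (n := 2) (by norm_num) O0_mem ho ![pt 23, pt 0] ![p, q]
    (inj_vec2 (by decide)) (inj_vec2 h) (by decide +kernel)
    (fun i => by fin_cases i <;> simpa)
  exact ⟨σ, h1, Prod.ext (Prod.ext (h3 0) (h3 1)) h2⟩

theorem std_oct_in_out {o : Finset GolayPt} (ho : o ∈ octads) {p q : GolayPt} (hp : p ∈ o)
    (hq : q ∉ o) : ∃ σ ∈ M24, σ • ((pt 23, pt 4), S 8536111) = ((p, q), o) := by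
  obtain ⟨σ, h1, h2, h3, h4⟩ := oct_frame (n := 1) (by norm_num) O0_mem ho ![pt 23] ![p]
    (Function.injective_of_subsingleton _) (Function.injective_of_subsingleton _)
    (by decide +kernel) (by simpa) (p := pt 4) (by decide +kernel) hq
  exact ⟨σ, h1, Prod.ext (Prod.ext (h3 0) h4) h2⟩

/-- Six points of an octad can be moved to the standard six points. -/
theorem std_six_in {o E : Finset GolayPt} (ho : o ∈ octads) (hE : E.card = 6) (h : E ⊆ o) :
    ∃ σ ∈ M24, σ • S 8536111 = o ∧ σ • S 8388655 = E := by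
  obtain ⟨σ, h1, h2, h3⟩ := oct_frame' le_rfl O0_mem ho ![pt 23, pt 0, pt 1, pt 2, pt 3, pt 5]
    (fun i => ((E.equivFinOfCardEq hE).symm i : GolayPt)) (by decide +kernel)
    (Subtype.val_injective.comp (E.equivFinOfCardEq hE).symm.injective) (by decide +kernel)
    (fun i => h (coe_mem _))
  refine ⟨σ, h1, h2, eq_of_subset_of_card_le ?_ (by rw [card_smul_finset, hE]; decide +kernel)⟩
  intro p hp
  obtain ⟨q, hq, rfl⟩ := mem_smul_finset.1 hp
  have : ∃ i, q = ![pt 23, pt 0, pt 1, pt 2, pt 3, pt 5] i := by clear hp; revert q; decide +kernel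
  obtain ⟨i, rfl⟩ := this
  rw [Equiv.Perm.smul_def, h3]; exact coe_mem _

theorem fix_octad_of_six {o E : Finset GolayPt} (ho : o ∈ octads) (hE : 6 ≤ E.card) (h : E ⊆ o)
    {g : Equiv.Perm GolayPt} (hg : g ∈ M24) (hf : ∀ p ∈ E, g p = p) : ∀ p ∈ o, g p = p := by
  obtain ⟨E', h0, hE'⟩ := exists_subset_card_eq hE
  obtain ⟨σ, h1, rfl, rfl⟩ := std_six_in ho hE' (h0.trans h)
  exact conj_mem_Fx_iff.1 (fix6_aux _ ⟨conj_mem_M24 h1 hg,
    conj_mem_Fx_iff.2 fun p hp => hf p (h0 hp)⟩).1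

/-- An element of `M24` fixing six points of an octad and a point outside is the identity. -/
theorem eq_one_of_frame {o E : Finset GolayPt} (ho : o ∈ octads) (hE : 6 ≤ E.card) (h : E ⊆ o)
    {g : Equiv.Perm GolayPt} (hg : g ∈ M24) (hf : ∀ p ∈ E, g p = p) {q : GolayPt} (hq : q ∉ o)
    (hq' : g q = q) : g = 1 := by
  have h0 := fix_octad_of_six ho hE h hg hf
  obtain ⟨σ, h1, h2⟩ := std_oct_out ho hq
  obtain ⟨rfl, rfl⟩ := Prod.mk.inj h2
  have : σ⁻¹ * g * σ ∈ M24 ⊓ Fx 8388671 := by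
    rw [show 8388671 = 8388655 ||| 2 ^ 4 from rfl, ← Fx_inf_stab _ (by norm_num), ← inf_assoc,
      ← fix_O0_eq]
    exact ⟨⟨conj_mem_M24 h1 hg, conj_mem_Fx_iff.2 h0⟩, (conj_apply_eq_iff _ _ _).2 hq'⟩
  rw [m24_bot] at this
  exact eq_one_of_conj this

theorem card_stab_of_trans {X : Type*} [MulAction (Equiv.Perm GolayPt) X] {Ω : Set X} {x : X}
    (h1 : ∀ σ ∈ M24, σ • x ∈ Ω) (h2 : ∀ y ∈ Ω, ∃ σ ∈ M24, σ • x = y) {n k : ℕ} (hn : Ω.ncard = n)
    (hk : n * k = 244823040) : Nat.card (stabilizer M24 x) = k := by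
  have := card_top_eq_of_orbit (G := M24) x Ω (fun σ => h1 σ σ.2) (fun y hy => by
    obtain ⟨σ, h3, h4⟩ := h2 y hy; exact ⟨⟨σ, h3⟩, h4⟩)
  rw [card_M24, hn, ← hk] at this
  exact (Nat.eq_of_mul_eq_mul_left (Nat.pos_of_ne_zero (by rintro rfl; simp at hk)) this).symm

theorem card_stab_octad {o : Finset GolayPt} (ho : o ∈ octads) :
    Nat.card (stabilizer M24 o) = 322560 :=
  card_stab_of_trans (fun _ h => smul_mem_octads h ho) (fun _ h => m24_trans_octads ho h)
    octads_ncard (by norm_num)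

theorem card_stab_sextet {X : Finset (Finset GolayPt)} (h : X ∈ sextets) :
    Nat.card (stabilizer M24 X) = 138240 :=
  card_stab_of_trans (fun _ h' => smul_mem_sextets h' h) (fun _ h' => m24_trans_sextets h h')
    sextets_ncard (by norm_num)

theorem card_stab_trio {X : Finset (Finset GolayPt)} (h : X ∈ trios) :
    Nat.card (stabilizer M24 X) = 64512 :=
  card_stab_of_trans (fun _ h' => smul_mem_trios h' h) (fun _ h' => m24_trans_trios h h')
    trios_ncard (by norm_num)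

/-- Subgroups of `M24` described by a property, in the two usual forms. -/
theorem card_subgroupOf_M24 (K : Subgroup M24) (L : Subgroup (Equiv.Perm GolayPt)) (hL : L ≤ M24)
    (h : ∀ x : M24, x ∈ K ↔ (x : Equiv.Perm GolayPt) ∈ L) : Nat.card K = Nat.card L :=
  Nat.card_congr (equivOfConj K L hL 1 (one_mem _) (by simpa using h)).toEquiv

theorem card_stab_inf {X : Type*} [MulAction (Equiv.Perm GolayPt) X] (x : X) :
    Nat.card ↥(M24 ⊓ stabilizer (Equiv.Perm GolayPt) x) = Nat.card (stabilizer M24 x) :=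
  (card_subgroupOf_M24 _ _ inf_le_left fun g => ⟨fun h => ⟨g.2, h⟩, fun h => h.2⟩).symm

end H15
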