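/-
Standard `U₄(2)` (S3138): chunk BE.
-/
import Cfsg.Agent.H18.G1

set_option autoImplicit false
set_option linter.unusedSectionVars false

namespace H15.G38
open Cfsg Subgroup H19 H28.CY H18.U2 H18.G38 Matrix
open H15.GC (ω ν)
universe u
variable {G : Type u} [Group G] [Finite G] {ι : Γ4 →* G} {a b c d g h k o s t u w y : G} {S X : Subgroup G} {l m x x' : Γ4}

/-- a Sylow 2-subgroup of `C(t)` -/
structure Sy (ι : Γ4 →* G) (t : G) (X S : Subgroup G) : Prop extends Sr ι t X where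
  sy : Syl 2 S C[t]
  le : Tm ι ⊔ zpowers t ≤ S
  sz : S ≤ C[ι zz]
/-- an element normalizing `S` and interchanging `t`, `t z` -/
structure Nd (ι : Γ4 →* G) (t : G) (S : Subgroup G) (d : G) : Prop where
  nd : d ∈ N(S)
  dt : d * t * d⁻¹ = t * ι zz
  dz : d * ι zz * d⁻¹ = ι zz
  dd : d * d ∈ S
/-- action modulo `z` -/
def Ez (ι : Γ4 →* G) (g : G) (x l : Γ4) : Prop := ∃ c, g * ι x * g⁻¹ = ι (l * z c)
/-- equality modulo `z` -/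
abbrev ez (x l : Γ4) : Prop := ∃ c, x = l * z c
/-- the elements of order four of `Q` modulo `z` -/
def L6 : List Γ4 := [i1, j1, k1, i2, j2, k2]
/-- the generators of `Q` -/
def L4 : List Γ4 := [i1, j1, i2, j2]
/-- the action of `1, e, s, e s` -/
def fA (n : Fin 4) (x : Γ4) : Γ4 := ![x, e0 * x * e0, φ st x, e0 * φ st x * e0] n
/-- the elements `1, e, s, e s` -/
def gA (ι : Γ4 →* G) (s : G) (n : Fin 4) : G := ![1, ι e0, s, ι e0 * s] n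

theorem ee : e0⁻¹ = e0 := a_inv _
theorem zz' : ι zz * ι zz = 1 := by rw [← map_mul, zz2, map_one]
theorem zc' (h : g * ι zz * g⁻¹ = ι zz) (c : K 𝔽) : g * ι (z c) * g⁻¹ = ι (z c) := by
  rcases z_cases c with e | e <;> simp [e, h]
theorem L6U (h : x ∈ L6) : x ∈ U 𝔽 := by
  simp only [L6, List.mem_cons, List.not_mem_nil, or_false] at h
  rcases h with rfl | rfl | rfl | rfl | rfl | rfl <;> exact upU ..
theorem zU' (h : x ∈ U 𝔽) (c : K 𝔽) : z c * x = x * z c := let ⟨_, _, e⟩ := h; e ▸ (up_z ..).symm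
theorem Ez.of (e : g * ι x * g⁻¹ = ι l) : Ez ι g x l := ⟨0, by rw [e, z_0, mul_one]⟩
theorem Ez.comp (h : Ez ι d x l) (h' : Ez ι g l m) (e : g * ι zz * g⁻¹ = ι zz) : Ez ι (g * d) x m :=
  let ⟨c, p⟩ := h; let ⟨c', p'⟩ := h'; ⟨c' + c, by rw [cj2, p, map_mul, ← conj_mul, p', zc' e, ← map_mul, mul_assoc, z_mul]⟩
theorem Ez.tgt (h : Ez ι d x l) (e : ez l m) : Ez ι d x m :=
  let ⟨c, p⟩ := h; let ⟨c', p'⟩ := e; ⟨c' + c, by rw [p, p', mul_assoc, z_mul]⟩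
theorem Ez.src (h : Ez ι d x l) (dz : d * ι zz * d⁻¹ = ι zz) (e : ez x' x) : Ez ι d x' l :=
  let ⟨c, p⟩ := h; let ⟨c', p'⟩ := e; ⟨c + c', by rw [p', map_mul, ← conj_mul, p, zc' dz, ← map_mul, mul_assoc, z_mul]⟩
theorem Ez.inv (h : Ez ι d x l) (dz : d * ι zz * d⁻¹ = ι zz) : Ez ι d⁻¹ l x :=
  let ⟨c, p⟩ := h; ⟨c, by
    have : d * ι (x * z c) * d⁻¹ = ι l := by rw [map_mul, ← conj_mul, p, zc' dz, ← map_mul, mul_assoc, a_sq, mul_one]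
    rw [← this]; group⟩
theorem Ez.inj (he : Function.Injective ι) (h : Ez ι d x l) (h' : Ez ι d x m) : ez l m :=
  let ⟨c, p⟩ := h; let ⟨c', p'⟩ := h'; ⟨c' + c, by rw [← z_mul, ← mul_assoc, ← he (p.symm.trans p'), mul_assoc, a_sq, mul_one]⟩
theorem Ez.prod (h : Ez ι d x l) (h' : Ez ι d x' m) (hm : m ∈ U 𝔽) : Ez ι d (x * x') (l * m) :=
  let ⟨c, p⟩ := h; let ⟨c', p'⟩ := h'; ⟨c + c', by
    rw [map_mul, ← conj_mul, p, p', ← map_mul, mul_assoc, ← mul_assoc (z c), zU' hm, mul_assoc, z_mul, mul_assoc]⟩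
theorem Ez.cm (he : Function.Injective ι) (h : Ez ι d x l) (h' : Ez ι d x' m) (hl : l ∈ U 𝔽) (hm : m ∈ U 𝔽) :
    x * x' = x' * x ↔ l * m = m * l := by
  obtain ⟨c, p⟩ := h; obtain ⟨c', p'⟩ := h'
  rw [← he.eq_iff, ← mul_right_inj d, ← mul_left_inj d⁻¹, map_mul, map_mul, ← conj_mul, ← conj_mul, p, p', ← map_mul, ← map_mul, he.eq_iff,
    mul_assoc, ← mul_assoc (z c), zU' hm, mul_assoc, z_mul, mul_assoc m, ← mul_assoc (z c'), zU' hl, mul_assoc, z_mul, add_comm c',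
    ← mul_assoc, ← mul_assoc, mul_left_inj]
theorem Ez.conj (h : Ez ι d x x) (e : l * zz * l⁻¹ = zz) : Ez ι (ι l * d * (ι l)⁻¹) (l * x * l⁻¹) (l * x * l⁻¹) :=
  let ⟨c, p⟩ := h; ⟨c, by rw [← zc e c, conj_mul, ← ι_cj, ← ι_cj, ← p]; group⟩
theorem qle {f f' : Γ4 →* G} (h : ∀ x ∈ L4, f x = f' x) : ∀ x ∈ Qs 𝔽, f x = f' x :=
  Q_le (M := f.eqLocus f') (h _ (by simp [L4])) (h _ (by simp [L4])) (h _ (by simp [L4])) (h _ (by simp [L4]))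
theorem cQ4 (h : ∀ x ∈ L4, g * ι x * g⁻¹ = k * ι x * k⁻¹) : k⁻¹ * g ∈ C(Qm ι) := mem_cent.2 (by
  rintro _ ⟨x, hx, rfl⟩
  have : g * ι x * g⁻¹ = k * ι x * k⁻¹ := qle (f := cjh g ι) (f' := cjh k ι) h x hx
  rw [mul_assoc k⁻¹, mul_inv_eq_iff_eq_mul.1 this]; group)
theorem all4 {p : Γ4 → Prop} (h1 : p i1) (h2 : p j1) (h3 : p i2) (h4 : p j2) : ∀ x ∈ L4, p x := by simp [L4, *]
theorem L4Q (h : x ∈ L4) : x ∈ Qs 𝔽 := all4 i1Q j1Q i2Q j2Q x h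
theorem φQ (h : x ∈ Qs 𝔽) : φ st x ∈ Qs 𝔽 := let ⟨_, _, e⟩ := h; ⟨_, _, e ▸ φ_q ..⟩
theorem sqC (H : Hyp ι t) (dt : d * t * d⁻¹ = t * ι zz) (dz : d * ι zz * d⁻¹ = ι zz) : d * (t * ι zz) * d⁻¹ = t := by
  rw [← conj_mul, dt, dz, mul_assoc, zz', mul_one]
theorem tz1 (H : Hyp ι t) : t ≠ t * ι zz := fun e => zz1 (H.inj (by simpa using e))

namespace Sy
variable (r : Sy ι t X S)
include r
theorem H : Hyp ι t := r.toHyp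
theorem T (hl : l ∈ U 𝔽) : ι l ∈ S := r.le (mem_sup_left ⟨l, hl, rfl⟩)
theorem tS : t ∈ S := r.le (mem_sup_right (mem_zpowers t))
theorem ct (hg : g ∈ S) : g * t * g⁻¹ = t := mul_inv_eq_iff_eq_mul.2 (mem_cent1.1 (r.sy.le hg))
theorem cz (hg : g ∈ S) : g * ι zz * g⁻¹ = ι zz := mul_inv_eq_iff_eq_mul.2 (mem_cent1.1 (r.sz hg))
theorem cQ (hg : g ∈ S) (h : g ∈ C(Qm ι)) : g = 1 ∨ g = t ∨ g = ι zz ∨ g = t * ι zz := r.toSr.cQ2 (r.sy.le hg) h (r.sy.pi.elt hg)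
theorem burn (c : IsConj t (t * ι zz)) : ∃ d, Nd ι t S d := by
  obtain ⟨g, e⟩ := isConj_iff.1 c
  have l : S ≤ C[t * ι zz] := fun a ha => mem_cent1.2 (mul_inv_eq_iff_eq_mul.1 (by rw [← conj_mul, r.ct ha, r.cz ha]))
  have h1 : Syl 2 (cj g S) C[t * ι zz] := by rw [← e, ← cj_cent1]; exact r.sy.J g
  obtain ⟨k, hk, p⟩ := h1.sconj (h1.of_card l (card_cj ..).symm)
  rw [cj_cj, ← mem_norm_iff_cj] at p
  have dt : k * g * t * (k * g)⁻¹ = t * ι zz := by rw [cj2, e, mem_cent1.1 hk, mul_inv_cancel_right]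
  generalize k * g = d at p dt
  have dz : d * ι zz * d⁻¹ = ι zz := by
    have z1 : IsConj (d * ι zz * d⁻¹) (ι zz) := (isConj_iff.2 ⟨d, rfl⟩).symm
    rcases r.cQ (conj_mem_of_norm p (r.T (upU ..))) (cent_mono (by rintro _ ⟨x, hx, rfl⟩; exact r.T (QU hx))
      (conj_mem_of_norm (norm_le_norm_cent S p) (le_cent1_iff.1 r.sz))) with h | h | h | h
    exacts [absurd (r.inj (by simpa using h)) zz1, (r.toSr.NL zz (h ▸ z1)).elim, h, (r.toSr.NL zz (c.trans (h ▸ z1))).elim]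
  have s : ∀ {d : G}, d * t * d⁻¹ = t * ι zz → d * ι zz * d⁻¹ = ι zz → d * d ∈ C[t] := fun dt dz =>
    mem_cent1.2 (mul_inv_eq_iff_eq_mul.1 (by rw [cj2, dt, sqC r.H dt dz]))
  obtain ⟨y, o, e, -, hy, ho, my, j, hj⟩ := parts d
  have oC : o ∈ C[t] := mem_of_odd ho (by rw [← hj, ← (Commute.refl d).mul_zpow]; exact zpow_mem (s dt dz) j)
  have yt : y * t * y⁻¹ = t * ι zz := by rw [← dt, e, cj2, mem_cent1.1 oC, mul_inv_cancel_right]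
  have yz := mul_inv_eq_iff_eq_mul.2 (mem_cent1.1 (zpowers_le.2 (mem_cent1.2 (mul_inv_eq_iff_eq_mul.1 dz)) my))
  have yn := zpowers_le.2 p my
  exact ⟨y, yn, yt, yz, r.sy.mem_of_norm (s yt yz) (hy.e_mul hy rfl) (mul_mem yn yn)⟩
end Sy

namespace Nd
variable (n : Nd ι t S d) (r : Sy ι t X S)
include n r
theorem mul (hg : g ∈ S) : Nd ι t S (g * d) :=
  ⟨mul_mem (le_normalizer hg) n.nd, by rw [cj2, n.dt, ← conj_mul, r.ct hg, r.cz hg], by rw [cj2, n.dz, r.cz hg], by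
    convert mul_mem (mul_mem hg (conj_mem_of_norm n.nd hg)) n.dd using 1; group⟩
theorem mul' (hg : g ∈ S) : Nd ι t S (d * g) := by
  convert n.mul r (conj_mem_of_norm n.nd hg) using 1; group
theorem conj (h : ι l ∈ N(S)) (e : l * zz * l⁻¹ = zz) : Nd ι t S (ι l * d * (ι l)⁻¹) :=
  ⟨mul_mem (mul_mem h n.nd) (inv_mem h), by rw [← r.H.tcj l, cj3, n.dt, ← conj_mul, r.H.tcj, ι_cj, e],
    by rw [← e, ← ι_cj, cj3, n.dz], by rw [conj_mul]; exact conj_mem_of_norm h n.dd⟩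
theorem Q (hx : x ∈ Qs 𝔽) : ∃ l ∈ U 𝔽, d * ι x * d⁻¹ = ι l := by
  have h1 : d ∈ N(C[t] ⊓ C[ι zz]) := mem_norm_of fun g hg => ⟨mem_cent1.2 (by
    rw [← sqC r.H n.dt n.dz, conj_mul, conj_mul, ← mul_assoc g, mem_cent1.1 hg.1, mul_assoc t, mem_cent1.1 hg.2, mul_assoc t]),
    mem_cent1.2 (by rw [← n.dz, conj_mul, conj_mul, mem_cent1.1 hg.2])⟩
  have m : ∀ {x}, x * zz = zz * x → ι x ∈ C[t] ⊓ C[ι zz] := fun e => ⟨r.H.LC _, mem_cent1.2 (by rw [← map_mul, e, map_mul])⟩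
  have h2 : ∀ x ∈ L4, x ∈ (⁅C[t] ⊓ C[ι zz], C[t] ⊓ C[ι zz]⁆ : Subgroup G).comap ι := fun x hx => by
    obtain ⟨a, b, ea, eb, e⟩ := (by decide +kernel : ∀ x ∈ L4, ∃ a ∈ η0 :: L6, ∃ b ∈ η0 :: L6, a * zz = zz * a ∧ b * zz = zz * b ∧
      a * b = x * b * a) x hx |>.imp fun _ h => h.2.imp fun _ h => h.2
    have := commutator_mem_commutator (m ea) (m eb)
    rwa [commutatorElement_def, ← map_mul, e, map_mul, map_mul, mul_inv_cancel_right, mul_inv_cancel_right] at this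
  have h3 := conj_mem_of_norm n.nd (r.T (QU hx))
  obtain ⟨l, e⟩ := r.toSr.der2 (der_mono inf_le_left (conj_mem_of_norm (norms_comm (zpowers_le.2 h1) (zpowers_le.2 h1) (mem_zpowers d))
    (Q_le (h2 _ (by simp [L4])) (h2 _ (by simp [L4])) (h2 _ (by simp [L4])) (h2 _ (by simp [L4])) hx))) (r.sy.pi.elt h3)
  exact ⟨l, (mem_map_iff_mem r.inj).1 (T_L r.sy.pi (le_sup_left.trans r.le) (e ▸ h3)), e.symm⟩
theorem cls (hx : x ∈ L6) : ∃ l ∈ L6, Ez ι d x l := by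
  obtain ⟨h1, h2⟩ := (by decide +kernel : ∀ x ∈ L6, (∃ v α, x = q v α) ∧ x * x = zz) x hx
  obtain ⟨_, ⟨β, y, rfl⟩, e⟩ := n.Q r h1
  obtain ⟨l, hl, c, p⟩ := (by decide +kernel : ∀ (β : 𝔽) (y : Hm 𝔽), up β y * up β y = zz → ∃ l ∈ L6, ez (up β y) l) β y
    (r.inj (by rw [map_mul, ← e, conj_mul, ← map_mul, h2, n.dz]))
  exact ⟨l, hl, c, p ▸ e⟩
theorem sgn {a1 b1 a2 b2 : Γ4} (h1 : Ez ι d i1 a1) (h2 : Ez ι d j1 b1) (h3 : Ez ι d i2 a2) (h4 : Ez ι d j2 b2) : ∃ d, Nd ι t S d ∧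
    d * ι i1 * d⁻¹ = ι a1 ∧ d * ι j1 * d⁻¹ = ι b1 ∧ d * ι i2 * d⁻¹ = ι a2 ∧ d * ι j2 * d⁻¹ = ι b2 := by
  obtain ⟨c1, h1⟩ := h1; obtain ⟨c2, h2⟩ := h2; obtain ⟨c3, h3⟩ := h3; obtain ⟨c4, h4⟩ := h4
  obtain ⟨v, e1, e2, e3, e4⟩ := (by decide +kernel : ∀ c1 c2 c3 c4, ∃ v : 𝔽 × 𝔽, q v 0 * i1 = i1 * z c1 * q v 0 ∧
    q v 0 * j1 = j1 * z c2 * q v 0 ∧ q v 0 * i2 = i2 * z c3 * q v 0 ∧ q v 0 * j2 = j2 * z c4 * q v 0) c1 c2 c3 c4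
  have k : ∀ {x a c}, q v 0 * x = x * z c * q v 0 → d * ι x * d⁻¹ = ι (a * z c) → d * ι (q v 0) * ι x * (d * ι (q v 0))⁻¹ = ι a :=
    fun e h => by rw [cj2, ι_cj, e, mul_inv_cancel_right, map_mul, ← conj_mul, h, zc' n.dz, ← map_mul, mul_assoc, a_sq, mul_one]
  exact ⟨_, n.mul' r (r.T (upU ..)), k e1 h1, k e2 h2, k e3 h3, k e4 h4⟩
theorem sq (c : d * d ∈ C(Qm ι)) : d * d = 1 ∨ d * d = ι zz := by
  have e : d * (d * d) * d⁻¹ = d * d := by group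
  rcases r.cQ n.dd c with h | h | h | h
  exacts [.inl h, (tz1 r.H (by rw [← n.dt, ← h, e])).elim, .inr h, (tz1 r.H ((sqC r.H n.dt n.dz).symm.trans (h ▸ e))).elim]
theorem tsq : t * d * (t * d) = ι zz * (d * d) := by
  rw [← one_mul (ι zz), ← r.tt, mul_assoc t t, ← n.dt]; group
theorem ag (ha : a ∈ S) (hb : b ∈ S) (h : ∀ x ∈ L4, d * a * ι x * (d * a)⁻¹ = b * d * ι x * (b * d)⁻¹) :
    d * a * d⁻¹ = b ∨ d * a * d⁻¹ = b * ι zz ∨ d * a * d⁻¹ = b * t ∨ d * a * d⁻¹ = b * t * ι zz := by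
  have e : d * a * d⁻¹ = b * (d * ((b * d)⁻¹ * (d * a)) * d⁻¹) := by group
  rcases r.cQ (by convert mul_mem (conj_mem_of_norm' n.nd (inv_mem hb)) ha using 1; group) (cQ4 h) with h | h | h | h <;> rw [e, h]
  exacts [.inl (by group), .inr (.inr (.inr (by rw [n.dt, mul_assoc]))), .inr (.inl (by rw [n.dz])), .inr (.inr (.inl (by rw [sqC r.H n.dt n.dz])))]
theorem cm (dd : d * d = 1 ∨ d * d = ι zz) (ha : a ∈ S) (h : ∀ x ∈ L4, d * a * ι x * (d * a)⁻¹ = a * d * ι x * (a * d)⁻¹) :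
    d * a * d⁻¹ = a ∨ d * a * d⁻¹ = a * ι zz := by
  have e : d * (d * a * d⁻¹) * d⁻¹ = a := by
    rw [← cj2]; rcases dd with e | e <;> rw [e]
    exacts [by group, by rw [← mem_cent1.1 (r.sz ha), mul_inv_cancel_right]]
  rcases n.ag r ha ha h with h | h | h | h
  exacts [.inl h, .inr h, (zz1 (r.inj (by rw [h, ← conj_mul, h, n.dt, mul_assoc, ← mul_assoc t, r.tt] at e; simpa using e))).elim,
    (zz1 (r.inj (by rw [h, mul_assoc a, ← conj_mul, h, sqC r.H n.dt n.dz, mul_assoc, ← r.cen, mul_assoc, ← mul_assoc t, r.tt] at e; simpa using e))).elim]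
theorem Qf {f : Γ4 →* Γ4} (h1 : d * ι i1 * d⁻¹ = ι (f i1)) (h2 : d * ι j1 * d⁻¹ = ι (f j1)) (h3 : d * ι i2 * d⁻¹ = ι (f i2))
    (h4 : d * ι j2 * d⁻¹ = ι (f j2)) : ∀ x ∈ Qs 𝔽, d * ι x * d⁻¹ = ι (f x) := qle (f := cjh d ι) (f' := ι.comp f) (all4 h1 h2 h3 h4)
theorem cme {f : Γ4 →* Γ4} (dd : d * d = 1 ∨ d * d = ι zz) (h : ∀ x ∈ Qs 𝔽, d * ι x * d⁻¹ = ι (f x)) (e : f e0 = e0) :
    d * ι e0 * d⁻¹ = ι e0 ∨ d * ι e0 * d⁻¹ = ι e0 * ι zz := n.cm r dd (r.T eT) fun x hx => by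
  rw [cj2, cj2, ι_cj, h _ (L4Q hx), h _ (conj_mem_of_norm (XQ (c := 1) (by rw [ee]; decide +kernel)) (L4Q hx)), ι_cj, map_mul f, map_mul f, map_inv, e]
/-- case B -/
theorem finB (h : ∀ x ∈ Qs 𝔽, d * ι x * d⁻¹ = ι x) (ty : In ι t ∨ ∃ s ∈ S, Os ι t s) :
    ∃ w, Bd ι t w ∧ (w * ι e0 * w⁻¹ = ι e0 ∨ w * ι e0 * w⁻¹ = ι e0 * ι zz) := by
  have c : ∀ {d : G}, (∀ x ∈ Qs 𝔽, d * ι x * d⁻¹ = ι x) → d ∈ C(Qm ι) := fun h =>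
    mem_cent.2 (by rintro _ ⟨x, hx, rfl⟩; exact (mul_inv_eq_iff_eq_mul.1 (h x hx)).symm)
  obtain ⟨w, n, h, e⟩ : ∃ w, Nd ι t S w ∧ (∀ x ∈ Qs 𝔽, w * ι x * w⁻¹ = ι x) ∧ w * w = ι zz :=
    (n.sq r (mul_mem (c h) (c h))).elim (fun e => ⟨_, n.mul r r.tS, fun x hx => by rw [cj2, h x hx, r.cen, mul_inv_cancel_right],
      by rw [n.tsq r, e, mul_one]⟩) fun e => ⟨d, n, h, e⟩
  refine ⟨w, ⟨e, ?_, c h, ty.imp_right fun ⟨s, hs, o⟩ => ?_⟩, n.cme r (f := .id _) (.inr e) h rfl⟩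
  · rw [r.H.tinv, eq_inv_iff_mul_eq_one, mul_assoc (t * w), n.tsq r, e, zz']
  · rcases n.cm r (.inr e) hs fun x hx => by rw [cj2, cj2, o.ac, h _ (L4Q hx), h _ (φQ (L4Q hx)), o.ac] with p | p
    · exact ⟨s, o, (mul_inv_eq_iff_eq_mul.1 p).symm⟩
    · exact ⟨_, o.mul_t r.H, (mul_inv_eq_iff_eq_mul.1 (by rw [← conj_mul, p, n.dt, r.cen, mul_assoc, ← mul_assoc (ι zz), zz', one_mul])).symm⟩
/-- an involution -/
theorem inv (c : d * d ∈ C(Qm ι)) : ∃ d', Nd ι t S d' ∧ d' * d' = 1 ∧ ∀ x y, d * ι x * d⁻¹ = ι y → d' * ι x * d'⁻¹ = ι y :=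
  (n.sq r c).elim (fun e => ⟨d, n, e, fun _ _ => id⟩) fun e => ⟨_, n.mul r r.tS, by rw [n.tsq r, e, zz'],
    fun _ _ h => by rw [cj2, h, r.cen, mul_inv_cancel_right]⟩
theorem finD1 (i : In ι t) (h : ∀ x ∈ Qs 𝔽, d * ι x * d⁻¹ = ι (φ st x)) : ∃ d, D1 ι t d := by
  obtain ⟨d, n, e, k⟩ := n.inv r (mem_cent.2 (by
    rintro _ ⟨x, hx, rfl⟩
    exact (mul_inv_eq_iff_eq_mul.1 (by rw [cj2, h x hx, h _ (φQ hx), φφ, st2, φ1])).symm))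
  exact ⟨d, i, n.dt, fun x hx => k _ _ (h x hx), n.cme r (.inl e) (fun x hx => k _ _ (h x hx)) (by decide +kernel), e⟩
theorem finD2 (hs : s ∈ S) (o : Os ι t s) (h1 : d * ι i1 * d⁻¹ = ι (j1 * zz)) (h2 : d * ι j1 * d⁻¹ = ι (i1 * zz)) (h3 : d * ι i2 * d⁻¹ = ι i2)
    (h4 : d * ι j2 * d⁻¹ = ι j2) : ∃ s d, D2 ι t s d := by
  obtain ⟨d, n, e, k⟩ := n.inv r (by
    simpa using cQ4 (g := d * d) (k := 1) (all4 (by rw [cj2, h1, map_mul, ← conj_mul, h2, n.dz, map_mul, mul_assoc, zz']; simp)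
      (by rw [cj2, h2, map_mul, ← conj_mul, h1, n.dz, map_mul, mul_assoc, zz']; simp) (by rw [cj2, h3, h3]; simp) (by rw [cj2, h4, h4]; simp)))
  replace h1 := k _ _ h1; replace h2 := k _ _ h2; replace h3 := k _ _ h3; replace h4 := k _ _ h4
  have ta : Ta ι d := ⟨by rw [h1, ← map_inv, inv_eq_of_mul_eq_one_right (by decide +kernel : j1 * (j1 * zz) = 1)],
    by rw [h2, ← map_inv, inv_eq_of_mul_eq_one_right (by decide +kernel : i1 * (i1 * zz) = 1)], h3, h4⟩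
  have p : ∀ {x x' l m}, e0 * x * e0 = x' → d * ι x' * d⁻¹ = ι m → d * ι x * d⁻¹ = ι l → m = φ st l →
      d * ι e0 * ι x * (d * ι e0)⁻¹ = s * d * ι x * (s * d)⁻¹ := fun a b c e => by rw [cj2, cj2, ι_cj, ee, a, b, c, o.ac, e]
  rcases n.ag r (r.T eT) hs (all4 (p (by decide +kernel) h3 h1 (by decide +kernel)) (p (by decide +kernel) h4 h2 (by decide +kernel))
    (p (by decide +kernel) h1 h3 (by decide +kernel)) (p (by decide +kernel) h2 h4 (by decide +kernel))) with p | p | p | p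
  exacts [⟨s, d, o, n.dt, ta, .inl p, e⟩, ⟨s, d, o, n.dt, ta, .inr p, e⟩, ⟨_, d, o.mul_t r.H, n.dt, ta, .inl p, e⟩,
    ⟨_, d, o.mul_t r.H, n.dt, ta, .inr p, e⟩]
end Nd

/-- action on `L6` modulo `z` -/
def At (ι : Γ4 →* G) (g : G) (n : Fin 4) : Prop := ∀ x ∈ L6, Ez ι g x (fA n x)
theorem at0 (H : Hyp ι t) (hg : g ∈ Tm ι ⊔ zpowers t) : ∃ l ∈ U 𝔽, ∀ x, g * ι x * g⁻¹ = ι (l * x * l⁻¹) := by
  obtain ⟨l, hl, rfl | rfl⟩ := (mem_0 H).1 hg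
  exacts [⟨l, hl, ι_cj l⟩, ⟨l, hl, fun x => by rw [cj2, H.cen, mul_inv_cancel_right, ι_cj]⟩]
theorem at1 (H : Hyp ι t) (hg : g ∈ Tm ι ⊔ zpowers t) : ∃ n < 2, At ι g n := by
  obtain ⟨_, ⟨β, y, rfl⟩, h⟩ := at0 H hg
  obtain ⟨n, l, k⟩ := (by decide +kernel : ∀ (β : 𝔽) (y : Hm 𝔽), ∃ n < 2, ∀ x ∈ L6, ∃ c, up β y * x = fA n x * z c * up β y) β y
  exact ⟨n, l, fun x hx => let ⟨c, e⟩ := k x hx; ⟨c, by rw [h, e, mul_inv_cancel_right]⟩⟩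
theorem at2 (H : Hyp ι t) (o : Os ι t s) (hg : g ∈ Tm ι ⊔ zpowers t ⊔ zpowers s) : ∃ n, At ι g n := by
  rcases (mem_ext o.toOu.n0 (o.ss ▸ one_mem _)).1 hg with h | h
  · exact (at1 H h).imp fun _ h => h.2
  obtain ⟨_, ⟨β, y, rfl⟩, h⟩ := at0 H h
  obtain ⟨n, k⟩ := (by decide +kernel : ∀ (β : 𝔽) (y : Hm 𝔽), ∃ n, ∀ x ∈ L6, ∃ c, up β y * φ st x = fA n x * z c * up β y) β y
  exact ⟨n, fun x hx => let ⟨c, e⟩ := k x hx; ⟨c, by rw [← inv_mul_cancel_right g s, cj2, o.ac, h, e, mul_inv_cancel_right]⟩⟩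
theorem gA1 {n : Fin 4} (h : n < 2) (x : Γ4) : gA ι s n * ι x * (gA ι s n)⁻¹ = ι (fA n x) := by
  fin_cases n <;> simp [gA, fA, ← map_inv, ee] at h ⊢
theorem gA2 (o : Os ι t s) (n : Fin 4) (x : Γ4) : gA ι s n * ι x * (gA ι s n)⁻¹ = ι (fA n x) := by
  fin_cases n
  exacts [gA1 (by decide) x, gA1 (by decide) x, o.ac x, (cj2 ..).trans (by rw [o.ac, ι_cj, ee]; rfl)]
theorem Sy.g1 (r : Sy ι t X S) {n : Fin 4} (h : n < 2) : gA ι s n ∈ S := by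
  fin_cases n
  exacts [one_mem _, r.T eT, absurd h (by decide), absurd h (by decide)]
theorem Sy.g2 (r : Sy ι t X S) (hs : s ∈ S) (n : Fin 4) : gA ι s n ∈ S := by
  fin_cases n
  exacts [one_mem _, r.T eT, hs, mul_mem (r.T eT) hs]
theorem m1 : i1 ∈ L6 ∧ j1 ∈ L6 ∧ k1 ∈ L6 ∧ i2 ∈ L6 ∧ j2 ∈ L6 := by simp [L6]
/-- the conjugate of an element of `S` -/
theorem Nd.at (n : Nd ι t S d) (r : Sy ι t X S) (ha : a ∈ S) {j} (h : At ι (d * a * d⁻¹) j) {x' m' : Γ4} (h1 : Ez ι d x l) (hl : l ∈ L6)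
    (h2 : Ez ι a x x') (h3 : Ez ι d x' m') : ez m' (fA j l) := by
  have := ((h1.inv n.dz).comp h2 (r.cz ha)).comp h3 n.dz
  rw [← mul_assoc] at this
  exact this.inj r.inj (h l hl)

theorem ty1a (r : Sy ι t X (Tm ι ⊔ zpowers t)) (n : Nd ι t (Tm ι ⊔ zpowers t) d) :
    ∃ d, Nd ι t (Tm ι ⊔ zpowers t) d ∧ Ez ι d k1 k1 := by
  obtain ⟨a, ha, h⟩ := n.cls r m1.2.2.1
  obtain ⟨j, l, p⟩ := (by decide +kernel : ∀ a ∈ L6, ∃ j < 2, ∃ b ∈ [k1, i1, j1], fA j a = b) a ha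
  replace h := h.comp (.of (gA1 (s := 1) l a)) (r.cz (r.g1 l))
  replace n := n.mul r (r.g1 (s := 1) l)
  generalize gA ι 1 j * d = d at n h
  obtain ⟨b, hb, p⟩ := p
  rw [p] at h
  rcases List.mem_cons.1 hb with rfl | hb
  · exact ⟨d, n, h⟩
  obtain ⟨b6, k⟩ := (by decide +kernel : ∀ b ∈ [i1, j1], b ∈ L6 ∧ ∀ c ∈ L6, (∃ j < 2, ez c (fA j k1)) → (b * k1 = k1 * b ↔ c * b = b * c) →
    c = k1 ∧ ez (b * k1) (k1 * b) ∧ ∃ l ∈ [θ0, θ0 * θ0], ∃ c, l * (k1 * b) = k1 * z c * l ∧ ez k1 (k1 * z c)) b hb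
  obtain ⟨c, hc, h'⟩ := n.cls r b6
  obtain ⟨j, l, p⟩ := at1 r.H n.dd
  obtain ⟨rfl, e, l, hl, c, e1, e2⟩ := k c hc ⟨j, l, (h.comp h' n.dz).inj r.inj (p _ m1.2.2.1)⟩ (h'.cm r.inj h (L6U hc) (L6U b6))
  have lU : l ∈ N(U 𝔽) ∧ l * zz * l⁻¹ = zz := by
    rcases List.mem_pair.1 hl with rfl | rfl
    exacts [⟨hhU _, mul_inv_eq_iff_eq_mul.2 (by decide +kernel)⟩, ⟨mul_mem (hhU _) (hhU _), mul_inv_eq_iff_eq_mul.2 (by decide +kernel)⟩]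
  have n' := n.conj r (norms_sup (zpowers_le.2 (map_norm lU.1)) (zpowers_le.2 (cent1_le_norm_zpowers t (r.H.LC l))) (mem_zpowers _)) lU.2
  have := ((h.prod h' (upU ..)).tgt e).conj lU.2
  rw [e1, mul_inv_cancel_right] at this
  exact ⟨_, n', (this.src n'.dz e2).tgt ⟨c, rfl⟩⟩
theorem ty1 (r : Sy ι t X (Tm ι ⊔ zpowers t)) (i : In ι t) (n : Nd ι t (Tm ι ⊔ zpowers t) d) : (∃ d, D1 ι t d) ∨
    ∃ w, Bd ι t w ∧ (w * ι e0 * w⁻¹ = ι e0 ∨ w * ι e0 * w⁻¹ = ι e0 * ι zz) := by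
  obtain ⟨d, n, h⟩ := ty1a r n
  obtain ⟨a1, p1, h1⟩ := n.cls r m1.1
  obtain ⟨b1, p2, h2⟩ := n.cls r m1.2.1
  obtain ⟨a2, p3, h3⟩ := n.cls r m1.2.2.2.1
  obtain ⟨b2, p4, h4⟩ := n.cls r m1.2.2.2.2
  obtain ⟨j, l, p⟩ := at1 r.H (conj_mem_of_norm n.nd (r.T eT))
  have e : i1 * j1 = k1 ∧ e0 * i1 * e0 = i2 ∧ e0 * j1 * e0 = j2 ∧ i2 * j1 = j1 * i2 := by decide +kernel
  obtain ⟨j, l, p⟩ := (by decide +kernel : ∀ a1 ∈ L6, ∀ b1 ∈ L6, ez (a1 * b1) k1 → ∀ j < 2, ∀ a2 ∈ L6, ez a2 (fA j a1) → a2 * b1 = b1 * a2 →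
    ∀ b2 ∈ L6, ez b2 (fA j b1) → ∃ j < 2, (ez (fA j a1) i1 ∧ ez (fA j b1) j1 ∧ ez (fA j a2) i2 ∧ ez (fA j b2) j2) ∨
      (ez (fA j a1) (φ st i1) ∧ ez (fA j b1) (φ st j1) ∧ ez (fA j a2) (φ st i2) ∧ ez (fA j b2) (φ st j2))) a1 p1 b1 p2
    ((h1.prod h2 (L6U p2)).inj r.inj (e.1 ▸ h)) j l a2 p3 (n.at r (r.T eT) p h1 p1 (.of (by rw [ι_cj, ee, e.2.1])) h3)
    ((h3.cm r.inj h2 (L6U p3) (L6U p2)).1 e.2.2.2) b2 p4 (n.at r (r.T eT) p h2 p2 (.of (by rw [ι_cj, ee, e.2.2.1])) h4)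
  have k : ∀ {x a b}, Ez ι d x a → ez (fA j a) b → Ez ι (gA ι 1 j * d) x b := fun h e => (h.comp (.of (gA1 l _)) (r.cz (r.g1 l))).tgt e
  rcases p with p | p <;> obtain ⟨d, n, q1, q2, q3, q4⟩ := (n.mul r (r.g1 l)).sgn r (k h1 p.1) (k h2 p.2.1) (k h3 p.2.2.1) (k h4 p.2.2.2)
  exacts [.inr (n.finB r (n.Qf r (f := .id _) q1 q2 q3 q4) (.inl i)), .inl (n.finD1 r i (n.Qf r q1 q2 q3 q4))]
theorem ty2 (r : Sy ι t X (Tm ι ⊔ zpowers t ⊔ zpowers s)) (o : Os ι t s) (n : Nd ι t (Tm ι ⊔ zpowers t ⊔ zpowers s) d) : (∃ s d, D2 ι t s d) ∨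
    ∃ w, Bd ι t w ∧ (w * ι e0 * w⁻¹ = ι e0 ∨ w * ι e0 * w⁻¹ = ι e0 * ι zz) := by
  have hs : s ∈ Tm ι ⊔ zpowers t ⊔ zpowers s := mem_sup_right (mem_zpowers s)
  obtain ⟨a1, p1, h1⟩ := n.cls r m1.1
  obtain ⟨b1, p2, h2⟩ := n.cls r m1.2.1
  obtain ⟨a2, p3, h3⟩ := n.cls r m1.2.2.2.1
  obtain ⟨b2, p4, h4⟩ := n.cls r m1.2.2.2.2
  obtain ⟨j, p⟩ := at2 r.H o (conj_mem_of_norm n.nd (r.g2 hs 3))
  have e : ez (fA 3 i1) j1 ∧ ez (fA 3 i2) j2 ∧ i1 * j1 ≠ j1 * i1 ∧ i2 * j2 ≠ j2 * i2 ∧ i1 * i2 = i2 * i1 ∧ j1 * i2 = i2 * j1 := by decide +kernel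
  obtain ⟨j, p⟩ := (by decide +kernel : ∀ j, ∀ a1 ∈ L6, ∀ b1 ∈ L6, ez b1 (fA j a1) → a1 * b1 ≠ b1 * a1 → ∀ a2 ∈ L6, a1 * a2 = a2 * a1 →
    b1 * a2 = a2 * b1 → ∀ b2 ∈ L6, ez b2 (fA j a2) → a2 * b2 ≠ b2 * a2 → ∃ j, ez (fA j a2) i2 ∧ ez (fA j b2) j2 ∧
      (ez (fA j a1) i1 ∧ ez (fA j b1) j1 ∨ ez (fA j a1) (j1 * zz) ∧ ez (fA j b1) (i1 * zz))) j a1 p1 b1 p2
    (n.at r (r.g2 hs 3) p h1 p1 ((Ez.of (gA2 o 3 _)).tgt e.1) h2) (mt (h1.cm r.inj h2 (L6U p1) (L6U p2)).2 e.2.2.1) a2 p3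
    ((h1.cm r.inj h3 (L6U p1) (L6U p3)).1 e.2.2.2.2.1) ((h2.cm r.inj h3 (L6U p2) (L6U p3)).1 e.2.2.2.2.2) b2 p4
    (n.at r (r.g2 hs 3) p h3 p3 ((Ez.of (gA2 o 3 _)).tgt e.2.1) h4) (mt (h3.cm r.inj h4 (L6U p3) (L6U p4)).2 e.2.2.2.1)
  have k : ∀ {x a b}, Ez ι d x a → ez (fA j a) b → Ez ι (gA ι s j * d) x b := fun h e => (h.comp (.of (gA2 o j _)) (r.cz (r.g2 hs j))).tgt e
  rcases p with ⟨p, p', p'' | p''⟩ <;> obtain ⟨d, n, q1, q2, q3, q4⟩ := (n.mul r (r.g2 hs j)).sgn r (k h1 p''.1) (k h2 p''.2) (k h3 p) (k h4 p')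
  exacts [.inr (n.finB r (n.Qf r (f := .id _) q1 q2 q3 q4) (.inr ⟨s, hs, o⟩)), .inl (n.finD2 r hs o q1 q2 q3 q4)]
theorem S0z (H : Hyp ι t) : Tm ι ⊔ zpowers t ≤ C[ι zz] :=
  sup_le (by rintro _ ⟨x, hx, rfl⟩; exact mem_cent1.2 (by rw [← map_mul, ← zU' hx, map_mul])) (zpowers_le.2 (mem_cent1.2 (H.cen _)))
theorem sy2 (r : Sr ι t X) (o : Ou ι t s) (ss : s * s ∈ Tm ι ⊔ zpowers t) : Sy ι t X (Tm ι ⊔ zpowers t ⊔ zpowers s) :=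
  ⟨r, r.syl2 o ss, le_sup_left, sup_le (S0z r.H) (zpowers_le.2 (mem_cent1.2 (mul_inv_eq_iff_eq_mul.1 (by rw [o.ac, φ_z, kσ_1]))))⟩

theorem be : BE.{u} := fun G _ _ ι t X r c => by
  rcases r.ty with i | ⟨s, o⟩ | ⟨s, o, ss⟩
  · have r' : Sy ι t X _ := ⟨r, r.syl1 i, le_rfl, S0z r.H⟩
    obtain ⟨d, n⟩ := r'.burn c
    exact (ty1 r' i n).imp_right .inr
  · have r' := sy2 r o.toOu (o.ss ▸ one_mem _)
    obtain ⟨d, n⟩ := r'.burn c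
    exact .inr (ty2 r' o n)
  · have m : s * s ∈ Tm ι ⊔ zpowers t := by rw [ss]; exact mem_sup_right (mem_zpowers t)
    have r' := sy2 r o m
    obtain ⟨d, n⟩ := r'.burn c
    have e : d * s * d⁻¹ * (d * s * d⁻¹) = t * ι zz := by rw [conj_mul, ss, n.dt]
    have := (mem_ext o.n0 m).1 (conj_mem_of_norm n.nd (mem_sup_right (mem_zpowers s)))
    generalize d * s * d⁻¹ = g at e this
    have k : ∀ l : Γ4, ι l * t * (ι l * t) = ι l * ι l := fun l => by rw [mul_assoc, ← mul_assoc t, r.cen, mul_assoc, r.tt, mul_one]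
    have k' : ∀ {s}, (∀ x, s * ι x * s⁻¹ = ι (φ st x)) → s * s = t → ∀ l : Γ4, ι l * s * (ι l * s) = t * ι (l * φ st l) :=
      fun o ss l => by rw [r.cen, map_mul, ← o, ← ss]; group
    rcases this with h | h <;> obtain ⟨_, ⟨β, y, rfl⟩, h | h⟩ := (mem_0 r.H).1 h
    · exact (r.H.tL (up β y * up β y * zz⁻¹) (by rw [map_mul, map_mul, ← h, e]; simp)).elim
    · exact (r.H.tL (up β y * up β y * zz⁻¹) (by rw [map_mul, map_mul, ← k, ← h, e]; simp)).elim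
    all_goals refine absurd (r.inj (mul_left_cancel (a := t) ?_)) ((by decide +kernel : ∀ (β : 𝔽) (y : Hm 𝔽), up β y * φ st (up β y) ≠ zz) β y)
    · rw [← k' o.ac ss, ← e, ← h, inv_mul_cancel_right]
    · rw [← k' (s := t * s) (fun x => by rw [cj2, o.ac, r.cen, mul_inv_cancel_right]) (by
        rw [mul_assoc, ← mul_assoc s, o.ct, ← mul_assoc, ← mul_assoc, r.tt, one_mul, ss]), ← e, mul_inv_eq_iff_eq_mul.1 h, mul_assoc _ t]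
end H15.G38
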