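/-
Standard `U₄(2)` (S3138): chunk A1.
-/
import Cfsg.Agent.H18.G2

set_option autoImplicit false
set_option linter.unusedSectionVars false

namespace H15.G38
open Cfsg Subgroup H19 H28.CY H18.U2 H18.G38 Matrix
open H15.GC (ω ν)
universe u
variable {G : Type u} [Group G] [Finite G] {ι : Γ4 →* G} {g t : G} {R : Subgroup G} {M : Md} [M.Ok] {Ψ : W M →* G} {u τ : W M} {j : ℕ}

theorem sq_cj (g : G) (R : Subgroup G) : {x | x ∈ cj g R ∧ x * x = 1}.ncard = {x | x ∈ R ∧ x * x = 1}.ncard := by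
  rw [← Set.ncard_image_of_injective {x | x ∈ R ∧ x * x = 1} (MulAut.conj g).injective]
  congr 1; ext x
  refine ⟨fun ⟨h, e⟩ => ?_, ?_⟩
  · obtain ⟨y, hy, rfl⟩ := mem_cj'.1 h
    exact ⟨y, ⟨hy, by simpa [conj_mul] using e⟩, rfl⟩
  · rintro ⟨y, ⟨hy, e⟩, rfl⟩
    exact ⟨mem_cj'.2 ⟨y, hy, rfl⟩, by rw [← map_mul, e, map_one]⟩
theorem sq_rg (hΨ : Function.Injective Ψ) (u : W M) :
    {x | x ∈ Ψ.range ⊓ C[Ψ u] ∧ x * x = 1}.ncard = cnt fun a => a * u = u * a ∧ a * a = 1 := by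
  rw [← cnt_eq, ← Set.ncard_image_of_injective _ hΨ, map_cent hΨ]
  congr 1; ext x
  refine ⟨fun ⟨⟨a, h, e⟩, k⟩ => ⟨a, ⟨mem_cent1.1 h, hΨ (by rw [map_mul, e, k, map_one])⟩, e⟩, ?_⟩
  rintro ⟨a, ⟨h, k⟩, rfl⟩
  exact ⟨⟨a, mem_cent1.2 h, rfl⟩, by rw [← map_mul, k, map_one]⟩
/-- extremal conjugates have the same number of involutions in their centralizers -/
theorem trW (hΨ : Function.Injective Ψ) (e : M.n = 2 ^ j) (l : R ≤ Ψ.range) (hR : Syl 2 R C[Ψ τ]) (c : IsConj (Ψ τ) (Ψ u)) (k : #R ≤ cc u) :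
    (cnt fun a => a * u = u * a ∧ a * a = 1) = cnt fun a => a * τ = τ * a ∧ a * a = 1 := by
  obtain ⟨g, -, q⟩ := syl_tr hR c ((pg_rg hΨ e).infl C[Ψ u]) inf_le_right (card_cent hΨ u ▸ k)
  rw [← sq_rg hΨ, ← sq_rg hΨ, ← q, sq_cj, hR.max (le_inf l hR.le) inf_le_right ((pg_rg hΨ e).infl _)]

theorem a1 : A1.{u} := fun G _ _ ι t X r d k => by
  obtain ⟨c, Ψ, p, pt, -, e⟩ := reA r.H k
  have n : (MA c).n = 2 ^ 8 := by cases c <;> rfl
  have l : Tm ι ⊔ zpowers t ≤ Ψ.range := e ▸ le_sup_left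
  have key : ∀ u, IsConj t (Ψ u) → #(Tm ι ⊔ zpowers t : Subgroup G) ≤ cc u → u = el _ 64 ∨ u = el _ 68 := fun u h m => by
    have m1 := trW p.inj n l (pt ▸ r.syl1 k.inn) (pt ▸ h) m
    rw [card_0 r.H] at m
    have m2 := cls_le [0, 26, 11, 14, 23, 36, 64, 128] u
    refine (by decide +kernel : ∀ c, ∀ u : W (MA c), u * u = 1 → cls [0, 26, 11, 14, 23, 36, 64, 128] u ≤ 2 → 64 ≤ u.c → 128 ≤ cc u →
      (cnt fun a => a * u = u * a ∧ a * a = 1) = cnt (fun a : W (MA c) => a * el _ 64 = el _ 64 * a ∧ a * a = 1) → u = el _ 64 ∨ u = el _ 68)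
      c u (sq_W p.inj r.tt h) (by rw [n] at m2; nlinarith) (not_lt.1 fun m => r.NL _ (p.lo m ▸ h)) m m1
  have hS := sylW p.inj n l (r.syl1 k.inn) pt fun u h m => (key u h m).elim (fun e => ⟨1, by simp [e]⟩) fun e => ⟨el _ 128, by
    rw [e]; cases c <;> decide +kernel⟩
  refine p.rk r.toSt hS (thomW p.inj r.toSt hS (chi 64 (by cases c <;> decide +kernel)) hiZ (pg_0 r.H) (S0_Ct r.H)
    (mem_sup_right (mem_zpowers t)) fun u h1 h2 h3 => ?_) pt (by cases c <;> decide +kernel)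
  change sgn 64 u = 1 at h1
  rcases key u h2 h3 with rfl | rfl <;> exact absurd h1 (by cases c <;> decide +kernel)
end H15.G38
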