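/-
Standard `U₄(2)` (S3138): chunk A2.
-/
import Cfsg.Agent.H18.G2

set_option autoImplicit false
set_option linter.unusedSectionVars false

namespace H15.G38
open Cfsg Subgroup H19 H28.CY H18.U2 H18.G38 Matrix
open H15.GC (ω ν)
universe u
variable {G : Type u} [Group G] [Finite G] {ι : Γ4 →* G} {g t x : G} {S X : Subgroup G}

theorem nx_l (h : x ∈ N(S) ∧ x * x ∈ S) (hg : g ∈ S) : g * x ∈ N(S) ∧ g * x * (g * x) ∈ S :=
  ⟨mul_mem (le_normalizer hg) h.1, by convert mul_mem (mul_mem hg (conj_mem_of_norm h.1 hg)) h.2 using 1; group⟩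
theorem nx_r (h : x ∈ N(S) ∧ x * x ∈ S) (hg : g ∈ S) : x * g ∈ N(S) ∧ x * g * (x * g) ∈ S := by
  have := nx_l h (conj_mem_of_norm h.1 hg)
  rwa [inv_mul_cancel_right] at this
theorem nlong {c : ℕ} (h : IsConj (zz * v0) (tc c)) : c ∉ [0, 4, 32, 44, 52, 60] := fun m => by
  have k : IsConj v0 (tc c) := (isConj_iff.2 ⟨i1, mul_inv_eq_iff_eq_mul.2 (by decide +kernel)⟩).trans h
  rcases (by decide +kernel : ∀ c ∈ [0, 4, 32, 44, 52, 60], tc c = 1 ∨ tc c = zz ∨ ∃ β, tc c = zb β) c m with e | e | ⟨β, e⟩ <;> rw [e] at k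
  exacts [absurd (isConj_one_left.1 k) (by decide +kernel), z_v k.symm, z_v ((z_zb β).trans k.symm)]
/-- the conjugates of `e` and `e z v` are short involutions of `L` -/
theorem e_cj (r : Sr ι t X) (xt : x * t * x⁻¹ = t * ι v0) (xv : x * ι v0 * x⁻¹ = ι v0) (xz : x * ι zz * x⁻¹ = ι zz) :
    ∃ l, x * ι e0 * x⁻¹ = ι l ∧ IsConj (zz * v0) l ∧ IsConj (zz * v0) (l * (zz * v0)) := by
  have e : σ0 * v0 = v0 * σ0 ∧ σ0 * σ0 * σ0 = 1 ∧ σ0 * (zz * v0) = e0 * (zz * v0) * σ0 ∧ σ0 * σ0 * (zz * v0) = e0 * (σ0 * σ0) ∧ v0 * v0 = 1 := by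
    decide +kernel
  have h1 : x * ι σ0 * x⁻¹ ∈ C[t] := mem_cent1.2 (by
    have : t = x * (t * ι v0) * x⁻¹ := by rw [← conj_mul, xt, xv, mul_assoc, ← map_mul, e.2.2.2.2, map_one, mul_one]
    rw [this, conj_mul, conj_mul, ← mul_assoc (ι σ0), ← r.cen, mul_assoc t, mul_assoc t, ← map_mul, ← map_mul, e.1])
  obtain ⟨l, o, ho, p⟩ := r.odd h1 (PiN.of_coprime (Nat.Coprime.coprime_dvd_left (orderOf_dvd_of_pow_eq_one (n := 3) (by
    rw [conj_pow, ← map_pow, pow_three', e.2.1]; simp)) (by decide)))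
  have q : ∀ a, x * ι σ0 * x⁻¹ * ι a * (x * ι σ0 * x⁻¹)⁻¹ = ι (l * a * l⁻¹) := fun a => by rw [p, cj2, ← Oι ho, mul_inv_cancel_right, ι_cj]
  have z : x * ι (zz * v0) * x⁻¹ = ι (zz * v0) := by rw [map_mul, ← conj_mul, xz, xv]
  have q1 : x * ι e0 * x⁻¹ = ι (l * (l * (zz * v0) * l⁻¹) * l⁻¹) := by
    rw [← q, ← q, ← z, cj3, cj3, ι_cj, ι_cj, ← cj2, e.2.2.2.1, mul_inv_cancel_right]
  refine ⟨_, q1, isConj_iff.2 ⟨l * l, cj2 ..⟩, isConj_iff.2 ⟨l, r.inj ?_⟩⟩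
  rw [map_mul ι _ (zz * v0), ← q1, ← q, ← z, cj3, ι_cj, e.2.2.1, mul_inv_cancel_right, conj_mul, ← map_mul]

theorem a2 : A2.{u} := fun G _ _ ι t X r s d k => by
  obtain ⟨c, Ψ, p, pt, -, pd, e⟩ := reB r.H k
  have n : (MB c).n = 2 ^ 9 := by cases c <;> rfl
  have l : Tm ι ⊔ zpowers t ⊔ zpowers s ≤ Ψ.range := e ▸ le_sup_left
  have hR := k.os.syl r
  have key : ∀ u, IsConj t (Ψ u) → 256 ≤ cc u → u = el _ 64 ∨ u = el _ 68 ∨ u = el _ 72 ∨ u = el _ 76 := fun u h m => by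
    have m2 := cls_le [0, 26, 11, 14, 23, 36, 64, 128, 256] u
    exact (by decide +kernel : ∀ c, ∀ u : W (MB c), u * u = 1 → cls [0, 26, 11, 14, 23, 36, 64, 128, 256] u ≤ 2 → 64 ≤ u.c →
      u = el _ 64 ∨ u = el _ 68 ∨ u = el _ 72 ∨ u = el _ 76)
      c u (sq_W p.inj r.tt h) (by rw [n] at m2; nlinarith) (not_lt.1 fun m => r.NL _ (p.lo m ▸ h))
  rcases tower (pg_rg p.inj n) with hS | ⟨x, hx, x1, xx⟩
  · refine .inl (p.rk r.toSt hS (thomW p.inj r.toSt hS (chi 64 (by cases c <;> decide +kernel)) hiZ hR.pi hR.le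
      (mem_sup_left (mem_sup_right (mem_zpowers t))) fun u h1 h2 h3 => ?_) pt (by cases c <;> decide +kernel))
    change sgn 64 u = 1 at h1
    rcases key u h2 (k.os.card r.H ▸ h3) with rfl | rfl | rfl | rfl <;> exact absurd h1 (by cases c <;> decide +kernel)
  have m : ∀ c, el (MB c) 64 * el _ 8 = el _ 72 ∧ el (MB c) 256 * el _ 68 * (el _ 256)⁻¹ = el _ 64 ∧ el (MB c) 26 * el _ 76 * (el _ 26)⁻¹ = el _ 72 ∧
      256 ≤ cc (el (MB c) 64) ∧ (∀ g : W (MB c), (g * el _ 64 * g⁻¹ = el _ 64 ∨ g * el _ 64 * g⁻¹ = el _ 64 * el _ 4) ∧ el _ 4 * g = g * el _ 4 ∧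
      g * g ≠ el _ 36) ∧ ∀ a : W (MB c), (∀ g ∈ [26, 36, 64, 128, 256], a * el _ g = el _ g * a) → a = 1 ∨ a = el _ 4 := by decide +kernel
  obtain ⟨m1, m2, m3, m4, m5, m6⟩ := m c
  have tv : Ψ (el _ 72) = t * ι v0 := by rw [← m1, map_mul, pt, p.cv]
  obtain ⟨x, hx, xt⟩ : ∃ x, (x ∈ N(Ψ.range) ∧ x * x ∈ Ψ.range) ∧ x * t * x⁻¹ = t * ι v0 := by
    obtain ⟨α, h⟩ := autOf p.inj hx
    have no : ∀ g, g * α (el _ 64) * g⁻¹ = el _ 64 → False := fun g q => by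
      have := hR.max (K := (Ψ.range ⊔ zpowers x) ⊓ C[t]) (le_inf (l.trans le_sup_left) hR.le) inf_le_right ((pg_sup (pg_rg p.inj n) hx xx).infl _)
      have hg : Ψ g ∈ Ψ.range := ⟨g, rfl⟩
      exact x1 ((mul_mem_cancel_left hg).1 (l (this.le ⟨mul_mem_sup hg (mem_zpowers x),
        mem_cent1.2 (mul_inv_eq_iff_eq_mul.1 (by rw [cj2, ← pt, ← h, ← map_inv Ψ, ← map_mul Ψ, ← map_mul Ψ, q]))⟩)))
    rcases key (α (el _ 64)) (isConj_iff.2 ⟨x, by rw [h, pt]⟩) (m4.trans_eq (cc_aut α _).symm) with q | q | q | q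
    exacts [(no 1 (by rw [q, one_mul, inv_one, mul_one])).elim, (no _ (by rw [q, m2])).elim, ⟨x, ⟨hx, xx⟩, by rw [← tv, ← q, h, pt]⟩,
      ⟨_, nx_l ⟨hx, xx⟩ ⟨el _ 26, rfl⟩, by rw [← tv, ← m3, ← q, cj2, map_mul, map_mul, h, pt, map_inv]⟩]
  have xz : ∀ {x}, x ∈ N(Ψ.range) → x * ι zz * x⁻¹ = ι zz := fun hx => by
    obtain ⟨α, h⟩ := autOf p.inj hx
    rw [← p.cz, ← h, (m6 (α (el _ 4)) fun g _ => by
      obtain ⟨b, q⟩ := α.surjective (el _ g)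
      rw [← q, ← map_mul, ← map_mul, (m5 b).2.1]).resolve_left fun q => zz1 (r.inj (by rw [← p.cz, α.map_eq_one_iff.1 q, map_one, map_one]))]
  have f : v0 * v0 = 1 ∧ i1 * v0 = v0 * zz * i1 ∧ k1 * v0 = v0 * k1 ∧ k1 * tc 40 = e0 * k1 ∧ tc 36 = e0 ∧ tc 12 = zz * v0 := by decide +kernel
  have vv : ι v0 * ι v0 = 1 := by rw [← map_mul, f.1, map_one]
  obtain ⟨x, hx, xt, xv⟩ : ∃ x, (x ∈ N(Ψ.range) ∧ x * x ∈ Ψ.range) ∧ x * t * x⁻¹ = t * ι v0 ∧ x * ι v0 * x⁻¹ = ι v0 := by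
    obtain ⟨g, q⟩ := hx.2
    have q' : Ψ (g * el _ 64 * g⁻¹) = t * (ι v0 * (x * ι v0 * x⁻¹)) := by
      rw [map_mul, map_mul, map_inv, q, pt, cj2, xt, ← conj_mul, xt, mul_assoc]
    rcases (m5 g).1 with j | j <;> rw [j] at q'
    · exact ⟨x, hx, xt, by rw [pt, left_eq_mul, ← vv, mul_right_inj] at q'; exact q'⟩
    · rw [map_mul, pt, p.cz, mul_right_inj] at q'
      refine ⟨_, nx_r hx (p.le ⟨i1, QU i1Q, rfl⟩), by rw [cj2, r.H.tcj, xt], ?_⟩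
      rw [cj2, ι_cj, f.2.1, mul_inv_cancel_right, map_mul, ← conj_mul, xz hx.1, ← mul_right_inj (ι v0), ← mul_assoc, ← q', ← map_mul, zz2, map_one, vv]
  obtain ⟨y, q, c1, c2⟩ := e_cj r xt xv (xz hx.1)
  obtain ⟨α, h⟩ := autOf p.inj hx.1
  have q' : Ψ (α (el _ 36)) = ι y := by rw [h, p.ce, q]
  have lo := p.memL n (by rw [n]; decide) ⟨y, q'.symm⟩
  have y1 : tc (α (el _ 36)).c = y := r.inj ((p.lo lo).symm.trans q')
  have q2 : Ψ (α (el _ 36) * el _ 12) = ι (y * (zz * v0)) := by rw [map_mul, q', p.T 12 (by decide), f.2.2.2.2.2, map_mul ι y]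
  have lo2 := p.memL n (by rw [n]; decide) ⟨_, q2.symm⟩
  have av : α (el _ 8) = el _ 8 := p.inj (by rw [h, p.cv, xv])
  rcases (by decide +kernel : ∀ c, ∀ a : W (MB c), a.c < 64 → a * a = 1 → a * el _ 8 = el _ 8 * a → a.c ∉ [0, 4, 32, 44, 52, 60] →
    (a * el _ 12).c ∉ [0, 4, 32, 44, 52, 60] → a.c = 36 ∨ a.c = 40 ∨ ∃ b, b * b = a) c _ lo
    (by rw [← map_mul, show el (MB c) 36 * el _ 36 = 1 by cases c <;> decide +kernel, map_one])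
    (by rw [← av, ← map_mul, ← map_mul, show el (MB c) 36 * el _ 8 = el _ 8 * el _ 36 by cases c <;> decide +kernel]) (nlong (y1 ▸ c1))
    (nlong (r.inj ((p.lo lo2).symm.trans q2) ▸ c2)) with j | j | ⟨b, j⟩
  · exact .inr ⟨x, e ▸ hx.1, e ▸ hx.2, xt, xv, by rw [q, ← y1, j, f.2.2.2.2.1]⟩
  · have := nx_l hx (p.le ⟨k1, QU k1Q, rfl⟩)
    exact .inr ⟨_, e ▸ this.1, e ▸ this.2, by rw [cj2, xt, ← conj_mul, r.H.tcj, ι_cj, f.2.2.1, mul_inv_cancel_right],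
      by rw [cj2, xv, ι_cj, f.2.2.1, mul_inv_cancel_right], by rw [cj2, q, ← y1, j, ι_cj, f.2.2.2.1, mul_inv_cancel_right]⟩
  · obtain ⟨b, rfl⟩ := α.surjective b
    exact absurd (α.injective ((map_mul ..).trans j)) (m5 b).2.2
end H15.G38
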