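import Cfsg.Agent.H15.LT
import Cfsg.Prelude.Def_Spor_J2

/-! The icosian Leech lattice is the Leech lattice. -/

set_option autoImplicit false

namespace H15.Ico
open Cfsg Cfsg.Spor Quaternion

theorem sqrt5 : Real.sqrt 5 = 1 - 2 * sig := by unfold sig; ring
theorem sig_sq : sig * sig = sig + 1 := by
  have := Real.mul_self_sqrt (show (0 : ℝ) ≤ 5 by norm_num)
  rw [sqrt5] at this
  linear_combination this / 4
theorem tau_eq : tau = 1 - sig := by unfold tau sig; ring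

theorem sig_irr {a b : ℤ} (h : (a : ℝ) + b * sig = 0) : a = 0 ∧ b = 0 := by
  have hb : b = 0 := by
    by_contra hb
    have h1 : Irrational (Real.sqrt (5 : ℕ)) := Nat.Prime.irrational_sqrt Nat.prime_five
    refine h1.ne_rational (2 * a + b) b ?_
    have : (b : ℝ) ≠ 0 := by exact_mod_cast hb
    rw [eq_div_iff this, Nat.cast_ofNat, sqrt5]
    push_cast
    linear_combination -2 * h
  rw [hb, Int.cast_zero, zero_mul, add_zero, Int.cast_eq_zero] at h
  exact ⟨h, hb⟩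

/-- `a + b σ` -/
structure Zs where
  a : ℤ
  b : ℤ
deriving DecidableEq

noncomputable def Zs.ev (x : Zs) : ℝ := x.a + x.b * sig
def Zs.add (x y : Zs) : Zs := ⟨x.a + y.a, x.b + y.b⟩
def Zs.sub (x y : Zs) : Zs := ⟨x.a - y.a, x.b - y.b⟩
def Zs.sc (n : ℤ) (x : Zs) : Zs := ⟨n * x.a, n * x.b⟩
def Zs.dv (n : ℤ) (x : Zs) : Zs := ⟨x.a / n, x.b / n⟩
def Zs.mul (x y : Zs) : Zs := ⟨x.a * y.a + x.b * y.b, x.a * y.b + x.b * y.a + x.b * y.b⟩
theorem Zs.ev_add (x y : Zs) : (x.add y).ev = x.ev + y.ev := by simp only [ev, add]; push_cast; ring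
theorem Zs.ev_sub (x y : Zs) : (x.sub y).ev = x.ev - y.ev := by simp only [ev, sub]; push_cast; ring
theorem Zs.ev_sc (n : ℤ) (x : Zs) : (x.sc n).ev = n * x.ev := by simp only [ev, sc]; push_cast; ring
theorem Zs.ev_mul (x y : Zs) : (x.mul y).ev = x.ev * y.ev := by
  simp only [ev, mul]; push_cast; linear_combination (-(x.b * y.b) : ℝ) * sig_sq

/-- quaternions over `ℤ[σ]` -/
structure Q8 where
  w : Zs
  x : Zs
  y : Zs
  z : Zs
deriving DecidableEq

noncomputable def Q8.ev (q : Q8) : ℍ[ℝ] := ⟨q.w.ev, q.x.ev, q.y.ev, q.z.ev⟩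
@[simp] theorem Q8.ev_re (q : Q8) : q.ev.re = q.w.ev := rfl
@[simp] theorem Q8.ev_imI (q : Q8) : q.ev.imI = q.x.ev := rfl
@[simp] theorem Q8.ev_imJ (q : Q8) : q.ev.imJ = q.y.ev := rfl
@[simp] theorem Q8.ev_imK (q : Q8) : q.ev.imK = q.z.ev := rfl
def Q8.add (p q : Q8) : Q8 := ⟨p.w.add q.w, p.x.add q.x, p.y.add q.y, p.z.add q.z⟩
def Q8.sub (p q : Q8) : Q8 := ⟨p.w.sub q.w, p.x.sub q.x, p.y.sub q.y, p.z.sub q.z⟩
def Q8.sc (n : ℤ) (q : Q8) : Q8 := ⟨q.w.sc n, q.x.sc n, q.y.sc n, q.z.sc n⟩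
def Q8.dv (n : ℤ) (q : Q8) : Q8 := ⟨q.w.dv n, q.x.dv n, q.y.dv n, q.z.dv n⟩
def Q8.bar (q : Q8) : Q8 := ⟨q.w, q.x.sc (-1), q.y.sc (-1), q.z.sc (-1)⟩
def Q8.mul (p q : Q8) : Q8 :=
  ⟨(((p.w.mul q.w).sub (p.x.mul q.x)).sub (p.y.mul q.y)).sub (p.z.mul q.z),
    (((p.w.mul q.x).add (p.x.mul q.w)).add (p.y.mul q.z)).sub (p.z.mul q.y),
    (((p.w.mul q.y).sub (p.x.mul q.z)).add (p.y.mul q.w)).add (p.z.mul q.x),
    (((p.w.mul q.z).add (p.x.mul q.y)).sub (p.y.mul q.x)).add (p.z.mul q.w)⟩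
theorem Q8.ev_add (p q : Q8) : (p.add q).ev = p.ev + q.ev := by ext <;> exact Zs.ev_add _ _
theorem Q8.ev_sub (p q : Q8) : (p.sub q).ev = p.ev - q.ev := by ext <;> exact Zs.ev_sub _ _
theorem Q8.ev_sc (n : ℤ) (q : Q8) : (q.sc n).ev = (n : ℝ) • q.ev := by ext <;> exact Zs.ev_sc _ _
theorem Q8.ev_bar (q : Q8) : q.bar.ev = star q.ev := by
  ext <;> simp [bar, Zs.ev_sc]
theorem Q8.ev_mul (p q : Q8) : (p.mul q).ev = p.ev * q.ev := by
  ext <;> simp [mul, Zs.ev_add, Zs.ev_sub, Zs.ev_mul]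

/-! ### icosians -/

def fI : Q8 := ⟨⟨0, 0⟩, ⟨2, 0⟩, ⟨0, 0⟩, ⟨0, 0⟩⟩
def fW : Q8 := ⟨⟨1, 0⟩, ⟨0, 1⟩, ⟨0, 0⟩, ⟨1, -1⟩⟩
def fH : Q8 := ⟨⟨-1, 2⟩, ⟨1, 0⟩, ⟨1, 0⟩, ⟨1, 0⟩⟩
/-- the second generator -/
noncomputable def qW : ℍ[ℝ] := ⟨1 / 2, sig / 2, 0, tau / 2⟩
/-- half of the value -/
noncomputable def hf (q : Q8) : ℍ[ℝ] := (1 / 2 : ℝ) • q.ev
/-- a quarter of the value -/
noncomputable def qt (q : Q8) : ℍ[ℝ] := (1 / 4 : ℝ) • q.ev

theorem hf_I : hf fI = qI := by ext <;> simp [hf, fI, qI, Zs.ev]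
theorem hf_W : hf fW = qW := by
  ext <;> simp [hf, fW, qW, Zs.ev, tau_eq] <;> ring
theorem hf_H : hf fH = icoH := by
  ext <;> simp [hf, fH, icoH, Zs.ev, sqrt5] <;> ring
theorem hf_bar (q : Q8) : hf q.bar = star (hf q) := by rw [hf, hf, Q8.ev_bar, Quaternion.star_smul]
theorem qt_add (p q : Q8) : qt (p.add q) = qt p + qt q := by rw [qt, Q8.ev_add, smul_add]; rfl
theorem qt_sub (p q : Q8) : qt (p.sub q) = qt p - qt q := by rw [qt, Q8.ev_sub, smul_sub]; rfl
theorem qt_sc (p : Q8) : qt (p.sc 2) = hf p := by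
  rw [qt, hf, Q8.ev_sc, smul_smul]; norm_num

theorem hf_mul_qt {p q r : Q8} (h : p.mul q = r.sc 2) : hf p * qt q = qt r := by
  have := congrArg Q8.ev h
  rw [Q8.ev_mul, Q8.ev_sc] at this
  rw [hf, qt, qt, smul_mul_smul_comm, this, smul_smul]; norm_num
theorem qt_mul_hf {p q r : Q8} (h : p.mul q = r.sc 2) : qt p * hf q = qt r := by
  have := congrArg Q8.ev h
  rw [Q8.ev_mul, Q8.ev_sc] at this
  rw [hf, qt, qt, smul_mul_smul_comm, this, smul_smul]; norm_num
theorem hf_mul {p q r : Q8} (h : p.mul q = r.sc 2) : hf p * hf q = hf r := by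
  have := congrArg Q8.ev h
  rw [Q8.ev_mul, Q8.ev_sc] at this
  rw [hf, hf, hf, smul_mul_smul_comm, this, smul_smul]; norm_num

theorem qI_mem : qI ∈ icosians := Subring.subset_closure (Or.inl rfl)
theorem qW_mem : qW ∈ icosians := Subring.subset_closure (Or.inr rfl)

/-- a basis of the icosians -/
def bI : Fin 8 → Q8 := ![⟨⟨2, 0⟩, ⟨0, 0⟩, ⟨0, 0⟩, ⟨0, 0⟩⟩, fI, fW, ⟨⟨0, -1⟩, ⟨1, 0⟩, ⟨-1, 1⟩, ⟨0, 0⟩⟩,
  ⟨⟨0, -1⟩, ⟨1, 0⟩, ⟨1, -1⟩, ⟨0, 0⟩⟩, ⟨⟨-1, 0⟩, ⟨0, -1⟩, ⟨0, 0⟩, ⟨1, -1⟩⟩,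
  ⟨⟨0, -1⟩, ⟨1, -1⟩, ⟨0, 0⟩, ⟨1, 0⟩⟩, ⟨⟨-1, 1⟩, ⟨0, -1⟩, ⟨-1, 0⟩, ⟨0, 0⟩⟩]

theorem bI_mem (j : Fin 8) : hf (bI j) ∈ icosians := by
  have h1 : hf (bI 1) ∈ icosians := hf_I ▸ qI_mem
  have h2 : hf (bI 2) ∈ icosians := hf_W ▸ qW_mem
  have h4 : hf (bI 4) ∈ icosians := hf_mul (p := bI 2) (q := bI 1) (r := bI 4) (by decide) ▸ mul_mem h2 h1
  have h6 : hf (bI 6) ∈ icosians := hf_mul (p := bI 4) (q := bI 2) (r := bI 6) (by decide) ▸ mul_mem h4 h2
  fin_cases j
  · exact (show 1 = hf (bI 0) by ext <;> simp [hf, bI, Zs.ev]) ▸ one_mem _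
  · exact h1
  · exact h2
  · exact hf_mul (p := bI 1) (q := bI 2) (r := bI 3) (by decide) ▸ mul_mem h1 h2
  · exact h4
  · exact hf_mul (p := bI 1) (q := bI 4) (r := bI 5) (by decide) ▸ mul_mem h1 h4
  · exact h6
  · exact hf_mul (p := bI 1) (q := bI 6) (r := bI 7) (by decide) ▸ mul_mem h1 h6

theorem hf_add (p q : Q8) : hf (p.add q) = hf p + hf q := by rw [hf, Q8.ev_add, smul_add]; rfl
theorem hf_sc_mem (n : ℤ) (j : Fin 8) : hf ((bI j).sc n) ∈ icosians := by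
  rw [hf, Q8.ev_sc, smul_comm, Int.cast_smul_eq_zsmul]; exact zsmul_mem (bI_mem j) n

/-- reconstruction from the coefficients -/
def rec4 (q : Q8) : Q8 :=
  ((((((((bI 0).sc ((q.w.a - q.x.b - q.z.a - q.z.b) / 4)).add
    ((bI 1).sc ((q.w.b + q.x.a + q.y.a + q.y.b) / 4))).add
    ((bI 2).sc ((q.x.b - q.y.a - q.y.b + q.z.a) / 4))).add
    ((bI 3).sc ((-q.w.b - q.y.a - q.z.a - q.z.b) / 4))).add
    ((bI 4).sc ((-q.w.b - q.y.a - 2 * q.y.b - q.z.a - q.z.b) / 4))).add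
    ((bI 5).sc ((-q.x.b + q.y.a + q.y.b - q.z.a - 2 * q.z.b) / 4))).add
    ((bI 6).sc ((q.z.a + q.z.b) / 2))).add ((bI 7).sc ((-q.y.a - q.y.b) / 2))

theorem qt_mem {q : Q8} (h : (rec4 q).sc 2 = q) : qt q ∈ icosians := by
  rw [← h, qt_sc]
  simp only [rec4, hf_add]
  repeat' first | exact hf_sc_mem _ _ | apply add_mem

theorem qt_mem_ideal {d g : Q8} (h : (rec4 ((d.mul g.bar).dv 4)).sc 2 = (d.mul g.bar).dv 4 ∧
    ((d.mul g.bar).dv 4).mul g = d.sc 2) : qt d ∈ leftIdeal (hf g) :=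
  ⟨_, qt_mem h.1, (qt_mul_hf h.2).symm⟩

theorem H_mem : icoH ∈ icosians := hf_H ▸ qt_sc fH ▸ qt_mem (by decide)
theorem Hb_mem : star icoH ∈ icosians := hf_H ▸ hf_bar fH ▸ qt_sc fH.bar ▸ qt_mem (by decide)

theorem ideal_add {h x y : ℍ[ℝ]} (hx : x ∈ leftIdeal h) (hy : y ∈ leftIdeal h) : x + y ∈ leftIdeal h := by
  obtain ⟨a, ha, rfl⟩ := hx
  obtain ⟨b, hb, rfl⟩ := hy
  exact ⟨a + b, add_mem ha hb, (add_mul _ _ _).symm⟩
theorem ideal_neg {h x : ℍ[ℝ]} (hx : x ∈ leftIdeal h) : -x ∈ leftIdeal h := by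
  obtain ⟨a, ha, rfl⟩ := hx
  exact ⟨-a, neg_mem ha, (neg_mul _ _).symm⟩

/-- the space `ℍ³` -/
abbrev V : Type := Fin 3 → ℍ[ℝ]

/-- the icosian lattice as a subgroup -/
def IL : AddSubgroup V where
  carrier := icoLeech
  zero_mem' := ⟨fun _ => zero_mem _, ⟨0, zero_mem _, by simp⟩, ⟨0, zero_mem _, by simp⟩,
    ⟨0, zero_mem _, by simp⟩⟩
  add_mem' := fun {x y} hx hy => ⟨fun t => add_mem (hx.1 t) (hy.1 t),
    by convert ideal_add hx.2.1 hy.2.1 using 1; simp only [Pi.add_apply]; abel,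
    by convert ideal_add hx.2.2.1 hy.2.2.1 using 1; simp only [Pi.add_apply]; abel,
    by convert ideal_add hx.2.2.2 hy.2.2.2 using 1; simp only [Pi.add_apply]; abel⟩
  neg_mem' := fun {x} hx => ⟨fun t => neg_mem (hx.1 t),
    by convert ideal_neg hx.2.1 using 1; simp only [Pi.neg_apply]; abel,
    by convert ideal_neg hx.2.2.1 using 1; simp only [Pi.neg_apply]; abel,
    by convert ideal_neg hx.2.2.2 using 1; simp only [Pi.neg_apply]; abel⟩

/-! ### the Hermitian form -/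

theorem four_eq : (4 : ℍ[ℝ]) = ((4 : ℝ) : ℍ[ℝ]) := (coe_natCast 4).symm
theorem qip_eq (x y : V) : qip x y = x 0 * star (y 0) + x 1 * star (y 1) + x 2 * star (y 2) :=
  Fin.sum_univ_three _
theorem qrefl_eq (r x : V) : qrefl r x = x - ((1 / 2 : ℝ) • qip x r) • r := rfl
theorem qip_add (x y z : V) : qip (x + y) z = qip x z + qip y z := by
  simp only [qip_eq, Pi.add_apply, add_mul]; abel
theorem qip_sub (x y z : V) : qip (x - y) z = qip x z - qip y z := by
  simp only [qip_eq, Pi.sub_apply, sub_mul]; abel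
theorem qip_smul (q : ℍ[ℝ]) (x z : V) : qip (q • x) z = q * qip x z := by
  simp only [qip_eq, Pi.smul_apply, smul_eq_mul, mul_add, mul_assoc]
theorem star_qip (x y : V) : star (qip x y) = qip y x := by
  simp only [qip_eq, star_add, star_mul, star_star]
theorem qip_sub' (x y z : V) : qip z (x - y) = qip z x - qip z y := by
  rw [← star_qip, qip_sub, star_sub, star_qip, star_qip]
theorem qip_smul' (q : ℍ[ℝ]) (x z : V) : qip z (q • x) = qip z x * star q := by
  rw [← star_qip, qip_smul, star_mul, star_qip]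
theorem qip_qrefl (r x s : V) :
    qip (qrefl r x) s = qip x s - (1 / 2 : ℝ) • (qip x r * qip r s) := by
  rw [qrefl_eq, qip_sub, qip_smul, smul_mul_assoc]
theorem qip_qrefl_qrefl {r : V} (h : qip r r = 4) (x y : V) : qip (qrefl r x) (qrefl r y) = qip x y := by
  have e : ∀ s, qip s (qrefl r y) = qip s y - (1 / 2 : ℝ) • (qip s r * qip r y) := fun s => by
    rw [← star_qip, qip_qrefl, star_sub, Quaternion.star_smul, star_mul, star_qip, star_qip, star_qip]
  rw [qip_qrefl, e, e, h, four_eq, coe_mul_eq_smul,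
    mul_sub, mul_smul_comm, mul_smul_comm]
  module
theorem qrefl_smul {q : ℍ[ℝ]} (h : star q * q = 1) (r x : V) : qrefl (q • r) x = qrefl r x := by
  rw [qrefl_eq, qrefl_eq, qip_smul', smul_smul, smul_mul_assoc, mul_assoc, h, mul_one]
theorem qrefl_add (r x y : V) : qrefl r (x + y) = qrefl r x + qrefl r y := by
  rw [qrefl_eq, qrefl_eq, qrefl_eq, qip_add, smul_add, add_smul]; abel

/-! ### coordinates -/

/-- four times the icosian vector with Leech coordinates `c` -/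
def Ps (c : ℕ → ℤ) : Fin 3 → Q8 :=
  ![⟨⟨c 0 - c 1, c 2 + c 3⟩, ⟨c 0 + c 1, -c 4 - c 7⟩, ⟨c 10 - c 12, c 7 - c 4⟩, ⟨-c 10 - c 12, c 2 - c 3⟩⟩,
    ⟨⟨-c 9 - c 18, c 19 + c 23⟩, ⟨c 9 - c 18, c 5 + c 16⟩, ⟨-c 13 - c 22, c 5 - c 16⟩,
      ⟨c 22 - c 13, c 19 - c 23⟩⟩,
    ⟨⟨c 17 - c 15, c 20 - c 11⟩, ⟨c 15 + c 17, c 21 - c 6⟩, ⟨c 14 - c 8, c 6 + c 21⟩,
      ⟨c 8 + c 14, -c 11 - c 20⟩⟩]

theorem Ps_congr {c c' : ℕ → ℤ} (h : ∀ i < 24, c i = c' i) : Ps c = Ps c' := by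
  simp (disch := norm_num) only [Ps, h]

/-- the isometry -/
noncomputable def psi : Lam →+ V := AddMonoidHom.mk' (fun v t => qt (Ps (fun i => cf v (pt i)) t))
  fun v w => funext fun t => by
    rw [Pi.add_apply, ← qt_add]
    congr 1
    fin_cases t <;> simp only [Ps, Q8.add, Zs.add, cf, AddSubgroup.coe_add, Pi.add_apply] <;>
      simp <;> refine ⟨⟨?_, ?_⟩, ⟨?_, ?_⟩, ⟨?_, ?_⟩, ?_, ?_⟩ <;> ring

/-- coordinates of the vector with parameter `z` -/
def pc' (z i : ℕ) : ℤ :=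
  if zt z < 2 then (if (za z).testBit i then 4 - 2 * (zt z : ℤ) else 0) +
    if (zb z).testBit i then 4 * (zt z : ℤ) - 8 else 0
  else 1 + (if (za z).testBit i then -2 else 0) + (if (zb z).testBit i then -4 else 0) +
    if (za z).testBit i ∧ (zb z).testBit i then 8 else 0

theorem psi_lv {z : ℕ} (h : Mn z) (t : Fin 3) : psi (lv z) t = qt (Ps (pc' z) t) := by
  change qt (Ps _ t) = _
  rw [Ps_congr (c' := pc' z) fun i hi => ?_]
  rw [h.cf]
  simp only [pv, pc']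
  split_ifs <;> simp_all [gv, pt_mem_S hi]

theorem mn_BZ {k : ℕ} (hk : k < 37) : Mn (gz BZ k) := (gramOK_sound gramOK_BZ).1 k hk

theorem psi_mem (v : Lam) : psi v ∈ icoLeech := by
  have h : ∀ k < 37, let x := Ps (pc' (gz BZ k))
      (∀ t, (rec4 (x t)).sc 2 = x t) ∧ (∀ d ∈ [(x 0).sub (x 1), (x 1).sub (x 2)],
        (rec4 ((d.mul fH.bar).dv 4)).sc 2 = (d.mul fH.bar).dv 4 ∧ ((d.mul fH.bar).dv 4).mul fH = d.sc 2) ∧
      ∀ d ∈ [((x 0).add (x 1)).add (x 2)], (rec4 ((d.mul fH.bar.bar).dv 4)).sc 2 =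
        (d.mul fH.bar.bar).dv 4 ∧ ((d.mul fH.bar.bar).dv 4).mul fH.bar = d.sc 2 := by decide +kernel
  have := span_BZ (IL.comap psi) fun k hk => by
    obtain ⟨h1, h2, h3⟩ := h k hk
    change psi _ ∈ icoLeech
    simp only [icoLeech, Set.mem_setOf_eq, psi_lv (mn_BZ hk), ← qt_sub, ← qt_add, ← hf_H, ← hf_bar]
    exact ⟨fun t => qt_mem (h1 t), qt_mem_ideal (h2 _ (by simp)), qt_mem_ideal (h2 _ (by simp)),
      qt_mem_ideal (h3 _ (by simp))⟩
  exact (this ▸ AddSubgroup.mem_top v : v ∈ IL.comap psi)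

/-- the irrational part of the norm -/
def nq (q : Q8) : ℤ := (q.mul q.bar).w.b
def bet (c : ℕ → ℤ) : ℤ := nq (Ps c 0) + nq (Ps c 1) + nq (Ps c 2)

theorem qip_self (v : Lam) : qip (psi v) (psi v) =
    (((2 * sqNorm (cf v) : ℤ) + bet (fun i => cf v (pt i)) * sig) / 16 : ℝ) := by
  have e : ∀ q : Q8, qt q * star (qt q) = ((q.mul q.bar).w.ev / 16 : ℝ) := fun q => by
    have := congrArg QuaternionAlgebra.re (q.ev_mul q.bar)
    rw [Q8.ev_bar, self_mul_star] at this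
    rw [self_mul_star, qt, normSq_smul]
    congr 1
    change (q.mul q.bar).w.ev = normSq q.ev at this
    rw [this]; ring
  rw [qip_eq]
  change qt _ * star (qt _) + qt _ * star (qt _) + qt _ * star (qt _) = _
  rw [e, e, e, ← coe_add, ← coe_add]
  congr 1
  have : ((Ps (fun i => cf v (pt i)) 0).mul (Ps (fun i => cf v (pt i)) 0).bar).w.a +
      ((Ps (fun i => cf v (pt i)) 1).mul (Ps (fun i => cf v (pt i)) 1).bar).w.a +
      ((Ps (fun i => cf v (pt i)) 2).mul (Ps (fun i => cf v (pt i)) 2).bar).w.a = 2 * sqNorm (cf v) := by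
    rw [sqNorm, sum_pt_range]
    simp [Ps, Q8.mul, Q8.bar, Zs.mul, Zs.sub, Zs.sc, Finset.sum_range_succ]
    ring
  rw [← this]
  simp only [Zs.ev, bet, nq]
  push_cast
  ring

theorem qip_eq_four {v : Lam} :
    qip (psi v) (psi v) = 4 ↔ sqNorm (cf v) = 32 ∧ bet (fun i => cf v (pt i)) = 0 := by
  rw [qip_self, four_eq, coe_inj]
  refine ⟨fun h => ?_, fun h => by rw [h.1, h.2]; norm_num⟩
  have := @sig_irr (2 * sqNorm (cf v) - 64) (bet fun i => cf v (pt i))
    (by push_cast at h ⊢; linear_combination 16 * h)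
  omega

theorem psi_inj : Function.Injective psi := (injective_iff_map_eq_zero _).2 fun v h => by
  have h1 := qip_self v
  rw [h, qip_eq] at h1
  simp only [Pi.zero_apply, zero_mul, add_zero] at h1
  rw [← coe_zero, coe_inj] at h1
  have := @sig_irr (2 * sqNorm (cf v)) (bet fun i => cf v (pt i)) (by linear_combination -16 * h1)
  by_contra hne
  have := leech_min v.2 fun e => hne (Subtype.ext e)
  change 32 ≤ sqNorm (cf v) at this
  omega

/-! ### automorphisms -/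

theorem psi_coM {W : ℕ} (h : gramOK W = true) (T : V →+ V)
    (hT : ∀ k < 37, (fun t => qt (Ps (pc' (gz W k)) t)) = T fun t => qt (Ps (pc' (gz BZ k)) t))
    (v : Lam) : psi (coM W • v) = T (psi v) := by
  have := span_BZ ((psi.comp (coHom (coM W))).eqLocus (T.comp psi)) fun k hk => by
    change psi (coM W • _) = T (psi _)
    rw [coM_spec h k hk, funext (psi_lv ((gramOK_sound h).1 k hk)), funext (psi_lv (mn_BZ hk))]
    exact hT k hk
  exact (this ▸ AddSubgroup.mem_top v : v ∈ (psi.comp (coHom (coM W))).eqLocus (T.comp psi))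

/-- `g` is left multiplication by `q` -/
def IsL (g : Co0) (q : ℍ[ℝ]) : Prop := ∀ v, psi (g • v) = q • psi v
/-- `g` is the reflection in `r` -/
def IsR (g : Co0) (r : Lam) : Prop := ∀ v, psi (g • v) = qrefl (psi r) (psi v)

def chkL (W : ℕ) (q : Q8) : Prop :=
  ∀ k < 37, ∀ t, q.mul (Ps (pc' (gz BZ k)) t) = (Ps (pc' (gz W k)) t).sc 2
instance decChkL (W : ℕ) (q : Q8) : Decidable (chkL W q) := by unfold chkL; infer_instance

theorem isL_of {W : ℕ} {q : Q8} (h : gramOK W = true) (hc : chkL W q) : IsL (coM W) (hf q) :=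
  psi_coM h (DistribSMul.toAddMonoidHom V (hf q)) fun k hk => funext fun t => (hf_mul_qt (hc k hk t)).symm

def herm (x y : Fin 3 → Q8) : Q8 :=
  (((x 0).mul (y 0).bar).add ((x 1).mul (y 1).bar)).add ((x 2).mul (y 2).bar)
def chkR (W z : ℕ) : Prop :=
  ∀ k < 37, ∀ t, ((Ps (pc' (gz BZ k)) t).sc 32).sub
    ((herm (Ps (pc' (gz BZ k))) (Ps (pc' z))).mul (Ps (pc' z) t)) = (Ps (pc' (gz W k)) t).sc 32
instance decChkR (W z : ℕ) : Decidable (chkR W z) := by unfold chkR; infer_instance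

theorem isR_of {W z : ℕ} (h : gramOK W = true) (hz : okP z = true) (hc : chkR W z) :
    IsR (coM W) (lv z) :=
  psi_coM h (AddMonoidHom.mk' (qrefl (psi (lv z))) (qrefl_add _)) fun k hk => funext fun t => by
    have := congrArg Q8.ev (hc k hk t)
    rw [AddMonoidHom.mk'_apply]
    simp only [herm, Q8.ev_sub, Q8.ev_add, Q8.ev_sc, Q8.ev_mul, Q8.ev_bar] at this
    simp only [qrefl, qip_eq, psi_lv (okP_mn hz), qt, Quaternion.star_smul, smul_mul_smul_comm,
      ← smul_add, smul_smul]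
    generalize (_ + _ + _ : ℍ[ℝ]) * _ = A at *
    rw [sub_eq_iff_eq_add'] at this
    rw [show A = ((32 : ℤ) : ℝ) • _ - ((32 : ℤ) : ℝ) • _ from eq_sub_of_add_eq this.symm]
    push_cast
    module

def WI : ℕ := 0x83696a46404880404cac60062020063a94800814820ab740000750018d400001600527620400624508d0042810046e360002460206cd000801048c2b428200428258d82400182402f50160450160cd00000200002200000000080801000001000200000000800080000000010020000080000088000000000802002000002000800200000200200000000000480400000400020000000000108000000000006000040000040800000000400200010000010080000000000024000200000208080000080002000000000000a000001000003000002000002800000010000210000000000088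
def WW : ℕ := 0x20000830390850000016d08038000208011b8d08008088269140008037c4a320000014f194d80000300498b500000163008d8000300011b8d4000044246154010001e966322010002096314001001b47272400001c012a54000002000800500000f083205000403c20c81440000cd22205040003348881400040c24a605200003348881700100f0832050821030929814d0000cd22205000013004a95420000c24a60500006b0018e94000004002001800003c20c81401000c012a55002003092981000000000220100000b0018e9400010c0063a5000203004a95400008c0063a5004213004a95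
theorem isL_I : IsL (coM WI) qI := hf_I ▸ isL_of (by decide +kernel) (by decide +kernel)
theorem isL_W : IsL (coM WW) qW := hf_W ▸ isL_of (by decide +kernel) (by decide +kernel)

theorem smul_mem_range {q : ℍ[ℝ]} (hq : q ∈ icosians) : ∀ x ∈ psi.range, q • x ∈ psi.range := by
  induction hq using Subring.closure_induction with
  | mem q hq =>
    rintro _ ⟨v, rfl⟩
    rcases hq with rfl | rfl
    exacts [⟨_, isL_I v⟩, ⟨_, isL_W v⟩]
  | zero => intro x _; rw [zero_smul]; exact zero_mem _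
  | one => intro x hx; rwa [one_smul]
  | add p q _ _ hp hq => intro x hx; rw [add_smul]; exact add_mem (hp x hx) (hq x hx)
  | neg p _ hp => intro x hx; rw [neg_smul]; exact neg_mem (hp x hx)
  | mul p q _ _ hp hq => intro x hx; rw [mul_smul]; exact hp _ (hq x hx)

/-- the parameters of the vectors `(2,0,0)`, `(0,2,0)`, `(0,0,2)` -/
def zR : Fin 3 → ℕ := ![134217740, 17626546833408, 2199023910912]

theorem psi_eq {z : ℕ} {x : Fin 3 → Q8} (h : okP z = true ∧ Ps (pc' z) = fun t => (x t).sc 2) :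
    psi (lv z) = fun t => hf (x t) := funext fun t => by rw [psi_lv (okP_mn h.1), h.2, qt_sc]

theorem hf_zero : hf (fH.sc 0) = 0 := by simp [hf, Q8.ev_sc]
theorem hf_two : hf ((bI 0).sc 2) = 2 := by
  rw [show (2 : ℍ[ℝ]) = ((2 : ℝ) : ℍ[ℝ]) from (coe_natCast 2).symm]
  ext <;> simp [hf, bI, Q8.sc, Zs.sc, Zs.ev] <;> norm_num

theorem psi_zR (t : Fin 3) : psi (lv (zR t)) = Pi.single t 2 := by
  rw [psi_eq (x := fun s => if s = t then (bI 0).sc 2 else fH.sc 0) (by revert t; decide +kernel)]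
  funext s
  rw [Pi.single_apply, apply_ite hf, hf_two, hf_zero]

theorem psi_surj {x : V} (hx : x ∈ icoLeech) : x ∈ psi.range := by
  obtain ⟨h0, ⟨a, ha, e1⟩, ⟨b, hb, e2⟩, c, hc, e3⟩ := hx
  have m1 : ![0, icoH, icoH] ∈ psi.range := ⟨lv 687234852865, by
    rw [psi_eq (x := ![fH.sc 0, fH, fH]) (by decide +kernel)]
    funext t; fin_cases t <;> simp [hf_zero, hf_H]⟩
  have m2 : ![icoH, icoH, 0] ∈ psi.range := ⟨lv 824669423673, by
    rw [psi_eq (x := ![fH, fH, fH.sc 0]) (by decide +kernel)]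
    funext t; fin_cases t <;> simp [hf_zero, hf_H]⟩
  have m3 : (fun _ => star icoH) ∈ psi.range := ⟨lv 291370700718085 + lv 4535508836401, by
    funext t
    rw [map_add, Pi.add_apply, psi_lv (okP_mn (by decide +kernel)), psi_lv (okP_mn (by decide +kernel)),
      ← qt_add, ← hf_H, ← hf_bar, ← qt_sc]
    congr 1
    revert t; decide +kernel⟩
  have m4 : ∀ t, Pi.single t 2 ∈ psi.range := fun t => ⟨_, psi_zR t⟩
  have := sub_mem (sub_mem (sub_mem (smul_mem_range hc _ m3) (smul_mem_range (h0 2) _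
    (add_mem (add_mem (m4 0) (m4 1)) (m4 2)))) (smul_mem_range ha _ m1))
    (smul_mem_range hb _ (add_mem m2 (smul_mem_range H_mem _ (m4 2))))
  convert this using 1
  funext t
  simp only [Pi.sub_apply, Pi.smul_apply, Pi.add_apply, smul_eq_mul]
  fin_cases t <;> simp [mul_two, mul_add, ← e1, ← e2, ← e3] <;> abel

/-- the bijection -/
noncomputable def eqv : Lam ≃ icoLeech := Equiv.ofBijective (fun v => ⟨psi v, psi_mem v⟩)
  ⟨fun _ _ h => psi_inj (congrArg Subtype.val h), fun x => by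
    obtain ⟨v, h⟩ := psi_surj x.2; exact ⟨v, Subtype.ext h⟩⟩

theorem coe_eqv (v : Lam) : (eqv v : V) = psi v := rfl

/-- the transported action -/
noncomputable def Th : Co0 →* Equiv.Perm icoLeech := eqv.permCongrHom.toMonoidHom.comp Co0.subtype

theorem Th_inj : Function.Injective Th := eqv.permCongrHom.injective.comp Subtype.val_injective
theorem Th_apply (g : Co0) (v : Lam) : Th g (eqv v) = eqv (g • v) := by
  change eqv ((g : Equiv.Perm Lam) (eqv.symm (eqv v))) = _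
  rw [Equiv.symm_apply_apply]; rfl

theorem nondeg {x y : V} (h : ∀ s : Lam, qip x (psi s) = qip y (psi s)) : x = y := funext fun t => by
  have := h (lv (zR t))
  have e : ∀ x : V, qip x (Pi.single t 2) = x t * star 2 := fun x => by
    fin_cases t <;> simp [qip_eq]
  rw [psi_zR, e, e] at this
  exact mul_right_cancel₀ (star_ne_zero.2 fun h =>
    two_ne_zero (coe_injective ((coe_natCast 2).trans h) : ((2 : ℕ) : ℝ) = 0)) this

/-- the Hermitian isometries -/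
def UG : Subgroup Co0 where
  carrier := {g | ∀ v w, qip (psi (g • v)) (psi (g • w)) = qip (psi v) (psi w)}
  one_mem' v w := by rw [one_smul, one_smul]
  mul_mem' := fun {a b} ha hb v w => by rw [mul_smul, mul_smul, ha, hb]
  inv_mem' := fun {a} ha v w => by rw [← ha, smul_inv_smul, smul_inv_smul]

theorem IsR.mem {g : Co0} {r : Lam} (h : IsR g r) (hr : qip (psi r) (psi r) = 4) : g ∈ UG :=
  fun v w => by rw [h, h, qip_qrefl_qrefl hr]

theorem IsR.conj {g a : Co0} {r : Lam} (h : IsR g r) (ha : a ∈ UG) : IsR (a * g * a⁻¹) (a • r) :=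
  fun v => nondeg fun s => by
    obtain ⟨s, rfl⟩ := MulAction.surjective a s
    obtain ⟨v, rfl⟩ := MulAction.surjective a v
    rw [mul_smul, inv_smul_smul, mul_smul, ha, h, qip_qrefl, qip_qrefl, ha, ha, ha]

theorem IsR.unique {g g' : Co0} {r : Lam} (h : IsR g r) (h' : IsR g' r) : g = g' :=
  co_ext' fun v => psi_inj ((h v).trans (h' v).symm)

theorem IsR.unit {g : Co0} {r r' : Lam} {q : ℍ[ℝ]} (h : IsR g r) (hq : star q * q = 1)
    (e : psi r' = q • psi r) : IsR g r' := fun v => by rw [e, qrefl_smul hq, h]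

theorem IsR.refl {g : Co0} {r : Lam} (h : IsR g r) (hr : qip (psi r) (psi r) = 4) :
    IsIcoReflection (Th g) := ⟨eqv r, hr, fun x => by
  obtain ⟨v, rfl⟩ := eqv.surjective x
  rw [Th_apply]; exact h v⟩

theorem neg_eq {a b c : Co0} (ha : IsR a (lv (zR 0))) (hb : IsR b (lv (zR 1))) (hc : IsR c (lv (zR 2))) :
    c * b * a = coN := co_ext' fun v => psi_inj (by
  have e : ∀ x : ℍ[ℝ], (2⁻¹ : ℝ) • (x * 2 * 2) = x + x := fun x => by
    simp only [mul_two, mul_add, add_mul]; module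
  rw [mul_smul, mul_smul, hc, hb, ha, coN_smul, map_neg, psi_zR, psi_zR, psi_zR]
  funext t
  fin_cases t <;> simp [qrefl, qip_eq, e])

end H15.Ico
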