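import Cfsg.Agent.H15.LK

/-! Parameters of minimal vectors; sums over all minimal vectors; automorphisms from tables. -/

set_option autoImplicit false

namespace H15
open Cfsg Finset MulAction
open H16 (fld)

def zt (z : ℕ) : ℕ := Nat.land z 3
def za (z : ℕ) : ℕ := Nat.land (Nat.shiftRight z 2) 16777215
def zb (z : ℕ) : ℕ := Nat.land (Nat.shiftRight z 26) 16777215
def zk (t a b : ℕ) : ℕ := Nat.add t (Nat.mul 4 (Nat.add a (Nat.mul 16777216 b)))

theorem zt_eq (z : ℕ) : zt z = z % 4 := Nat.and_two_pow_sub_one_eq_mod z 2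
theorem za_eq (z : ℕ) : za z = z / 4 % 16777216 := by
  unfold za; rw [H16.land_mask (w := 24) (by norm_num), Nat.shiftRight_eq, Nat.shiftRight_eq_div_pow]
  rfl
theorem zb_eq (z : ℕ) : zb z = z / 67108864 % 16777216 := by
  unfold zb; rw [H16.land_mask (w := 24) (by norm_num), Nat.shiftRight_eq, Nat.shiftRight_eq_div_pow]
  rfl
theorem zk_eq (t a b : ℕ) : zk t a b = t + 4 * (a + 16777216 * b) := rfl
theorem za_lt (z : ℕ) : za z < 2 ^ 24 := by rw [za_eq]; omega
theorem zb_lt (z : ℕ) : zb z < 2 ^ 24 := by rw [zb_eq]; omega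
theorem zk_spec {t a b : ℕ} (ht : t < 4) (ha : a < 2 ^ 24) (hb : b < 2 ^ 24) :
    zt (zk t a b) = t ∧ za (zk t a b) = a ∧ zb (zk t a b) = b ∧ zk t a b < 1125899906842624 := by
  rw [zt_eq, za_eq, zb_eq, zk_eq]; omega
theorem zk_self {z : ℕ} (h : z < 1125899906842624) : zk (zt z) (za z) (zb z) = z := by
  rw [zt_eq, za_eq, zb_eq, zk_eq]; omega

/-- a combination of indicator vectors -/
def gv (α β γ δ : ℤ) (s t : Finset GolayPt) : GolayPt → ℤ := fun p =>
  α + (if p ∈ s then β else 0) + (if p ∈ t then γ else 0) + if p ∈ s ∩ t then δ else 0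

/-- the vector with parameter `z` -/
def pv (z : ℕ) : GolayPt → ℤ :=
  if zt z < 2 then gv 0 (4 - 2 * zt z) (4 * zt z - 8) 0 (S (za z)) (S (zb z))
  else gv 1 (-2) (-4) 8 (S (za z)) (S (zb z))

/-- its code -/
noncomputable def code (z : ℕ) : ℕ :=
  force (zt z) fun t => force (za z) fun a => force (zb z) fun b =>
    Bool.rec (Nat.add (Nat.add (Nat.add ONES (Nat.mul 29 (spr a))) (Nat.mul 27 (spr b)))
      (Nat.mul 8 (spr (Nat.land a b))))
      (Nat.add (Nat.mul (Nat.sub 4 (Nat.mul 2 t)) (spr a)) (Nat.mul (Nat.add 23 (Nat.mul 4 t)) (spr b)))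
      (Nat.blt t 2)

theorem code_spec (z : ℕ) : Cd (pv z) (code z) ∧ DR 65 (code z) (fld 25 (code z)) := by
  have ha := rep_spr (za_lt z)
  have hb := rep_spr (zb_lt z)
  have hc := rep_spr (lt_of_le_of_lt (Nat.and_le_left (m := zb z)) (za_lt z))
  rw [S_and] at hc
  simp only [code, force_eq, brec_eq_ite, Nat.blt_eq, pv]
  split_ifs with h
  · have := (ha.mul (t := 4 - 2 * zt z) (c := 4) (by omega)).add
      (hb.mul (t := 23 + 4 * zt z) (c := 27) (by omega))
    refine ⟨Cd.of_rep this (by norm_num) fun i _ => ?_, DR.self (this.mono (by norm_num)) (by norm_num)⟩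
    simp only [gv]
    split_ifs <;> omega
  · have := ((rep_ONES.add (ha.mul (le_refl 29))).add (hb.mul (le_refl 27))).add (hc.mul (le_refl 8))
    refine ⟨Cd.of_rep this (by norm_num) fun i _ => ?_, DR.self (this.mono (by norm_num)) (by norm_num)⟩
    simp only [gv]
    split_ifs <;> omega

/-- admissible parameters -/
noncomputable def okP (z : ℕ) : Bool :=
  band (Nat.blt z 1125899906842624) (force (zt z) fun t => force (za z) fun a => force (zb z) fun b =>
    Bool.rec (band (Nat.beq t 2) (band (isC a) (Nat.beq (pc b) 1)))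
      (band (Nat.beq (Nat.land b a) b) (Bool.rec (band (isO a) (Nat.beq (Nat.land (pc b) 1) 0))
        (Nat.beq (pc a) 2) (Nat.beq t 0))) (Nat.blt t 2))

theorem okP_iff {z : ℕ} : okP z = true ↔ z < 1125899906842624 ∧
    ((zt z = 0 ∧ S (zb z) ⊆ S (za z) ∧ (S (za z)).card = 2) ∨
    (zt z = 1 ∧ S (zb z) ⊆ S (za z) ∧ S (za z) ∈ octads ∧ (S (zb z)).card % 2 = 0) ∨
    (zt z = 2 ∧ S (za z) ∈ cw ∧ (S (zb z)).card = 1)) := by
  simp only [okP, force_eq, band_iff, Nat.blt_eq, S_subset_iff (zb_lt z), card_S (za_lt z),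
    card_S (zb_lt z), S_mem_octads_iff (za_lt z), S_mem_cw_iff (za_lt z), brec_eq_ite, Nat.beq_eq]
  refine and_congr_right fun _ => ?_
  split_ifs with h1 h2
  · simp [h2]
  · simp [show zt z = 1 by omega]
  · simp [show zt z ≠ 0 by omega, show zt z ≠ 1 by omega]

theorem oc_mem {o s : Finset GolayPt} (ho : o ∈ octads) (hs : s ⊆ o) (he : s.card % 2 = 0) :
    oc o s ∈ leechLattice := by
  obtain ⟨c, hc, e⟩ := exists_cw_inter ho s hs he
  convert leech_sign hc (LC_oc ho.1).mem using 2 with p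
  subst e
  simp only [oc, mem_inter, notMem_empty, if_false]
  split_ifs <;> simp_all

theorem gv_oc {o s : Finset GolayPt} (hs : s ⊆ o) : gv 0 2 (-4) 0 o s = oc o s := by
  ext p; have := @hs p; simp only [gv, oc]; split_ifs <;> simp_all

theorem gv_od (c : Finset GolayPt) (i : GolayPt) : gv 1 (-2) (-4) 8 c {i} = od c i := by
  ext p
  by_cases h1 : p = i <;> by_cases h2 : p ∈ c <;>
    simp only [gv, od, mem_inter, mem_singleton, h1, h2, if_true, if_false, and_true, and_false,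
      true_and, false_and] <;> (try split_ifs) <;> simp_all

/-- the parameter gives a minimal vector -/
def Mn (z : ℕ) : Prop := pv z ∈ leechLattice ∧ sqNorm (pv z) = 32

theorem okP_mn {z : ℕ} (h : okP z = true) : Mn z := by
  unfold Mn pv
  rcases (okP_iff.1 h).2 with ⟨h1, h2, h3⟩ | ⟨h1, h2, h3, h4⟩ | ⟨h1, h2, h3⟩ <;> rw [h1]
  · rw [if_pos (by norm_num)]
    generalize S (za z) = s at *
    generalize S (zb z) = t at *
    refine ⟨mem_leech_of_four (fun p => ?_) ?_, ?_⟩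
    · simp only [gv]; split_ifs <;> rfl
    · simp only [gv, sum_add_distrib, sum_ind, sum_pt, h3]; omega
    · have : ∀ p, gv 0 (4 - 2 * (0 : ℕ)) (4 * (0 : ℕ) - 8) 0 s t p ^ 2 = if p ∈ s then 16 else 0 :=
        fun p => by have := @h2 p; simp only [gv]; split_ifs <;> simp_all
      simp only [sqNorm, this, sum_ind, h3]; rfl
  · rw [if_pos (by norm_num)]
    change gv 0 2 (-4) 0 _ _ ∈ _ ∧ sqNorm (gv 0 2 (-4) 0 _ _) = _
    rw [gv_oc h2, norm_oc, h3.2]
    exact ⟨oc_mem h3 h2 h4, rfl⟩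
  · obtain ⟨i, e⟩ := card_eq_one.1 h3
    rw [if_neg (by norm_num), e, gv_od]
    exact ⟨od_mem h2 i, norm_od _ _⟩

theorem exists_okP {x : GolayPt → ℤ} (hx : x ∈ leechLattice) (hn : sqNorm x = 32) :
    ∃ z, okP z = true ∧ pv z = x := by
  rcases min_shape hx hn with ⟨i, j, a, b, hij, ha, hb, e⟩ | ⟨o, ho, s, hs, he, e⟩ | ⟨c, hc, i, e⟩
  · obtain ⟨m, hm, e1⟩ := exists_S {i, j}
    obtain ⟨n, hn, e2⟩ := exists_S (({i, j} : Finset GolayPt).filter fun p => x p = -4)
    obtain ⟨h1, h2, h3, h4⟩ := zk_spec (t := 0) (by norm_num) hm hn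
    refine ⟨zk 0 m n, okP_iff.2 ⟨h4, Or.inl ?_⟩, ?_⟩
    · rw [h1, h2, h3, ← e1, ← e2]
      exact ⟨rfl, filter_subset _ _, card_pair hij⟩
    · rw [pv, h1, h2, h3, ← e1, ← e2, if_pos (by norm_num)]
      ext p
      have : x p = if p = i then a else if p = j then b else 0 := by
        rw [e]; simp only [pr, Pi.add_apply, Pi.single_apply]; split_ifs <;> simp_all
      simp only [gv, mem_filter, mem_insert, mem_singleton]
      split_ifs at this ⊢ <;> simp_all
  · obtain ⟨m, hm, rfl⟩ := exists_S o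
    obtain ⟨n, hn, rfl⟩ := exists_S s
    obtain ⟨h1, h2, h3, h4⟩ := zk_spec (t := 1) (by norm_num) hm hn
    refine ⟨zk 1 m n, okP_iff.2 ⟨h4, Or.inr (Or.inl ?_)⟩, ?_⟩
    · rw [h1, h2, h3]; exact ⟨rfl, hs, ho, he⟩
    · rw [pv, h1, h2, h3, if_pos (by norm_num), e]; exact gv_oc hs
  · obtain ⟨m, hm, rfl⟩ := exists_S c
    obtain ⟨n, hn, e2⟩ := exists_S {i}
    obtain ⟨h1, h2, h3, h4⟩ := zk_spec (t := 2) (by norm_num) hm hn
    refine ⟨zk 2 m n, okP_iff.2 ⟨h4, Or.inr (Or.inr ?_)⟩, ?_⟩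
    · rw [h1, h2, h3, ← e2]; exact ⟨rfl, hc, card_singleton i⟩
    · rw [pv, h1, h2, h3, if_neg (by norm_num), e, ← e2, gv_od]

open Classical in
/-- the lattice vector with parameter `z` -/
noncomputable def lv (z : ℕ) : Lam := if h : pv z ∈ leechLattice then ⟨_, h⟩ else 0

theorem Mn.cf {z : ℕ} (h : Mn z) : cf (lv z) = pv z := by unfold lv; rw [dif_pos h.1]
theorem Mn.norm {z : ℕ} (h : Mn z) : sqNorm (H15.cf (lv z)) = 32 := by rw [h.cf, h.2]
theorem Mn.le {z : ℕ} (h : Mn z) : sqNorm (H15.cf (lv z)) ≤ 64 := by rw [h.norm]; norm_num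
theorem Mn.cd {z : ℕ} (h : Mn z) : Cd (lv z) (code z) := by
  have := (code_spec z).1; rwa [← h.cf] at this
theorem mn_of_norm {z : ℕ} (h : sqNorm (cf (lv z)) = 32) : Mn z := by
  by_cases hz : pv z ∈ leechLattice
  · exact ⟨hz, by unfold lv at h; rwa [dif_pos hz] at h⟩
  · unfold lv at h; rw [dif_neg hz] at h; exact absurd (h.symm.trans sqNorm_zero) (by norm_num)
theorem code_dr (z : ℕ) : DR 40000 (code z) (fld 25 (code z)) := (code_spec z).2.mono (by norm_num)

theorem exists_lv {v : Lam} (hn : sqNorm (cf v) = 32) : ∃ z, okP z = true ∧ lv z = v := by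
  obtain ⟨z, h, e⟩ := exists_okP v.2 hn
  exact ⟨z, h, Subtype.ext ((okP_mn h).cf.trans e)⟩

theorem Mn.dot {z r : ℕ} (h : Mn z) {v : Lam} (hv : RC v r) (nv : sqNorm (H15.cf v) ≤ 64) :
    dotInt (H15.cf v) (H15.cf (lv z)) = 8 * (dk (code z) r : ℤ) - 64 :=
  dk_sound hv h.cd (code_dr z) nv h.le

/-! ### sums over all parameters -/

/-- `Φ` is a sum over a multiset containing `X` -/
def Cov (Φ : (ℕ → ℕ) → ℕ) (X : Set ℕ) : Prop :=
  ∃ M : Multiset ℕ, (∀ f, Φ f = (M.map f).sum) ∧ ∀ z ∈ X, z ∈ M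

theorem Cov.single (a : ℕ) : Cov (fun f => f a) {a} := ⟨{a}, by simp, by simp⟩
theorem Cov.mono {Φ : (ℕ → ℕ) → ℕ} {X Y : Set ℕ} (h : Cov Φ X) (hY : Y ⊆ X) : Cov Φ Y := by
  obtain ⟨M, h1, h2⟩ := h; exact ⟨M, h1, fun z hz => h2 z (hY hz)⟩
theorem Cov.congr {Φ Ψ : (ℕ → ℕ) → ℕ} {X : Set ℕ} (h : Cov Φ X) (e : ∀ f, Ψ f = Φ f) : Cov Ψ X :=
  funext e ▸ h
theorem Cov.add {Φ Ψ : (ℕ → ℕ) → ℕ} {X Y : Set ℕ} (h : Cov Φ X) (h' : Cov Ψ Y) :
    Cov (fun f => Nat.add (Φ f) (Ψ f)) (X ∪ Y) := by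
  obtain ⟨M, h1, h2⟩ := h
  obtain ⟨N, h3, h4⟩ := h'
  exact ⟨M + N, fun f => by simp [h1, h3], fun z hz => Multiset.mem_add.2 (hz.imp (h2 z) (h4 z))⟩
theorem Cov.guard {Φ : (ℕ → ℕ) → ℕ} {X : Set ℕ} (b : Bool) (h : b = true → Cov Φ X) :
    Cov (fun f => Bool.rec 0 (Φ f) b) {z | b = true ∧ z ∈ X} := by
  cases b
  · exact ⟨0, by simp, by simp⟩
  · exact (h rfl).mono fun z hz => hz.2
theorem Cov.bind {Φ : (ℕ → ℕ) → ℕ} {X : Set ℕ} (h : Cov Φ X) {Ψ : ℕ → (ℕ → ℕ) → ℕ}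
    {Y : ℕ → Set ℕ} (h' : ∀ x, Cov (Ψ x) (Y x)) :
    Cov (fun f => Φ fun x => Ψ x f) {z | ∃ x ∈ X, z ∈ Y x} := by
  obtain ⟨M, h1, h2⟩ := h
  choose N h3 h4 using h'
  refine ⟨M.bind N, fun f => ?_, ?_⟩
  · simp only [h1, h3, Multiset.map_bind, Multiset.sum_bind]
  · rintro z ⟨x, hx, hz⟩
    exact Multiset.mem_bind.2 ⟨x, h2 x hx, h4 x z hz⟩
theorem Cov.sumTo (n : ℕ) : Cov (fun f => sumTo f n) (Set.Iio n) :=
  ⟨(range n).val, fun f => sumTo_eq f n, fun z hz => mem_range.2 hz⟩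
theorem Cov.sumTo2 (m n : ℕ) : Cov (fun f => sumTo2 f m n) (Set.Iio (m * n)) :=
  ⟨(range (m * n)).val, fun f => sumTo2_eq f m n, fun z hz => mem_range.2 hz⟩

/-- sum over all `s ^^^ t` with `t` a submask of `o` -/
noncomputable def subs (n : ℕ) (f : ℕ → ℕ) : ℕ → ℕ → ℕ :=
  Nat.rec (fun _ s => f s) (fun _ ih o s => force (Nat.pow 2 (Nat.log2 o)) fun b =>
    force (Nat.xor o b) fun o' => Nat.add (ih o' s) (force (Nat.xor s b) (ih o'))) n

theorem cov_subs (n : ℕ) : ∀ o s, o < 2 ^ 24 → (S o).card = n →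
    Cov (fun f => subs n f o s) {z | ∃ t < 2 ^ 24, S t ⊆ S o ∧ z = s ^^^ t} := by
  induction n with
  | zero =>
    intro o s _ h
    refine (Cov.single s).mono ?_
    rintro z ⟨t, ht, h1, rfl⟩
    rw [card_eq_zero.1 h, subset_empty, ← S_zero] at h1
    rw [S_inj ht (by norm_num) h1, Nat.xor_zero]; rfl
  | succ n ih =>
    intro o s ho h
    have h0 : o ≠ 0 := by rintro rfl; rw [S_zero] at h; simp at h
    have hi : o.log2 < 24 := (Nat.log2_lt h0).2 ho
    have hb : 2 ^ o.log2 < 2 ^ 24 := Nat.pow_lt_pow_right (by norm_num) hi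
    have hm : pt o.log2 ∈ S o := (pt_mem_S hi).2 (Nat.testBit_log2 h0)
    have e : S (o ^^^ 2 ^ o.log2) = (S o).erase (pt o.log2) := by
      rw [S_xor, S_two_pow hi, symmDiff_of_ge (by simpa using hm), sdiff_singleton_eq_erase]
    have hc : (S (o ^^^ 2 ^ o.log2)).card = n := by rw [e, card_erase_of_mem hm, h]; rfl
    have := (ih _ s (Nat.xor_lt_two_pow ho hb) hc).add
      (ih _ (s ^^^ 2 ^ o.log2) (Nat.xor_lt_two_pow ho hb) hc)
    simp only [subs, force_eq] at this ⊢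
    refine this.mono ?_
    rintro z ⟨t, ht, h1, rfl⟩
    by_cases hp : pt o.log2 ∈ S t
    · refine Or.inr ⟨t ^^^ 2 ^ o.log2, Nat.xor_lt_two_pow ht hb, ?_, ?_⟩
      · rw [e, S_xor, S_two_pow hi, symmDiff_of_ge (by simpa using hp), sdiff_singleton_eq_erase]
        exact erase_subset_erase _ h1
      · rw [Nat.xor_assoc, Nat.xor_comm t, Nat.xor_xor_cancel_left]
    · exact Or.inl ⟨t, ht, e ▸ subset_erase.2 ⟨h1, hp⟩, rfl⟩

noncomputable def mnA (f : ℕ → ℕ) : ℕ :=
  sumTo (fun i => sumTo (fun j => Bool.rec 0 (force (Nat.lor (Nat.pow 2 i) (Nat.pow 2 j)) fun o =>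
    subs 2 (fun s => force (zk 0 o s) f) o 0) (Nat.blt j i)) 24) 24
noncomputable def mnG (e : ℕ → ℕ) (g₁ g₂ : ℕ → Bool) (f : ℕ → ℕ) (lo n : ℕ) : ℕ :=
  sumTo2 (fun a => force (e (Nat.add lo a)) fun o => Bool.rec 0
    (subs 8 (fun s => Bool.rec 0 (force (zk 1 o s) f) (g₂ s)) o 0) (g₁ o)) n 64
noncomputable def mnB (f : ℕ → ℕ) (lo n : ℕ) : ℕ :=
  mnG enc (fun o => Nat.beq (pc o) 8) (fun s => Nat.beq (Nat.land (pc s) 1) 0) f lo n
noncomputable def mnC (f : ℕ → ℕ) (lo n : ℕ) : ℕ :=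
  sumTo2 (fun a => force (enc (Nat.add lo a)) fun c =>
    sumTo (fun i => force (zk 2 c (Nat.pow 2 i)) f) 24) n 64

/-- the sum over all parameters of minimal vectors -/
noncomputable def minSum (f : ℕ → ℕ) : ℕ := Nat.add (Nat.add (mnA f) (mnB f 0 64)) (mnC f 0 64)

theorem mnG_split (e : ℕ → ℕ) (g₁ g₂ : ℕ → Bool) (f : ℕ → ℕ) (lo m n : ℕ) :
    mnG e g₁ g₂ f lo (m + n) = mnG e g₁ g₂ f lo m + mnG e g₁ g₂ f (lo + m * 64) n := by
  simp only [mnG, sumTo2_eq, Nat.add_mul, sum_range_add, Nat.add_eq, Nat.add_assoc]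
theorem mnB_split (f : ℕ → ℕ) (lo m n : ℕ) :
    mnB f lo (m + n) = mnB f lo m + mnB f (lo + m * 64) n := mnG_split _ _ _ f lo m n
theorem mnC_split (f : ℕ → ℕ) (lo m n : ℕ) :
    mnC f lo (m + n) = mnC f lo m + mnC f (lo + m * 64) n := by
  simp only [mnC, sumTo2_eq, Nat.add_mul, sum_range_add, Nat.add_eq, Nat.add_assoc]

theorem minSum_split (f : ℕ → ℕ) : minSum f =
    mnA f + (mnB f 0 32 + mnB f 2048 32) + (mnC f 0 32 + mnC f 2048 32) := by
  rw [← mnB_split f 0 32 32, ← mnC_split f 0 32 32]; rfl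

theorem cov_mnA : Cov mnA {z | ∃ i < 24, ∃ j < i, ∃ t < 2 ^ 24, S t ⊆ S (2 ^ i ||| 2 ^ j) ∧
    z = zk 0 (2 ^ i ||| 2 ^ j) t} := by
  have hA := (Cov.sumTo 24).bind fun i => (Cov.sumTo 24).bind fun j => Cov.guard (Nat.blt j i && Nat.blt i 24)
    fun h => (cov_subs 2 (2 ^ i ||| 2 ^ j) 0 (by
      simp only [Bool.and_eq_true, Nat.blt_eq] at h
      exact Nat.or_lt_two_pow (Nat.pow_lt_pow_right (by norm_num) h.2)
        (Nat.pow_lt_pow_right (by norm_num) (by omega))) (by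
      simp only [Bool.and_eq_true, Nat.blt_eq] at h
      rw [S_or, S_two_pow h.2, S_two_pow (by omega), card_union_of_disjoint, card_singleton,
        card_singleton]
      exact disjoint_singleton.2 fun e => by have := pt_inj h.2 (by omega) e; omega)).bind
      fun s => Cov.single (zk 0 (2 ^ i ||| 2 ^ j) s)
  refine (hA.congr fun f => ?_).mono ?_
  · unfold mnA
    rw [sumTo_eq, sumTo_eq]
    refine sum_congr rfl fun i hi => ?_
    rw [sumTo_eq, sumTo_eq, show Nat.blt i 24 = true from Nat.blt_eq ▸ mem_range.1 hi]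
    refine sum_congr rfl fun j _ => ?_
    simp only [Bool.and_true, force_eq]
    rfl
  · rintro z ⟨i, hi, j, hj, t, ht, h, rfl⟩
    exact ⟨i, hi, j, hj.trans hi, by simp [hi, hj], t, ⟨t, ht, h, (Nat.zero_xor t).symm⟩, rfl⟩

theorem cov_mnG {e : ℕ → ℕ} {g₁ g₂ : ℕ → Bool} (he : ∀ a, e a < 2 ^ 24)
    (hg : ∀ a, g₁ (e a) = true → (S (e a)).card = 8) (lo n : ℕ) :
    Cov (fun f => mnG e g₁ g₂ f lo n) {z | ∃ a < n * 64, g₁ (e (Nat.add lo a)) = true ∧
    ∃ t < 2 ^ 24, S t ⊆ S (e (Nat.add lo a)) ∧ g₂ t = true ∧ z = zk 1 (e (Nat.add lo a)) t} := by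
  have hB := (Cov.sumTo2 n 64).bind fun a => Cov.guard (g₁ (e (Nat.add lo a))) fun h =>
    (cov_subs 8 (e (Nat.add lo a)) 0 (he _) (hg _ h)).bind
      fun s => Cov.guard (g₂ s) fun _ => Cov.single (zk 1 (e (Nat.add lo a)) s)
  refine (hB.congr fun f => ?_).mono ?_
  · unfold mnG
    rw [sumTo2_eq, sumTo2_eq]
    refine sum_congr rfl fun i _ => ?_
    simp only [force_eq]
  · rintro z ⟨a, ha, h1, t, ht, h2, h3, rfl⟩
    exact ⟨a, ha, h1, t, ⟨t, ht, h2, (Nat.zero_xor t).symm⟩, h3, rfl⟩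

theorem cov_mnB (lo n : ℕ) : Cov (fun f => mnB f lo n) {z | ∃ a < n * 64, pc (enc (Nat.add lo a)) = 8 ∧
    ∃ t < 2 ^ 24, S t ⊆ S (enc (Nat.add lo a)) ∧ pc t % 2 = 0 ∧ z = zk 1 (enc (Nat.add lo a)) t} := by
  refine (cov_mnG (g₁ := fun o => Nat.beq (pc o) 8) (g₂ := fun s => Nat.beq (Nat.land (pc s) 1) 0)
    enc_lt (fun a h => (card_S (enc_lt a)).trans (Nat.eq_of_beq_eq_true h)) lo n).mono ?_
  generalize enc = e
  generalize pc = p
  rintro z ⟨a, ha, h1, t, ht, h2, h3, rfl⟩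
  refine ⟨a, ha, Nat.beq_eq.mpr h1, t, ht, h2, ?_, rfl⟩
  rw [Nat.beq_eq, Nat.land_eq, Nat.and_one_is_mod, h3]

theorem cov_mnC (lo n : ℕ) : Cov (fun f => mnC f lo n)
    {z | ∃ a < n * 64, ∃ i < 24, z = zk 2 (enc (Nat.add lo a)) (2 ^ i)} := by
  have hC := (Cov.sumTo2 n 64).bind fun a => (Cov.sumTo 24).bind fun i =>
    Cov.single (zk 2 (enc (Nat.add lo a)) (2 ^ i))
  refine (hC.congr fun f => ?_).mono ?_
  · unfold mnC
    rw [sumTo2_eq, sumTo2_eq]
    refine sum_congr rfl fun i _ => ?_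
    rw [force_eq, sumTo_eq, sumTo_eq]
    refine sum_congr rfl fun j _ => ?_
    rw [force_eq]
    rfl
  · rintro z ⟨a, ha, i, hi, rfl⟩
    exact ⟨a, ha, i, hi, rfl⟩

theorem cov_minSum : Cov minSum {z | okP z = true} := by
  refine ((cov_mnA.add (cov_mnB 0 64)).add (cov_mnC 0 64)).mono fun z hz => ?_
  obtain ⟨h0, h⟩ := okP_iff.1 hz
  rw [← zk_self h0]
  have ha := za_lt z
  have hb := zb_lt z
  generalize za z = a at *
  generalize zb z = b at *
  rcases h with ⟨h1, h2, h3⟩ | ⟨h1, h2, h3, h4⟩ | ⟨h1, h2, h3⟩ <;> rw [h1]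
  · left; left
    obtain ⟨p, q, hpq, e⟩ := card_eq_two.1 h3
    obtain ⟨i, hi, rfl⟩ := exists_pt p
    obtain ⟨j, hj, rfl⟩ := exists_pt q
    wlog hij : j < i generalizing i j
    · exact this j hj i hi hpq.symm (by rw [e, pair_comm])
        (lt_of_le_of_ne (not_lt.1 hij) fun e => hpq (by rw [e]))
    have e2 : a = 2 ^ i ||| 2 ^ j := S_inj ha (Nat.or_lt_two_pow
      (Nat.pow_lt_pow_right (by norm_num) hi) (Nat.pow_lt_pow_right (by norm_num) hj))
      (by rw [S_or, S_two_pow hi, S_two_pow hj, e]; rfl)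
    subst e2
    exact ⟨i, hi, j, hij, b, hb, h2, rfl⟩
  · left; right
    obtain ⟨k, hk, e⟩ := exists_enc_of_isC ((S_mem_cw_iff ha).1 h3.1)
    subst e
    refine ⟨k, hk, ?_, b, hb, by rwa [Nat.add_eq, zero_add], by rwa [← card_S hb],
      by rw [Nat.add_eq, zero_add]⟩
    rw [Nat.add_eq, zero_add, ← card_S ha, h3.2]
  · right
    obtain ⟨k, hk, e⟩ := exists_enc_of_isC ((S_mem_cw_iff ha).1 h2)
    subst e
    obtain ⟨p, e⟩ := card_eq_one.1 h3
    obtain ⟨i, hi, rfl⟩ := exists_pt p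
    rw [← S_two_pow hi] at e
    rw [S_inj hb (Nat.pow_lt_pow_right (by norm_num) hi) e]
    exact ⟨k, hk, i, hi, by rw [Nat.add_eq, zero_add]⟩

theorem minSum_one : minSum (fun _ => 1) = 196560 := by decide +kernel

/-- the minimal vectors -/
noncomputable def MinF : Finset Lam := (finite_lat 32).toFinset

theorem mem_MinF {v : Lam} : v ∈ MinF ↔ sqNorm (cf v) = 32 := Set.Finite.mem_toFinset _

theorem min_aux : ∃ M : Multiset ℕ, (∀ f, minSum f = (M.map f).sum) ∧ (∀ z, okP z = true → z ∈ M) ∧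
    M.map lv = MinF.val := by
  obtain ⟨M, h1, h2⟩ := cov_minSum
  refine ⟨M, h1, h2, (Multiset.eq_of_le_of_card_le ((Multiset.le_iff_subset MinF.nodup).2
    fun v hv => ?_) ?_).symm⟩
  · obtain ⟨z, h, rfl⟩ := exists_lv (mem_MinF.1 hv)
    exact Multiset.mem_map_of_mem _ (h2 z h)
  · have := h1 fun _ => 1
    rw [minSum_one, Multiset.map_const', Multiset.sum_replicate, smul_eq_mul, mul_one] at this
    rw [Multiset.card_map, ← this, ← lat_ncard32, Set.ncard_eq_toFinset_card _ (finite_lat 32)]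
    rfl

theorem minSum_eq (f : ℕ → ℕ) (F : Lam → ℕ) (h : ∀ z, Mn z → f z = F (lv z)) :
    minSum f = ∑ v ∈ MinF, F v := by
  obtain ⟨M, h1, -, h3⟩ := min_aux
  rw [h1, Finset.sum, ← h3, Multiset.map_map]
  refine congrArg _ (Multiset.map_congr rfl fun z hz => h z (mn_of_norm (mem_MinF.1 ?_)))
  exact (h3 ▸ Multiset.mem_map_of_mem lv hz : lv z ∈ MinF.val)

theorem lv_inj {z z' : ℕ} (h : okP z = true) (h' : okP z' = true) (e : lv z = lv z') : z = z' := by
  obtain ⟨M, -, h2, h3⟩ := min_aux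
  exact Multiset.inj_on_of_nodup_map (h3 ▸ MinF.nodup) z (h2 z h) z' (h2 z' h') e

/-! ### automorphisms from tables -/

/-- entry of a table of parameters -/
def gz (W k : ℕ) : ℕ := getT W 50 1125899906842623 k
def BZ : ℕ := 0x20000000000020000008031d440000020031d5000000c12017400000280a88d000000907083400000224508d00000084190740000020900bd000000821253400000207210d0000008081b3400000200952d0000018000010000003000000000000a0000000000024000000000008800000000002100000000000820000000000204000000000080800000000020100000000008020000000002004000000000800800000000200100000000080020000000020004000000008000800000002000100000000800020000000200004000000080000800000020000100000008000020000002000004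
def gram (k l : ℕ) : ℕ := getT 0xc4a5294a5294a52931ce739ce739ce739ce739ce739ce74b14a4a92a4a92a525294a5294a52a5252952949525494a54c5292a5294a529094a5294a5294a54a4a52a5292a4a92a5314a5294a52948525294a5494a9294a5294a549529494a94c5294a5294a425494a5294a549525494a5494a54a4a92a5314a5294a52129525294a54a525294a9294a52a5252a5294c5294a529094a5494a9294a92a4a529525295292a5294a5314a529484a529525294a54a4a5494a529529494a94a5294c5294a425294a5494a9294a5294a5495294a4a94a5294a5314a521294a52a4a5295252a4a5495252a5252a5294a5294c529094a5294a94a4a5494a52a4a5295292a5294a5294a531484a5294a52a4a5294a54a4a9494a9495294a5294a5294c425294a5294a5494a92a4a9295254a3250842108421084314a5294a5294a5294a5294a5294a41d29525294a5294a54c5294a5294a5294a5294a5294a528e94a5494a5294a52a5314a5294a5294a5294a5294a529474a529525294a5295294c5294a5294a5294a5294a5294a3a5294a5494a5294a94a5314a5294a5294a5294a5294a51d294a529525294a54a5294c5294a5294a5294a5294a528e94a5294a54a4a52a5294a53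14a5294a5294a5294a529474a5494a9294a9295294a5294c5294a5294a5294a5294a3a5294a5294a54a4a94a5294a5314a5294a5294a5294a51d294a5494a92a4a54a5294a5294c5294a5294a5294a528ea4a94a4a5294a54a5294a5294a5314a5294a5294a529475252952949525295294a5294a5294c5294a5294a5294a3a5495252a4a5494a94a5294a5294a5314a5294a5294a51d2a4a52a4a5294a94a5294a5294a5294c5294a5294a528e94a5494a52a4a52a5294a5294a5294a5314a5294a52947525294a5494a54a5294a5294a5294a5294c5294a5294a3a9294a9294a52a4a94a5294a5294a5294a5314a5294a51d4a4a5294a54a4a94a5294a5294a5294a5294c5294a528e952549525494a92a5294a5294a5294a5294a5314a52947529494a529525495294a5294a5294a5294a5294c5294a3a5294a529525295294a5294a5294a5294a5294a5314a51d4a52529529294a54a5294a5294a5294a5294a5294c528e94a94a5294a5294a5294a5294a5294a5294a5294a531474a94a5294a5294a4294a5294a5294a5294a5294a5294c 5 31 (Nat.add (Nat.mul 37 k) l)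

/-- Gram matrix check -/
noncomputable def gramOK (W : ℕ) : Bool :=
  band (allTo (fun k => okP (gz W k)) 37) (allTo (fun l => force (revc (code (gz W l))) fun r =>
    allTo (fun k => Nat.beq (dk (code (gz W k)) r) (gram l k)) (Nat.succ l)) 37)

theorem gramOK_sound {W : ℕ} (h : gramOK W = true) : (∀ k < 37, Mn (gz W k)) ∧ ∀ l < 37, ∀ k ≤ l,
    dotInt (cf (lv (gz W l))) (cf (lv (gz W k))) = 8 * (gram l k : ℤ) - 64 := by
  simp only [gramOK, band_iff, allTo_iff, force_eq, Nat.beq_eq] at h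
  have h1 : ∀ k < 37, Mn (gz W k) := fun k hk => okP_mn (h.1 k hk)
  refine ⟨h1, fun l hl k hk => ?_⟩
  rw [(h1 k (by omega)).dot (h1 l hl).cd.rc (h1 l hl).le, h.2 l hl k (by omega)]

theorem gramOK_BZ : gramOK BZ = true := by decide +kernel

theorem pv_BZ : (∀ k < 23, pv (gz BZ k) = pr none (pt k) 4 4) ∧ pv (gz BZ 23) = pr none (pt 0) 4 (-4) ∧
    (∀ j < 12, pv (gz BZ (24 + j)) = oc (S (ob j)) ∅) ∧ pv (gz BZ 36) = od ∅ none := by
  decide +kernel

theorem span_BZ (A : AddSubgroup Lam) (h : ∀ k < 37, lv (gz BZ k) ∈ A) : A = ⊤ := by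
  have hm := (gramOK_sound gramOK_BZ).1
  have h' : ∀ k < 37, pv (gz BZ k) ∈ A.map leechLattice.subtype := fun k hk =>
    ⟨_, h k hk, (hm k hk).cf⟩
  have := leech_le (A.map leechLattice.subtype) (fun p => ?_)
    (fun j hj => pv_BZ.2.2.1 j hj ▸ h' _ (by omega)) (pv_BZ.2.2.2 ▸ h' _ (by omega))
  · rw [eq_top_iff]
    intro v _
    obtain ⟨w, hw, e⟩ := this v.2
    exact (Subtype.ext e : w = v) ▸ hw
  · obtain ⟨i, hi, rfl⟩ := exists_pt p
    by_cases h23 : i < 23
    · exact pv_BZ.1 i h23 ▸ h' _ (by omega)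
    · obtain rfl : i = 23 := by omega
      have := add_mem (h' 0 (by omega)) (h' 23 (by omega))
      rw [pv_BZ.1 0 (by omega), pv_BZ.2.1] at this
      convert this using 1
      decide

open Classical in
/-- the automorphism given by the images of the generators -/
noncomputable def coM (W : ℕ) : Co0 :=
  if h : ∃ g : Co0, ∀ k < 37, g • lv (gz BZ k) = lv (gz W k) then h.choose else 1

theorem coM_spec {W : ℕ} (h : gramOK W = true) : ∀ k < 37, coM W • lv (gz BZ k) = lv (gz W k) := by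
  have : ∃ g : Co0, ∀ k < 37, g • lv (gz BZ k) = lv (gz W k) := by
    obtain ⟨g, hg⟩ := exists_co_of_gram (ι := Fin 37) (fun k => lv (gz BZ k)) (fun k => lv (gz W k))
      (fun A hA => span_BZ A fun k hk => hA ⟨k, hk⟩) fun k l => by
        rcases le_total (k : ℕ) l with hkl | hkl
        · rw [dotInt_comm, (gramOK_sound h).2 l l.2 k hkl, dotInt_comm,
            (gramOK_sound gramOK_BZ).2 l l.2 k hkl]
        · rw [(gramOK_sound h).2 k k.2 l hkl, (gramOK_sound gramOK_BZ).2 k k.2 l hkl]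
    exact ⟨g, fun k hk => hg ⟨k, hk⟩⟩
  unfold coM
  rw [dif_pos this]
  exact this.choose_spec

/-- the table `W` defines an automorphism with columns `L` -/
noncomputable def isCo (W : ℕ) (L : List ℕ) : Bool :=
  band (gramOK W) (band (Nat.beq (H16.colsChk qL L) 0)
    (force (Nat.add (code (gz W 0)) (code (gz W 23))) fun s =>
      band (eqz (Nat.mul 4 s) (H16.nth 0 L 23)) (allTo (fun j =>
        eqz (Nat.add (Nat.mul 8 (code (gz W j))) (Nat.mul 27 s)) (H16.nth 0 L j)) 23)))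

theorem eL_eq : eL 23 = (4 : ℤ) • (lv (gz BZ 0) + lv (gz BZ 23)) ∧ ∀ j < 23,
    eL j = (8 : ℤ) • lv (gz BZ j) - (4 : ℤ) • (lv (gz BZ 0) + lv (gz BZ 23)) := by
  have hm := (gramOK_sound gramOK_BZ).1
  refine ⟨Subtype.ext ?_, fun j hj => Subtype.ext ?_⟩
  · change _ = (4 : ℤ) • (cf _ + cf _)
    rw [(hm 0 (by omega)).cf, (hm 23 (by omega)).cf, pv_BZ.1 0 (by omega), pv_BZ.2.1]
    decide
  · change _ = (8 : ℤ) • cf _ - (4 : ℤ) • (cf _ + cf _)
    rw [(hm 0 (by omega)).cf, (hm 23 (by omega)).cf, (hm j (by omega)).cf, pv_BZ.1 0 (by omega),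
      pv_BZ.2.1, pv_BZ.1 j hj]
    revert j
    decide

theorem isCo_sound {W : ℕ} {L : List ℕ} (h : isCo W L = true) : CL (coM W) L := by
  simp only [isCo, band_iff, force_eq, allTo_iff, Nat.beq_eq] at h
  obtain ⟨h1, h2, h3, h4⟩ := h
  obtain ⟨h5, h6⟩ := Nat.add_eq_zero_iff.1 h2
  have hm := (gramOK_sound h1).1
  have hs := ((code_spec (gz W 0)).2.add (code_spec (gz W 23)).2)
  refine ⟨H16.xor_zero h5, fun j hj => ⟨H16.xor_zero (H16.sumL_zero h6 _ (H16.nth_mem_of_lt 0 L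
    (by rw [H16.xor_zero h5]; exact hj))), cd_iff.2 ?_⟩⟩
  rw [rhoL_apply]
  by_cases h23 : j < 23
  · refine Cd.eqz (Cd.of_rep (((code_spec (gz W j)).2.mul (le_refl 8)).add (hs.mul (le_refl 27)))
      (by norm_num) fun i hi => ?_) (h4 j h23)
    rw [eL_eq.2 j h23, co_sub, co_zsmul, co_zsmul, co_add, coM_spec h1 _ (by omega),
      coM_spec h1 _ (by omega), coM_spec h1 _ (by omega)]
    have a := (hm j (by omega)).cd i hi
    have b := (hm 0 (by omega)).cd i hi
    have c := (hm 23 (by omega)).cd i hi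
    change (31 : ℤ) ∣ 8 * (lv (gz W j) : GolayPt → ℤ) (pt i) - 4 * ((lv (gz W 0) : GolayPt → ℤ) (pt i) +
      (lv (gz W 23) : GolayPt → ℤ) (pt i)) - _
    push_cast
    omega
  · obtain rfl : j = 23 := by change j < 24 at hj; omega
    refine Cd.eqz (Cd.of_rep (hs.mul (le_refl 4)) (by norm_num) fun i hi => ?_) h3
    rw [eL_eq.1, co_zsmul, co_add, coM_spec h1 _ (by omega), coM_spec h1 _ (by omega)]
    have b := (hm 0 (by omega)).cd i hi
    have c := (hm 23 (by omega)).cd i hi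
    change (31 : ℤ) ∣ 4 * ((lv (gz W 0) : GolayPt → ℤ) (pt i) +
      (lv (gz W 23) : GolayPt → ℤ) (pt i)) - _
    push_cast
    omega

/-- the letters given by a list of tables -/
noncomputable def coL (Ws : List ℕ) (k : ℕ) : Co0 := coM (H16.nth 0 Ws k)

theorem ml_of {Ws : List ℕ} {C : List (List ℕ)} {K : ℕ}
    (h : allTo (fun k => isCo (H16.nth 0 Ws k) (H16.nth [] C k)) K = true) : ML (coL Ws) C K :=
  fun k hk => isCo_sound ((allTo_iff _ _).1 h k hk)

end H15
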