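import Cfsg.Agent.H21.MS3
import Cfsg.Agent.H17.MS1

/-! S5899, chunk `TI`: the tall case for insoluble `M` and solvable `C(v)`. -/

set_option autoImplicit false
set_option linter.unusedVariables false
set_option linter.unusedSectionVars false

namespace H15.MS
open Cfsg Subgroup H18 H17.GS H28.S H2.GW H27.MS
open H19 hiding eq_bot_mono
open H28.NG hiding Hyp Uniq Ch
open H29.PU (bm)

universe u
variable {G : Type u} [Group G] [Finite G] {a b c d e f g m n s t u v w x y z : G}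
  {A B D E F H I K L M N P Q R S T U V W X Y Z : Subgroup G}

structure Cz (Y Q E A : Subgroup G) (v x a : G) : Prop where
  ab : Abelem 2 Y
  vY : v ∈ Y
  QM : Q ≤ N(Y)
  fq : FS Q C[v] E
  hA : H17.GS.Hyp A Y
  xE : x ∈ E
  x0 : x ∉ Q
  odd : Odd (orderOf x)
  xA : x ∈ Cm Q A
  aY : a ∈ Y
  a0 : a ∉ A
  inv : a * x * a⁻¹ = x⁻¹

section Cz
variable (h : Cz Y Q E A v x a)
include h

theorem Cz.xv : x ∈ C[v] := h.fq.FP h.xE

theorem Cz.Yv : Y ≤ C[v] := ab_cent1 h.ab h.vY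

theorem Cz.sq : x * a * x⁻¹ * a⁻¹ = x * x := by
  rw [show x * a * x⁻¹ * a⁻¹ = x * (a * x * a⁻¹)⁻¹ by group, h.inv, inv_inv]

theorem Cz.cx (h1 : a ∈ T) (h2 : x * a * x⁻¹ ∈ T) : x ∈ T :=
  mem_of_inv h.odd h1 h2 (by rw [h.inv, inv_mul_cancel]; exact one_mem _)

theorem Cz.xM : x ∉ N(Y) := fun k =>
  h.x0 (h.fq.of_pg (ab_pg h.ab) h.xE (h.cx h.aY (conj_mem_of_norm k h.aY)))

theorem Cz.BM : cj x A ≤ N(Y) := fun b p => by
  obtain ⟨α, q, rfl⟩ := mem_cj'.1 p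
  simpa using mul_mem (h.QM (h.xA.2 α q)) (le_normalizer (h.hA.le q))

theorem Cz.symm : Cz (cj x Y) Q E (cj x A) v x⁻¹ (x * a * x⁻¹) :=
  ⟨abelem_J h.ab x, mem_cent1_conj.1 h.xv ▸ conj_mem_cj.2 h.vY,
    (h.fq.nK.cj_eq h.xv).ge.trans ((cj_mono x h.QM).trans (cj_norm x Y).le), h.fq, h.hA.conj x, inv_mem h.xE,
    mt inv_mem_iff.1 h.x0, by simpa using h.odd, by
      simpa only [cj_Cm, h.fq.nK.cj_eq h.xv, mul_inv_cancel, one_mul] using (conj_mem_cj (g := x)).2 (inv_mem h.xA),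
    conj_mem_cj.2 h.aY, mt conj_mem_cj.1 h.a0, by
      rw [show x * a * x⁻¹ * x⁻¹ * (x * a * x⁻¹)⁻¹ = x * (a * x * a⁻¹)⁻¹ * x⁻¹ by group, h.inv]; group⟩

theorem Cz.AM : A ≤ N(cj x Y) := by simpa using h.symm.BM

theorem Cz.DC : Y ⊓ cj x Y ≤ C[x] := fun _ p =>
  mem_cent1_symm.1 (h.cx (ab_cent1 h.ab p.1 h.aY) (ab_cent1 h.symm.ab p.2 h.symm.aY))

theorem Cz.mA (h1 : w ∈ Y) (h2 : x * w * x⁻¹ * w⁻¹ ∈ Q) : w ∈ A := by_contra fun k => by
  have := mul_mem (inv_mem h2) (h.xA.2 _ (hyp_mul h.hA h1 h.aY k h.a0))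
  refine h.x0 (h.fq.of_sq h.xE (h.sq ▸ ?_))
  convert h.fq.nK.conj_mem (inv_mem (h.Yv h1)) this using 1
  group

theorem Cz.DA : Y ⊓ cj x Y ≤ A := fun _ p =>
  h.mA p.1 (by rw [mem_cent1_conj'.1 (h.DC p), mul_inv_cancel]; exact one_mem _)

theorem Cz.DB : Y ⊓ cj x Y ≤ cj x A := by simpa [inf_comm] using h.symm.DA

theorem Cz.br : ⁅A, cj x A⁆ ≤ Y ⊓ cj x Y := commg_le_of h.hA.le h.BM h.symm.hA.le h.AM

theorem Cz.YD : Y ≤ N(Y ⊓ cj x Y) := norms_of_comm h.ab.1 le_rfl inf_le_left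

theorem Cz.key (hb : b ∈ cj x A) (k : a * b * a⁻¹ * b⁻¹ ∈ Y ⊓ cj x Y) : b ∈ Y ⊓ cj x Y := by
  have bY := h.symm.hA.le hb
  have n := norms_of_comm h.symm.ab.1 le_rfl (inf_le_right : Y ⊓ cj x Y ≤ _)
  have := (mem_Cm1 (n bY)).1 (inv_mem (h.cx (T := Cm (Y ⊓ cj x Y) (zpowers b)) ((mem_Cm1 (n bY)).2 ⟨h.YD h.aY, k⟩)
    (Cm_of_cent n (zp_cent (ab_cent1 h.symm.ab bY)) h.symm.aY)))
  exact ⟨by simpa [mul_assoc] using mul_mem (Y.inv_mem this.2.1) (h.hA.le (mem_cj.1 hb)), bY⟩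

end Cz

/-- the data extracted from the solvable centralizer -/
structure Pr (Y B D : Subgroup G) (a : G) : Prop where
  ab : Abelem 2 B
  BM : B ≤ N(Y)
  DB : D ≤ B
  DY : D ≤ Y
  card : #Y = #B * 2
  aY : a ∈ Y
  key : ∀ b ∈ B, a * b * a⁻¹ * b⁻¹ ∈ D → b ∈ D
  zD : ∀ u ∈ D, N(Y) ≤ C[u] → u = 1
  nB : ¬ B ≤ D

theorem Pr.J (h : Pr Y B D a) (hm : m ∈ N(Y)) : Pr Y (cj m B) (cj m D) (m * a * m⁻¹) where
  ab := abelem_J h.ab m
  BM := (cj_mono m h.BM).trans (cj_of_mem hm).le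
  DB := cj_mono m h.DB
  DY := cj_le_of_mem_norm hm h.DY
  card := by rw [card_cj]; exact h.card
  aY := conj_mem_of_norm hm h.aY
  key b p q := by
    obtain ⟨β, r, rfl⟩ := mem_cj'.1 p
    refine conj_mem_cj.2 (h.key β r (conj_mem_cj.1 (by convert q using 1; group)))
  zD u p q := by
    obtain ⟨β, r, rfl⟩ := mem_cj'.1 p
    rw [h.zD β r (by rwa [← cj_cent1, ← cj_of_mem hm, cj_le_cj] at q), mul_one, mul_inv_cancel]
  nB := by rw [cj_le_cj]; exact h.nB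

theorem oc (h : Gn S Y) (hv : v ∈ Y) : Oc {2} C[v] ≤ N(Y) := by
  obtain ⟨m, a, b⟩ := h.b1 v hv
  have pg : H19.PG 2 (bm 2 S) := h.syl.pi.of_le H29.PU.bm_le
  obtain ⟨T, p, q⟩ := (pg.J m).exists_syl b
  obtain ⟨g, -, k⟩ := h.syl.scj_le le_top p.pi
  have e {c} (r : cj c (bm 2 S) ≤ T) : cj g (cj c (bm 2 S)) = bm 2 S := by
    rw [cj_cj]; exact bm_wc (cj_cj g c _ ▸ (cj_mono g r).trans k)
  refine (Oc_le_hall p).trans fun t r => ?_
  have := cj_inj.1 ((e (c := t * m) (cj_mul t m _ ▸ cj_le_of_mem r q)).trans (e q).symm)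
  have := h.NB (mem_norm_iff_cj.2 ((cj_mul m⁻¹ _ _).trans (cj_eq_iff.1 this.symm).symm))
  simpa [mul_assoc] using mul_mem (mul_mem a this) (inv_mem a)

theorem pr (h : Gn S Y) (l : Lc N(Y) C(Y) S) (v1 : v ∈ Y) (k : ¬ Y ≤ Oc {2} C[v]) (sol : Sol C[v]) :
    ∃ B D a, Pr Y B D a := by
  obtain ⟨E, e⟩ := exists_FS (Oc_normal {2} C[v]) sol fun N a b c =>
    le_Oc a (PiN.of_relIndex' b (Oc_pi _ _) c)
  have Yv := ab_cent1 h.ab v1
  obtain ⟨A, x, a1, -, x1, x0, -, xA, q⟩ := e.dl Yv ((ea_bot h.ab).ab.trans bot_le)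
    (fun _ p => sq_one h.ab p ▸ one_mem _) k
  obtain ⟨a, aY, a0⟩ := hyp_ex a1
  obtain ⟨y, y1, y2, y3, y4⟩ := e.exi (Yv aY) (sq_one h.ab aY) x1 (q a aY a0)
  have c : Cz Y _ E A v y a := ⟨h.ab, v1, oc h v1, e, a1, (mul_mem_cancel_left (inv_mem x1)).1 (e.le y4),
    fun j => x0 (inv_mem_iff.1 ((mul_mem_cancel_right j).1 y4)), y2, (mul_mem_cancel_left (inv_mem xA)).1
      (Cm_self ((a1.le.trans Yv).trans e.nK.norm) y4), aY, a0, y3⟩
  refine ⟨_, _, a, abelem_mono c.symm.ab c.symm.hA.le, c.BM, c.DB, inf_le_left, by rw [card_cj]; exact a1.card, aY,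
    fun b => c.key, fun u p j => by_contra fun u0 => c.xM ?_, fun j => ?_⟩
  · exact (l.nrm _ (ne_bot_of_mem (mem_zpowers u) u0) ⟨zpowers_le' (le_normalizer p.1),
      j.trans (cent1_le_norm_zpowers u)⟩).le (cent1_le_norm_zpowers u (mem_cent1_symm.1 (c.DC p)))
  · have := card_le j
    rw [card_cj] at this
    exact c.xM (h.hypC _ inf_le_left (a1.card.trans_le (Nat.mul_le_mul_right _ this)) (le_cent1_iff.1 c.DC))

theorem fs_card (hW : Abelem 2 W) (hX : X ≤ W) (s : Finset G) (hs : ∀ a ∈ s, a ∈ W) :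
    ∃ U, X ≤ U ∧ (∀ a ∈ s, a ∈ U) ∧ U ≤ W ∧ #U ≤ #X * 2 ^ s.card := by
  classical
  induction s using Finset.induction_on with
  | empty => exact ⟨X, le_rfl, by simp, hX, by simp⟩
  | insert a s n ih =>
    obtain ⟨U, u1, u2, u3, u4⟩ := ih fun b p => hs b (Finset.mem_insert_of_mem p)
    have aW := hs a (Finset.mem_insert_self a s)
    refine ⟨U ⊔ zpowers a, u1.trans le_sup_left, fun b p => (Finset.mem_insert.1 p).elim
      (fun e => e ▸ mem_sup_right (mem_zpowers b)) fun e => mem_sup_left (u2 b e), sup_le u3 (zpowers_le' aW),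
      (card_sup_le (norms_of_comm hW.1 le_rfl u3 aW) (sq_one hW aW ▸ one_mem _)).trans ?_⟩
    rw [Finset.card_insert_of_notMem n, pow_succ, ← mul_assoc]
    exact Nat.mul_le_mul_right _ u4

theorem orb_card (hW : Abelem 2 W) (hX : X ≤ W) (hT : T ≤ N(W)) (hw : w ∈ W) :
    #(Kc (zpowers w) T) ≤ #X * 2 ^ (Cm X W).relIndex T := by
  classical
  have := Fintype.ofFinite (T ⧸ (Cm X W).subgroupOf T)
  obtain ⟨U, u1, u2, -, u4⟩ := fs_card hW hX (Finset.univ.image fun c : T ⧸ (Cm X W).subgroupOf T =>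
    (c.out : G)⁻¹ * w * (c.out : G)⁻¹⁻¹) fun a p => by
      obtain ⟨c, -, rfl⟩ := Finset.mem_image.1 p
      exact conj_mem_of_norm (hT (inv_mem c.out.2)) hw
  have k1 : Kc (zpowers w) T ≤ U := Kc_le_of_cj fun t p => cj_zpowers t w ▸ zpowers_le' (by
    obtain ⟨k, e⟩ := QuotientGroup.mk_out_eq_mul ((Cm X W).subgroupOf T) (⟨t, p⟩ : T)⁻¹
    have m := u2 _ (Finset.mem_image_of_mem _ (Finset.mem_univ (QuotientGroup.mk (⟨t, p⟩ : T)⁻¹)))
    rw [e] at m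
    have r := u1 ((mem_subgroupOf.1 k.2).2 _ (conj_mem_of_norm (hT (inv_mem ((⟨t, p⟩ : T)⁻¹ * k.1).2)) hw))
    convert mul_mem r m using 1
    simp only [coe_mul, coe_inv]
    group)
  refine ((card_le k1).trans u4).trans (Nat.mul_le_mul_left _
    (Nat.pow_le_pow_right two_pos (Finset.card_image_le.trans ?_)))
  rw [Finset.card_univ, ← Nat.card_eq_fintype_card]; rfl

theorem dih4 {G : Type*} [Group G] [Finite G] {a b : G} {X : Subgroup G} (aa : a * a = 1) (bb : b * b = 1)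
    (l : X ≤ zpowers a ⊔ zpowers b) (sq : ∀ x ∈ X, x * x = 1) : #X ≤ 4 := by
  rw [H17.MS.de] at l
  have c1 := card_sup_le (H17.MS.dn aa bb) (aa ▸ one_mem _)
  rw [← H19.card_mul_relIndex (le_sup_left : zpowers (a * b) ≤ _)] at c1
  have c2 := (relIndex_le_of_le_right l (relIndex_ne_zero' _ _)).trans (Nat.le_of_mul_le_mul_left c1 (card_pos _))
  obtain ⟨x, e⟩ := cyc_iff.1 (cyc_mono (cyc_zpowers (a * b)) (inf_le_left (b := X)))
  have c3 := orderOf_le_of_pow_eq_one two_pos ((pow_two x).trans (sq x (e.le (mem_zpowers x)).2))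
  rw [← card_inf_mul_relIndex (zpowers (a * b)) X, ← e, Nat.card_zpowers]
  exact Nat.mul_le_mul c3 c2

theorem c33 : Nat.card (Matrix.SpecialLinearGroup (Fin 3) (ZMod 3)) = 5616 := by
  have h := H11.card_units_mul_card_sl (ι := Fin 3) (F := ZMod 3)
  rw [Matrix.card_GL_field, Fin.prod_univ_three] at h
  simp only [ZMod.card, Fin.val_zero, Fin.val_one, Fin.val_two] at h
  exact Nat.eq_of_mul_eq_mul_left two_pos h

theorem c9 (h : Fr N Q T) (l : L9 N Q) : #T ≤ 16 * #Q := by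
  obtain ⟨k, hk⟩ := h.syl.pi.exists_card
  have d : #T ∣ 16 * #Q * 351 := by
    have := card_dvd_of_le h.syl.le
    rwa [H17.MS.Iso.card l h.nq.le, c33, show 5616 * #Q = 16 * #Q * 351 by ring] at this
  exact Nat.le_of_dvd (Nat.mul_pos (by omega) (card_pos Q))
    (Nat.Coprime.dvd_of_dvd_mul_right (hk ▸ Nat.Coprime.pow_left k (by decide)) d)

section Pr
variable (h : Pr Y B D a) (hY : Abelem 2 Y)
include h

theorem Pr.nC (hb : b ∈ B) (b0 : b ∉ D) : b ∉ C(Y) := fun k => b0 (h.key b hb (by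
  rw [mem_cent1_conj.1 (le_cent1_iff.2 k h.aY), mul_inv_cancel]; exact one_mem _))

theorem Pr.DC (hb : b ∈ B) : D ≤ Y ⊓ C[b] := le_inf h.DY (h.DB.trans (ab_cent1 h.ab hb))

include hY

theorem Pr.BQ : C(Y) ⊓ B = D := le_antisymm (fun b p => by_contra fun k => h.nC p.2 k p.1)
  (le_inf (h.DY.trans (ab_cent hY)) h.DB)

theorem Pr.cm1 (hb : b ∈ B) : a * b * a⁻¹ * b⁻¹ ∈ Y ⊓ C[b] :=
  ⟨cm_le (h.BM hb) (mem_cm h.aY), H28.NG.cm_cent hY (h.BM hb) (sq_one h.ab hb) (mem_cm h.aY)⟩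

theorem Pr.c2 (hb : b ∈ B) (b0 : b ∉ D) : #D * 2 ≤ #(Y ⊓ C[b]) :=
  pg_lt_card ((ab_pg hY).of_le inf_le_left) (lt_of_le_not_ge (h.DC hb) fun k => b0 (h.key b hb (k (h.cm1 hY hb))))

theorem Pr.iv (hb : b ∈ B) (b0 : b ∉ D) : Iv N(Y) C(Y) b :=
  ⟨h.BM hb, h.nC hb b0, sq_one h.ab hb ▸ one_mem _⟩

theorem Pr.false (f1 : F1.{u}) (ty : Ty.{u}) (mbd : MBD.{u}) (mbs : MBS.{u}) (ir : IR.{u}) (nt : NT.{u}) (hz : Hz G)
    (l : Lc N(Y) C(Y) S) (s : Sec N(Y) C(Y) ⊥ Y) (BS : B ≤ S) : False := by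
  have f := l.toFr
  have QS := H21.MS.fr_le f
  have pD := card_pos D
  have pQ := card_pos C(Y)
  have pB := card_pos B
  have cY := h.card
  have r0 := card_sup_mul_inf (BS.trans (f.syl.le.trans f.nq.norm))
  rw [h.BQ hY] at r0
  have r1 := pg_lt_card f.syl.pi (lt_of_le_not_ge (sup_le QS BS) (sup_comm B _ ▸ f1 f l.q0 h.ab BS))
  replace r1 : #B * #C(Y) * 2 ≤ #S * #D := by nlinarith
  have r2 {b} (p : b ∈ B) (q : b ∉ D) : #(Y ⊓ C[b]) < #B := by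
    have := nt hz l s (h.BM p) (h.nC p q)
    omega
  obtain ⟨b, b1, b0⟩ := SetLike.not_le_iff_exists.1 h.nB
  have r3 := h.c2 hY b1 b0
  have r4 := r2 b1 b0
  have bb := sq_one h.ab b1
  have r5 := card_sup_zp bb b0 (norms_of_comm h.ab.1 le_rfl h.DB b1)
  obtain ⟨c, c1, c0⟩ : ∃ c ∈ B, c ∉ D ⊔ zpowers b := SetLike.not_le_iff_exists.1 fun k => by
    have := card_le k; omega
  have cD : c ∉ D := mt mem_sup_left c0
  have bc : b * c ∉ D := fun k => c0 (by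
    simpa using mul_mem (inv_mem (mem_sup_right (S := D) (mem_zpowers b))) (mem_sup_left k))
  have eb (k : #B ≤ 8 * #D) : Eb ⊥ Y b 3 := by rw [Eb, Cm_bot, cent_zpowers]; omega
  obtain ⟨-, ⟨E, k⟩ | k | ⟨n, k⟩ | k⟩ := ty f
  · obtain ⟨g, g1, g0⟩ : ∃ g ∈ N(Y), g * b * g⁻¹ ∉ S := by
      by_contra! j
      have i : Kc (zpowers b) N(Y) ≤ S := Kc_le_of_cj fun g p => cj_zpowers g b ▸ zpowers_le' (j g p)
      exact (f.smp _ ⟨i.trans f.syl.le, Kc_norm⟩).elim (fun e => h.nC b1 b0 (e (le_Kc (mem_zpowers b))))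
        fun e => f.ns (sol_mono f.syl.pi.sol (e.ge.trans i))
    have iv {b} (p : b ∈ B) (q : b ∉ D) : Iv S C(Y) b := ⟨BS p, (h.iv hY p q).2⟩
    have j := h.J g1
    have dj : Y ⊓ C[g * b * g⁻¹] ⊓ D = ⊥ := le_bot_iff.1 fun u p => h.zD u p.2 ((k.gen C[u] b c _ (iv b1 b0) (iv c1 cD)
      (h.nC (mul_mem b1 c1) bc) (j.iv hY (conj_mem_cj.2 b1) (mt conj_mem_cj.1 b0)) g0
      (mem_cent1_symm.1 (h.DC b1 p.2).2) (mem_cent1_symm.1 (h.DC c1 p.2).2) (mem_cent1_symm.1 p.1.2)).trans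
        (sup_le le_rfl (cent_le_cent1 p.1.1)))
    have e1 := card_le (sup_le (inf_le_left (b := C[g * b * g⁻¹])) h.DY)
    rw [card_sup_of_disjoint (norms_of_comm hY.1 h.DY inf_le_left) dj] at e1
    have e2 := j.c2 hY (conj_mem_cj.2 b1) (mt conj_mem_cj.1 b0)
    rw [card_cj] at e2
    have e3 := k.lb _ _ s
    rw [card_bot] at e3
    have e4 : #D * #D ≤ #B := by nlinarith
    have e5 := Nat.mul_le_mul r1 r1
    have e6 : #S * #D * (#S * #D) ≤ #B * 2 * #C(Y) ^ 2 * #B := by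
      calc _ = #S ^ 2 * 1 * (#D * #D) := by ring
        _ ≤ _ := Nat.mul_le_mul (cY ▸ e3) e4
    have := Nat.mul_pos (Nat.mul_pos pB pB) (Nat.mul_pos pQ pQ)
    nlinarith
  · rw [k.card] at r1
    have : #B * 2 ≤ 4 * #D := Nat.le_of_mul_le_mul_left (by nlinarith) pQ
    omega
  · obtain ⟨x, y, x1, y1, e, -⟩ := k.ex
    have n := f.syl.le.trans f.nq.norm
    have d4 : #(quo C(Y) B) ≤ 4 := dih4 (H17.MS.qsq (n x1.1) x1.2.2) (H17.MS.qsq (n y1.1) y1.2.2)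
      (by rw [← H17.MS.quo2 (n x1.1) (n y1.1), ← e]; exact quo_mono _ BS) fun ξ p => by
        obtain ⟨z, r, q, rfl⟩ := mem_quo p
        exact H17.MS.qsq q (by rw [sq_one h.ab r]; exact one_mem _)
    have e1 := card_inf_mul_relIndex C(Y) B
    rw [h.BQ hY, ← card_quo (BS.trans n)] at e1
    have e2 : #B ≤ 4 * #D := by nlinarith
    have l7 := mbd f k s (h.iv hY b1 b0) (.inl (eb (by omega)))
    have cz {w} (p : w ∈ Y) (q : N(Y) ≤ C[w]) : w = 1 := h.zD w (by_contra fun w0 => by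
      have wb {b} (r : b ∈ B) : w ∈ Y ⊓ C[b] := ⟨p, mem_cent1_symm.1 (q (h.BM r))⟩
      have hy {b} (r : b ∈ B) (t : b ∉ D) : w * (a * b * a⁻¹ * b⁻¹) ∈ D := by
        have m := h.cm1 hY r
        have m0 := mt (h.key b r) t
        have t1 := card_sup_zp (sq_one hY m.1) m0 (norms_of_comm hY.1 le_rfl h.DY m.1)
        have t2 := r2 r t
        refine hyp_mul (hyp_of_card (h.DC r) ?_) (wb r) m w0 m0
        rcases (sup_le (h.DC r) (zpowers_le' m)).eq_or_lt with j | j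
        · rw [← j, t1]
        · have := pg_lt_card ((ab_pg hY).of_le inf_le_left) j
          omega
      have t := mem_cent1_conj'.1 ((mul_mem_cancel_left (show w ∈ C[b] from (wb b1).2)).1 (h.DC b1 (hy c1 cD)).2)
      refine cD (h.key c c1 ((mul_mem_cancel_left (hy b1 b0)).1 ?_))
      convert hy (mul_mem b1 c1) bc using 1
      rw [← t]; group) q
    obtain ⟨W, ⟨w1, w2, w3⟩, mn⟩ := (Set.toFinite {W : Subgroup G | W ≤ Y ∧ W ≠ ⊥ ∧ N(Y) ≤ N(W)}).exists_minimal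
      ⟨Y, le_rfl, fun j => b0 (h.key b b1 (by rw [mem_bot.1 (j ▸ h.aY : a ∈ (⊥ : Subgroup G))]; simp)), le_rfl⟩
    have sW : Sec N(Y) C(Y) ⊥ W := ⟨ea_bot (abelem_mono hY w1), w3, nbot, (cent_mono w1).trans Cm_bot.ge, fun j =>
      w2 (eq_bot_iff.2 fun w p => cz (w1 p) (j.trans (Cm_bot.le.trans (cent_le_cent1 p))))⟩
    obtain j | ⟨j, w, w4, R, w5, -⟩ := ir f l7 sW fun X _ p q => or_iff_not_imp_left.2 fun r =>
      p.antisymm (mn ⟨p.trans w1, r, q⟩ p)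
    · exact H21.MS.no8 hz f sW (by simpa using j)
    have bM := h.BM b1
    have e3 := (ea_bot hY).card_br bM (nbot (mem_top b))
    rw [Cm_bot, cent_zpowers, card_bot, sup_bot_eq] at e3
    have e4 : #(H2.GW.cm Y b) ≤ 4 := Nat.le_of_mul_le_mul_left (by nlinarith) (card_pos (Y ⊓ C[b]))
    have e5 := orb_card hY (cm_le bM) f.syl.le (w1 w4)
    have e6 := card_le (w5.trans (sup_bot_eq _).le)
    have e7 := card_inf_mul_relIndex (Cm (H2.GW.cm Y b) Y) S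
    have e8 := pg_lt_card (f.syl.pi.of_le (inf_le_right (a := Cm (H2.GW.cm Y b) Y))) (lt_of_le_not_ge (le_inf
      (Cm_of_cent (norms_of_cents (cent_mono (cm_le bM))) le_rfl) QS) fun j => h.nC b1 b0 (j ⟨⟨cm_norm' Y b, fun y p => by
        convert inv_mem (mem_cm (t := b) p) using 1; group⟩, BS b1⟩))
    rw [(H17.MS.l7 f l7).1] at e7
    have e9 : (Cm (H2.GW.cm Y b) Y).relIndex S ≤ 4 := Nat.le_of_mul_le_mul_left (by nlinarith) pQ
    have := Nat.mul_le_mul e4 (Nat.pow_le_pow_right two_pos e9)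
    rw [card_bot] at j
    omega
  · have := c9 f k
    exact mbs f k s (h.iv hY b1 b0) (eb (by
      have : #B * 2 ≤ 16 * #D := Nat.le_of_mul_le_mul_left (by nlinarith) pQ
      omega))

end Pr

theorem ti (f1 : F1.{u}) (ty : Ty.{u}) (mbd : MBD.{u}) (mbs : MBS.{u}) (ir : IR.{u}) (nt : NT.{u}) : TI.{u} :=
  fun h l s v1 _ k sol => by
  obtain ⟨B, D, a, p⟩ := pr h l v1 k sol
  obtain ⟨m, q, r⟩ := l.syl.scj_le p.BM (ab_pg p.ab)
  exact (p.J q).false h.ab f1 ty mbd mbs ir nt h.hz l s r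

end H15.MS
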