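import Cfsg.Agent.H15.MX0
import Cfsg.Agent.H15.RK.F

/-! Maximal 2-local subgroups of a group of Monster type: assembly. -/

set_option autoImplicit false
set_option linter.unusedSectionVars false

namespace H15.MX
open Cfsg H15 H19 H0 H0.Mo H0.Y H15.ML Subgroup

structure All : Prop where
  ar : AR
  kd : KD
  sc : SC
  sq : SQ
  ta : TA
  la : LA
  lb : LB
  lc : LC
  ka : KA
  kb : KB
  st : ST
  ca : CA
  bs : BS
  a1 : A1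
  a1' : A1'
  g3 : G3
  l3 : L3
  a3 : A3
  a3' : A3'
  fn : FN

variable {G : Type} [Group G] [Finite G] {z : G} {𝒜 : Subgroup G → Prop}

theorem notC (c : Cx z 𝒜) {V : Subgroup G} {s w : G} (t : St V) (m : Mx z V s) (hw : w ∈ V) (n : w ∉ Qo s) :
    ∃ E, 𝒜 E ∧ s ∈ E ∧ w ∈ Qo s ⊔ E := by
  have VC := comm_of_sq t.ab
  refine (c.kind m.b (cent_le_cent1 m.mem (VC hw)) n (t.ab w hw)).resolve_right fun ⟨r, b, _, _, k1, k2, k3, _⟩ => ?_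
  obtain ⟨v, a, a', n'⟩ := t.P (zpowers r) (fun x hx => by
    rcases (es c.mg b).mem_zp.1 hx with rfl | rfl
    exacts [mul_one 1, sq c.mg b]) (by simpa using ne1 c.mg b)
    (((le_inf (cent_le_cent1 m.mem) (cent_le_cent1 hw)).trans k2).trans (cent1_le_norm_zpowers r))
  obtain rfl := ((es c.mg b).mem_zp.1 a').resolve_left n'
  have l : V ⊓ Qo s ≤ V ⊓ Qo v := fun x hx => ⟨hx.1, k3 ⟨hx.2, cent_le_cent1 hw (VC hx.1)⟩⟩
  exact n ((eq_of_le_of_card_ge l (m.max v a b)).ge ⟨hw, k1⟩).2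

theorem ark_norm (c : Cx z 𝒜) {V E : Subgroup G} {s s' : G} (a : 𝒜 E) (l : V ≤ E) (h : s ∈ V) (h' : s' ∈ V)
    (b : IsConj z s) (b' : IsConj z s') (n : s' ∉ Qo s) : N(V) ≤ N(E) := fun g hg => by
  have l' : V ≤ cj g E := (cj_of_mem_norm hg).ge.trans (cj_mono g l)
  exact mem_norm_of_cj_le (((c.lc (c.cj g a)).gen s (l' h) s' (l' h') b b' n).trans
    ((c.lc a).gen s (l h) s' (l h') b b' n).symm).le

theorem All.good (H : All) (c : Cx z 𝒜) {V : Subgroup G} (t : St V) (e : ∃ s ∈ V, IsConj z s) :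
    ∃ X, Good z 𝒜 X ∧ N(V) ≤ N(X) := by
  obtain ⟨s₀, m₀⟩ : ∃ s, Mx z V s := by
    obtain ⟨s, a, b⟩ := Set.exists_max_image {s | s ∈ V ∧ IsConj z s} (fun s => #(V ⊓ Qo s)) (Set.toFinite _) e
    exact ⟨s, a.1, a.2, fun u c d => b u ⟨c, d⟩⟩
  by_cases k : ∀ s, Mx z V s → ∀ s', Mx z V s' → s' ∈ Qo s
  · obtain ⟨X, a, b⟩ := H.bs G z 𝒜 c _ (closure_sing c.mg (S := {s | Mx z V s}) (fun _ m => m.b) k).1
      fun e => ne1 c.mg m₀.b (mem_bot.1 (e ▸ subset_closure m₀))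
    refine ⟨X, a, .trans (fun g hg => norm_closure fun s m => Mx.mk (conj_mem_of_norm hg m.mem) (cjB m.b g) fun u d d' => ?_) b⟩
    rw [← cj_Qo, ← cj_of_mem_norm hg, ← cj_inf, card_cj, cj_of_mem_norm hg]
    have := m.max _ (conj_mem_of_norm (inv_mem hg) d) (cjB d' g⁻¹)
    rwa [← cj_Qo, ← cj_of_mem_norm (inv_mem hg), ← cj_inf, card_cj, cj_of_mem_norm (inv_mem hg)] at this
  push Not at k
  obtain ⟨s, m, s', m', n⟩ := k
  have n' : s ∉ Qo s' := mt (symm c.mg m'.b m.b) n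
  have one : ∀ {E s s'}, Mx z V s → Mx z V s' → 𝒜 E → s ∈ E → s' ∈ E → s' ∉ Qo s → ∃ X, Good z 𝒜 X ∧ N(V) ≤ N(X) :=
    fun m m' a h h' n => ⟨_, .inr (.inr (.inr a)), ark_norm c a (H.a1' G z 𝒜 c _ _ _ _ t m m'.mem a h h' n
      (H.a1 G z 𝒜 c _ _ _ _ t m m' a h h' n)) m.mem m'.mem m.b m'.b n⟩
  obtain ⟨E, a, h1, h2⟩ := notC c t m m'.mem n
  obtain ⟨E', a', h1', h2'⟩ := notC c t m' m.mem n'
  by_cases k : s' ∈ E
  · exact one m m' a h1 k n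
  by_cases k' : s ∈ E'
  · exact one m' m a' h1' k' n'
  have p : Pr z 𝒜 E s s' := ⟨a, h1, m.b, h2, n, k⟩
  have p' : Pr z 𝒜 E' s' s := ⟨a', h1', m'.b, h2', n', k'⟩
  obtain ⟨U, g, g'⟩ := H.g3 G z 𝒜 c _ _ _ _ p p'
  have l := H.l3 G z 𝒜 c _ _ _ _ _ p p' g g'
  have l' := H.l3 G z 𝒜 c _ _ _ _ _ p' p g' g
  exact ((H.a3' G z 𝒜 V E E' s s' U ⟨c, t, m, m', p, p', g, g', l, l'⟩).elim
    (H.a3 G z 𝒜 V E E' s s' U ⟨c, t, m, m', p, p', g, g', l, l'⟩)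
    (H.a3 G z 𝒜 V E' E s' s U ⟨c, t, m', m, p', p, g', g, l', l⟩)).elim

theorem All.main (H : All) (h : MG z) : ∃ S : Finset (Subgroup G), S.card = 7 ∧ (∀ H ∈ S, IsTwoLocal H) ∧
    ∀ H : Subgroup G, IsMaximalTwoLocal H → ∃ H₀ ∈ S, ∃ g : G, H = H₀.map (MulAut.conj g).toMonoidHom := by
  obtain ⟨s, f, R, L, -, M, r⟩ := h.ex
  obtain ⟨e, T⟩ := ten M L r
  have sc := H.sc G z h
  have sq := H.sq G z h sc
  have ar := H.ar G z s f R e T h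
  have la := fun g => H.la G z _ h (ar g)
  have lc := fun g => H.lc G z _ h (ar g) (la g)
  have c : Cx z fun E => ∃ g, E = cj g T.E := ⟨h, by rintro _ ⟨g, rfl⟩; exact ar g, by rintro _ ⟨g, rfl⟩; exact la g,
    by rintro _ ⟨g, rfl⟩; exact H.lb G z _ h (ar g) (la g), by rintro _ ⟨g, rfl⟩; exact lc g,
    by rintro _ ⟨g, rfl⟩; exact H.kb G z _ h sq (ar g) (la g) (lc g) (H.ka G z _ h (ar g) (la g) (lc g)),
    by rintro _ k ⟨g, rfl⟩; exact ⟨k * g, (cj_mul k g _).symm⟩,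
    fun a b c d => (H.kd G z s f R e T h _ _ a b c d).imp_left fun ⟨g, k⟩ => ⟨_, ⟨g, rfl⟩, k⟩, sq,
    fun A a => (RK.rank h).2 A (abelem2_iff.2 a).1 fun x hx => by rw [pow_two, a x hx]⟩
  refine H.fn G z _ c sc (H.ta G z h) ⟨_, 1, rfl⟩ (by
    rintro _ _ ⟨g, rfl⟩ ⟨k, rfl⟩
    exact ⟨k * g⁻¹, by rw [← cj_mul, inv_mul_cancel_right]⟩) fun K hK => ?_
  obtain ⟨V, v1, v2, v3, v4⟩ := H.st G z h K hK
  by_cases e : ∃ s ∈ V, IsConj z s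
  · obtain ⟨X, a, b⟩ := H.good c (v4 e) e
    exact ⟨X, a, v3.trans b⟩
  · have p : Pure z V := fun x a n => ⟨v2 x a, n, fun k => e ⟨x, a, k⟩⟩
    exact ⟨V, .inl ⟨v1, p, H.ca G z _ c V p⟩, v3⟩

end H15.MX
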