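import Cfsg.Agent.H15.MX0
import Cfsg.Agent.H15.Co1Inv

/-! The involutions of the centralizer of a singular involution. -/

set_option autoImplicit false
set_option linter.unusedSectionVars false

namespace H15.MX
open Cfsg H15 H19 H0 H0.Mo H0.Y H15.ML Subgroup
open scoped commutatorElement

theorem nf {γ : Co0} {v : Lam} (e : γ * γ = coN) (n : sqNorm (cf v) = 32) : ¬ Cg (γ • v) v := fun c => by
  have k : γ • γ • v = v := by
    rcases c.short (by rw [co_norm]; omega) (by omega) with t | t <;> rw [t]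
    · exact t
    · rw [co_neg, t, neg_neg]
  rw [← mul_smul, e, coN_smul] at k
  have : cf v = 0 := funext fun i => by
    have := congrFun (congrArg cf k) i
    change -cf v i = _ at this
    show _ = (0 : ℤ)
    omega
  rw [this, sqNorm_zero] at n
  omega

theorem dd_fix {σ : Equiv.Perm GolayPt} (hσ : σ ∈ M24) {c : Finset GolayPt} (hc : c ∈ cw) {i j : GolayPt}
    (a : σ i = i) (b : σ j = j) (k : i ∈ c ↔ j ∈ c) : Cg (mono hσ hc • ML.dd i j) (ML.dd i j) := by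
  have e : cf (mono hσ hc • ML.dd i j) = pr i j (if i ∈ c then -4 else 4) (if j ∈ c then -4 else 4) := by
    rw [cf_mono]; exact (sp_pr σ c i j 4 4).trans (by rw [a, b])
  by_cases t : i ∈ c
  · convert Cg.neg (ML.dd i j)
    refine Subtype.ext (e.trans ?_)
    rw [if_pos t, if_pos (k.1 t)]
    show _ = -pr i j 4 4
    simp [pr, Pi.single_neg, add_comm]
  · convert Cg.refl (ML.dd i j)
    exact Subtype.ext (e.trans (by rw [if_neg t, if_neg (mt k.2 t)]; rfl))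

theorem dd_add (i j k : GolayPt) : Cg (ML.dd i j + ML.dd j k) (ML.dd i k + lE) := by
  have : ML.dd i j + ML.dd j k = ML.dd i k + e8 j 1 := Subtype.ext (by
    show pr i j 4 4 + pr j k 4 4 = pr i k 4 4 + Pi.single j (8 * 1)
    rw [pr, pr, pr, show (8 * 1 : ℤ) = 4 + 4 from rfl, Pi.single_add]; abel)
  exact this ▸ (Cg.refl _).add (cong_e8 _ _ (.inl rfl) (.inl rfl))

theorem h7 : Co1I.h 7 = mono (isM_mem isM_T2) (S_mem_cw (m := 16236932) (by decide +kernel)) :=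
  (Co1I.mo1 Co1I.k3.2.2.2.2.2.2.1).trans (mo_eq _ _)

theorem h77 : Co1I.h 7 * Co1I.h 7 = coN := by
  simpa [Co1I.h1] using eqV_sound Co1I.ml Co1I.k4.2.2.2.2.2.2.2.2.2.2

theorem h7d : Cg (Co1I.h 7 • ML.dd (pt 0) (pt 23) + ML.dd (pt 0) (pt 23)) lE := by
  have e : cf (Co1I.h 7 • ML.dd (pt 0) (pt 23)) = pr (pt 23) (pt 0) (-4) 4 := by
    rw [h7, cf_mono]
    refine (sp_pr _ _ _ _ 4 4).trans ?_
    rw [(isM_rep isM_T2).app_eq (j := 23) (by norm_num) (by decide +kernel),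
      (isM_rep isM_T2).app_eq (j := 0) (by norm_num) (by decide +kernel), if_pos (by decide +kernel), if_neg (by decide +kernel)]
  have : Co1I.h 7 • ML.dd (pt 0) (pt 23) + ML.dd (pt 0) (pt 23) = e8 (pt 0) 1 := Subtype.ext (by
    show cf _ + pr (pt 0) (pt 23) 4 4 = Pi.single (pt 0) (8 * 1)
    rw [e]; decide +kernel)
  exact this ▸ cong_e8 _ _ (.inl rfl) (.inl rfl)

theorem h3 : Co1I.h 3 = sgn (S_mem_dodecads isD_D0).1 := Co1I.h3.trans (mo_eq _ _)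

theorem three {σ : Equiv.Perm GolayPt} (c : Finset GolayPt) {τ : Equiv.Perm GolayPt} (e : σ = 1 ∨ τ * σ = P cT1 * τ) :
    ∃ i j k, i ≠ j ∧ j ≠ k ∧ i ≠ k ∧ σ i = i ∧ σ j = j ∧ σ k = k ∧ (i ∈ c ↔ j ∈ c) ∧ (j ∈ c ↔ k ∈ c) := by
  obtain ⟨u, hu⟩ : ∃ u : Fin 5 → GolayPt, u = fun n => pt (![0, 1, 2, 3, 5] n) := ⟨_, rfl⟩
  have f : ∀ n, σ (τ.symm (u n)) = τ.symm (u n) := fun n => by
    rcases e with rfl | e
    · rfl
    refine τ.injective ?_
    rw [← Equiv.Perm.mul_apply, e, Equiv.Perm.mul_apply, τ.apply_symm_apply, hu]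
    exact (isM_rep isM_T1).app_eq (by revert n; decide) (by revert n; decide +kernel)
  have n : Function.Injective fun n => τ.symm (u n) := τ.symm.injective.comp (by rw [hu]; decide +kernel)
  obtain ⟨i, j, k, a, b, d, g, h⟩ : ∃ i j k : Fin 5, i ≠ j ∧ j ≠ k ∧ i ≠ k ∧ decide (τ.symm (u i) ∈ c) = decide (τ.symm (u j) ∈ c) ∧
      decide (τ.symm (u j) ∈ c) = decide (τ.symm (u k) ∈ c) :=
    (by decide : ∀ p : Fin 5 → Bool, ∃ i j k : Fin 5, i ≠ j ∧ j ≠ k ∧ i ≠ k ∧ p i = p j ∧ p j = p k) _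
  exact ⟨_, _, _, n.ne a, n.ne b, n.ne d, f i, f j, f k, decide_eq_decide.1 g, decide_eq_decide.1 h⟩

variable {G : Type} [Group G] [Finite G] {z w : G} {f : C[z] →* Spor.Co1} {R : G → Lam → Prop} {γ δ : Co0}

theorem twA (a : A f w γ) (g : Co0) :
    A ((MulAut.conj (QuotientGroup.mk g : Spor.Co1)⁻¹).toMonoidHom.comp f) w (g⁻¹ * γ * g) :=
  ⟨a.1, by simp [a.2]⟩

theorem lift_conj (a : A f w γ) (c : IsConj (pc1 δ) (pc1 γ)) : ∃ g, A f w (g * δ * g⁻¹) := by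
  obtain ⟨g, e⟩ := isConj_iff.1 c
  obtain ⟨g, rfl⟩ := pc1_surj g
  exact ⟨g, a.1, a.2.trans (by rw [← map_inv, ← map_mul, ← map_mul] at e; exact e.symm)⟩

theorem sq_of_mem (h : MG z) (M : MT (Qo z) z f R) {r : G} (b : IsConj z r) (m : r ∈ Qo z) (hw : w ∈ Qo r)
    (a : A f w γ) : γ * γ = 1 := by
  by_cases n : r = z
  · exact EE_sq (center_le_EE ((M.aker a).1 (n ▸ hw)))
  have L := h.lp m b n
  obtain ⟨g, k⟩ := M.typ4 L
  have := EE_sq (((M.twist g).img_EE L k).le (mem_img.2 ⟨w, ⟨hw, a.1⟩, twA a g⟩))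
  rw [← mul_left_inj g, ← mul_right_inj g⁻¹, one_mul, inv_mul_cancel, ← this]; group

theorem not7 (c : KC) (h : MG z) (M : MT (Qo z) z f R) (ww : w * w = 1) (a : A f w (Co1I.h 7)) : False := by
  have N1 : coN ≠ 1 := fun e => nf (γ := 1) (by rw [e, mul_one]) norm_U (by rw [one_smul]; exact .refl _)
  obtain ⟨s₀, m₀, b₀, n₀⟩ := h.2
  have L₀ := h.lp m₀ b₀ n₀
  obtain ⟨t, rt⟩ := M.sur (ML.dd (pt 0) (pt 23))
  have r := M.cg (M.comm a rt) h7d
  obtain ⟨s, hs⟩ : ∃ s, ⁅w, t⁆ = s := ⟨_, rfl⟩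
  rw [hs] at r
  obtain ⟨b, n⟩ := b2_of M L₀ r (norm_e8 _)
  have L := h.lp (M.mem r) b n
  have wi := inv_eq_of_mul_eq_one_right ww
  have ws : w ∈ C[s] := mem_cent1.2 (mul_inv_eq_iff_eq_mul.1 (.trans (by
    rw [← hs, commutatorElement_inv, commutatorElement_def, commutatorElement_def, wi]
    simp only [← mul_assoc, ww, one_mul]) L.r.es.zinv))
  have tt := dd_Q' M L r (by decide) rt
  have ta := a2_of M L rt (norm_dd (by decide))
  obtain ⟨f₁, R₁, M₁⟩ := (h.conj b).1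
  obtain ⟨g, r'⟩ := M₁.typ4 L.symm
  have M' := M₁.twist g
  generalize (MulAut.conj (QuotientGroup.mk g : Spor.Co1)⁻¹).toMonoidHom.comp f₁ = f' at M'
  obtain ⟨R', M', r'⟩ : ∃ R', MT (Qo s) s f' R' ∧ R' z lE := ⟨_, M', r'⟩
  obtain ⟨γ, a'⟩ := A.tot (f := f') ws
  obtain ⟨σ, hσ, d, hd, rfl⟩ := exists_mono (M'.img_NN L.symm r' ▸ mem_img.2 ⟨w, a.1, a'⟩)
  have k := mo_sq hσ hd (by
    rw [mo_eq hσ hd, ← map_pow, pow_two]
    exact (QuotientGroup.eq_one_iff _).2 (ww ▸ a'.mul a').cen)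
  have fx : ∀ τ, σ = 1 ∨ τ * σ = P cT1 * τ → False := fun τ e => by
    obtain ⟨i, j, k, ij, jk, ik, hi, hj, hk, c1, c2⟩ := three d e
    have u : ∀ {i j x}, i ≠ j → σ i = i → σ j = j → (i ∈ d ↔ j ∈ d) → R' x (ML.dd i j) → w * x * w⁻¹ = x * s :=
      fun {i j x} n a₁ a₂ a₃ q => ((M'.uniq q (M'.act a' q)).1 (dd_fix hσ hd a₁ a₂ a₃).symm).resolve_left fun e => by
        obtain ⟨v, p, p'⟩ := of_a2 M L (dd_Q' M' L.symm r' n q).2 ((a2_of M' L.symm q (norm_dd n)).base b.symm)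
        exact nf h77 p' ((M.uniq (M.act a p) p).2 (.inl e.symm))
    obtain ⟨x, px⟩ := M'.sur (ML.dd i j)
    obtain ⟨y, py⟩ := M'.sur (ML.dd j k)
    have q := M'.cg (M'.mul (M'.mul px py) r') (((dd_add i j k).add (.refl _)).trans ⟨lE, by rw [two_smul]; abel⟩)
    have := u ik hi hk (c1.trans c2) q
    rw [← conj_mul, ← conj_mul, u ij hi hj c1 px, u jk hj hk c2 py, mem_cent1.1 a.1, mul_inv_cancel_right, mul_assoc x s,
      ← mul_assoc s, ← L.r.es.cent y (M'.mem py), mul_assoc y, L.r.es.zz, mul_one] at this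
    exact L.r.es.z1 (by simpa using this)
  by_cases e : σ = 1
  · exact fx 1 (.inl e)
  obtain ⟨τ, hτ, e | e⟩ := inv_class hσ k.1 e
  · exact fx τ (.inr e)
  have c1 := mo_conj' hσ hτ (isM_mem isM_T2) hd e
  obtain ⟨m, hm, c2⟩ := invChk_sound Co1I.k2 (smul_mem_cw hτ hd) (mo_sq (isM_mem isM_T2) (smul_mem_cw hτ hd)
    (isConj_one_right.1 (((pc1.map_isConj c1).pow 2).symm.trans (by
      rw [mo_eq hσ hd, ← map_pow, pow_two, show pc1 _ = 1 from (QuotientGroup.eq_one_iff _).2 (ww ▸ a'.mul a').cen])).symm)).2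
  rw [mo_eq hσ hd] at c1
  simp only [List.mem_cons, List.not_mem_nil, or_false] at hm
  rcases hm with rfl | rfl
  · obtain ⟨g, q⟩ := lift_conj (δ := Co1I.h 3) a' (pc1.map_isConj ((c1.trans c2).trans (by
      rw [← Co1I.mo1 Co1I.k3.2.2.2.2.2.1]; exact isConj_of (Co1I.cw1 Co1I.k4.2.2.2.1))).symm)
    obtain ⟨x, x1, -, -, x2, -, x3, -⟩ := c G s f' R' (h.conj b) M' _ _ (S_mem_dodecads isD_D0).2 w g ww (h3 ▸ q)
    exact N1 (h77.symm.trans (sq_of_mem h M (b.trans x1) (symm h (b.trans x1) (.refl z)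
      (x3 ⟨L.zQ, mem_cent1_symm.1 a.1⟩)) x2 a))
  · obtain ⟨g, q⟩ := isConj_iff.1 (c1.trans c2).symm
    obtain ⟨v, p, p'⟩ := of_a2 M' L.symm tt.2 (ta.base b)
    refine nf (γ := mono hσ hd) ?_ p' ((M'.uniq p (M'.act a' p)).2 (.inr ?_)).symm
    · rw [← q, conj_mul, ← Co1I.mo1 Co1I.k3.2.2.2.2.2.2.1, h77, Subgroup.mem_center_iff.1 coN_mem_center g, mul_inv_cancel_right]
    · rw [L.r.es.cent t tt.2, ← hs, commutatorElement_def, inv_mul_cancel_right]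

theorem kd (c : KC) : KD := fun G _ _ z s f R e h m u w b cu nQ ww => by
  obtain ⟨g, rfl⟩ := isConj_iff.1 b
  obtain ⟨w, rfl⟩ := (MulAut.conj g).surjective w
  rw [MulAut.conj_apply] at *
  rw [← cj_cent1, conj_mem_cj] at cu
  rw [← cj_Qo, conj_mem_cj] at nQ
  rw [conj_mul, conj_eq_one_iff] at ww
  obtain ⟨γ, a⟩ := A.tot (f := f) cu
  obtain t | t | t | t := Co1I.inv (pc1 γ) (by
    rw [← map_pow, pow_two]; exact (QuotientGroup.eq_one_iff _).2 (ww ▸ a.mul a).cen)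
  · exact absurd ((h.M.aker a).2 ((QuotientGroup.eq_one_iff _).1 t)) nQ
  · obtain ⟨δ, q⟩ := lift_conj a (δ := ε) (by
      rw [show ε = mo 1 (S 8536111) from (mo_eq (one_mem _) O0_mem.1).symm]; exact (isConj_of Co1I.tO).trans t)
    obtain ⟨k, p⟩ := h.M.asur δ
    refine .inl ⟨g * k, ?_, ?_⟩
    · rw [cj_mul, conj_mem_cj, mem_cj, mul_assoc, ← mem_cent1.1 p.1, inv_mul_cancel_left]
      exact h.WE h.zW
    · rw [cj_mul, ← cj_Qo, ← cj_sup, conj_mem_cj]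
      simpa only [inv_mul_cancel_right] using mul_mem_sup ((h.M.aker (q.mul ((p.mul h.aε).mul p.inv).inv)).2 (by simp))
        (conj_mem_cj (g := k).2 (h.par.mem f0))
  · obtain ⟨δ, q⟩ := lift_conj a t
    exact (not7 c m (h.M.twist δ) ww (by simpa [mul_assoc] using twA q δ)).elim
  · obtain ⟨δ, q⟩ := lift_conj a t
    obtain ⟨x, x1, x2, x3, x4, x5, x6, x7⟩ := c G z f R m h.M _ _ (S_mem_dodecads isD_D0).2 w δ ww (h3 ▸ q)
    refine .inr ⟨g * x * g⁻¹, cjB x1 g, Qo_conj x2 g, by simpa using x3, Qo_conj x4 g, ?_, ?_, ?_⟩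
    · simpa only [← cj_cent1, ← cj_inf, cj_le_cj] using x5
    · simpa only [← cj_cent1, ← cj_Qo, ← cj_inf, cj_le_cj] using x6
    · rw [conj_mul]
      exact (isConj_iff.2 ⟨g, rfl⟩).symm.trans (x7.trans (isConj_iff.2 ⟨g, rfl⟩))

end H15.MX
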