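import Cfsg.Agent.H15.MX3

/-! Involutions acting as a sign change on a dodecad. -/

set_option autoImplicit false
set_option linter.unusedSectionVars false

namespace H15.MX
open Cfsg H15 H19 H0 H0.Mo H0.Y H15.ML Subgroup
open scoped commutatorElement

theorem cf_dd (i j p : GolayPt) : cf (ML.dd i j) p = (if p = i then 4 else 0) + if p = j then 4 else 0 := by
  show pr i j 4 4 p = _
  simp [pr, Pi.single_apply]

/-- all coordinates congruent to 0, or all to 2, modulo 4 -/
def Ev (v : Lam) : Prop := (∀ i, cf v i % 4 = 0) ∨ ∀ i, cf v i % 4 = 2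

/-- an odd vector -/
def uo (a : GolayPt) : Lam := ⟨od ∅ a, od_mem cw_empty a⟩
theorem cf_uo (a p : GolayPt) : cf (uo a) p = if p = a then -3 else 1 := by
  show od ∅ a p = _
  simp [od]

theorem four {T : AddSubgroup Lam} (h1 : ∀ i j, ML.dd i j ∈ T) (h2 : ∀ v ∈ T, ∀ w, Cg v w → w ∈ T) {v : Lam}
    (h : Ev v) : v ∈ T := by
  have k : ∀ v : Lam, (∀ i, cf v i % 4 = 0) → v ∈ T := fun v h => by
    obtain ⟨m, c, l⟩ := mem_leech.1 v.2
    have e : (∑ i, cf v i) % 8 = 0 := by
      have a : cf v none % 4 = _ := l.res none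
      have b : (∑ i, cf v i) % 8 = _ := l.sum
      have := h none
      have := l.par
      split_ifs at a <;> omega
    have : v = ∑ i, (cf v i / 4) • ML.dd none i - ((∑ i, cf v i) / 8) • ML.dd none none := Subtype.ext (funext fun p => by
      have t : ∀ i, cf v i / 4 * cf (ML.dd none i) p = (if p = none then cf v i else 0) + if p = i then cf v i else 0 :=
        fun i => by have := h i; rw [cf_dd]; split_ifs <;> omega
      show cf v p = cf (∑ i, (cf v i / 4) • ML.dd none i) p - (∑ i, cf v i) / 8 * cf (ML.dd none none) p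
      simp only [cf, AddSubmonoidClass.coe_finset_sum, Finset.sum_apply, AddSubgroupClass.coe_zsmul, Pi.smul_apply, smul_eq_mul] at t e ⊢
      rw [Finset.sum_congr rfl fun i _ => t i, Finset.sum_add_distrib, Finset.sum_ite_eq, show (ML.dd none none).1 p = _ from cf_dd _ _ p]
      by_cases q : p = none <;> simp only [q, if_true, if_false, Finset.mem_univ, Finset.sum_const_zero] <;> omega)
    rw [this]
    exact sub_mem (sum_mem fun i _ => zsmul_mem (h1 _ _) _) (zsmul_mem (h1 _ _) _)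
  refine h.elim (k v) fun h => h2 _ (k (v + (uo none + uo none)) fun i => ?_) _ ⟨uo none, by rw [two_smul]; abel⟩
  have := h i
  show (cf v i + (cf (uo none) i + cf (uo none) i)) % 4 = 0
  rw [cf_uo]; split_ifs <;> omega

section
variable {D : Finset GolayPt} (hD : D ∈ cw) (h12 : D.card = 12)
include hD h12

theorem ex_in : (∃ i, i ∈ D) ∧ ∃ i, i ∉ D := ⟨Finset.card_pos.1 (by omega), not_forall.1 fun k => by
  rw [Finset.eq_univ_of_forall k, Finset.card_univ, card_pt] at h12; omega⟩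

theorem supp_res {u : Lam} (h : ∀ i ∉ D, cf u i = 0) : (∀ i ∈ D, cf u i % 4 = 0) ∨ ∀ i ∈ D, cf u i % 4 = 2 := by
  obtain ⟨m, c, l⟩ := mem_leech.1 u.2
  have r : ∀ i, cf u i % 4 = _ := l.res
  have := l.par
  have k : ∀ i ∉ D, m = 0 ∧ i ∉ c := fun i n => by
    have := r i
    rw [h i n] at this
    split_ifs at this with q
    exacts [by omega, ⟨by omega, q⟩]
  obtain ⟨a, ha⟩ := (ex_in hD h12).2
  have s : c ⊆ D := fun i hi => by_contra fun n => (k i n).2 hi
  have k1 := cw_card (cw_symmDiff l.cw hD)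
  rw [symmDiff_of_le s, Finset.card_sdiff_of_subset s] at k1
  have k2 := Finset.card_le_card s
  rcases cw_card l.cw with e | e | e | e
  · exact .inl fun i _ => by simpa [Finset.card_eq_zero.1 e, (k a ha).1] using r i
  · omega
  · exact .inr fun i b => by simpa [Finset.eq_of_subset_of_card_le s (by omega), b, (k a ha).1] using r i
  · omega

omit h12 in
theorem cf_q {a : GolayPt} (ha : a ∈ D) (p : GolayPt) : cf (sgn hD • uo a + uo a) p = if p ∈ D then 0 else 2 := by
  show cf (sgn hD • uo a) p + cf (uo a) p = _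
  rw [cf_sgn, cf_uo]
  by_cases q : p = a
  · simp [q, ha]
  · by_cases t : p ∈ D <;> simp [q, t]

theorem fixD {a : GolayPt} (ha : a ∈ D) {v : Lam} (c : Cg (sgn hD • v) v) : Ev v ∨ Ev (v + (sgn hD • uo a + uo a)) := by
  obtain ⟨u, e⟩ := c
  have k : ∀ i, cf u i = if i ∈ D then -cf v i else 0 := fun i => by
    have : cf (sgn hD • v) i - cf v i = 2 • cf u i := congrFun (congrArg cf e) i
    rw [cf_sgn, two_nsmul] at this
    split_ifs at this ⊢ <;> omega
  have k1 := supp_res hD h12 (u := u) fun i n => by rw [k, if_neg n]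
  have k2 := supp_res (cw_compl hD) (by rw [Finset.card_compl, card_pt, h12]) (u := v + u) fun i n => by
    show cf v i + cf u i = 0
    rw [k, if_pos (by simpa using n), add_neg_cancel]
  have l1 : ∀ n, (∀ i ∈ D, cf u i % 4 = n) → ∀ i ∈ D, -cf v i % 4 = n := fun n h i b => by simpa only [k, if_pos b] using h i b
  have l2 : ∀ n, (∀ i ∈ Dᶜ, cf (v + u) i % 4 = n) → ∀ i ∉ D, cf v i % 4 = n := fun n h i b => by
    have : (cf v i + cf u i) % 4 = n := h i (by simpa using b)
    rwa [k, if_neg b, add_zero] at this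
  have t : ∀ i, cf (v + (sgn hD • uo a + uo a)) i = cf v i + if i ∈ D then 0 else 2 := fun i => congrArg (cf v i + ·) (cf_q hD ha i)
  rcases k1 with k1 | k1 <;> rcases k2 with k2 | k2 <;>
    [refine .inl (.inl fun i => ?_); refine .inr (.inl fun i => ?_); refine .inr (.inr fun i => ?_);
      refine .inl (.inr fun i => ?_)] <;>
    by_cases b : i ∈ D <;>
    first
    | (have := l1 _ k1 i b; have := (t i).trans (congrArg _ (if_pos b)); omega)
    | (have := l2 _ k2 i b; have := (t i).trans (congrArg _ (if_neg b)); omega)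

theorem norm_q {a : GolayPt} (ha : a ∈ D) : sqNorm (cf (sgn hD • uo a + uo a)) = 48 := by
  have : cf (sgn hD • uo a + uo a) = oc Dᶜ ∅ := funext fun p => by rw [cf_q hD ha]; by_cases t : p ∈ D <;> simp [oc, t]
  rw [this, norm_oc, Finset.card_compl, card_pt, h12]; rfl

theorem sgn_nc : sgn hD ∉ center Co0 := fun k => by
  obtain ⟨⟨i, a⟩, j, b⟩ := ex_in hD h12
  have k1 := cf_sgn hD (e8 i 1) i
  have k2 := cf_sgn hD (e8 j 1) j
  rcases H15.mem_center_iff.1 k with e | e <;> rw [e] at k1 k2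
  · simp [a, cf_e8] at k1
  · rw [coN_smul] at k2
    change -cf (e8 j 1) j = _ at k2
    simp [b, cf_e8] at k2

/-- a vector of norm 64 is in the standard frame, or is changed into one of norm 64 by a fixed duad -/
theorem frame {x : Lam} (n : sqNorm (cf x) = 64) (h : ∀ i j, 16 ∣ dotInt (cf (ML.dd i j)) (cf x)) :
    Cg x lE ∨ ∃ d, sqNorm (cf d) = 32 ∧ Ev d ∧ Cg (sgn hD • d) d ∧ sqNorm (cf (d + x)) = 64 := by
  have k : ∀ i j, (cf x i + cf x j) % 4 = 0 := fun i j => by
    have := h i j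
    change 16 ∣ dotInt (Pi.single i 4 + Pi.single j 4) _ at this
    rw [dotInt_add_left, dotInt_single_left, dotInt_single_left] at this
    omega
  have big : ∀ (X : Finset GolayPt) (b : ℤ), (∀ i ∈ X, b ≤ cf x i ^ 2) → X.card * b ≤ 64 := fun X b a => by
    rw [← n, ← nsmul_eq_mul]
    exact (Finset.card_nsmul_le_sum X _ b a).trans (Finset.sum_le_univ_sum_of_nonneg fun i => sq_nonneg _)
  have k4 : ∀ i, cf x i % 4 = 0 := fun i => by_contra fun a => by
    have := big Finset.univ 4 fun j _ => by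
      have := k i j
      have := k j j
      have : 2 ≤ cf x j ∨ cf x j ≤ -2 := by omega
      rcases this with t | t <;> nlinarith
    rw [Finset.card_univ, card_pt] at this
    omega
  by_cases c : ∃ i, cf x i = 4 ∨ cf x i = -4
  · obtain ⟨i, c⟩ := c
    obtain ⟨j, a, b⟩ : ∃ j, (j ∈ D ↔ i ∈ D) ∧ cf x j = 0 := by
      by_contra! a
      have t : ∀ X : Finset GolayPt, X.card = 12 → (∀ j ∈ X, (j ∈ D ↔ i ∈ D)) → False := fun X b d => by
        have := big X 16 fun j e => by
          have := a j (d j e)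
          have := k4 j
          have : 4 ≤ cf x j ∨ cf x j ≤ -4 := by omega
          rcases this with t | t <;> nlinarith
        rw [b] at this
        omega
      by_cases e : i ∈ D
      exacts [t D h12 fun j b => iff_of_true b e, t Dᶜ (by rw [Finset.card_compl, card_pt, h12]) fun j b =>
        iff_of_false (by simpa using b) e]
    have ij : i ≠ j := by rintro rfl; omega
    let d : Lam := ⟨pr i j (-cf x i) 4, pr_mem i j (by omega) (.inl rfl)⟩
    have cd : ∀ p, cf d p = (if p = i then -cf x i else 0) + if p = j then 4 else 0 := fun p => by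
      show pr i j _ _ p = _
      simp [pr, Pi.single_apply]
    have nd : sqNorm (cf d) = 32 := (norm_pr ij _ _).trans (by rcases c with c | c <;> rw [c] <;> rfl)
    refine .inr ⟨d, nd, .inl fun p => by have := k4 i; rw [cd]; split_ifs <;> omega, ?_, ?_⟩
    · by_cases e : i ∈ D
      · convert Cg.neg d
        refine Subtype.ext (funext fun p => (cf_sgn hD d p).trans ?_)
        show _ = -cf d p
        split_ifs with t
        exacts [rfl, by rw [cd, if_neg (by rintro rfl; exact t e), if_neg (by rintro rfl; exact t (a.2 e))]; rfl]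
      · convert Cg.refl d
        refine Subtype.ext (funext fun p => (cf_sgn hD d p).trans ?_)
        show _ = cf d p
        split_ifs with t
        exacts [by rw [cd, if_neg (by rintro rfl; exact e t), if_neg (by rintro rfl; exact e (a.1 t))]; rfl, rfl]
    · show sqNorm (cf d + cf x) = 64
      rw [sqNorm_add, nd, n]
      change _ + 2 * dotInt (Pi.single i (-cf x i) + Pi.single j 4) _ = _
      rw [dotInt_add_left, dotInt_single_left, dotInt_single_left, b]
      rcases c with c | c <;> rw [c] <;> rfl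
  · obtain ⟨i, a⟩ : ∃ i, cf x i ≠ 0 := by
      by_contra! a
      rw [show cf x = 0 from funext a, sqNorm_zero] at n
      omega
    have b := sq_le_sqNorm (cf x) i
    have := k4 i
    have c' := mt (fun t => ⟨i, t⟩) c
    obtain ⟨e, he, t⟩ : ∃ e : ℤ, (e = 1 ∨ e = -1) ∧ cf x i = 8 * e := by
      have : cf x i ≤ 8 := by nlinarith
      have : -8 ≤ cf x i := by nlinarith
      exact ⟨cf x i / 8, by omega, by omega⟩
    have : x = e8 i e := Subtype.ext (sub_eq_zero.1 (sqNorm_eq_zero (by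
      change sqNorm (cf x - Pi.single i (8 * e)) = 0
      rw [sqNorm_sub, n, sqNorm_single, dotInt_single_right, t]
      rcases he with rfl | rfl <;> rfl)))
    exact .inl (this ▸ cong_e8 _ _ he (.inl rfl))

variable {G : Type} [Group G] [Finite G] {z s w : G} {f : C[z] →* Spor.Co1} {R : G → Lam → Prop}
  (h : MG z) (M : MT (Qo z) z f R) (r : R s lE)
include h M r

omit hD h12 in
theorem bs0 : IsConj z s ∧ LP (Qo z) z (Qo s) s := by
  obtain ⟨s₀, m₀, b₀, n₀⟩ := h.2
  obtain ⟨b, n⟩ := b2_of M (h.lp m₀ b₀ n₀) r (norm_e8 _)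
  exact ⟨b, h.lp (M.mem r) b n⟩

omit hD h12 in
theorem evT {v : Lam} (e : Ev v) : v ∈ LT M (Qo z ⊓ Qo s) := by
  have L := (bs0 h M r).2
  refine four (fun i j => ?_) (fun _ t _ c => ?_) e
  swap
  · obtain ⟨x, a, b⟩ := t
    exact ⟨x, a, M.cg b c⟩
  by_cases k : i = j
  · refine ⟨s, ⟨L.tQ, L.r.es.zQ⟩, M.cg r ?_⟩
    rw [show ML.dd i j = e8 i 1 from Subtype.ext (funext fun p => (cf_dd i j p).trans (by
      show _ = cf (e8 i 1) p
      rw [cf_e8, Pi.single_apply, k]; split_ifs <;> rfl))]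
    exact cong_e8 _ _ (.inl rfl) (.inl rfl)
  · exact let ⟨x, a⟩ := M.sur _; ⟨x, dd_Q' M L r k a, a⟩

omit hD h12 in
theorem inA {x : G} {v : Lam} (a : R x v) (e : v ∈ LT M (Qo z ⊓ Qo s)) : x ∈ Qo z ⊓ Qo s :=
  let ⟨_, b, c⟩ := e; mem_of M (mem_inf.2 ⟨M.le.es.zQ, (bs0 h M r).2.zQ⟩) b c a (.refl _)

variable (a : A f w (sgn hD)) (ww : w * w = 1)
include a ww

theorem exs : ∃ s, R s lE ∧ w ∈ Qo s := by
  obtain ⟨b, L⟩ := bs0 h M r
  obtain ⟨⟨j, hj⟩, i, hi⟩ := ex_in hD h12
  obtain ⟨w₀, m, a₀⟩ := mem_img.1 ((M.img_EE L r).ge ⟨D, hD, rfl⟩)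
  obtain ⟨y, rfl⟩ := (Equiv.mulRight w₀).surjective w
  simp only [Equiv.coe_mulRight] at *
  obtain ⟨v, ry⟩ := M.tot y ((M.aker (by simpa using a.mul a₀.inv)).2 (one_mem _))
  have e : y * (w₀ * y * w₀⁻¹) = (w₀ * w₀)⁻¹ := by rw [eq_inv_iff_mul_eq_one, ← ww]; group
  have q := e ▸ M.mul ry (M.act a₀ ry)
  have k : v ∈ LT M (Qo z ⊓ Qo s) ∨ v + (sgn hD • uo j + uo j) ∈ LT M (Qo z ⊓ Qo s) := by
    rcases L.r.es.mem_zp.1 (inv_mem (L.r.es.sq_mem m.1)) with t | t <;> rw [t] at q
    · exact (fixD hD h12 hj (Cg.add_zero.1 ((M.rk q).1 (one_mem _))).symm).imp (evT h M r) (evT h M r)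
    have d : sgn hD • ML.dd i j + ML.dd i j = e8 i 1 := Subtype.ext (funext fun p => by
      show cf (sgn hD • ML.dd i j) p + cf (ML.dd i j) p = cf (e8 i 1) p
      rw [cf_sgn, cf_dd, cf_e8, Pi.single_apply]
      by_cases p1 : p = i <;> by_cases p2 : p = j <;> simp_all)
    have dT := evT h M r (v := ML.dd i j) (.inl fun p => by rw [cf_dd]; split_ifs <;> rfl)
    have c : Cg (sgn hD • (v + ML.dd i j) + (v + ML.dd i j)) 0 := by
      rw [co_add, add_add_add_comm, d, add_comm _ v]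
      exact Cg.add_zero.2 (((M.uniq q r).2 (.inl rfl)).trans (cong_e8 _ _ (.inl rfl) (.inl rfl)))
    refine (fixD hD h12 hj (Cg.add_zero.1 c)).imp (fun t => ?_) fun t => ?_
    · simpa using sub_mem (evT h M r t) dT
    · convert sub_mem (evT h M r t) dT using 1; abel
  rcases k with k | k
  · exact ⟨s, r, mul_mem (inA h M r ry k).2 m.1⟩
  obtain ⟨p, rp⟩ := M.sur (uo j)
  have ps := M.le.es.conj_eq (M.mem rp) L.tQ fun t => by
    have := (M.comm_iff L rp r).1 t
    rw [dotInt_comm, dot_e8, cf_uo] at this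
    split_ifs at this <;> omega
  refine ⟨s * z, M.mulz r (mem_zpowers z), ?_⟩
  have := mul_mem (inf_le_mul h (.refl z) b L.tQ L.ne (inA h M r (M.mul ry (M.comm a₀ rp)) k)) (ps ▸ Qo_conj m.1 p)
  rwa [show y * ⁅w₀, p⁆ * (p * w₀ * p⁻¹) = y * w₀ by rw [commutatorElement_def]; group] at this

theorem kindC (m : w ∈ Qo s) : KindC z z w := by
  obtain ⟨b, L⟩ := bs0 h M r
  obtain ⟨j, hj⟩ := (ex_in hD h12).1
  obtain ⟨p, rp⟩ := M.sur (uo j)
  have rc := M.comm a rp
  have E := M.le.es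
  have wi := inv_eq_of_mul_eq_one_right ww
  have wc : w * ⁅w, p⁆ * w⁻¹ = ⁅w, p⁆⁻¹ := by
    rw [commutatorElement_inv, commutatorElement_def, commutatorElement_def, wi]
    simp only [← mul_assoc, ww, one_mul]
  generalize ⁅w, p⁆ = c at rc wc
  have cc : c * c = z := (E.sq c (M.mem rc)).resolve_left fun t => by
    have := (M.sq_iff L rc).1 t
    rw [norm_q hD h12 hj] at this
    omega
  have ci : c⁻¹ = c * z := inv_eq_of_mul_eq_one_right (by rw [← mul_assoc, cc, E.zz])
  have nz : ∀ x ∈ Qo s, w * x * w⁻¹ ≠ x * z := fun x hx t => by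
    rcases L.r.es.conj_cases m hx with k | k <;> rw [t] at k
    exacts [E.z1 (by simpa using k), L.ne (mul_left_cancel k).symm]
  have B1 : Qo z ⊓ C[w] ≤ Qo z ⊓ Qo s := fun x hx => by
    obtain ⟨v, rx⟩ := M.tot x hx.1
    have t : w * x * w⁻¹ = x := by rw [← mem_cent1.1 hx.2, mul_inv_cancel_right]
    refine (fixD hD h12 hj ((M.uniq (M.act a rx) rx).2 (.inl t.symm))).elim (fun k => inA h M r rx (evT h M r k))
      fun k => absurd ?_ (nz _ (inA h M r (M.mul rx rc) (evT h M r k)).2)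
    rw [← conj_mul, t, wc, ci, mul_assoc]
  have sw : s ∈ C[w] := mem_cent1_symm.1 (L.r.es.le_cent m)
  refine ⟨s, b, L.tQ, L.ne, m, fun g hg => ?_, B1.trans inf_le_right, isConj_iff.2 ⟨c⁻¹, ?_⟩⟩
  · have nP : g ∈ N(Qo z ⊓ C[w]) := norms_inf (inf_le_left.trans M.le.norm) (inf_le_right.trans le_normalizer) hg
    obtain ⟨γ, ag⟩ := A.tot (f := f) hg.1
    have rs := M.act ag r
    have sA := B1 (conj_mem_of_norm nP ⟨L.tQ, sw⟩)
    obtain k | ⟨d, d1, d2, d3, d4⟩ := frame hD h12 (x := γ • lE) (by rw [co_norm, norm_e8]) fun i j => by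
      obtain ⟨x, c, d⟩ := evT h M r (v := ML.dd i j) (.inl fun p => by rw [cf_dd]; split_ifs <;> rfl)
      exact (M.comm_iff L d rs).1 (mul_comm_of_comm L.abelem_E.1 c sA)
    · refine ((M.uniq r rs).1 k.symm).elim (fun t => mem_cent1.2 (mul_inv_eq_iff_eq_mul.1 t)) fun t => ?_
      have k1 := Qo_conj m g
      rw [t, mem_cent1.1 hg.2, mul_inv_cancel_right] at k1
      have k2 := inf_le_mul h b (t ▸ cjB b g) (mul_mem L.r.es.zQ L.zQ) (by simpa using E.z1) ⟨m, k1⟩
      rw [mul_assoc, L.comm, ← mul_assoc, L.r.es.zz, one_mul] at k2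
      exact absurd ((M.aker a).1 k2) (sgn_nc hD h12)
    · obtain ⟨t, tA, rt⟩ := evT h M r d2
      have tw : t ∈ C[w] := mem_cent1.2 (mul_inv_eq_iff_eq_mul.1
        (((M.uniq rt (M.act a rt)).1 d3.symm).resolve_right (nz t tA.2))).symm
      have k1 := Qo_conj (B1 (conj_mem_of_norm (inv_mem nP) ⟨tA.1, tw⟩)).2 g
      rw [show g * (g⁻¹ * t * g⁻¹⁻¹) * g⁻¹ = t by group] at k1
      have ta := a2_of M L rt d1
      exact ((ta.conj (conj_mul' h (cjB b g) k1 ta.2.1 fun e => ta.2.2 (e ▸ cjB b g))).2.2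
        (b2_of M L (M.mul rt rs) d4).1).elim
  · rw [inv_inv, mul_assoc, mul_inv_eq_iff_eq_mul.1 wc, ← mul_assoc, ← mul_inv_rev, cc, E.zinv, mem_cent1.1 a.1]

end

theorem kc : KC := fun G _ _ z f R h M D hD h12 w γ ww a => by
  have a' := twA a γ
  rw [show γ⁻¹ * (γ * sgn hD * γ⁻¹) * γ = sgn hD by group] at a'
  obtain ⟨s, r⟩ := (M.twist γ).sur lE
  obtain ⟨s, r, m⟩ := exs hD h12 h (M.twist γ) r a' ww
  exact kindC hD h12 h (M.twist γ) r a' ww m

theorem kd' : KD := kd kc

end H15.MX
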