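import Cfsg.Agent.H24.ND0

/-! S4780 chunks `CS`, `FP`, `JI`. -/

set_option autoImplicit false
set_option linter.unusedVariables false

open Subgroup MulAction H19 H20 H6 Cfsg H3.PT H3.GR H3.ND H24.ND
open scoped commutatorElement

namespace H15.ND

universe u

section
variable {G : Type u} [Group G] [Finite G] {P H : Subgroup G} {p : ℕ}

theorem v1n (h : PC P H p) : (V1 P H).Normal := by
  haveI := h.nP
  have a : V1 P H ≤ P := sup_le (commutator_le_left P P) inf_le_left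
  have b : ∀ g ∈ P ⊔ H, ∀ x ∈ V1 P H, g * x * g⁻¹ ∈ V1 P H := by
    intro g hg
    obtain ⟨y, hy, c, hc, rfl⟩ := mem_sup_of_normal_left.1 hg
    intro x hx
    have k : c * x * c⁻¹ ∈ V1 P H := by
      obtain ⟨w, hw, j, hj, rfl⟩ := mem_sup_of_normal_left.1 hx
      have e : c * (w * j) * c⁻¹ = (c * w * c⁻¹) * j := by
        have := (mem_centralizer_iff.1 hj.2 c hc)
        calc c * (w * j) * c⁻¹ = (c * w * c⁻¹) * (c * j) * c⁻¹ := by group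
          _ = _ := by rw [this]; group
      rw [e]
      exact mul_mem (mem_sup_left (Normal.conj_mem inferInstance w hw c)) (mem_sup_right hj)
    have e : y * c * x * (y * c)⁻¹ = ⁅y, c * x * c⁻¹⁆ * (c * x * c⁻¹) := by
      rw [commutatorElement_def]; group
    rw [e]
    exact mul_mem (mem_sup_left (commutator_mem_commutator hy (a k))) k
  exact ⟨fun x hx g => b g (by rw [h.sup]; trivial) x hx⟩

theorem cs1 (h : PC P H p) {c : G} (hc : c ∈ H) (hn : c ∉ C(P)) {x : G} (hx : x ∈ P) :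
    ∃ y ∈ P, ∃ v ∈ V1 P H, x = c * y * c⁻¹ * y⁻¹ * v := by
  haveI := h.nP
  haveI := v1n h
  obtain ⟨y, hy, e⟩ := (h.fp c hc hn).exists_comm (nr (mem_top c)) (nr (mem_top c)) (fun a _ => nr (mem_top a))
    (inv_mem hx)
  refine ⟨y, hy, x⁻¹ * ((y * c * y⁻¹ * c⁻¹)⁻¹ * x⁻¹)⁻¹ * x⁻¹⁻¹,
    Normal.conj_mem inferInstance _ (inv_mem e) _, by group⟩

end

theorem cs : H24.ND.CS.{u} := by
  intro G _ _ P H p c h hc hn x hx
  haveI := h.nP
  obtain ⟨y, hy, v, hv, e⟩ := cs1 h hc hn hx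
  rw [V1, sup_comm] at hv
  obtain ⟨a, ha, w, hw, rfl⟩ := mem_sup_of_normal_right.1 hv
  exact ⟨y, hy, a, ha, w, hw, by rw [e]; group⟩

theorem fpf_of_onto {G : Type u} [Group G] [Finite G] {Y Z : Subgroup G} [Z.Normal] {c : G}
    (hY : ∀ y ∈ Y, c * y * c⁻¹ ∈ Y)
    (h : ∀ y ∈ Y, ∃ y' ∈ Y, (y : G ⧸ Z) = (c * y' * c⁻¹ * y'⁻¹ : G)) : Fpf Y Z c := by
  let F : Y.map (QuotientGroup.mk' Z) → Y.map (QuotientGroup.mk' Z) := fun a =>
    ⟨(c : G ⧸ Z) * a * (c : G ⧸ Z)⁻¹ * (a : G ⧸ Z)⁻¹, by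
      obtain ⟨_, y, hy, rfl⟩ := a
      exact ⟨_, mul_mem (hY y hy) (inv_mem hy), rfl⟩⟩
  have s : Function.Surjective F := by
    rintro ⟨_, y, hy, rfl⟩
    obtain ⟨y', a, b⟩ := h y hy
    exact ⟨⟨_, y', a, rfl⟩, Subtype.ext b.symm⟩
  intro w hw e
  have : F ⟨_, w, hw, rfl⟩ = F 1 := Subtype.ext (by
    have := (QuotientGroup.eq_one_iff _).2 e
    simpa [F] using this)
  exact (QuotientGroup.eq_one_iff _).1 (congrArg Subtype.val (Finite.injective_iff_surjective.2 s this))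

theorem core {Γ : Type u} [Group Γ] {w u y c v : Γ} (hu : c * w * c⁻¹ = u * w) (h1 : Commute w v)
    (h2 : Commute u w) (h3 : Commute u (c * y * c⁻¹)) (h4 : Commute ⁅w, y⁆ y) (h5 : Commute ⁅w, y⁆ (c * y * c⁻¹)) :
    ⁅w, c * y * c⁻¹ * y⁻¹ * v⁆ = c * ⁅w, y⁆ * c⁻¹ * ⁅w, y⁆⁻¹ := by
  generalize hy' : c * y * c⁻¹ = y' at *
  have a : c * ⁅w, y⁆ * c⁻¹ = w * y' * w⁻¹ * y'⁻¹ := by
    calc c * ⁅w, y⁆ * c⁻¹ = (c * w * c⁻¹) * (c * y * c⁻¹) * (c * w * c⁻¹)⁻¹ * (c * y * c⁻¹)⁻¹ := by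
          rw [commutatorElement_def]; group
      _ = u * (w * y' * w⁻¹) * u⁻¹ * y'⁻¹ := by rw [hu, hy']; group
      _ = _ := by rw [((h2.mul_right h3).mul_right h2.inv_right).eq]; group
  rw [a]
  calc ⁅w, y' * y⁻¹ * v⁆ = w * y' * y⁻¹ * (v * w⁻¹) * v⁻¹ * y * y'⁻¹ := by rw [commutatorElement_def]; group
    _ = w * y' * w⁻¹ * (y⁻¹ * (⁅w, y⁆⁻¹ * y)) * y'⁻¹ := by
      rw [← h1.inv_left.eq, commutatorElement_def]; group
    _ = w * y' * w⁻¹ * (⁅w, y⁆⁻¹ * y'⁻¹) := by rw [h4.inv_left.eq]; group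
    _ = _ := by rw [h5.inv_inv.eq]; group

theorem cq {G : Type u} [Group G] {Z : Subgroup G} [Z.Normal] {a b : G} (h : ⁅a, b⁆ ∈ Z) :
    Commute (a : G ⧸ Z) (b : G ⧸ Z) :=
  commutatorElement_eq_one_iff_commute.1 ((QuotientGroup.eq_one_iff _).2 h)

theorem fp : H24.ND.FP.{u} := by
  intro G _ _ P H X p c _ h hX hV hc hn hC
  haveI := h.nP
  have hY : ⁅X, P⁆ ≤ P := commutator_le_right X P
  have k : ∀ y ∈ ⁅X, P⁆, ∀ g ∈ P, Commute (y : G ⧸ ⁅⁅X, P⁆, P⁆) (g : G ⧸ ⁅⁅X, P⁆, P⁆) := fun y hy g hg =>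
    cq (commutator_mem_commutator hy hg)
  have n : ∀ y ∈ ⁅X, P⁆, c * y * c⁻¹ ∈ ⁅X, P⁆ := fun y hy => Normal.conj_mem inferInstance y hy c
  let S : Subgroup G :=
    { carrier := {y | ∃ y' ∈ ⁅X, P⁆, (y : G ⧸ ⁅⁅X, P⁆, P⁆) = (c * y' * c⁻¹ * y'⁻¹ : G)}
      one_mem' := ⟨1, one_mem _, by simp⟩
      mul_mem' := by
        rintro a b ⟨a', ha, e⟩ ⟨b', hb, e'⟩
        refine ⟨a' * b', mul_mem ha hb, ?_⟩
        have := (k _ (mul_mem (n b' hb) (inv_mem hb)) _ (inv_mem (hY ha))).eq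
        rw [QuotientGroup.mk_mul, e, e']
        calc ((c * a' * c⁻¹ * a'⁻¹ : G) : G ⧸ ⁅⁅X, P⁆, P⁆) * (c * b' * c⁻¹ * b'⁻¹ : G)
            = (c * a' * c⁻¹ : G) * (((a'⁻¹ : G) : G ⧸ ⁅⁅X, P⁆, P⁆) * (c * b' * c⁻¹ * b'⁻¹ : G)) := by
              rw [QuotientGroup.mk_mul _ (c * a' * c⁻¹), mul_assoc]
          _ = _ := by
              rw [← this, ← QuotientGroup.mk_mul, ← QuotientGroup.mk_mul]
              congr 1; group
      inv_mem' := by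
        rintro a ⟨a', ha, e⟩
        refine ⟨a'⁻¹, inv_mem ha, ?_⟩
        have := (k _ (n _ (inv_mem ha)) _ (hY ha)).eq
        rw [QuotientGroup.mk_inv, e, inv_inv, QuotientGroup.mk_mul _ (c * a'⁻¹ * c⁻¹), this,
          ← QuotientGroup.mk_mul, ← QuotientGroup.mk_inv]
        congr 1; group }
  refine fpf_of_onto n fun y hy => (show ⁅X, P⁆ ≤ S from commutator_le.2 fun w hw g hg => ?_) hy
  obtain ⟨y, hy, v, hv, rfl⟩ := cs1 h hc hn hg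
  have m := commutator_mem_commutator hw hy
  have m' : c * y * c⁻¹ ∈ P := Normal.conj_mem inferInstance y hy c
  refine ⟨⁅w, y⁆, m, ?_⟩
  exact core (Γ := G ⧸ ⁅⁅X, P⁆, P⁆) (w := w) (u := (c * w * c⁻¹ * w⁻¹ : G)) (y := y) (c := c) (v := v)
    (by simp only [QuotientGroup.mk_mul, QuotientGroup.mk_inv]; group)
    (cq (hV (commutator_mem_commutator hw hv))) (k _ (hC w hw) _ (hX hw)) (k _ (hC w hw) _ m')
    (k _ m _ hy) (k _ m _ m')

theorem cc {Γ : Type u} [Group Γ] {a g h : Γ} (h1 : Commute ⁅a, g⁆ g) (h2 : Commute ⁅a, g⁆ h)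
    (h3 : Commute ⁅a, h⁆ g) (h4 : Commute ⁅a, h⁆ h) (h5 : Commute ⁅a, g⁆ ⁅a, h⁆) : Commute a ⁅g, h⁆ := by
  have e1 : a * g * a⁻¹ = ⁅a, g⁆ * g := by rw [commutatorElement_def]; group
  have e2 : a * h * a⁻¹ = ⁅a, h⁆ * h := by rw [commutatorElement_def]; group
  generalize ⁅a, g⁆ = z at *
  generalize ⁅a, h⁆ = t at *
  have : a * ⁅g, h⁆ * a⁻¹ = ⁅g, h⁆ := by
    calc a * ⁅g, h⁆ * a⁻¹ = (a * g * a⁻¹) * (a * h * a⁻¹) * (a * g * a⁻¹)⁻¹ * (a * h * a⁻¹)⁻¹ := by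
          rw [commutatorElement_def]; group
      _ = z * (g * (t * h) * g⁻¹) * z⁻¹ * (t * h)⁻¹ := by rw [e1, e2]; group
      _ = g * (t * h) * g⁻¹ * h⁻¹ * t⁻¹ := by
          rw [((h1.mul_right (h5.mul_right h2)).mul_right h1.inv_right).eq]; group
      _ = t * (g * h * g⁻¹ * h⁻¹) * t⁻¹ := by rw [← mul_assoc g t h, ← h3.eq]; group
      _ = _ := by
          rw [(((h3.mul_right h4).mul_right h3.inv_right).mul_right h4.inv_right).eq, commutatorElement_def]; group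
  exact mul_inv_eq_iff_eq_mul.1 this

theorem ji (ra : H24.ND.RA.{u}) : H24.ND.JI.{u} := by
  intro G _ _ P H X Y p _ _ h h1 h2 h3 h4 h5
  haveI := h.nP
  obtain ⟨c, hc, hn, hC⟩ := ra h h1 h2 h3
  have hX : X ≤ P := h2.trans (commutator_le_left P P)
  have k : ∀ y ∈ X, ∀ g ∈ P, Commute (y : G ⧸ Y) (g : G ⧸ Y) := fun y hy g hg =>
    cq (h3 (commutator_mem_commutator hy hg))
  refine commutator_le.2 fun a ha x hx => ?_
  have m : ∀ g ∈ P, ⁅a, g⁆ ∈ X := fun g hg => h4 (commutator_mem_commutator ha hg)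
  obtain ⟨y, hy, j, hj, w, hw, rfl⟩ := cs h hc hn x hx
  have e0 : ⁅(a : G ⧸ Y), (c : G ⧸ Y)⁆ = 1 :=
    commutatorElement_eq_one_iff_commute.2 (Commute.map (mem_centralizer_iff.1 ha.2 c hc).symm (QuotientGroup.mk' Y))
  have e1 : Commute (a : G ⧸ Y) ⁅(c : G ⧸ Y), (y : G ⧸ Y)⁆ := by
    refine cc ?_ ?_ ?_ (k _ (m y hy) _ hy) ?_
    · rw [e0]; exact Commute.one_left _
    · rw [e0]; exact Commute.one_left _
    · exact (cq (hC _ (m y hy))).symm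
    · rw [e0]; exact Commute.one_left _
  have e2 : Commute (a : G ⧸ Y) (j : G ⧸ Y) :=
    cq (h5 ⟨m j hj.1, C(H).mul_mem (C(H).mul_mem (C(H).mul_mem ha.2 hj.2) (C(H).inv_mem ha.2)) (C(H).inv_mem hj.2)⟩)
  have e3 : Commute (a : G ⧸ Y) (w : G ⧸ Y) := by
    have : g2 P ≤ (centralizer {(a : G ⧸ Y)}).comap (QuotientGroup.mk' Y) :=
      commutator_le.2 fun g hg g' hg' => mem_centralizer_singleton_iff.2
        (cc (Γ := G ⧸ Y) (a := a) (g := g) (h := g') (k _ (m g hg) _ hg) (k _ (m g hg) _ hg') (k _ (m g' hg') _ hg) (k _ (m g' hg') _ hg')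
          (k _ (m g hg) _ (hX (m g' hg')))).symm.eq
    exact (mem_centralizer_singleton_iff.1 (this hw)).symm
  exact (QuotientGroup.eq_one_iff _).1 (commutatorElement_eq_one_iff_commute.2 ((e1.mul_right e2).mul_right e3))

end H15.ND
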