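import Cfsg.Agent.H15.R3e
import Cfsg.Agent.H15.M.L25

/-! Generated by tools/h16 (computation kit). -/

set_option maxRecDepth 100000
set_option maxHeartbeats 0

namespace H15.OL25

open H16
open scoped Pointwise
noncomputable def V : List ℕ := [nat_lit 0, nat_lit 2, nat_lit 5]
noncomputable def W : List ℕ := [nat_lit 2, nat_lit 5]
noncomputable def Fv0d : ℕ := nat_lit 0x317536abb3dd264ef1952d26bdd56643d
noncomputable def Fv0 (u : ℕ) : ℕ := Nat.land (Nat.shiftRight Fv0d (Nat.mul u (nat_lit 5))) (nat_lit 31)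
noncomputable def lv0 : Lv := ⟨(nat_lit 0), (nat_lit 1), (nat_lit 26), (nat_lit 6), [[nat_lit 0],
  [nat_lit 1],
  [nat_lit 2],
  [nat_lit 3],
  [nat_lit 4],
  [nat_lit 5]], Fv0, (nat_lit 5)⟩
noncomputable def Fv1d : ℕ := nat_lit 0x1697216131d096286462dae541ce3a80e
noncomputable def Fv1 (u : ℕ) : ℕ := Nat.land (Nat.shiftRight Fv1d (Nat.mul u (nat_lit 5))) (nat_lit 31)
noncomputable def lv1 : Lv := ⟨(nat_lit 1), (nat_lit 20), (nat_lit 25), (nat_lit 3), [[nat_lit 1, nat_lit 1],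
  [nat_lit 1, nat_lit 2],
  [nat_lit 5, nat_lit 4, nat_lit 1, nat_lit 2, nat_lit 5]], Fv1, (nat_lit 6)⟩
noncomputable def Fv2d : ℕ := nat_lit 0x164539002a4c638c2e3b94e425ab8ac0b
noncomputable def Fv2 (u : ℕ) : ℕ := Nat.land (Nat.shiftRight Fv2d (Nat.mul u (nat_lit 5))) (nat_lit 31)
noncomputable def lv2 : Lv := ⟨(nat_lit 2), (nat_lit 13), (nat_lit 24), (nat_lit 3), [[nat_lit 4, nat_lit 2, nat_lit 5, nat_lit 3, nat_lit 4, nat_lit 2],
  [nat_lit 4, nat_lit 0, nat_lit 4, nat_lit 1, nat_lit 5, nat_lit 4],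
  [nat_lit 5, nat_lit 3, nat_lit 0, nat_lit 4, nat_lit 5, nat_lit 1, nat_lit 2]], Fv2, (nat_lit 6)⟩
noncomputable def lvx3 : Lv := ⟨(nat_lit 3), (nat_lit 14), (nat_lit 1), (nat_lit 1), [], fun _ => (nat_lit 0), (nat_lit 1)⟩
noncomputable def LLv : List Lv := [lv0, lv1, lv2, lvx3]
noncomputable def Accv : List (List ℕ) := [[]]
noncomputable def Apv : List ℕ := [nat_lit 1]
noncomputable def Fw0d : ℕ := nat_lit 0x2b13a24cab94c4b96f335d06b5ec0de11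
noncomputable def Fw0 (u : ℕ) : ℕ := Nat.land (Nat.shiftRight Fw0d (Nat.mul u (nat_lit 5))) (nat_lit 31)
noncomputable def lw0 : Lv := ⟨(nat_lit 0), (nat_lit 3), (nat_lit 26), (nat_lit 6), [[nat_lit 0],
  [nat_lit 1],
  [nat_lit 2],
  [nat_lit 3],
  [nat_lit 4],
  [nat_lit 5]], Fw0, (nat_lit 4)⟩
noncomputable def Fw1d : ℕ := nat_lit 0x76b5aa4e1b3d689eb9cdc70b68
noncomputable def Fw1 (u : ℕ) : ℕ := Nat.land (Nat.shiftRight Fw1d (Nat.mul u (nat_lit 4))) (nat_lit 15)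
noncomputable def lw1 : Lv := ⟨(nat_lit 1), (nat_lit 17), (nat_lit 25), (nat_lit 3), [[nat_lit 1, nat_lit 2, nat_lit 5, nat_lit 1],
  [nat_lit 0, nat_lit 2, nat_lit 0, nat_lit 4, nat_lit 2],
  [nat_lit 0, nat_lit 5, nat_lit 3, nat_lit 4, nat_lit 0]], Fw1, (nat_lit 5)⟩
noncomputable def Fw2d : ℕ := nat_lit 0x231bc5ac9440c329013d26f5baf1036a9
noncomputable def Fw2 (u : ℕ) : ℕ := Nat.land (Nat.shiftRight Fw2d (Nat.mul u (nat_lit 5))) (nat_lit 31)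
noncomputable def lw2 : Lv := ⟨(nat_lit 2), (nat_lit 12), (nat_lit 24), (nat_lit 6), [[nat_lit 3, nat_lit 5, nat_lit 1, nat_lit 1, nat_lit 4],
  [nat_lit 4, nat_lit 3, nat_lit 5, nat_lit 1, nat_lit 1],
  [nat_lit 0, nat_lit 0, nat_lit 5, nat_lit 2, nat_lit 4],
  [nat_lit 4, nat_lit 0, nat_lit 0, nat_lit 5, nat_lit 2],
  [nat_lit 0, nat_lit 4, nat_lit 2, nat_lit 5, nat_lit 0, nat_lit 2],
  [nat_lit 3, nat_lit 4, nat_lit 5, nat_lit 1, nat_lit 5, nat_lit 3]], Fw2, (nat_lit 4)⟩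
noncomputable def lwx3 : Lv := ⟨(nat_lit 3), (nat_lit 9), (nat_lit 1), (nat_lit 1), [], fun _ => (nat_lit 0), (nat_lit 1)⟩
noncomputable def LLw : List Lv := [lw0, lw1, lw2, lwx3]
noncomputable def Accw : List (List ℕ) := [[],
  [nat_lit 0, nat_lit 4, nat_lit 2, nat_lit 0, nat_lit 3, nat_lit 4, nat_lit 5, nat_lit 2, nat_lit 0],
  [nat_lit 4, nat_lit 1, nat_lit 5, nat_lit 3, nat_lit 4, nat_lit 3, nat_lit 5]]
noncomputable def Apw : List ℕ := [nat_lit 3, nat_lit 4, nat_lit 0]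
noncomputable def D : OD := ⟨13, 5, 10, 3, 4, [1, 2, 4], V, [nat_lit 2, nat_lit 4, nat_lit 1, nat_lit 5], [nat_lit 5, nat_lit 4, nat_lit 2, nat_lit 4, nat_lit 5, nat_lit 0, nat_lit 4], W, [nat_lit 1, nat_lit 4, nat_lit 2, nat_lit 5, nat_lit 0, nat_lit 5], Accw,
  [([nat_lit 2, nat_lit 1, nat_lit 1, nat_lit 2], (nat_lit 1)), ([nat_lit 2, nat_lit 0, nat_lit 0, nat_lit 0, nat_lit 2, nat_lit 0], (nat_lit 3)), ([nat_lit 0, nat_lit 2], (nat_lit 12))], (nat_lit 0)⟩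

theorem ov0_0 : Nat.beq (loop2 (lv0.scan H15.XL25.P) (nat_lit 0) (nat_lit 26)) (nat_lit 26) = true := by decide +kernel
theorem ov1_0 : Nat.beq (loop2 (lv1.scan H15.XL25.P) (nat_lit 0) (nat_lit 26)) (nat_lit 25) = true := by decide +kernel
theorem ov2_0 : Nat.beq (loop2 (lv2.scan H15.XL25.P) (nat_lit 0) (nat_lit 26)) (nat_lit 24) = true := by decide +kernel
theorem lcv : lowChk H15.XL25.P 26 6 LLv [] = 0 ∧ prodN LLv = 15600 ∧ 0 < 15600 := by decide +kernel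
theorem ccv : cenChk H15.XL25.P 26 6 H15.XL25.B V V (nat_lit 1) LLv Accv Apv = true := by decide +kernel
theorem cev_0 : allZ (cenEnt H15.XL25.P V LLv Apv (nat_lit 12)) (nat_lit 0) (nat_lit 26) = true := by decide +kernel
theorem ow0_0 : Nat.beq (loop2 (lw0.scan H15.XL25.P) (nat_lit 0) (nat_lit 26)) (nat_lit 26) = true := by decide +kernel
theorem ow1_0 : Nat.beq (loop2 (lw1.scan H15.XL25.P) (nat_lit 0) (nat_lit 26)) (nat_lit 25) = true := by decide +kernel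
theorem ow2_0 : Nat.beq (loop2 (lw2.scan H15.XL25.P) (nat_lit 0) (nat_lit 26)) (nat_lit 24) = true := by decide +kernel
theorem lcw : lowChk H15.XL25.P 26 6 LLw [] = 0 ∧ prodN LLw = 15600 ∧ 0 < 15600 := by decide +kernel
theorem ccw : cenChk H15.XL25.P 26 6 H15.XL25.B W W (nat_lit 3) LLw Accw Apw = true := by decide +kernel
theorem cew_0 : allZ (cenEnt H15.XL25.P W LLw Apw (nat_lit 3)) (nat_lit 0) (nat_lit 26) = true := by decide +kernel
theorem dc : D.chk H15.XL25.P 26 6 H15.XL25.B = true := by decide +kernel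
theorem fl_0 : allZ (D.fail H15.XL25.P [0, 2]) (nat_lit 0) (nat_lit 36) = true := by decide +kernel
theorem gc : slpX H15.XL25.P 6 H15.XL25.B 6 0 3 [D.X, D.W, D.S, [nat_lit 4, nat_lit 1, nat_lit 5, nat_lit 4, nat_lit 3, nat_lit 4, nat_lit 5], [nat_lit 5, nat_lit 3], [nat_lit 5, nat_lit 1, nat_lit 5, nat_lit 3, nat_lit 4, nat_lit 0]]
  [((nat_lit 9), [nat_lit 6]),
  ((nat_lit 10), [nat_lit 7]),
  ((nat_lit 11), [nat_lit 8]),
  ((nat_lit 0), [nat_lit 7, nat_lit 9, nat_lit 8, nat_lit 9, nat_lit 11, nat_lit 9, nat_lit 9]),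
  ((nat_lit 1), [nat_lit 6, nat_lit 6, nat_lit 8, nat_lit 6, nat_lit 11, nat_lit 6, nat_lit 10]),
  ((nat_lit 2), [nat_lit 6, nat_lit 7, nat_lit 9, nat_lit 11, nat_lit 9, nat_lit 11, nat_lit 10, nat_lit 9, nat_lit 10, nat_lit 9]),
  ((nat_lit 3), [nat_lit 6, nat_lit 7, nat_lit 6, nat_lit 7, nat_lit 8, nat_lit 6, nat_lit 8, nat_lit 6, nat_lit 10, nat_lit 9]),
  ((nat_lit 4), [nat_lit 9, nat_lit 11, nat_lit 9, nat_lit 9, nat_lit 11, nat_lit 7, nat_lit 6, nat_lit 8]),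
  ((nat_lit 5), [nat_lit 6, nat_lit 7, nat_lit 9, nat_lit 8, nat_lit 6, nat_lit 8, nat_lit 6, nat_lit 10, nat_lit 9])] = true := by decide +kernel

theorem ov0 : lv0.Orb H15.XL25.g (ptF 26) 26 := Lv.orb_scan H15.XL25.act (by decide +kernel) (sum_first ov0_0)
theorem ov1 : lv1.Orb H15.XL25.g (ptF 26) 26 := Lv.orb_scan H15.XL25.act (by decide +kernel) (sum_first ov1_0)
theorem ov2 : lv2.Orb H15.XL25.g (ptF 26) 26 := Lv.orb_scan H15.XL25.act (by decide +kernel) (sum_first ov2_0)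
theorem ovx3 : lvx3.Orb H15.XL25.g (ptF 26) 26 := Lv.orb_lst (S := [14]) H15.XL25.act (by decide +kernel)
theorem exv : ExC H15.XL25.g (ptF 26) 26 6 LLv (gen H15.XL25.g 6) := exC_of H15.XL25.act (ptF_inj 26) H15.XL25.card (all_cons ov0 (all_cons ov1 (all_cons ov2 (all_cons ovx3 all_nil)))) lcv
theorem cev : ∀ i < 26, (cenEnt H15.XL25.P V LLv Apv (nat_lit 12)) i = 0 := allZ_sound0 cev_0
theorem cenv {a} (hg : a ∈ gen H15.XL25.g 6) (h : a * evA H15.XL25.g V = evA H15.XL25.g V * a) :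
    ∃ j : ℤ, ∃ E ∈ Accv, a = evA H15.XL25.g V ^ j * evA H15.XL25.g E :=
  cen_sound H15.XL25.act H15.XL25.Blt H15.XL25.isBase exv ccv cev hg h
theorem ow0 : lw0.Orb H15.XL25.g (ptF 26) 26 := Lv.orb_scan H15.XL25.act (by decide +kernel) (sum_first ow0_0)
theorem ow1 : lw1.Orb H15.XL25.g (ptF 26) 26 := Lv.orb_scan H15.XL25.act (by decide +kernel) (sum_first ow1_0)
theorem ow2 : lw2.Orb H15.XL25.g (ptF 26) 26 := Lv.orb_scan H15.XL25.act (by decide +kernel) (sum_first ow2_0)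
theorem owx3 : lwx3.Orb H15.XL25.g (ptF 26) 26 := Lv.orb_lst (S := [9]) H15.XL25.act (by decide +kernel)
theorem exw : ExC H15.XL25.g (ptF 26) 26 6 LLw (gen H15.XL25.g 6) := exC_of H15.XL25.act (ptF_inj 26) H15.XL25.card (all_cons ow0 (all_cons ow1 (all_cons ow2 (all_cons owx3 all_nil)))) lcw
theorem cew : ∀ i < 26, (cenEnt H15.XL25.P W LLw Apw (nat_lit 3)) i = 0 := allZ_sound0 cew_0
theorem cenw {a} (hg : a ∈ gen H15.XL25.g 6) (h : a * evA H15.XL25.g W = evA H15.XL25.g W * a) :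
    ∃ j : ℤ, ∃ E ∈ Accw, a = evA H15.XL25.g W ^ j * evA H15.XL25.g E :=
  cen_sound H15.XL25.act H15.XL25.Blt H15.XL25.isBase exw ccw cew hg h
theorem ar : D.ar 15600 :=
  ⟨by norm_num [D], by decide +kernel, by decide +kernel, by decide +kernel, by decide +kernel, by decide +kernel, by decide +kernel⟩
theorem fl : ∀ i < 36, (D.fail H15.XL25.P [0, 2]) i = 0 := allZ_sound0 fl_0
theorem hg (A) (h : ∀ i < 3, evA H15.XL25.g (nth [] [D.X, D.W, D.S] i) ∈ A) : gen H15.XL25.g 6 ≤ A :=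
  slpX_sound H15.XL25.act H15.XL25.Blt H15.XL25.isBase gc le_rfl (Nat.zero_le _) (by rw [gen_zero]; exact bot_le) fun i hi => by
    obtain rfl | rfl | rfl : i = 0 ∨ i = 1 ∨ i = 2 := by omega
    exacts [h 0 hi, h 1 hi, h 2 hi]
theorem out : Nat.card (Cfsg.Out (gen H15.XL25.g 6)) ≤ 2 :=
  H15.R3.od_le D H15.XL25.act (ptF_inj 26) H15.XL25.Blt H15.XL25.isBase H15.XL25.card (by decide) dc ar cenv cenw fl hg

end H15.OL25
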