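/-
`SU₅(q)` for the antidiagonal form: the Sylow `p`-subgroup and its normalizer.
-/
import Cfsg.Agent.H8.PU2

set_option autoImplicit false
set_option linter.unusedSectionVars false

namespace H15.PU
open Subgroup H25 H8.PU H8.PU.Cd Matrix
universe v
variable {K : Type v} [Field K] {σ : K →+* K} [IV σ]

abbrev M5 (K : Type v) := Matrix (Fin 5) (Fin 5) K
abbrev S5 (K : Type v) [Field K] := SpecialLinearGroup (Fin 5) K
def vl (M : S5 K) : M5 K := M.1
theorem vl_inj {M N : S5 K} (h : vl M = vl N) : M = N := Subtype.ext h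
theorem vl_mul (M N : S5 K) : vl (M * N) = vl M * vl N := rfl
theorem vl_one : vl (1 : S5 K) = 1 := rfl
theorem vl_det (M : S5 K) : (vl M).det = 1 := M.2
/-- the matrix of an element of `Cd σ` -/
def um (c : Cd σ) : M5 K := !![1, c.a, c.b, c.c, c.d; 0, 1, c.x, c.y, -σ c.c - c.x * σ c.b - c.y * σ c.a;
  0, 0, 1, -σ c.x, -σ c.b + σ c.x * σ c.a; 0, 0, 0, 1, -σ c.a; 0, 0, 0, 0, 1]
theorem det_ut {M : M5 K} (h : ∀ i j, j < i → M i j = 0) : M.det = M 0 0 * M 1 1 * M 2 2 * M 3 3 * M 4 4 := by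
  rw [det_of_upperTriangular (fun i j k => h i j k), Fin.prod_univ_five]
theorem um_ut (c : Cd σ) : ∀ i j, j < i → um c i j = 0 := by
  intro i j h; fin_cases i <;> fin_cases j <;> first | rfl | exact absurd h (by decide)
theorem um_mul (c c' : Cd σ) : um (c * c') = um c * um c' := by
  ext i j; fin_cases i <;> fin_cases j <;> simp [um, mul_apply, Fin.sum_univ_five, ss, c'.sy] <;> ring
def uc : Cd σ →* S5 K := MonoidHom.mk' (fun c => ⟨um c, by rw [det_ut (um_ut c)]; simp [um]⟩) fun c c' => vl_inj (um_mul c c')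
theorem vl_uc (c : Cd σ) : vl (uc c) = um c := rfl
theorem uc_inj : Function.Injective (uc (σ := σ)) := fun c c' e => by
  have k := fun i j => congrFun (congrFun (congrArg vl e) i) j
  exact Cd.ext (k 0 1) (k 0 2) (k 0 3) (k 0 4) (k 1 2) (k 1 3)
variable (σ) in
/-- the antidiagonal hermitian form -/
def hJ (u v : Fin 5 → K) : K := u 0 * σ (v 4) + u 1 * σ (v 3) + u 2 * σ (v 2) + u 3 * σ (v 1) + u 4 * σ (v 0)
variable (σ) in
def UJ : Subgroup (S5 K) := Cfsg.preserving (Cfsg.slToMat 5 K) (hJ σ)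
theorem mUJ {M : S5 K} : M ∈ UJ σ ↔ ∀ u v, hJ σ (vl M *ᵥ u) (vl M *ᵥ v) = hJ σ u v := Iff.rfl
theorem uc_mem (c : Cd σ) : uc c ∈ UJ σ := mUJ.2 fun u v => by
  simp [vl_uc, hJ, um, mulVec, dotProduct, Fin.sum_univ_five, ss, c.sy, c.sd]; ring
theorem col {M : S5 K} (h : M ∈ UJ σ) (i j : Fin 5) : hJ σ (fun k => vl M k i) (fun k => vl M k j) =
    hJ σ (Pi.single i 1) (Pi.single j 1) := by
  have := mUJ.1 h (Pi.single i 1) (Pi.single j 1)
  rwa [mulVec_single_one, mulVec_single_one] at this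

/-- upper unitriangular unitary matrices -/
theorem ex_uc {M : S5 K} (h : M ∈ UJ σ) (t : ∀ i j, j < i → vl M i j = 0) (d : ∀ i, vl M i i = 1) : ∃ c : Cd σ, M = uc c := by
  have e14 := col h 1 4
  have e13 := col h 2 3
  have e24 := col h 2 4
  have e33 := col h 3 3
  have e34 := col h 3 4
  have e44 := col h 4 4
  simp [hJ, t, d] at e14 e13 e24 e33 e34 e44
  have sg : ∀ {a b : K}, a + σ b = 0 → b = -σ a := fun {a b} e => by
    have := congrArg σ e
    rw [map_add, ss, map_zero] at this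
    linear_combination this
  have f34 := sg e14
  have f23 := sg e13
  have f24 := sg e24
  have f14 := sg e34
  simp only [f34, f23, map_add, map_mul, map_neg, ss] at f24 e33
  simp only [f34, f23, f24, map_add, map_mul, map_neg, ss] at f14
  have sy : σ (vl M 1 3) = -vl M 1 3 - vl M 1 2 * σ (vl M 1 2) := by linear_combination e33
  rw [sy] at f14
  refine ⟨⟨vl M 0 1, vl M 0 2, vl M 0 3, vl M 0 4, vl M 1 2, vl M 1 3, ?_, sy⟩, vl_inj ?_⟩
  · simp only [f34, f24, f14, sy, map_add, map_sub, map_mul, map_neg, ss] at e44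
    linear_combination e44
  · ext i j
    fin_cases i <;> fin_cases j <;> simp [vl_uc, um, t, d, f34, f23, f24, f14] <;> ring

/-- diagonal matrices -/
def dg (t : Fin 5 → K) (h : ∏ i, t i = 1) : S5 K := ⟨diagonal t, by rwa [det_diagonal]⟩
theorem vl_dg (t : Fin 5 → K) (h : ∏ i, t i = 1) : vl (dg t h) = diagonal t := rfl
theorem dg_pow (t : Fin 5 → K) (h : ∏ i, t i = 1) (n : ℕ) : vl (dg t h ^ n) = diagonal (t ^ n) := by
  rw [← diagonal_pow]; exact Matrix.SpecialLinearGroup.coe_pow (dg t h) n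

/-- the normalizer of the Sylow subgroup is the Borel subgroup -/
theorem tri {M : S5 K} (h : M ∈ UJ σ) (n : M ∈ nz (uc (σ := σ)).range) : ∃ (c : Cd σ) (t : Fin 5 → K) (h : ∏ i, t i = 1),
    t 0 * σ (t 4) = 1 ∧ t 1 * σ (t 3) = 1 ∧ t 2 * σ (t 2) = 1 ∧ M = uc c * dg t h := by
  have k : ∀ c : Cd σ, ∃ c' : Cd σ, ∀ i j, (um c * vl M) i j = (vl M * um c') i j := fun c => by
    obtain ⟨c', e⟩ := conj_mem_of_mem_nz' n ⟨c, rfl⟩
    refine ⟨c', fun i j => congrFun (congrFun (congrArg vl (?_ : uc c * M = M * uc c')) i) j⟩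
    rw [e]; group
  obtain ⟨c, e⟩ := k (xa 1)
  obtain ⟨c', e'⟩ := k (xx 1)
  have t : ∀ i j, j < i → vl M i j = 0 := by
    have a40 := e 3 0
    have a10 := e 0 0
    have a30 := e' 2 0
    have a20 := e' 1 0
    simp [um, mul_apply, Fin.sum_univ_five] at a40 a10 a30
    simp [um, mul_apply, Fin.sum_univ_five, a30] at a20
    have a41 := e 3 1
    have a31 := e' 2 1
    have a21 := e' 1 1
    simp [um, mul_apply, Fin.sum_univ_five, a30, a20] at a41 a31
    simp [um, mul_apply, Fin.sum_univ_five, a10, a31] at a21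
    have a42 := e 3 2
    have a32 := e' 2 2
    simp [um, mul_apply, Fin.sum_univ_five, a30, a20, a21, a31] at a42 a32
    have a43 := e 3 3
    simp [um, mul_apply, Fin.sum_univ_five, a30, a31, a32] at a43
    intro i j h; fin_cases i <;> fin_cases j <;> first | assumption | exact absurd h (by decide)
  have d := vl_det M
  rw [det_ut t] at d
  have e0 := col h 0 4
  have e1 := col h 1 3
  have e2 := col h 2 2
  simp [hJ, t] at e0 e1 e2
  have s0 := congrArg σ e0
  have s1 := congrArg σ e1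
  rw [map_mul, ss, map_one] at s0 s1
  have h' : ∏ i, vl M i i = 1 := by rwa [Fin.prod_univ_five]
  have n0 : ∀ i, vl M i i ≠ 0 := fun i e => zero_ne_one ((Finset.prod_eq_zero (f := fun i => vl M i i) (Finset.mem_univ i) e).symm.trans h')
  have m : dg _ h' ∈ UJ σ := mUJ.2 fun u v => by
    simp only [hJ, vl_dg, mulVec_diagonal, map_mul]
    linear_combination u 0 * σ (v 4) * e0 + u 1 * σ (v 3) * e1 + u 2 * σ (v 2) * e2 + u 3 * σ (v 1) * s1 + u 4 * σ (v 0) * s0
  have r : ∀ i j, vl (M * (dg _ h')⁻¹) i j * vl M j j = vl M i j := fun i j => by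
    have := congrFun (congrFun (congrArg vl (inv_mul_cancel_right M (dg _ h'))) i) j
    rwa [vl_mul, vl_dg, mul_diagonal] at this
  obtain ⟨c, e⟩ := ex_uc (mul_mem h (inv_mem m)) (fun i j l => (mul_eq_zero.1 ((r i j).trans (t i j l))).resolve_right (n0 j))
    fun i => mul_right_cancel₀ (n0 i) ((r i i).trans (one_mul _).symm)
  exact ⟨c, _, h', e0, e1, e2, by rw [← e, inv_mul_cancel_right]⟩

theorem pw_mem {G : Type*} [Group G] {S : Subgroup G} {s τ : G} (hs : s ∈ S) (hτ : τ ∈ nz S) (n : ℕ) :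
    (s * τ) ^ n * (τ ^ n)⁻¹ ∈ S := by
  induction n with
  | zero => simp
  | succ n ih =>
    have := mul_mem ih (conj_mem_of_mem_nz (pow_mem hτ n) hs)
    convert this using 1
    simp only [pow_succ]; group

variable [Finite K] {p : ℕ} [hp : Fact p.Prime] [CharP K p]
theorem pg_cd : IsPGroup p (Cd σ) := fun c => by
  have h : Co (⊤ : Subgroup (Cd σ)) (MonoidHom.id _) := ⟨fun _ _ e => e, fun w => ⟨fun _ => ⟨w, rfl⟩, fun _ => trivial⟩⟩
  have h1 := h.pw3 (p := p) (h.pwS (p := p) (mem_top c))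
  have h2 := h.pwA (p := p) ((by sl h : (Z σ).map (MonoidHom.id _) ≤ (A0 σ).map (MonoidHom.id _)) h1)
  exact ⟨3, by rw [← h2, ← pow_mul, ← pow_mul]; ring_nf⟩
theorem pg_uc : IsPGroup p (uc (σ := σ)).range := pg_cd.of_surjective _ (uc (σ := σ)).rangeRestrict_surjective
theorem sylJ : Syl p (uc (σ := σ)).range (UJ σ) := by
  refine syl_of_maximal pg_uc (by rintro _ ⟨c, rfl⟩; exact uc_mem c) fun Y h1 h2 h3 => ?_
  by_contra h4
  have : Group.IsNilpotent Y := h3.isNilpotent
  obtain ⟨g, g1, g2⟩ := SetLike.exists_of_lt (normalizerCondition_of_isNilpotent ((uc (σ := σ)).range.subgroupOf Y)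
    (lt_top_iff_ne_top.2 fun e => h4 (subgroupOf_eq_top.1 e)))
  have n : (g : S5 K) ∈ nz (uc (σ := σ)).range := mem_nz_of_conj_mem fun x hx =>
    (mem_normalizer_iff.1 g1 ⟨x, h1 hx⟩).1 hx
  obtain ⟨c, t, h, -, -, -, e⟩ := tri (h2 g.2) n
  obtain ⟨k, hk⟩ := h3 g
  have n' : dg t h ∈ nz (uc (σ := σ)).range := by
    simpa [e] using mul_mem (inv_mem (le_nz_self _ (⟨c, rfl⟩ : uc c ∈ (uc (σ := σ)).range))) n
  have m := pw_mem (⟨c, rfl⟩ : uc c ∈ (uc (σ := σ)).range) n' (p ^ k)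
  rw [← e, ← coe_pow, hk, coe_one, one_mul, inv_mem_iff] at m
  obtain ⟨c', e'⟩ := m
  have t1 : ∀ i, t i = 1 := fun i => by
    have := congrFun (congrFun (congrArg vl e') i) i
    rw [dg_pow, diagonal_apply_eq, Pi.pow_apply, vl_uc] at this
    have u : um c' i i = 1 := by fin_cases i <;> rfl
    have f := sub_pow_char_pow (t i) 1 (p := p) (n := k)
    rw [← this, u, one_pow, sub_self] at f
    exact sub_eq_zero.1 (pow_eq_zero_iff (pow_pos hp.out.pos k).ne' |>.1 f)
  refine g2 (mem_subgroupOf.2 ⟨c, ?_⟩)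
  rw [e, show dg t h = 1 from vl_inj (by rw [vl_dg, vl_one, funext t1]; exact diagonal_one), mul_one]

end H15.PU
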