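/-
The model for the fusion systems on a Sylow `p`-subgroup of `PSU₅(q)`.
-/
import Cfsg.Agent.H15.PU1

set_option autoImplicit false
set_option linter.unusedSectionVars false

namespace H15.PU
open Subgroup H25 H8.PU H8.PU.Cd Matrix
universe v
variable {K : Type v} [Field K] {σ : K →+* K} [IV σ]

abbrev P5 (K : Type v) := Equiv.Perm (Fin 5 → K)
def mp : S5 K →* P5 K := MonoidHom.mk' (fun M => ⟨(vl M *ᵥ ·), (vl M⁻¹ *ᵥ ·),
  fun v => by simp only [mulVec_mulVec, ← vl_mul, inv_mul_cancel, vl_one, one_mulVec],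
  fun v => by simp only [mulVec_mulVec, ← vl_mul, mul_inv_cancel, vl_one, one_mulVec]⟩)
  fun M N => Equiv.ext fun v => (mulVec_mulVec v (vl M) (vl N)).symm
theorem mp_ap (M : S5 K) (v : Fin 5 → K) : mp M v = vl M *ᵥ v := rfl
theorem mp_inj : Function.Injective (mp (K := K)) := fun M N e => vl_inj (by
  ext i j
  have := congrFun (Equiv.congr_fun e (Pi.single j 1)) i
  rwa [mp_ap, mp_ap, mulVec_single_one, mulVec_single_one] at this)
variable (σ) in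
def ev : Cd σ →* P5 K := mp.comp uc
/-- semilinear diagonal maps -/
def Dk (k : P5 K) (d : Fin 5 → K) (φ : K ≃+* K) : Prop := ∀ v i, k v i = d i * φ (v i)
variable {k : P5 K} {d : Fin 5 → K} {φ : K ≃+* K} {r t : K}
theorem Dk.cj (h : Dk k d φ) {M N : S5 K} (e : ∀ i j, vl N i j * d j = d i * φ (vl M i j)) : k * mp M * k⁻¹ = mp N := by
  refine mul_inv_eq_iff_eq_mul.2 (Equiv.ext fun v => funext fun i => ?_)
  rw [Equiv.Perm.mul_apply, h]
  simp only [Equiv.Perm.mul_apply, h v, mp_ap, mulVec, dotProduct, map_sum, map_mul, Finset.mul_sum, ← mul_assoc, e]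
theorem Dk.wt (h : Dk k d φ) (r0 : r ≠ 0) (t0 : t ≠ 0) (e0 : d 0 = r * d 1) (e1 : d 1 = t * d 2) (e2 : d 2 = σ t * d 3)
    (e3 : d 3 = σ r * d 4) : Wt (ev σ) k r t φ := ⟨r0, t0, fun c => h.cj fun i j => by
  rw [e3] at e2; rw [e2] at e1; rw [e1] at e0
  fin_cases i <;> fin_cases j <;> simp [vl_uc, um, e0, e1, e2, e3, ss, IV.cm] <;> ring⟩
variable (σ) in
def dv (r t : K) : Fin 5 → K := ![r * t, t, 1, (σ t)⁻¹, (σ r * σ t)⁻¹]
theorem dv_ne (r0 : r ≠ 0) (t0 : t ≠ 0) (i : Fin 5) : dv σ r t i ≠ 0 := by fin_cases i <;> simp [dv, r0, t0]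
theorem Dk.wt' (h : Dk k (dv σ r t) φ) (r0 : r ≠ 0) (t0 : t ≠ 0) : Wt (ev σ) k r t φ := by
  have := sn (σ := σ) r0
  have := sn (σ := σ) t0
  refine h.wt r0 t0 ?_ ?_ ?_ ?_ <;> simp [dv] <;> field_simp
variable (σ) in
def C0 : Subgroup (P5 K) where
  carrier := {k | ∃ r t φ, r ≠ 0 ∧ t ≠ 0 ∧ Dk k (dv σ r t) φ}
  one_mem' := ⟨1, 1, .refl K, one_ne_zero, one_ne_zero, fun v i => by fin_cases i <;> simp [dv]⟩
  mul_mem' := by
    rintro k k' ⟨r, t, φ, r0, t0, h⟩ ⟨r', t', φ', r0', t0', h'⟩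
    refine ⟨r * φ r', t * φ t', φ'.trans φ, by simp [r0, r0'], by simp [t0, t0'], fun v i => ?_⟩
    rw [Equiv.Perm.mul_apply, h, h']
    fin_cases i <;> simp [dv, IV.cm] <;> ring
  inv_mem' := by
    rintro k ⟨r, t, φ, r0, t0, h⟩
    refine ⟨φ.symm r⁻¹, φ.symm t⁻¹, φ.symm, by simp [r0], by simp [t0], fun v i => ?_⟩
    obtain ⟨w, rfl⟩ := k.surjective v
    rw [Equiv.Perm.coe_inv, k.symm_apply_apply, h, ← φ.injective.eq_iff]
    have := sn (σ := σ) r0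
    have := sn (σ := σ) t0
    fin_cases i <;> simp [dv, ← IV.cm] <;> field_simp
theorem Dk.fm (h : Dk k (dv σ r t) φ) (r0 : r ≠ 0) (t0 : t ≠ 0) (u v : Fin 5 → K) : hJ σ (k u) (k v) = φ (hJ σ u v) := by
  have := sn (σ := σ) r0
  have := sn (σ := σ) t0
  simp [hJ, h u, h v, dv, ss, IV.cm]
  field_simp
def w1 : S5 K := ⟨!![1, 0, 0, 0, 0; 0, 0, 0, 1, 0; 0, 0, -1, 0, 0; 0, 1, 0, 0, 0; 0, 0, 0, 0, 1], by
  simp [det_succ_row_zero, Fin.sum_univ_succ, Fin.succAbove]⟩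
def w2 : S5 K := ⟨!![0, 1, 0, 0, 0; 1, 0, 0, 0, 0; 0, 0, 1, 0, 0; 0, 0, 0, 0, 1; 0, 0, 0, 1, 0], by
  simp [det_succ_row_zero, Fin.sum_univ_succ, Fin.succAbove]⟩
theorem w1_sq : (w1 : S5 K) * w1 = 1 := vl_inj (by
  rw [vl_mul, vl_one]; ext i j; fin_cases i <;> fin_cases j <;> simp [vl, w1, mul_apply, Fin.sum_univ_five])
theorem w2_sq : (w2 : S5 K) * w2 = 1 := vl_inj (by
  rw [vl_mul, vl_one]; ext i j; fin_cases i <;> fin_cases j <;> simp [vl, w2, mul_apply, Fin.sum_univ_five])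
theorem w1_mem : w1 ∈ UJ σ := mUJ.2 fun u v => by simp [hJ, vl, w1, mulVec, dotProduct, Fin.sum_univ_five]; ring
theorem w2_mem : w2 ∈ UJ σ := mUJ.2 fun u v => by simp [hJ, vl, w2, mulVec, dotProduct, Fin.sum_univ_five]; ring
theorem w1_cj (c : Cd σ) (hx : c.x = 0) (hy : c.y = 0) : w1 * uc c * w1⁻¹ = uc (m1 c) := mul_inv_eq_iff_eq_mul.2 (vl_inj (by
  rw [vl_mul, vl_mul, vl_uc, vl_uc]
  ext i j; fin_cases i <;> fin_cases j <;> simp [vl, w1, um, mul_apply, Fin.sum_univ_five, hx, hy]))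
theorem w2_cj (c : Cd σ) (ha : c.a = 0) : w2 * uc c * w2⁻¹ = uc (m2 c) := mul_inv_eq_iff_eq_mul.2 (vl_inj (by
  rw [vl_mul, vl_mul, vl_uc, vl_uc]
  ext i j; fin_cases i <;> fin_cases j <;> simp [vl, w2, um, mul_apply, Fin.sum_univ_five, ha, ss]
  ring))

variable [Finite K] {p : ℕ} [hp : Fact p.Prime] [CharP K p]
theorem md : MD σ p := by
  have rg : (ev σ).range = (uc (σ := σ)).range.map mp := MonoidHom.range_comp _ _
  refine ⟨P5 K, inferInstance, inferInstance, ev σ, (UJ σ).map mp, C0 σ, mp w1, mp w2,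
    ⟨mp_inj.comp uc_inj, fun w => ⟨fun ⟨c, e⟩ => ⟨c, e.symm⟩, fun ⟨c, e⟩ => ⟨c, e.symm⟩⟩⟩,
    ⟨by rw [← map_inv, inv_eq_of_mul_eq_one_left w1_sq], by rw [← map_inv, inv_eq_of_mul_eq_one_left w2_sq],
      fun c hx hy => by simpa [ev] using congrArg mp (w1_cj c hx hy), fun c ha => by simpa [ev] using congrArg mp (w2_cj c ha)⟩,
    rg ▸ pg_uc.map _, rg ▸ ⟨map_mono (sylJ (p := p)).1, ?_⟩, ?_, fun k ⟨r, t, φ, r0, t0, h⟩ => ⟨r, t, φ, h.wt' r0 t0⟩,
    fun r t φ r0 t0 => ?_, ?_, ?_, mem_map_of_mem _ w1_mem, mem_map_of_mem _ w2_mem⟩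
  · rw [relIndex_map_map_of_injective _ _ mp_inj]; exact (sylJ (p := p)).2
  · rintro k ⟨r, t, φ, r0, t0, h⟩
    refine mem_nz_of_conj_mem ?_
    rintro _ ⟨M, hM, rfl⟩
    have n0 := dv_ne (σ := σ) r0 t0
    obtain ⟨N, e⟩ : ∃ N : S5 K, vl N = diagonal (dv σ r t) * (φ : K →+* K).mapMatrix (vl M) * diagonal fun i => (dv σ r t i)⁻¹ :=
      ⟨⟨_, by rw [det_mul, det_mul, ← RingHom.map_det, vl_det, map_one, mul_one, ← det_mul, diagonal_mul_diagonal]; simp [n0]⟩, rfl⟩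
    have e' := h.cj (M := M) (N := N) fun i j => by simp [e, n0]
    refine ⟨N, mUJ.2 fun u v => ?_, e'.symm⟩
    obtain ⟨u, rfl⟩ := k.surjective u
    obtain ⟨v, rfl⟩ := k.surjective v
    simp only [← mp_ap, ← e', Equiv.Perm.mul_apply, Equiv.Perm.coe_inv, k.symm_apply_apply, h.fm r0 t0]
    exact congrArg φ (mUJ.1 hM u v)
  · have n0 := dv_ne (σ := σ) r0 t0
    have h : Dk ⟨fun v i => dv σ r t i * φ (v i), fun v i => φ.symm ((dv σ r t i)⁻¹ * v i), fun v => by simp [n0],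
      fun v => by simp [n0]⟩ (dv σ r t) φ := fun _ _ => rfl
    exact ⟨_, ⟨r, t, φ, r0, t0, h⟩, h.wt' r0 t0⟩
  · rintro k ⟨r, t, φ, r0, t0, h⟩ w
    have e := fun c => (mp_inj.comp uc_inj) (((h.wt' r0 t0).cj c).symm.trans (w.cj c))
    have e1 : ∀ a, r * φ a = a := fun a => by simpa using congrArg Cd.a (e (xa a))
    have e2 : t = 1 := by simpa using congrArg Cd.x (e (xx 1))
    have e3 : r = 1 := by simpa using e1 1
    refine Equiv.ext fun v => funext fun i => ?_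
    have := e1 (v i)
    rw [h]
    fin_cases i <;> simpa [dv, e2, e3] using this
  · rintro _ ⟨M, hM, rfl⟩ n
    obtain ⟨c, t, h, e0, e1, e2, rfl⟩ := tri hM (mem_nz_of_conj_mem fun x hx => by
      have := conj_mem_of_mem_nz n (rg ▸ mem_map_of_mem mp hx)
      rwa [rg, ← map_inv, ← map_mul, ← map_mul, mem_map_iff_mem mp_inj] at this)
    have n0 : ∀ i, t i ≠ 0 := fun i e => zero_ne_one ((Finset.prod_eq_zero (Finset.mem_univ i) e).symm.trans h)
    have n1 := fun i => sn (σ := σ) (n0 i)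
    refine ⟨ev σ c, ⟨c, rfl⟩, mp (dg t h), t 0, (t 0 * t 1)⁻¹, n0 0, by simp [n0], ?_, map_mul _ _ _⟩
    have hd : Dk (mp (dg t h)) t (.refl K) := fun v i => mulVec_diagonal t v i
    have s0 := congrArg σ e0
    have s1 := congrArg σ e1
    rw [Fin.prod_univ_five] at h
    have s2 := congrArg σ h
    simp only [map_mul, ss, map_one] at s0 s1 s2
    have a0 := n0 0
    have a1 := n0 1
    have b0 := n1 0
    have b1 := n1 1
    refine hd.wt (by simp [n0]) (by simp [n0]) ?_ ?_ ?_ ?_ <;> (try simp only [map_mul, map_div₀, map_inv₀, map_pow, ss]) <;> field_simp <;> grind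

end H15.PU
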