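/-
The Sylow `p`-subgroup of `PSU₅(q)` in coordinates.
-/
import Cfsg.Agent.H15.PU2

set_option autoImplicit false
set_option linter.unusedSectionVars false

namespace H15.PU
open Subgroup H25 H8.PU H8.PU.Cd Matrix
universe v

theorem exP {K : Type v} [Field K] [Finite K] (σ : K →+* K) [IV σ] : ∃ P : S5 K, ∀ u v,
    ∑ j, (vl P *ᵥ u) j * σ ((vl P *ᵥ v) j) = hJ σ u v := by
  obtain ⟨i, hi⟩ := ex_nm (σ := σ) (r := -1) (by simp)
  have ht := s_th (σ := σ)
  generalize th σ = θ at ht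
  refine ⟨⟨!![1, 0, 0, 0, -θ; i, 0, 0, 0, -i * (θ + 1); 0, 0, σ i ^ 2, 0, 0; 0, 1, 0, -θ, 0; 0, i, 0, -i * (θ + 1), 0], ?_⟩,
    fun u v => ?_⟩
  · simp [det_succ_row_zero, Fin.sum_univ_succ, Fin.succAbove]
    grind
  · simp [vl, hJ, mulVec, dotProduct, Fin.sum_univ_five, ht, ss]
    grind

theorem sy : SY.{v} := by
  intro K _ _ p hp _ n hn hK
  let σ : K →+* K := iterateFrobenius K p n
  have hσ : ∀ x, σ x = x ^ p ^ n := fun x => rfl
  have q1 : 1 < p ^ n := Nat.one_lt_pow (by omega) hp.out.one_lt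
  have : IV σ := by
    refine ⟨fun x => by rw [hσ, hσ, ← pow_mul, ← pow_two, ← hK, FiniteField.pow_card], ?_, fun φ x => by rw [hσ, hσ, map_pow]⟩
    by_contra! h
    obtain ⟨g, hg⟩ := IsCyclic.exists_ofOrder_eq_natCard (α := Kˣ)
    have : g ^ (p ^ n - 1) = 1 := Units.ext (mul_right_cancel₀ g.ne_zero (by
      rw [Units.val_pow_eq_pow_val, ← pow_succ, Nat.sub_add_cancel q1.le, ← hσ, h, Units.val_one, one_mul]))
    have := Nat.le_of_dvd (by omega) (orderOf_dvd_of_pow_eq_one this)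
    rw [hg, Nat.card_units, Nat.card_eq_fintype_card, hK] at this
    have : p ^ n < (p ^ n) ^ 2 := by nlinarith
    omega
  refine ⟨σ, this, fun T => ?_⟩
  obtain ⟨P, hP⟩ := exP σ
  have e : cj P (UJ σ) = Cfsg.SU 5 K (p ^ n) := Subgroup.ext fun M => mem_cj.trans (mUJ.trans ⟨fun h u v => ?_, fun h u v => ?_⟩)
  rotate_left
  · have := h (vl P⁻¹ *ᵥ u) (vl P⁻¹ *ᵥ v)
    simp only [← hP, mulVec_mulVec, ← vl_mul, mul_assoc, mul_inv_cancel, mul_inv_cancel_left, mul_one, vl_one, one_mulVec] at this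
    exact this
  · simp only [← hP, mulVec_mulVec, ← vl_mul, mul_assoc, mul_inv_cancel_left]
    simp only [vl_mul, ← mulVec_mulVec]
    exact h _ _
  have s := e ▸ (sylJ (σ := σ) (p := p)).cj P
  let f : Cd σ →* Cfsg.SU 5 K (p ^ n) := ((MulAut.conj P).toMonoidHom.comp uc).codRestrict _ fun c => s.1 ⟨_, ⟨c, rfl⟩, rfl⟩
  let π : Cfsg.SU 5 K (p ^ n) →* Cfsg.PSU 5 K (p ^ n) := QuotientGroup.mk' _
  have inj : Function.Injective (π.comp f) := (injective_iff_map_eq_one _).2 fun c hc => by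
    have z : ∀ M ∈ UJ σ, M * uc c * M⁻¹ = uc c := fun M hM => by
      have := congrArg Subtype.val (mem_center_iff.1 ((QuotientGroup.eq_one_iff _).1 hc) ⟨_, e ▸ conj_mem_cj P hM⟩)
      change P * M * P⁻¹ * (P * uc c * P⁻¹) = P * uc c * P⁻¹ * (P * M * P⁻¹) at this
      rw [mul_inv_eq_iff_eq_mul, ← MulAut.conj P |>.injective.eq_iff]
      simpa [mul_assoc] using this
    have k : ∀ c', c' * c * c'⁻¹ = c := fun c' => uc_inj (by simpa using z _ (uc_mem c'))
    have a1 := congrArg Cd.b (k (xa 1))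
    have a2 := congrArg Cd.b (k (xx 1))
    simp at a1 a2
    have m := uc_inj ((w2_cj c a2).symm.trans (z _ w2_mem))
    have b := congrArg Cd.x m
    have a3 := congrArg Cd.c (k (xa 1))
    have d := congrArg Cd.y m
    simp [a1, a2] at b a3 d
    have m' := congrArg Cd.a (uc_inj ((w1_cj c a1 a3).symm.trans (z _ w1_mem)))
    exact Cd.ext a2 b (m'.trans a2) (d.trans a3) a1 a3
  have pg : IsPGroup p (π.comp f).range := pg_cd.of_surjective _ (π.comp f).rangeRestrict_surjective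
  have ix : ¬ p ∣ (π.comp f).range.index := fun h => s.2 (by
    have r : f.range = (cj P (uc (σ := σ)).range).subgroupOf _ := Subgroup.ext fun x =>
      ⟨by rintro ⟨c, rfl⟩; exact ⟨_, ⟨c, rfl⟩, rfl⟩, by rintro ⟨_, ⟨c, rfl⟩, e⟩; exact ⟨c, Subtype.ext e⟩⟩
    rw [MonoidHom.range_comp] at h
    exact h.trans (r ▸ index_map_dvd _ (QuotientGroup.mk'_surjective _)))
  exact ⟨(MonoidHom.ofInjective inj).trans ((pg.toSylow ix).equiv T)⟩

end H15.PU
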