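/-
Fusion systems on a Sylow `p`-subgroup of `PSU₅(q)`: distinct points are opposite.
-/
import Cfsg.Agent.H15.PU1

set_option autoImplicit false
set_option linter.unusedSectionVars false

namespace H15.PU
open Subgroup H25 H8.PU H8.PU.Cd H24.SP
universe v
variable {K : Type v} [Field K] {σ : K →+* K} [IV σ] {k g : AV K} {G : Subgroup (AV K)} {p : ℕ}

theorem b1 {u u' : Cd σ} (e : k * uu u * k⁻¹ = uu u') (n : uu u ≠ 1) : Bo k := by
  have e1 : ∀ v, k (uu u v - v) = uu u' (k v) - k v := fun v => by rw [map_sub, ← e, mul_ap, mul_ap, inv_ap]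
  have e2 : ∀ v : K × K × K, k (0, 0, -(v.1 * (u.x * σ u.x))) = (0, 0, -((k v).1 * (u'.x * σ u'.x))) := fun v => by
    have := e1 (uu u v - v)
    rw [e1 v] at this
    refine (congrArg k ?_).trans (this.trans ?_) <;> ext <;> simp [uu_ap] <;> ring
  intro c
  by_cases hx : u.x = 0
  · have hy : u.y ≠ 0 := fun hy => n (LinearEquiv.ext fun v => by simp [uu_ap, hx, hy])
    have x' : u'.x = 0 := by
      have := e2 (k⁻¹ (1, 0, 0))
      rw [ap_inv, hx, zero_mul, mul_zero, neg_zero] at this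
      simpa using congrArg (·.2.2) ((map_zero k).symm.trans this)
    have := e1 (c / σ u.y, 0, 0)
    rw [show uu u (c / σ u.y, 0, 0) - (c / σ u.y, 0, 0) = (0, 0, c) by simp [uu_ap, hx, sn hy]] at this
    simp [this, uu_ap, x']
  · have := e2 (-c / (u.x * σ u.x), 0, 0)
    rw [div_mul_cancel₀ _ (mul_ne_zero hx (sn hx)), neg_neg] at this
    simp [this]

theorem ort (h : LH σ p G) (hg : g ∈ G) {v w : K × K × K} (e : ff σ v w = 0) : ff σ (g v) (g w) = 0 := by
  obtain ⟨ζ, k⟩ := h.fm g hg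
  rw [k, e, ← show ff σ 0 0 = 0 by simp [ff], ← k]
  simp [ff]

variable [Finite K] [hp : Fact p.Prime] [CharP K p]
theorem cl0 (h : LH σ p G) (hg : g ∈ G) {c : K} (e : (g (0, 0, c)).1 = 0) : (g (0, 0, c)).2.1 = 0 := by
  obtain ⟨ε, h0, hε⟩ := ex_ep σ
  have s : Syl p (cj g (uu (σ := σ)).range) (G ⊓ MulAction.stabilizer _ (g (0, 0, c))) := by
    have := h.syl.cj g
    rw [cj_eq_of_mem hg] at this
    refine this.mono_right (le_inf this.1 ?_) inf_le_left
    rintro _ ⟨_, ⟨u, rfl⟩, rfl⟩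
    change g (uu u (g⁻¹ (g _))) = _
    simp [uu_ap]
  have m : uu (xy ε hε) ∈ (uu (σ := σ)).range := ⟨_, rfl⟩
  obtain ⟨k, hk, l⟩ := s.exists_cj_le (X := zpowers (uu (xy ε hε)))
    ((pg_cd.of_surjective _ (uu (σ := σ)).rangeRestrict_surjective).to_le (zpowers_le.2 m))
    (zpowers_le.2 ⟨h.syl.1 m, by change uu _ _ = _; ext <;> simp [uu_ap, e]⟩)
  obtain ⟨u, e'⟩ := mem_cj.1 (l (conj_mem_cj k (mem_zpowers _)))
  have e2 : k⁻¹ * g * uu u * (k⁻¹ * g)⁻¹ = uu (xy ε hε) := by rw [e']; group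
  have := b1 e2 (fun n => by
    rw [n, mul_one, mul_inv_cancel] at e2
    exact sn (σ := σ) h0 (by simpa [uu_ap] using (congrArg (fun f : AV K => (f (1, 0, 0)).2.2) e2).symm)) c
  rw [mul_ap, inv_fix hk.2] at this
  exact this.2

theorem l1 : L1 σ p := by
  intro G h g hg nb c e
  by_contra c0
  have e' := cl0 h hg e
  obtain ⟨c', hc⟩ := not_forall.1 nb
  have a0 : (g (0, 0, c')).1 ≠ 0 := fun k => hc ⟨k, cl0 h hg k⟩
  have o := ort h hg (v := (0, 0, c)) (w := (0, 0, c')) (by simp [ff, hh])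
  have w0 : (g (0, 0, c)).2.2 ≠ 0 := fun k => c0 (by
    simpa using (map_eq_zero_iff g g.injective).1 (Prod.ext e (Prod.ext e' k) : g (0, 0, c) = 0))
  have hi := inv_mem hg
  generalize hw : g (0, 0, c) = w at e e' o w0
  generalize hw' : g (0, 0, c') = w' at a0 o hc
  obtain ⟨a, b, d⟩ := w'
  obtain ⟨w1, w2, w⟩ := w
  dsimp only at e e' w0 a0
  subst e e'
  simp only [ff, hh, map_zero, zero_mul, mul_zero, zero_add, add_zero] at o
  by_cases p2 : p = 2
  · subst p2
    have two : (2 : K) = 0 := CharTwo.two_eq_zero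
    have d1 : ∀ v : K × K × K, v.1 = 0 → ff σ (g⁻¹ (0, 0, a)) v = 0 := fun v hv => by
      have := ort h hg (v := (0, 0, c)) (w := v) (by simp [ff, hh, hv])
      rw [← inv_ap g v]
      refine ort h hi ?_
      rw [hw] at this
      simp only [ff, hh, map_zero, zero_mul, mul_zero, zero_add, add_zero] at this ⊢
      refine mul_left_cancel₀ w0 ?_
      linear_combination a * this + (g v).1 * o - 2 * (g v).1 * o + 0 * two
    have d2 : (g⁻¹ (0, 0, a)).1 = 0 := sk_of (σ := σ) fun t => by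
      have := d1 (0, 0, t) rfl
      simp [ff, hh] at this
      linear_combination -this
    have d3 : (g⁻¹ (0, 0, a)).2.1 = 0 := sk_of (σ := σ) fun t => by
      have := d1 (0, t, 0) rfl
      simp [ff, hh] at this
      linear_combination -this
    have s := h.syl.cj g
    rw [cj_eq_of_mem hg] at s
    have one : σ 1 = -1 := by rw [map_one]; linear_combination two
    have := ht s (y := (a, b, d)) (δ := (0, 0, a)) (by simp [two]) ?_ (h.syl.1 ⟨xy 1 one, rfl⟩) (by simp [uu_ap]) (by simp [uu_ap])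
    · exact a0 (by simpa using this)
    rintro _ ⟨_, ⟨u, rfl⟩, rfl⟩
    refine ⟨?_, ?_⟩
    · change g (uu u (g⁻¹ _)) = _
      rw [← hw', inv_ap]; simp [uu_ap]
    · change g (uu u (g⁻¹ _)) = _
      rw [show uu u (g⁻¹ (0, 0, a)) = g⁻¹ (0, 0, a) by ext <;> simp only [uu_ap, d2, d3] <;> simp, ap_inv]
  · have two : (2 : K) ≠ 0 := fun k => p2 ((Nat.prime_dvd_prime_iff_eq hp.out Nat.prime_two).1
      ((CharP.cast_eq_zero_iff K p 2).1 (by exact_mod_cast k)))
    have sa := sn (σ := σ) a0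
    have ind : σ c * c' ≠ c * σ c' := fun k => by
      obtain ⟨t, ht⟩ := ex_ind (σ := σ) a0
      have o1 := ort h hi (v := (0, 0, w)) (w := (0, 0, t)) (by simp [ff, hh])
      rw [← hw, inv_ap] at o1
      have o2 := ort h hg (v := (0, 0, c')) (w := g⁻¹ (0, 0, t)) (by
        simp only [ff, hh, map_zero, zero_mul, mul_zero, zero_add, add_zero] at o1 ⊢
        refine mul_left_cancel₀ c0 ?_
        linear_combination c' * o1 + (g⁻¹ (0, 0, t)).1 * k)
      rw [hw', ap_inv] at o2
      simp [ff, hh] at o2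
      exact ht (by linear_combination -o2)
    let u : Cd σ := ⟨0, 0, 0, 0, 1, -2⁻¹ + (b * σ a - a * σ b) / (a * σ a), by simp, by
      simp only [map_add, map_neg, map_inv₀, map_ofNat, map_div₀, map_sub, map_mul, ss, map_one]; field_simp; ring⟩
    have o1 := ort h hi (v := (0, 0, w)) (w := uu u (a, b, d)) (by simpa [ff, hh, uu_ap] using o)
    have o2 := ort h hi (v := (a, b, d)) (w := uu u (a, b, d)) (by
      simp only [ff, hh, uu_ap, u, map_add, map_neg, map_inv₀, map_ofNat, map_div₀, map_sub, map_mul, ss, map_one]; field_simp; ring)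
    rw [← hw, inv_ap] at o1
    rw [← hw', inv_ap] at o2
    rw [← hw'] at o1
    have m := mul_mem (mul_mem hi (h.syl.1 ⟨u, rfl⟩)) hg
    have z1 : ((g⁻¹ * uu u * g) (0, 0, c')).1 = 0 := by
      simp only [ff, hh, map_zero, zero_mul, mul_zero, zero_add, add_zero] at o1 o2
      rw [mul_ap, mul_ap]
      exact eq0 ind (by linear_combination -o1) (by linear_combination -o2)
    have z2 := cl0 h m z1
    have z3 : g (0, 0, ((g⁻¹ * uu u * g) (0, 0, c')).2.2 - c') = uu u (a, b, d) - (a, b, d) := by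
      rw [← hw', ← ap_inv g (uu u _), ← map_sub]
      exact congrArg g (Prod.ext (by simpa using z1.symm) (Prod.ext (by simpa using z2.symm) rfl))
    have := cl0 h hg (c := _) (by rw [z3]; simp [uu_ap])
    rw [z3] at this
    exact a0 (by simpa [uu_ap, u] using this)

end H15.PU
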