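import Cfsg.Agent.H15.Parts

/-! Quartets of a dodecad. -/

set_option autoImplicit false
set_option maxRecDepth 100000

namespace H15
open Cfsg Finset MulAction
open scoped Pointwise

/-- The table of quartets of the standard dodecad. -/
def qtT : ℕ := 0x5200000120800010300005405200000111000020600004905200000104200021100010c05200000100500034000001a05100000220800014400001305100000211000024100000e05100000204200021400010905100000200500030200005805020000300800010500005205020000214000101400000b05020000201100110200004c05020000200600104100011805010000301000020500004a05010000224000100900001605010000200c00120200005105010000200300104400021805004000300200020c00011105000800320000014200001505001000310000024200000d05000200304000020900011405000400300100024800011205000100300400020a00015005004000230000101800000705004000201400120100010a05004000200900110400021205001000220100104800010605001000200a00120400014105000400220200114000001905001000204400100300030805000100221000110800004605000400210800121000004305000800210400105000020305000200220400101100014805000100210200124000001c05000200201800130000004505000800201200110100024405000800204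100100600031005000200210100100c00025005000400205000100a00030105000100204800101200030404300001020800014100001604300001011000020300004c04300001004200030400001904300001000500025000010a04220001100800011200004504210001101000020900004604200801120000015000000704201001110000020c00004304204001100200020500011804200201104000031000000d04200401100100021800014204200101100400030800005204220001014000100300001c04220001001100110400004a04220001000600105000010904210001024000100a00001504210001000300120400005804210001000c00104100021204204001030000100c00001304201001020100100600014804200101021000114000000e04200201020400110800005104200401020200104800011104204001000900121000010604204001001400110100020a04200801010400101100024204200401010800101200024104200201010100101400024804200101010200101800024404200401005000130000000b04201001004400100900030204200801004100110200021404201001000a00124000010504200101004800120200011404200201001800120100014404200801001200104400030104120001200800011100004604110001201000024800000704100801220000011400004304101001210000020a0000450410400120020003080000150410020120400002180001050410040120010002420001180410010120040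0031000004a04120001010200205000000d04120001004100210400001a04120001001400200300014804110001020200204100001c04110001000900220400005204110001004400200a00021104100201030000201400004904104001020100200c00011204104001010400221000000b04100101024000201800010604101001020400200900014204100401021000204800010304100401014000201200020904100101010800220200005404104001001800210100020604100801010100204400021204100801005000210200020504101001000300224000010c04101001004800200600030104100401000a00230000005104100201000c00220100015004100101001200214000020c04100201001100210800024404100801000600201100034004020801300000010600005104011001300000024400000b04004201300000030100001c04000501300000021200014804030001204000101100000e04024001210000100600001904021001200100100a00014404020101201000100c00014204020401200200100900015004020201200400101800014104014001220000101200000d04010801200400124000001304010101200200121000004c04010401200800100300025004010201200100105000020c04001101220000104400010a04000601220000110100005804000c012100001201000052040050012004001102000209040048012001001300000016040044012010001202000109040003012100001048000214040041012008001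01400030204001401204000110800020304000901204000120400011204001801200200110400024104001201200800114000020504000a01201000104100030404030001100200200900005404020201110000204800001504024001100100200a00011404020101104000210800001604021001100400210200004904020401101000204100010a04010201120000204400001904014001100400201800020304010401104000201100020a04010801100100205000020604010101100800201400024204004101120000201200010c04001401120000210100004a04004401110000220100001a04004801101000220200010504005001100800200300030404000901110000200600025004001801104000220400010304001201100100230000004c04000a01100400224000011104000c01100200221000014104001101100200210400024804000601100800214000021104000301101000200c00034004030001001800300400004304030001000500201200104804021001010800304000000704024001000c00301000010304020101010400300200005804020401004800310000001304020201005000300100010c04020801011000204200100504024001001200200500110804020401010100201800104204021001004200200c00110104020801004400210100101204020801000300201400114004020201000900211000104404010801021000300200004504020101000a00204400111004010101020400304000001a04014001000a00300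100021404010401001200320000004904011001020800200500104204010201001400300800024104010401020100204200101804001801030000300100004604014001001100200600120804011001004100220200100c04010801004200220100101404005001010100320000000e04010101005000220800100604010201004800221000100504001201024000300400010904011001000600204800120104000a01020100310000005404000901020200301000014404004801010200300400021104001101014000300800020604005001020200210800100504004801020400211000100304004101000600310000021804004401020800210200101104004201021000210400100904000501030000200a00105004004401000300300800031004000301004400320000011804000c01024000200300111004000601004100301000030804001401000900300200034004004101011000220400100a04000c01001100304000030204004201010800201100120404000301020800205000110404001401010200220800104104000a01014000200500121004001201010400204100120804004201000500220800111004000601011000200900124004001801000500214000120204000901001400230000104204000501004200211000120804001101000c002042001300040005010018002240001102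
/-- Quartet number `j`. -/
def qt (j : ℕ) : ℕ := getT qtT 96 0xffffffffffffffffffffffff j

/-- The four parts of `c` form a quartet. -/
noncomputable def isQ (c : ℕ) : Bool :=
  band (distinct 4 c) (allTo (fun j => force (part c j) fun m => band (band (Nat.beq (pc m) 3)
    (Nat.beq (Nat.land m 340831) m)) (allTo (fun i => isH (Nat.lor (part c i) m)) j)) 4)

theorem isQ_spec {c : ℕ} (h : isQ c = true) :
    distinct 4 c = true ∧ SS 4 c ∈ quartets (S 340831) := by
  simp only [isQ, band_iff, allTo_iff, force_eq, Nat.beq_eq, Nat.land_eq, Nat.lor_eq] at h
  refine ⟨h.1, card_SS h.1, fun t ht => ?_, fun t ht u hu htu => ?_⟩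
  · obtain ⟨j, hj, rfl⟩ := mem_SS.1 ht
    exact ⟨(card_S (part_lt _ _)).trans (h.2 j hj).1.1, S_subset_of_and (h.2 j hj).1.2⟩
  · obtain ⟨i, hi, rfl⟩ := mem_SS.1 ht
    obtain ⟨j, hj, rfl⟩ := mem_SS.1 hu
    have k := fun i j => isH_iff (Nat.or_lt_two_pow (part_lt c i) (part_lt c j))
    rcases lt_trichotomy i j with e | rfl | e
    · exact S_or _ _ ▸ (k i j).2 ((h.2 j hj).2 i e)
    · exact absurd rfl htu
    · rw [union_comm]; exact S_or _ _ ▸ (k j i).2 ((h.2 i hi).2 j e)

theorem qt_aux : allTo (fun j => force (qt j) fun c => band (isQ c)
    (allTo (fun i => Nat.blt (force (qt i) (muC 4)) (muC 4 c)) j)) 220 = true := by decide +kernel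

theorem qt_spec {j : ℕ} (h : j < 220) : (distinct 4 (qt j) = true ∧ SS 4 (qt j) ∈
    quartets (S 340831)) ∧ ∀ i < j, muC 4 (qt i) < muC 4 (qt j) := by
  have := (allTo_iff _ _).1 qt_aux j h
  simp only [force_eq, band_iff, allTo_iff, Nat.blt_eq] at this
  exact ⟨isQ_spec this.1, this.2⟩

theorem qt_inj {i j : ℕ} (hi : i < 220) (hj : j < 220) (h : SS 4 (qt i) = SS 4 (qt j)) : i = j := by
  have := congrArg muS h
  rw [muS_SS (qt_spec hi).1.1, muS_SS (qt_spec hj).1.1] at this
  rcases lt_trichotomy i j with e | e | e
  · exact absurd this ((qt_spec hj).2 i e).ne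
  · exact e
  · exact absurd this ((qt_spec hi).2 j e).ne'

theorem smul_mem_quartets {σ : Equiv.Perm GolayPt} (hσ : σ ∈ M24) {d : Finset GolayPt}
    {Q : Finset (Finset GolayPt)} (h : Q ∈ quartets d) : σ • Q ∈ quartets (σ • d) := by
  refine ⟨(card_smul_finset _ _).trans h.1, fun t ht => ?_, fun t ht u hu htu => ?_⟩
  · obtain ⟨t, ht', rfl⟩ := mem_smul_finset.1 ht
    exact ⟨(card_smul_finset _ _).trans (h.2.1 t ht').1,
      smul_finset_subset_smul_finset (h.2.1 t ht').2⟩
  · obtain ⟨t, ht', rfl⟩ := mem_smul_finset.1 ht
    obtain ⟨u, hu', rfl⟩ := mem_smul_finset.1 hu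
    rw [← smul_finset_union]
    exact smul_mem_hexadsOn hσ (h.2.2 t ht' u hu' fun e => htu (by rw [e]))

theorem smul_mem_quartets_iff {σ : Equiv.Perm GolayPt} (hσ : σ ∈ M24) {d : Finset GolayPt}
    {Q : Finset (Finset GolayPt)} : σ • Q ∈ quartets (σ • d) ↔ Q ∈ quartets d :=
  ⟨fun h => by simpa using smul_mem_quartets (inv_mem hσ) h, smul_mem_quartets hσ⟩

theorem split_std {d : Finset GolayPt} (hd : d ∈ dodecads) {t u : Finset GolayPt} (ht : t.card = 3)
    (hu : u.card = 3) (htu : Disjoint t u) (hh : t ∪ u ∈ hexadsOn d) :
    ∃ σ ∈ M24, σ • S 340831 = d ∧ σ • S 4354 = t ∧ σ • S 8768 = u := by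
  have h0 := ((mem_hexadsOn hd).1 hh).2.1
  have h1 := htu
  obtain ⟨a, b, c, hab, hac, hbc, rfl⟩ := card_eq_three.1 ht
  obtain ⟨e, f, g, hef, -, -, rfl⟩ := card_eq_three.1 hu
  simp only [disjoint_insert_left, mem_insert, mem_singleton, not_or, disjoint_singleton_left] at h1
  have h2 : Function.Injective ![a, b, c, e, f] := List.nodup_ofFn.1 (by simp [*])
  obtain ⟨σ, h3, h4, h5⟩ := dod_multi le_rfl D0_mem hd ![pt 1, pt 8, pt 12, pt 6, pt 9] _
    (by decide +kernel) h2 (by decide +kernel) (fun i => h0 (by fin_cases i <;> simp))
  have h6 : σ • S 4354 = {a, b, c} := by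
    rw [show S 4354 = {pt 1, pt 8, pt 12} by decide +kernel, smul_finset_insert, smul_finset_insert,
      smul_finset_singleton]
    exact congrArg₂ _ (h5 0) (congrArg₂ _ (h5 1) (congrArg _ (h5 2)))
  have h7 := smul_mem_hexadsOn h3 ((isH_iff (m := 13122) (by norm_num)).2 (by decide +kernel))
  rw [h4] at h7
  replace h7 := hexad_eq_of_inter _ h7 _ hh (by
      refine le_trans ?_ (card_le_card (s := univ.image ![a, b, c, e, f]) fun p hp => ?_)
      · rw [card_image_of_injective _ h2]; simp
      · obtain ⟨i, -, rfl⟩ := mem_image.1 hp
        refine mem_inter.2 ⟨?_, by fin_cases i <;> simp⟩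
        rw [← h5, apply_mem_smul_iff]
        clear hp; revert i; decide +kernel)
  refine ⟨σ, h3, h4, h6, ?_⟩
  rw [show 8768 = 13122 &&& (4354 ^^^ 16777215) from rfl, S_sdiff, smul_finset_sdiff, h6, h7,
    union_sdiff_cancel_left htu]

theorem qt_zero : qt 0 = 1237963669571294243378434306 := by decide +kernel
theorem Q0_mem : SS 4 1237963669571294243378434306 ∈ quartets (S 340831) := qt_zero ▸ (qt_spec (by norm_num)).1.2

theorem quartet_eq {σ : Equiv.Perm GolayPt} (hσ : σ ∈ M24) {Q : Finset (Finset GolayPt)}
    (hQ : Q ∈ quartets (σ • S 340831)) (ht : σ • S 4354 ∈ Q) (hu : σ • S 8768 ∈ Q) :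
    Q = σ • SS 4 1237963669571294243378434306 := by
  have h : ∀ v ∈ (subE 3 le_rfl).Ω, S 4354 ∪ v ∈ hexadsOn (S 340831) →
      S 8768 ∪ v ∈ hexadsOn (S 340831) → v ∈ SS 4 1237963669571294243378434306 :=
    (subE 3 le_rfl).forall _ (fun i => force (dec i) fun m => bimp (band (isH (Nat.lor 4354 m))
      (isH (Nat.lor 8768 m))) (anyTo (fun j => Nat.beq m (part 1237963669571294243378434306 j)) 4)) (fun i _ _ h h1 h2 => by
        simp only [force_eq, bimp_iff, band_iff, anyTo_iff, Nat.beq_eq, Nat.lor_eq] at h
        obtain ⟨j, h3, h4⟩ := h ⟨(isH_iff (Nat.or_lt_two_pow (by norm_num) (dec_lt i))).1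
          (S_or _ _ ▸ h1), (isH_iff (Nat.or_lt_two_pow (by norm_num) (dec_lt i))).1 (S_or _ _ ▸ h2)⟩
        exact mem_SS.2 ⟨j, h3, congrArg S h4⟩) (by decide +kernel)
  refine eq_of_subset_of_card_le (fun v hv => ?_) (by rw [card_smul_finset, Q0_mem.1, hQ.1])
  obtain ⟨v, rfl⟩ := MulAction.surjective σ v
  rw [smul_mem_smul_finset_iff]
  by_cases e : S 4354 = v
  · exact mem_SS.2 ⟨0, by norm_num, e ▸ by decide +kernel⟩
  by_cases e' : S 8768 = v
  · exact mem_SS.2 ⟨1, by norm_num, e' ▸ by decide +kernel⟩
  refine h v ((card_smul_finset σ v).symm.trans (hQ.2.1 _ hv).1) ?_ ?_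
  · rw [← smul_mem_hexadsOn_iff hσ, smul_finset_union]
    exact hQ.2.2 _ ht _ hv fun h => e (MulAction.injective σ h)
  · rw [← smul_mem_hexadsOn_iff hσ, smul_finset_union]
    exact hQ.2.2 _ hu _ hv fun h => e' (MulAction.injective σ h)

theorem quartet_std {d : Finset GolayPt} (hd : d ∈ dodecads) {Q : Finset (Finset GolayPt)}
    (hQ : Q ∈ quartets d) : ∃ σ ∈ M24, σ • S 340831 = d ∧ σ • SS 4 1237963669571294243378434306 = Q := by
  obtain ⟨t, ht, u, hu, htu⟩ := one_lt_card.1 (show 1 < Q.card by rw [hQ.1]; norm_num)
  have h := hQ.2.2 t ht u hu htu
  obtain ⟨σ, h1, rfl, rfl, rfl⟩ := split_std hd (hQ.2.1 t ht).1 (hQ.2.1 u hu).1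
    (card_union_eq_card_add_card.1 (by rw [h.1, (hQ.2.1 t ht).1, (hQ.2.1 u hu).1])) h
  exact ⟨σ, h1, rfl, (quartet_eq h1 hQ ht hu).symm⟩

/-- The stabiliser of the standard quartet. -/
abbrev KQ : Subgroup (Equiv.Perm GolayPt) :=
  M24 ⊓ stabilizer (Equiv.Perm GolayPt) (S 340831, SS 4 1237963669571294243378434306)

def kqT : ℕ := 0x5da952c9467b868bc48c3c26968820b9cb3a09507b9285c5acb1aa324820bbd5128283b38c85d52c3b66480832bda95548a43b9a85cccc7a630180225be7489aa23de0c72868b10b20342975a6a88ea67ae4cb9448382896903073ea59c2293ac0cbd248b094d30c245da25ab6607dc6c750883c142924265d8b1a35423dc687560c79260918297595328e893ae48bc40c78aa66c0245d547a24a08de017586c991e29190dbc6c59b5413b8105d643a09ec418895cce578ac9ab86cbd0818c14d3011259e34791489dd32759a029aac0c043716367b5443ad92bd5009868381849b95548b1e93ba125d860992a66a041b9e65a09e352c2d74506ab2d02492071df69868055c8d59606a8e321212c750f1990a9add805bc22b214d30e50746b37a0b2a2da3ba93039ac20048c596afa42c89dda07293239a2161043bdab49ca307b9ac5a928398a418820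
def kqL : List (ℕ × ℕ × ℕ) := [(1, 0x400000a00000000500b000000003009000007000001008002000006, 340831), (0, 0x1300000e00000000f00000000000c00000001000000d011012000000, 336477), (2, 0x14000000000000000000000000000000000000000000000000000000, 262148), (3, 0x15000000000000000000000000000000000000000, 8200)]

theorem kq_tab : ∀ k < 22, InK KQ (getP kqT k) :=
  tab_stab _ (chk_prod (chk_S _) (chk_SS _ _)) (by decide +kernel)

theorem quartets_aux : Nat.card KQ = 432 ∧
    quartets (S 340831) = ↑((range 220).image fun j => SS 4 (qt j)) := by
  have h1 := card_eq_of_orbit Spor.M12 (SS 4 1237963669571294243378434306) (quartets (S 340831))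
    (fun σ h => (mem_M12.1 h).2 ▸ smul_mem_quartets (M12_le h) Q0_mem) (fun Q hQ => by
      obtain ⟨σ, h1, h2, h3⟩ := quartet_std D0_mem hQ
      exact ⟨σ, mem_M12.2 ⟨h1, h2⟩, h3⟩)
  rw [card_M12, show Spor.M12 ⊓ stabilizer _ (SS 4 1237963669571294243378434306) = KQ from Subgroup.ext fun σ => by
    simp [mem_M12, and_assoc]] at h1
  have h2 : 432 ≤ Nat.card KQ := by
    rw [← inf_Fx_zero KQ]
    exact le_trans (by decide +kernel) (lchk_ge kq_tab (L := kqL) (by decide +kernel))
  have h3 : (↑((range 220).image fun j => SS 4 (qt j)) : Set _) ⊆ quartets (S 340831) := by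
    intro Q hQ
    obtain ⟨j, hj, rfl⟩ := mem_image.1 hQ
    exact (qt_spec (mem_range.1 hj)).1.2
  have h4 : (↑((range 220).image fun j => SS 4 (qt j)) : Set (Finset (Finset GolayPt))).ncard
      = 220 := by
    rw [Set.ncard_coe_finset, card_image_of_injOn fun i hi j hj =>
      qt_inj (mem_range.1 hi) (mem_range.1 hj), card_range]
  have h5 := Set.ncard_le_ncard h3 (Set.toFinite _)
  rw [h4] at h5
  refine ⟨by nlinarith, (Set.eq_of_subset_of_ncard_le h3 (by rw [h4]; nlinarith)
    (Set.toFinite _)).symm⟩

theorem card_KQ : Nat.card (stabilizer M24 (S 340831, SS 4 1237963669571294243378434306)) = 432 :=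
  (card_stab_inf _).symm.trans quartets_aux.1

/-- The quartets of the standard dodecad. -/
noncomputable def qtE : Enum (Finset (Finset GolayPt)) where
  Ω := quartets (S 340831)
  a := 11
  b := 20
  E j := SS 4 (qt j)
  V _ := true
  μ := muS
  mu j := force (qt j) fun c => muC 4 c
  mug g j := force (qt j) fun c => mugC 4 g c
  mem X := by simp [quartets_aux.2, eq_comm]
  inj i hi j hj _ _ h := qt_inj hi hj h
  hmu j hj _ := by rw [force_eq]; exact muS_SS (qt_spec hj).1.1
  hmug j hj _ σ g h := by rw [force_eq]; exact muS_smul_SS (qt_spec hj).1.1 h

theorem iv_qt : ∀ i < qtE.a * qtE.b, qtE.V i = true →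
    iv (SS 4 1237963669571294243378434306) (qtE.E i) = force (qt i) (ivC 4 4 1237963669571294243378434306) := fun i hi _ => by
  rw [force_eq]; exact iv_SS (by decide +kernel) (qt_spec hi).1.1

theorem quartet_level {σ : Equiv.Perm GolayPt} (hσ : σ ∈ M24) (v : ℕ) :
    {X | X ∈ quartets (σ • S 340831) ∧ iv (σ • SS 4 1237963669571294243378434306) X = v}.ncard = cntTo2 (fun i => force i
      fun i => band (qtE.V i) (Nat.beq (force (qt i) (ivC 4 4 1237963669571294243378434306)) v)) qtE.a qtE.b := by
  rw [← qtE.ncard_level _ _ iv_qt]
  exact ncard_eq_of_smul σ _ _ fun X => by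
    simp only [Set.mem_setOf_eq, smul_mem_quartets_iff hσ, iv_smul]; rfl

theorem quartet_values {σ : Equiv.Perm GolayPt} (hσ : σ ∈ M24) : ∀ X ∈ quartets (σ • S 340831),
    iv (σ • SS 4 1237963669571294243378434306) X ∈ [1048588, 262726, 16648, 12679, 4741] := fun X hX => by
  obtain ⟨X, rfl⟩ := MulAction.surjective σ X
  rw [iv_smul]
  exact qtE.values _ _ iv_qt _ (by decide +kernel) X ((smul_mem_quartets_iff hσ).1 hX)

theorem quartet_orbit {σ : Equiv.Perm GolayPt} (hσ : σ ∈ M24) {X : Finset (Finset GolayPt)}
    (hX : X ∈ quartets (σ • S 340831)) {v : ℕ} (hv : iv (σ • SS 4 1237963669571294243378434306) X = v) :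
    orbit ↥(stabilizer M24 (σ • S 340831) ⊓ stabilizer M24 (σ • SS 4 1237963669571294243378434306)) X =
      {Y | Y ∈ quartets (σ • S 340831) ∧ iv (σ • SS 4 1237963669571294243378434306) Y = v} := by
  ext Y
  constructor
  · rintro ⟨⟨⟨g, h1⟩, h2, h3⟩, rfl⟩
    have h4 : g • σ • S 340831 = σ • S 340831 := h2
    have h5 : g • σ • SS 4 1237963669571294243378434306 = σ • SS 4 1237963669571294243378434306 := h3
    have h6 := smul_mem_quartets h1 hX
    rw [h4] at h6
    exact ⟨h6, by rw [← hv, ← iv_smul g _ X, h5]; rfl⟩
  · rintro ⟨h1, h2⟩
    obtain ⟨X, rfl⟩ := MulAction.surjective σ X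
    obtain ⟨Y, rfl⟩ := MulAction.surjective σ Y
    rw [← hv, iv_smul, iv_smul] at h2
    have hk : ∀ g ∈ KQ, g • S 340831 = S 340831 ∧ g • SS 4 1237963669571294243378434306 = SS 4 1237963669571294243378434306 := fun g hg =>
      Prod.mk.inj hg.2
    obtain ⟨g, h3, rfl⟩ := qtE.trans (K := KQ) (T := 0x759e7a06608dc695d60629142931a8596d13b5f2a5e0874c61512a012586bd2b63c9507ad8d74509984a3208c071e34a926db2c4cba8087c8a64c023bbe93b1aac52e0271c9288ca80b409752277914db5d825cd00a84a934243756969c9ec52e0dbc48638ca140920ba8f5a2621b3810594449c9e86186d729f1282a1b5d245d0d09b4e860872bd0f1a91429b98d5d8297a0a0940c3bda253b6889ba505bc0450aac0a466) (N := 11) (H := 0x10000000000020000010000000000000000000000000000000000000102010100000002000000000000010000000001000006010001010102010200010101010001000000000000020000000000010001020000010000000000000000000002010103010000000200000000000000000000000001000000000000010000000000000003010103040000000000000000040000030902010301010500040404010405060201010a04060201040003070002030002080a0904080101070202030306010406050204030002000100000000) (R := [0, 1, 2, 5, 7])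
      (P := fun _ => true) (tab_stab _ (chk_prod (chk_S _) (chk_SS _ _)) (by decide +kernel))
      (fun g hg x hx => by
        have := smul_mem_quartets hg.1 hx
        rwa [(hk g hg).1] at this) (fun _ => True)
      (fun _ _ _ _ _ => trivial) (fun _ _ _ _ => rfl) _ _
      (fun g hg x _ => by rw [← iv_smul g _ x, (hk g hg).2]) iv_qt (by decide +kernel)
      (by decide +kernel) X ((smul_mem_quartets_iff hσ).1 hX) Y ((smul_mem_quartets_iff hσ).1 h1)
      trivial trivial h2.symm
    exact ⟨⟨_, ((stabConj2 hσ _ _).symm ⟨g, h3⟩).2⟩, by
      show (σ * g * σ⁻¹) • σ • X = _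
      rw [mul_smul, inv_smul_smul, mul_smul]⟩

end H15
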