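import Cfsg.Agent.H15.RuB

/-! The short vectors of the Conway–Wales lattice: the covering sums. -/

set_option autoImplicit false

namespace H15.RuL
open Cfsg Cfsg.Spor Finset
open H16 (nth)

noncomputable def wd1 (f : ℕ → ℕ) (u c : ℕ) : ℕ := Bool.rec 0 (Bool.rec
  (mapF (row u) GS fun rows => sol (base (Nat.div (Nat.sub 16 c) 4) 0x100000000000000) u 56 rows
    fun y => force (Nat.add u (Nat.mul y 0x100000000000000)) f) 0 (Nat.beq u 0)) (Nat.ble c 16)
/-- the vectors over one residue word -/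
noncomputable def wd (f : ℕ → ℕ) (u : ℕ) : ℕ := force (pq u) (wd1 f u)

theorem cov_wd1 (u c : ℕ) : Cov (fun f => wd1 f u c) {w | c ≤ 16 ∧ u ≠ 0 ∧ ∃ y, (y < 2 ^ 59 ∧
    (∃ e, (e < 2 ^ 59 ∧ e ^^^ 2 ^ 56 < 2 ^ 56 ∧ wt (e ^^^ 2 ^ 56) ≤ ((16 - c) / 4 : ℕ)) ∧
    ∀ q, 56 ≤ q ∨ u.testBit q = false → y.testBit q = e.testBit q) ∧
    ∀ r ∈ GS.map (row u), 2 ∣ ip r y) ∧ w = u + y * 2 ^ 56} := by
  have := Cov.guard (Nat.ble c 16) fun _ => Cov.guard (!Nat.beq u 0) fun _ =>
    (cov_sol (cov_base ((16 - c) / 4) (2 ^ 56)) u 56 (by norm_num) (GS.map (row u))).bind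
      fun y => Cov.single (u + y * 2 ^ 56)
  refine (this.congr fun f => ?_).mono fun w h => ⟨Nat.ble_eq ▸ h.1, by
    rw [Bool.eq_false_iff.2 fun e => h.2.1 (Nat.eq_of_beq_eq_true e)]; rfl, h.2.2⟩
  simp only [wd1, force_eq, mapF_eq]
  cases Nat.ble c 16 <;> cases Nat.beq u 0 <;> rfl

theorem cov_wd (u : ℕ) : Cov (fun f => wd f u) {w | u < 2 ^ 56 ∧ u ≠ 0 ∧ ∃ z < 2 ^ 56,
    w = u + (z ^^^ 2 ^ 56) * 2 ^ 56 ∧ wt u + 4 * wt (z ^^^ (z &&& u)) ≤ 16 ∧
    ∀ g ∈ GS, 2 ∣ ip (row u g) (z ^^^ 2 ^ 56)} := by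
  refine ((cov_wd1 u (pq u)).congr fun f => force_eq _ _).mono ?_
  · rintro _ ⟨h1, h2, z, h3, rfl, h4, h5⟩
    have h6 := pq_eq (x := u) (by omega)
    have h7 := wt_nonneg (z ^^^ (z &&& u))
    have h8 : z ^^^ (z &&& u) < 2 ^ 56 := Nat.xor_lt_two_pow h3 (lt_of_le_of_lt Nat.and_le_left h3)
    have h9 : ∀ z < 2 ^ 56, z ^^^ 2 ^ 56 < 2 ^ 59 := fun z hz => Nat.xor_lt_two_pow (by omega) (by norm_num)
    refine ⟨by omega, h2, _, ⟨h9 z h3, ⟨_, ⟨h9 _ h8, ?_, ?_⟩,
      fun q hq => ?_⟩, fun r hr => ?_⟩, rfl⟩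
    · rwa [Nat.xor_xor_cancel_right]
    · rw [Nat.xor_xor_cancel_right]; omega
    · have : u.testBit q = false := hq.elim (fun h => Nat.testBit_eq_false_of_lt
        (h1.trans_le (Nat.pow_le_pow_right (by norm_num) h))) id
      simp [this]
    · replace hr := List.mem_map.1 hr
      obtain ⟨g, hg, rfl⟩ := hr
      exact h5 g hg

/-- the vectors `±4 e` -/
noncomputable def enB (f : ℕ → ℕ) : ℕ := sumTo (fun q => force (Nat.pow 2 q) fun b =>
  Nat.add (f b) (force (Nat.mul b 0x100000000000001) f)) 56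

theorem cov_enB : Cov enB {w | ∃ q < 56, w = 2 ^ q ∨ w = 2 ^ q * (2 ^ 56 + 1)} :=
  (((Cov.sumTo 56).bind fun q => (Cov.single (2 ^ q)).add (Cov.single (2 ^ q * (2 ^ 56 + 1)))).congr
    fun f => by simp only [enB, force_eq]; rfl).mono fun _ h => h

def x56 (y : ℕ) : ℕ := Nat.xor y 0x100000000000000

/-- the check for even vectors -/
noncomputable def chk0 (lo n : ℕ) : ℕ := mapF (row 0) GS fun rows =>
  sumTo (fun i => force (Nat.add lo i) fun i => force (Nat.xor 0x100000000000000 (Nat.pow 2 i))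
    (few (fun y => Bool.rec 0 (x56 y) (evn rows y)) 3 i)) n

theorem base_zero (rows : List ℕ) (f : ℕ → ℕ) (e : ℕ) (h0 : f e = 0) (F : ℕ → ℕ → ℕ)
    (hF : ∀ lo n, F lo n = sumTo (fun i => force (Nat.add lo i) fun i => force (Nat.xor e (Nat.pow 2 i))
      (few (fun y => Bool.rec 0 (f y) (evn rows y)) 3 i)) n)
    (h : F 0 41 = 0 ∧ F 41 7 = 0 ∧ F 48 5 = 0 ∧ F 53 3 = 0) : base 4 e rows f = 0 := by
  simp only [hF, sumTo_eq, sum_eq_zero_iff, mem_range, force_eq (Nat.add _ _)] at h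
  rw [base, few_succ, h0, sumTo_eq, sum_eq_zero fun i hi => ?_]
  · cases evn _ _ <;> rfl
  rw [mem_range] at hi
  by_cases a : i < 41
  · exact Nat.zero_add i ▸ h.1 i a
  by_cases b : i < 48
  · exact (show 41 + (i - 41) = i by omega) ▸ h.2.1 (i - 41) (by omega)
  by_cases c : i < 53
  · exact (show 48 + (i - 48) = i by omega) ▸ h.2.2.1 (i - 48) (by omega)
  · exact (show 53 + (i - 53) = i by omega) ▸ h.2.2.2 (i - 53) (by omega)

theorem even_zero (h : chk0 0 41 = 0 ∧ chk0 41 7 = 0 ∧ chk0 48 5 = 0 ∧ chk0 53 3 = 0) {z : ℕ}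
    (hz : z < 2 ^ 56) (h1 : wt z ≤ 4) (h2 : ∀ g ∈ GS, 2 ∣ ip (row 0 g) (z ^^^ 2 ^ 56)) : z = 0 := by
  have h5 := base_zero (GS.map (row 0)) x56 0x100000000000000 rfl chk0 (fun _ _ => mapF_eq _ _ _) h
  obtain ⟨M, h3, h4⟩ := cov_base 4 0x100000000000000 (GS.map (row 0))
  rw [h3, Multiset.sum_eq_zero_iff] at h5
  have := h5 _ (Multiset.mem_map_of_mem _ (h4 (z ^^^ 0x100000000000000) ⟨⟨Nat.xor_lt_two_pow (by omega)
    (by norm_num), by rwa [Nat.xor_xor_cancel_right], by rwa [Nat.xor_xor_cancel_right]⟩,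
    fun r hr => by obtain ⟨g, hg, e⟩ := List.mem_map.1 hr; exact e ▸ h2 g hg⟩))
  exact (Nat.xor_xor_cancel_right z _).symm.trans this

/-- all candidates -/
noncomputable def enT (f : ℕ → ℕ) : ℕ := Nat.add (enA (enA (wd f) AS2) AS1 0) (enB f)

theorem sq_ge {a u z : ℤ} (hu : u = 0 ∨ u = 1) (hz : z = 0 ∨ z = 1) (h : 4 ∣ a - (u + 2 * z)) :
    u + 4 * (z + z * u - 2 * (z * (z * u))) ≤ a * a ∧ (a * a ≤ u → a = u * (1 - 2 * z)) := by
  have h1 : a = -1 ∨ a = 0 ∨ a = 1 ∨ 4 ≤ a * a := by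
    rcases (by omega : a ≤ -2 ∨ 2 ≤ a ∨ a = -1 ∨ a = 0 ∨ a = 1) with h | h | h
    · right; right; right; nlinarith
    · right; right; right; nlinarith
    · tauto
  rcases hu with rfl | rfl <;> rcases hz with rfl | rfl <;> rcases h1 with rfl | rfl | rfl | h1 <;>
    omega

theorem exists_cover0 (h : chk0 0 41 = 0 ∧ chk0 41 7 = 0 ∧ chk0 48 5 = 0 ∧ chk0 53 3 = 0) :
    ∃ M : Multiset ℕ, (∀ f, enT f = (M.map f).sum) ∧ ∀ x ∈ TT, x ≠ 0 → dot x x ≤ 16 →
      ∃ w ∈ M, (wk w = 1 → pq (wu w) = 16) → x = vw w ∧ dot x x = 16 := by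
  obtain ⟨M, h1, h2⟩ := (((cov_enA AS1 0).bind fun v => cov_enA AS2 v).bind cov_wd).add cov_enB
  refine ⟨M, h1, fun x hx h0 hn => ?_⟩
  have hu := encU_lt x
  have hz := encZ_lt x
  have hr := R4_enc x
  have hs := sp_encU hx
  generalize encU x = u at *
  generalize encZ x = z at *
  have hq := fun q hq => sq_ge (bt_cases u q) (bt_cases z q) (hr q hq)
  have h3 : wt u + 4 * wt (z ^^^ (z &&& u)) ≤ dot x x := by
    rw [wt_eq hu, wt_eq (Nat.xor_lt_two_pow hz (lt_of_le_of_lt Nat.and_le_left hz)), mul_sum,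
      ← sum_add_distrib]
    refine sum_le_sum fun q h => ?_
    rw [bt_xor, bt_and]
    exact (hq q (mem_range.1 h)).1
  have h4 := fun g hg => row_even (g := g) hx hr hz hg
  by_cases hu0 : u = 0
  · subst hu0
    rw [Nat.and_zero, Nat.xor_zero] at h3
    obtain rfl := even_zero h hz (by have := wt_nonneg 0; omega) h4
    obtain ⟨q, hq1, hq2⟩ : ∃ q < 56, rc x q ≠ 0 := by
      by_contra hc
      push Not at hc
      exact h0 (rc_ext fun q hq => by rw [hc q hq, rc_zero])
    have a := hr q hq1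
    have b := sq_le_dot x hq1
    rw [bt_zero] at a
    have c : rc x q = 4 ∨ rc x q = -4 := by
      have : rc x q ≤ -8 ∨ rc x q = -4 ∨ rc x q = 4 ∨ 8 ≤ rc x q := by omega
      rcases this with d | d | d | d <;> first | omega | nlinarith
    have d : rc x q * rc x q = 16 := by rcases c with c | c <;> rw [c] <;> rfl
    have e : ∀ r < 56, r ≠ q → rc x r = 0 := fun r hr hne => by
      have := add_le_sum (f := fun q => rc x q * rc x q) (fun _ _ => mul_self_nonneg _)
        (mem_range.2 hr) (mem_range.2 hq1) hne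
      change _ ≤ dot x x at this
      nlinarith
    have k : ∀ q < 56, ∀ r < 56, rc (vw (2 ^ q)) r = (if q = r then 4 else 0) ∧
        rc (vw (2 ^ q * (2 ^ 56 + 1))) r = if q = r then -4 else 0 := by decide +kernel
    rcases c with c | c
    · refine ⟨_, h2 _ (Or.inr ⟨q, hq1, Or.inl rfl⟩), fun _ => ⟨rc_ext fun r hr => ?_, by omega⟩⟩
      rw [(k q hq1 r hr).1]
      split_ifs with h
      exacts [h ▸ c, e r hr (Ne.symm h)]
    · refine ⟨_, h2 _ (Or.inr ⟨q, hq1, Or.inr rfl⟩), fun _ => ⟨rc_ext fun r hr => ?_, by omega⟩⟩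
      rw [(k q hq1 r hr).2]
      split_ifs with h
      exacts [h ▸ c, e r hr (Ne.symm h)]
  · obtain ⟨v, a, b⟩ := hs.append
    refine ⟨_, h2 _ (Or.inl ⟨u, ⟨v, by rwa [Set.mem_setOf_eq, Nat.xor_zero], b⟩, hu, hu0, z, hz, rfl,
      h3.trans hn, h4⟩), fun hw => ?_⟩
    have e : z ^^^ 2 ^ 56 = z + 2 ^ 56 := by
      have := Nat.two_pow_add_eq_or_of_lt hz 1
      rw [Nat.mul_one] at this
      rw [Nat.xor_comm, Nat.add_comm, this]
      refine Nat.eq_of_testBit_eq fun q => ?_
      rw [Nat.testBit_xor, Nat.testBit_or, Nat.testBit_two_pow]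
      by_cases h : 56 = q
      · rw [← h, Nat.testBit_eq_false_of_lt hz]; rfl
      · simp [h]
    have e1 : wk (u + (z ^^^ 2 ^ 56) * 2 ^ 56) = 1 := by rw [wk_eq, e, if_neg (by omega)]
    have e2 : wu (u + (z ^^^ 2 ^ 56) * 2 ^ 56) = u := by rw [wu_eq]; omega
    have e3 : ws (u + (z ^^^ 2 ^ 56) * 2 ^ 56) = z := by rw [ws_eq, e]; omega
    have c := pq_eq (x := u) (by omega)
    rw [e1, e2] at hw
    have := wt_nonneg (z ^^^ (z &&& u))
    rw [hw rfl] at c
    refine ⟨rc_ext fun q h => ?_, by omega⟩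
    rw [vw, rc_ofR _ h, e1, e2, e3, sv, Nat.cast_one, one_mul]
    refine (hq q h).2 (((sum_eq_sum_iff_of_le (s := range 56) (f := fun q => bt u q)
      (g := fun q => rc x q * rc x q) fun q h => ?_).1 ?_ q (mem_range.2 h)).ge)
    · have := (hq q (mem_range.1 h)).1
      rcases bt_cases u q with a | a <;> rcases bt_cases z q with b | b <;> simp only [a, b] at * <;> omega
    · rw [← wt_eq hu]
      change _ = dot x x
      omega

/-! ### counting -/

/-- one step of the refinement -/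
structure Pin where
  (i k u s u' s' T lo hi : ℕ)

noncomputable def PL : List Pin := [⟨0x0, 0x4, 0x1, 0x0, 0x2, 0x0, 0xa2000000000000000001555ffffffe00000000000080000000000000000028000000000000, 0x1, 0x1fffffffffe⟩,
  ⟨0x1, 0x1, 0x6a5900650000a9, 0x42100064000088, 0x95a6009a000056, 0x94240088000010, 0x100400a18000000000000240400111001e1fe2000840a0002220000000000188000120600000000000, 0x3, 0x1fffffffffc⟩,
  ⟨0x2, 0x1, 0x69121484069082, 0x8021000008000, 0x96212848096041, 0x10002040010041, 0x2100080404000000000025088900400152b86f11000400000000000000000100204209c00000000000, 0x7, 0x1fffffffff8⟩,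
  ⟨0x3, 0x1, 0x95a600650000a9, 0x10000064000000, 0x6a59009a000056, 0x60510088000054, 0x400008800000000000c80400000001e1fe2ae0400a00020000000000002340003a0000000000000, 0xf, 0x1fffffffff0⟩,
  ⟨0x4, 0x1, 0x82968828480605, 0x920828480605, 0x4169441484090a, 0x4120400080080a, 0x926210600000000000000800000000c0b2b9a10004008221000000000000242000021c00000000000, 0x1f, 0x1ffffffffe0⟩,
  ⟨0x5, 0x1, 0x185a2114225005, 0x4a0014024004, 0x24a5122811a00a, 0x4801028108008, 0x300100000000000000011040102001215347aac00806082000000000000008101000a000000000000, 0x3f, 0x1ffffffffc0⟩,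
  ⟨0x6, 0x1, 0x1896442848a00a, 0x8800408082000, 0x24698814845005, 0x10810004005, 0x2802240080000000000011a0200000120b2a7ba8000200000000000000000004102088000000000000, 0x7f, 0x1ffffffff80⟩,
  ⟨0x7, 0x1, 0x22506024962181, 0x2500020042180, 0x11a09018691242, 0x10a01000490200, 0x1004048080000000000000209000801467214fa000c002100000000000000101024000000000000000, 0xff, 0x1ffffffff00⟩,
  ⟨0x8, 0x1, 0x500518a5211422, 0x50050880010400, 0xa00a245a122811, 0xa00a0010120811, 0x2800000000000000000010c1004007921536000c300120a000000000000000110110000000000000, 0x1ff, 0x1fffffffe00⟩,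
  ⟨0x9, 0x1, 0x21141106901855, 0x40100900050, 0x122822096024aa, 0x100802012004a0, 0x8010000000000000051081080015358721800021040c2000000000000100040800000000000000, 0x3ff, 0x1fffffffc00⟩,
  ⟨0xa, 0x1, 0x9602455122822, 0x9600005002822, 0x69018aa211411, 0x280100a010000, 0x24000648000000000000000b1004001872153400018030004000000000000001004000000000000000, 0x7ff, 0x1fffffff800⟩,
  ⟨0xb, 0x1, 0xa416944148409, 0x2040000408, 0x5829688284806, 0x5000480004800, 0x400020000000000000026498000018c0b2b8000000802100000000000000c0802020000000000000, 0xfff, 0x1fffffff000⟩,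
  ⟨0xc, 0x1, 0x9904196128122, 0x800116028122, 0x6608269214211, 0x4000268000200, 0x80118400000000000000520100000186c14d600000160100000000000000080200000000000000000, 0x1fff, 0x1ffffffe000⟩,
  ⟨0xd, 0x1, 0x11a00a245a1228, 0x11a00a24100020, 0x22500518a52114, 0x22000008250104, 0xc3400400000000000000000210000147921500005002400000000000000000000c480000000000000, 0x3fff, 0x1ffffffc000⟩]
/-- the base vectors -/
noncomputable def PC : List ℕ := [0x1, 0x1421000640000886a5900650000a9, 0x10802100000800069121484069082, 0x11000006400000095a600650000a9, 0x10092082848060582968828480605, 0x1004a0014024004185a2114225005, 0x1088004080820001896442848a00a, 0x10250002004218022506024962181, 0x150050880010400500518a5211422, 0x10004010090005021141106901855, 0x10960000500282209602455122822, 0x1000020400004080a416944148409, 0x10080011602812209904196128122, 0x111a00a2410002011a00a245a1228, 0x4, 0x10, 0x40, 0x100, 0x400, 0x1000, 0x4000, 0x10000, 0x40000, 0x100000, 0x400000, 0x1000000,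 0x4000000, 0x10000000, 0x40000000, 0x100000000, 0x400000000, 0x1000000000, 0x4000000000, 0x10000000000, 0x40000000000, 0x100000000000, 0x400000000000, 0x1000000000000, 0x4000000000000, 0x10000000000000, 0x40000000000000]
noncomputable def CN : List ℕ := [16240, 2304, 300, 26, 1, 1, 1, 1, 1, 1, 1, 1, 2, 1, 1, 1, 1, 1, 1, 1, 1, 1, 1, 1, 1, 1, 1, 1, 1, 1, 1, 1, 1, 1, 1, 1, 1, 1, 1, 1, 1]

noncomputable def Pin.key (p : Pin) (k u s : ℕ) : ℕ := force (Nat.mul k p.k) fun c =>
  Nat.sub (Nat.div (Nat.add (dN c u s p.u p.s) (Nat.mul 3 (dN c u s p.u' p.s'))) 4) 12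
noncomputable def Pin.msk (p : Pin) (k u s : ℕ) : ℕ :=
  Nat.lor p.lo (getT p.T 41 0x1ffffffffff (p.key k u s))

/-- the base vectors matched by a vector -/
noncomputable def go (k u s : ℕ) (l : List Pin) : ℕ → ℕ :=
  List.rec (fun a => a) (fun p _ ih a => Bool.rec (force (Nat.land a (p.msk k u s)) ih) a
    (Nat.beq (Nat.land a p.hi) 0)) l

theorem go_spec (k u s : ℕ) (l : List Pin) : ∀ a, go k u s l a ≤ a ∧ ∀ j, a.testBit j = true →
    (∀ p ∈ l, (p.msk k u s).testBit j = true) → (go k u s l a).testBit j = true := by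
  induction l with
  | nil => exact fun a => ⟨le_rfl, fun _ h _ => h⟩
  | cons p l ih =>
    intro a
    have : go k u s (p :: l) a = if a &&& p.hi = 0 then a else go k u s l (a &&& p.msk k u s) := by
      change (Bool.rec (force (Nat.land a (p.msk k u s)) (go k u s l)) a _ : ℕ) = _
      simp only [brec_eq_ite, force_eq, Nat.beq_eq]; rfl
    rw [this]
    split_ifs
    · exact ⟨le_rfl, fun _ h _ => h⟩
    · exact ⟨(ih _).1.trans Nat.and_le_left, fun j h h' => (ih _).2 j
        (by rw [Nat.testBit_and, h, h' p List.mem_cons_self]; rfl)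
        fun q hq => h' q (List.mem_cons_of_mem _ hq)⟩

noncomputable def FF1 (u s k : ℕ) (b : Bool) : ℕ :=
  Bool.rec (Nat.pow 2 1806) (Nat.land (Nat.mul (Nat.lor (go k u s PL 0x1ffffffffff) 0x20000000000)
    0x40000000001000000000040000000001000000000040000000001000000000040000000001000000000040000000001000000000040000000001000000000040000000001000000000040000000001000000000040000000001000000000040000000001000000000040000000001000000000040000000001000000000040000000001000000000040000000001000000000040000000001000000000040000000001000000000040000000001000000000040000000001000000000040000000001000000000040000000001000000000040000000001)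
    0x800000000010000000000200000000004000000000080000000001000000000020000000000400000000008000000000100000000002000000000040000000000800000000010000000000200000000004000000000080000000001000000000020000000000400000000008000000000100000000002000000000040000000000800000000010000000000200000000004000000000080000000001000000000020000000000400000000008000000000100000000002000000000040000000000800000000010000000000200000000004000000000080000000001) b
/-- the weight of a candidate -/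
noncomputable def FF (w : ℕ) : ℕ := force (wu w) fun u => force (ws w) fun s => force (wk w) fun k =>
  FF1 u s k (bimp (Nat.beq k 1) (Nat.beq (pq u) 16))

theorem FF_spec (w : ℕ) (h : FF w < Nat.pow 2 1806) : (wk w = 1 → pq (wu w) = 16) ∧
    H16.Rep 42 43 1 (FF w) fun j =>
      if (go (wk w) (wu w) (ws w) PL 0x1ffffffffff ||| 2 ^ 41).testBit j then 1 else 0 := by
  have key : ∀ u s k b, FF1 u s k b < Nat.pow 2 1806 → b = true ∧ H16.Rep 42 43 1 (FF1 u s k b)
      fun j => if (go k u s PL 0x1ffffffffff ||| 2 ^ 41).testBit j then 1 else 0 := by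
    rintro u s k (_ | _) h
    · exact absurd h (lt_irrefl _)
    · refine ⟨rfl, rep_spread ⟨by decide +kernel, fun _ _ => le_rfl⟩
        ⟨by decide +kernel, fun _ _ => le_rfl⟩ (by decide +kernel)
        (Nat.or_lt_two_pow ((go_spec _ _ _ _ _).1.trans_lt ?_) ?_)⟩ <;> norm_num
  rw [FF, force_eq, force_eq, force_eq] at h ⊢
  exact (key _ _ _ _ h).imp_left fun h => by simpa only [bimp_iff, Nat.beq_eq] using h

theorem pin_chk : ∀ p ∈ PL, p.k = wk (nth 0 PC p.i) ∧ p.u = wu (nth 0 PC p.i) ∧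
    p.s = ws (nth 0 PC p.i) ∧ (∀ q < 56, rc (gI • vw (nth 0 PC p.i)) q = sv p.k p.u' p.s' q) ∧
    ∀ j < 41, p.lo.testBit j = true ∨ p.i < j ∧
      (p.msk (wk (nth 0 PC j)) (wu (nth 0 PC j)) (ws (nth 0 PC j))).testBit j = true := by
  decide +kernel

theorem go_bit {w j : ℕ} (hj : j < 41) (h : ∀ i < j, dot (vw w) (vw (nth 0 PC i)) =
    dot (vw (nth 0 PC j)) (vw (nth 0 PC i)) ∧ dot (vw w) (gI • vw (nth 0 PC i)) =
    dot (vw (nth 0 PC j)) (gI • vw (nth 0 PC i))) :
    (go (wk w) (wu w) (ws w) PL 0x1ffffffffff).testBit j = true := by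
  refine (go_spec _ _ _ _ _).2 j (by clear h; revert j; decide +kernel) fun p hp => ?_
  obtain ⟨h1, h2, h3, h4, h5⟩ := pin_chk p hp
  rcases h5 j hj with a | ⟨a, b⟩
  · rw [Pin.msk, Nat.lor_eq, Nat.testBit_or, a]; rfl
  have e1 : ofR (sv p.k p.u p.s) = vw (nth 0 PC p.i) := by rw [h1, h2, h3]; rfl
  have e2 : ofR (sv p.k p.u' p.s') = gI • vw (nth 0 PC p.i) :=
    rc_ext fun q hq => by rw [h4 q hq, rc_ofR _ hq]
  have e3 : ∀ w, p.key (wk w) (wu w) (ws w) = ((16 + dot (vw w) (vw (nth 0 PC p.i))).toNat +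
      3 * (16 + dot (vw w) (gI • vw (nth 0 PC p.i))).toNat) / 4 - 12 := fun w => by
    rw [Pin.key, force_eq, Nat.mul_eq, dN_eq _ _ _ _ (wu_lt w), dN_eq _ _ _ _ (wu_lt w), e1, e2]; rfl
  rwa [Pin.msk, e3, (h _ a).1, (h _ a).2, ← e3]

theorem ncard_le_sum {α : Type*} (M : Multiset ℕ) (φ : ℕ → α) (d : ℕ → ℕ) (Y : Set α)
    (h : ∀ y ∈ Y, ∃ w ∈ M, φ w = y ∧ 1 ≤ d w) : Y.ncard ≤ (M.map d).sum := by
  have : Y ⊆ φ '' ↑(M.filter fun w => 1 ≤ d w).toFinset := fun y hy => by
    obtain ⟨w, h1, h2, h3⟩ := h y hy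
    exact ⟨w, by simp [h1, h3], h2⟩
  refine (Set.ncard_le_ncard this ((Finset.finite_toSet _).image _)).trans
    ((Set.ncard_image_le (Finset.finite_toSet _)).trans ?_)
  rw [Set.ncard_coe_finset]
  refine (Multiset.toFinset_card_le _).trans ?_
  conv_rhs => rw [← Multiset.filter_add_not (fun w => 1 ≤ d w) M, Multiset.map_add, Multiset.sum_add]
  refine le_trans ?_ (Nat.le_add_right _ _)
  simpa using Multiset.card_nsmul_le_sum (s := (M.filter fun w => 1 ≤ d w).map d) (a := 1) fun x hx => by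
    obtain ⟨w, hw, rfl⟩ := Multiset.mem_map.1 hx
    exact (Multiset.mem_filter.1 hw).2

theorem short_of (h : chk0 0 41 = 0 ∧ chk0 41 7 = 0 ∧ chk0 48 5 = 0 ∧ chk0 53 3 = 0) {T : ℕ}
    (hT : enT FF = T) (h1 : T < Nat.pow 2 1806) (h2 : ∀ j < 41, H16.fld 43 T j = nth 0 CN j) :
    (∀ x ∈ TT, x ≠ 0 → 16 ≤ dot x x) ∧ ∀ j < 41, {x ∈ TT | dot x x = 16 ∧ ∀ i < j,
      dot x (vw (nth 0 PC i)) = dot (vw (nth 0 PC j)) (vw (nth 0 PC i)) ∧
      dot x (gI • vw (nth 0 PC i)) = dot (vw (nth 0 PC j)) (gI • vw (nth 0 PC i))}.ncard ≤ nth 0 CN j := by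
  obtain ⟨M, h3, h4⟩ := exists_cover0 h
  rw [h3] at hT
  have h5 : ∀ w ∈ M, _ := fun w hw => FF_spec w
    ((Multiset.single_le_sum (fun _ _ => Nat.zero_le _) _ (Multiset.mem_map_of_mem FF hw)).trans_lt
      (hT ▸ h1))
  refine ⟨fun x hx h0 => ?_, fun j hj => ?_⟩
  · by_contra hc
    obtain ⟨w, hw, h6⟩ := h4 x hx h0 (by omega)
    have := (h6 (h5 w hw).1).2
    omega
  · rw [← h2 j hj, ← hT, ← count_digits (D := 41) M FF _ (fun w hw => ⟨(h5 w hw).2, fun i _ => ?_⟩)
      (hT ▸ h1.trans_eq (by decide +kernel)) j hj]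
    · refine ncard_le_sum M vw _ _ fun x ⟨hx, h6, h7⟩ => ?_
      obtain ⟨w, hw, h8⟩ := h4 x hx (by rintro rfl; simp [dot, rc_zero] at h6) h6.le
      obtain rfl := (h8 (h5 w hw).1).1
      exact ⟨w, hw, rfl, by rw [Nat.testBit_or, go_bit hj h7]; rfl⟩
    · rw [Nat.testBit_or _ _ 41, Nat.testBit_two_pow_self, Bool.or_true, if_pos rfl]
      split_ifs <;> omega

end H15.RuL
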