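import Cfsg.Agent.H15.RuC

/-! Enumeration of the short vectors of the Conway–Wales lattice (generated). -/

set_option autoImplicit false

namespace H15.RuL

theorem ch4 : enA (wd FF) AS2 0x448148a0058255 = 0x2c8000000000000000000000000000000000000000000000000000000000000000000000000000000000000000000000000000000000000000000000000000000000000000000000000000000000000000000000000000000000000000000000000000000000000000000000000000000000000000000000000000000000000000000000000000000000000000000000000000000000000080000000000000000000000000000000000000000000000000000000000000000000000000000000000000000000000000000000000400000000058000000006000000000590 := by decide +kernel
theorem ch5 : enA (wd FF) AS2 0xa96aa6009a00 = 0xe80000000000000000000000000000000000000000000000000000000000000000000000000000000000000000000000000000000000000000000000000000000000000000000000000000000000000000000000000000000000000000000000000000000000000000000000000000000000000000000000000000000000000000000000000000000000000000000000000000000000000000000000000000000000000000000000000000000000000000000000000000000000000000000000000000000000000000000000002000000000300000000024000000001d0 := by decide +kernel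
theorem ch6 : enA (wd FF) AS2 0xccc3ccf00fc300 = 0x208000000000000000000000000000000000000000000000000000000000000000000000000000000000000000000000000000000000000000000000000000000000000000000000000000000000000000000000000000000000000000000000000000000000000000000000000000000000000000000000000000000000000000000000000000000000000000000000000000000000000000000000001000000000000000000000000000000000000000000000000000000000000000000000000000000000000010000000000000000000030000000004400000000410 := by decide +kernel
theorem ch7 : enA (wd FF) AS2 0x88ebeef60adb55 = 0x128000000000000000000000000000000000000000000000000000000000000000000000000000000000000000000000000000000000000000000000000000000000000000000000000000000000000000000000000000000000000000000000000000000000000000000000000000000000000000000000000000000000000000000000000000000000000000000000000000000000000000000000000000000000000000000000000000000000000000000000000000000000000000000000000000000000000000000000000200000000028000000002000000000250 := by decide +kernel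
theorem z1 : chk0 41 7 = 0 := by decide +kernel

end H15.RuL
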