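import Cfsg.Agent.H15.RuC

/-! Enumeration of the short vectors of the Conway–Wales lattice (generated). -/

set_option autoImplicit false

namespace H15.RuL

theorem ch8 : enA (wd FF) AS2 0x44428409052455 = 0x2f80000000000000000000000000000000000000000000000000000000000000000000000000000000000000000000000000000000000000000000000000000000000000000000000000000000000000000000000000000000000000000000000000000000000000000000000000000000000000000000000000000000000000000000000000000000000000000000000000000000000000000000000000000000000000000000000000000000000000000000000000000000000000000000000000000000000000000000000008000000000700000000074000000005f0 := by decide +kernel
theorem ch9 : enA (wd FF) AS2 0x6aa60f003c00 = 0x1580000000000000000000000000000000000000000000000000000000000000000000000000000000000000000000000000000000000000000000000000000000000000000000000000000000000000000000000000000000000000000000000000000000000000000000000000000000000000000000000000000000000000000000000000000000000000000000000000000000000000000000000000000000000000000000000000000000000000000000000000000000000000000000000000000000000000000000000004000000000700000000038000000002b0 := by decide +kernel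
theorem ch10 : enA (wd FF) AS2 0xcc0000590f6500 = 0x338000000000000000000000000000000000000000000000000000000000000000000000000000000000000000000000000000000000000000000000000000000000000000000000000000000000000000000000000000000000000000000000000000000000000000000000000000000000000000000000000000000000000000000000000000000000000000000000000000000000000000000000000000000000020000000000400000000000000000000100000000000000000000000000000000000000000000000000000200000000088000000007800000000670 := by decide +kernel
theorem ch11 : enA (wd FF) AS2 0x8828225f0a7d55 = 0x118000000000000000000000000000000000000000000000000000000000000000000000000000000000000000000000000000000000000000000000000000000000000000000000000000000000000000000000000000000000000000000000000000000000000000000000000000000000000000000000000000000000000000000000000000000000000000000000000000000000000000000000000000000000000000000000000000000000000000000000000000000000000000000000000000000000000000000000000200000000018000000003400000000230 := by decide +kernel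
theorem z2 : chk0 48 5 = 0 := by decide +kernel

end H15.RuL
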