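import Cfsg.Agent.H15.RuC

/-! Enumeration of the short vectors of the Conway–Wales lattice (generated). -/

set_option autoImplicit false

namespace H15.RuL

theorem ch12 : enA (wd FF) AS2 0xc3cca900a600 = 0x2e80000000000000000000000000000000000000000000000000000000000000000000000000000000000000000000000000000000000000000000000000000000000000000000000000000000000000000000000000000000000000000000000000000000000000000000000000000000000000000000000000000000000000000000000000000000000000000000000000000000000000000000000000000000000000000000000000000000000000000000000000000020000000000000000000000000000000000000000000000000000600000000074000000005d0 := by decide +kernel
theorem ch13 : enA (wd FF) AS2 0x44ebeeaf05be55 = 0x128000000000000000000000000000000000000000000000000000000000000000000000000000000000000000000000000000000000000000000000000000000000000000000000000000000000000000000000000000000000000000000000000000000000000000000000000000000000000000000000000000000000000000000000000000000000000000000000000000000000000000000000000000000000000000000000000000000000000000000000000000000000000000000000000000000000000000000000000000000000028000000002000000000250 := by decide +kernel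
theorem ch14 : enA (wd FF) AS2 0x888148f90ae755 = 0x288000000000000000000000000000000000000000000000000000000000000000000000000000000000000000000000000000000000000000000000000000000000000000000000000000000000000000000000000000000000000000000000000000000000000000000000000000000000000000000000000000000000000000000000000000000000000000000000000000000000000000000000000000000000000000000000000000000000000000000000000000000000000000000000000000000000000000000000000800000000078000000005800000000510 := by decide +kernel
theorem ch15 : enA (wd FF) AS2 0xcca96aff0fff00 = 0x108000000000000000000000000000000000000000000000000000000000000000000000000000000000000000000000000000000000000000000000000000000000000000000000000000000000000000000000000000000000000000000000000000000000000000000000000000000000000000000000000000000000000000000000000000000000000000000000000000000000000000000000000000000000000000000000000000000000000000000000000000000000000000000000000000000000000000000000000400000000020000000002c00000000210 := by decide +kernel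
theorem z3 : chk0 53 3 = 0 := by decide +kernel

end H15.RuL
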