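import Cfsg.Agent.H15.RuE0
import Cfsg.Agent.H15.RuE1
import Cfsg.Agent.H15.RuE2
import Cfsg.Agent.H15.RuE3

/-! The automorphism group of the Conway–Wales lattice: upper bound, automorphisms from tables. -/

set_option autoImplicit false

namespace H15.RuL
open Cfsg Cfsg.Spor Finset MulAction
open H16 (nth fld)

theorem enA_top (G : ℕ → ℕ) : enA G AS1 0 = ((((G 0x0 + G 0x44282206051855) + (G 0x884284500a4155 + G 0xcc6aa6560f5900)) + ((G 0x448148a0058255 + G 0xa96aa6009a00) + (G 0xccc3ccf00fc300 + G 0x88ebeef60adb55))) + (((G 0x44428409052455 + G 0x6aa60f003c00) + (G 0xcc0000590f6500 + G 0x8828225f0a7d55)) + ((G 0xc3cca900a600 + G 0x44ebeeaf05be55) + (G 0x888148f90ae755 + G 0xcca96aff0fff00)))) := by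
  simp only [enA, AS1, force_eq]; rfl

theorem total : enT FF = 0x1fb80000000000100000000002000000000040000000000800000000010000000000200000000004000000000080000000001000000000020000000000400000000008000000000100000000002000000000040000000000800000000010000000000200000000004000000000080000000001000000000020000000000400000000008000000000100000000002000000000040000000000800000000020000000000200000000004000000000080000000001000000000020000000000400000000008000000000100000000034000000004b0000000048000000003f70 := by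
  rw [enT, enA_top, ch0, ch1, ch2, ch3, ch4, ch5, ch6, ch7, ch8, ch9, ch10, ch11, ch12, ch13, ch14,
    ch15, chB]

theorem short : (∀ x ∈ TT, x ≠ 0 → 16 ≤ dot x x) ∧ ∀ j < 41, {x ∈ TT | dot x x = 16 ∧ ∀ i < j,
    dot x (vw (nth 0 PC i)) = dot (vw (nth 0 PC j)) (vw (nth 0 PC i)) ∧
    dot x (gI • vw (nth 0 PC i)) = dot (vw (nth 0 PC j)) (gI • vw (nth 0 PC i))}.ncard ≤ nth 0 CN j :=
  short_of ⟨z0, z1, z2, z3⟩ total (by decide +kernel) (by decide +kernel)

/-- the lattice as a type -/
abbrev Lt : Type := ruLattice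
/-- coordinates -/
abbrev cv (v : Lt) : RuVec := (v : RuVec)

theorem fr_add (g : fourRu) (v w : Lt) : g • (v + w) = g • v + g • w := g.2.1 v w
theorem fr_I (g : fourRu) (v : Lt) : g • ruI v = ruI (g • v) := g.2.2.1 v
theorem fr_norm (g : fourRu) (v : Lt) : dot (cv (g • v)) (cv (g • v)) = dot (cv v) (cv v) := by
  rw [← norm_eq, ← norm_eq]; exact g.2.2.2 v
/-- an automorphism as an additive map -/
def frH (g : fourRu) : Lt →+ Lt := AddMonoidHom.mk' (fun v => g • v) (fr_add g)
theorem fr_zsmul (g : fourRu) (n : ℤ) (v : Lt) : g • (n • v) = n • (g • v) := (frH g).map_zsmul n v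
theorem fr_sub (g : fourRu) (v w : Lt) : g • (v - w) = g • v - g • w := (frH g).map_sub v w
theorem fr_dot (g : fourRu) (v w : Lt) : dot (cv (g • v)) (cv (g • w)) = dot (cv v) (cv w) := by
  have h1 := fr_norm g (v + w)
  rw [fr_add] at h1
  change dot (cv _ + cv _) (cv _ + cv _) = dot (cv v + cv w) (cv v + cv w) at h1
  rw [dot_add_self, dot_add_self, fr_norm, fr_norm] at h1
  omega
/-- multiplication by `i` -/
def IH : Lt →+ Lt := AddMonoidHom.mk' ruI fun v w => Subtype.ext (smul_add gI (cv v) (cv w))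
theorem I_I (v : Lt) : ruI (ruI v) = -v := Subtype.ext (by
  change gI • gI • cv v = -cv v
  rw [smul_smul, show gI * gI = -1 from rfl, neg_one_smul])

theorem finite_dot (n : ℤ) : {x : RuVec | dot x x = n}.Finite := by
  refine Set.Finite.of_finite_image (f := fun x (q : Fin 56) => rc x q) ?_
    fun x _ y _ e => rc_ext fun q hq => congrFun e ⟨q, hq⟩
  refine (Set.Finite.pi' (t := fun _ => Set.Icc (-n) n) fun _ => Set.finite_Icc _ _).subset ?_
  rintro _ ⟨x, hx, rfl⟩ q
  have := sq_le_dot x q.2
  rw [show dot x x = n from hx] at this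
  constructor <;> nlinarith [sq_nonneg (rc x q + 1), sq_nonneg (rc x q - 1), Int.le_self_sq (rc x q),
    Int.le_self_sq (-rc x q)]
theorem finite_lt (n : ℤ) : {x : Lt | dot (cv x) (cv x) = n}.Finite :=
  (finite_dot n).preimage (f := cv) Subtype.val_injective.injOn

theorem bij_of_dot (f : Lt →+ Lt) (h : ∀ v, dot (cv (f v)) (cv (f v)) = dot (cv v) (cv v)) :
    Function.Bijective f := by
  have hi : Function.Injective f := (injective_iff_map_eq_zero f).2 fun v hv => by
    have := h v
    rw [hv] at this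
    exact Subtype.ext (eq_zero_of_dot (this.symm.trans ((dH _).map_zero)))
  refine ⟨hi, fun v => ?_⟩
  obtain ⟨w, -, hw⟩ := ((finite_lt (dot (cv v) (cv v))).injOn_iff_bijOn_of_mapsTo
    (f := f) fun w hw => (h w).trans hw).1 hi.injOn |>.surjOn (show v ∈ _ from rfl)
  exact ⟨w, hw⟩

/-- an automorphism from an additive map -/
noncomputable def mkR (f : Lt →+ Lt) (hI : ∀ v, f (ruI v) = ruI (f v))
    (h : ∀ v, dot (cv (f v)) (cv (f v)) = dot (cv v) (cv v)) : fourRu :=
  ⟨Equiv.ofBijective f (bij_of_dot f h), f.map_add, hI, fun v => by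
    rw [norm_eq, norm_eq]; exact h v⟩

/-- the scalar `i` -/
noncomputable def iota : fourRu := mkR IH (fun _ => rfl) fun v => by
  change dot (gI • cv v) (gI • cv v) = _
  simp only [dot, show 56 = 2 * 28 from rfl, sum_pairs, rc_I]
  exact sum_congr rfl fun _ _ => by ring
theorem iota_smul (v : Lt) : iota • v = ruI v := rfl
theorem fr_ext' {g h : fourRu} (e : ∀ v : Lt, g • v = h • v) : g = h := Subtype.ext (Equiv.ext e)
theorem iota_mem : iota ∈ Subgroup.center fourRu := Subgroup.mem_center_iff.2 fun g =>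
  fr_ext' fun v => by rw [mul_smul, mul_smul, iota_smul, iota_smul, fr_I]

open Classical in
/-- the lattice vector with parameter `w` -/
noncomputable def lw (w : ℕ) : Lt := if h : vw w ∈ ruLattice then ⟨_, h⟩ else 0
theorem cv_lw {w : ℕ} (h : vw w ∈ TT) : cv (lw w) = vw w := by rw [lw, dif_pos (lat_eq ▸ h)]

/-- test for minimal vectors -/
noncomputable def okw (w : ℕ) : Bool :=
  band (Nat.beq (dw w w) 32) (bor (Nat.beq (wk w) 4) (mT (wu w) (Nat.land (wu w) (ws w))))
theorem okw_sound {w : ℕ} (h : okw w = true) : cv (lw w) = vw w ∧ dot (vw w) (vw w) = 16 := by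
  simp only [okw, band_iff, bor_iff, Nat.beq_eq] at h
  refine ⟨cv_lw ?_, norm_of_dw h.1⟩
  by_cases h4 : wk w = 4
  · have : vw w = (4 : ℤ) • ofR (sv 1 (wu w) (ws w)) := rc_ext fun q hq => by
      rw [rc_zsmul, vw, rc_ofR _ hq, rc_ofR _ hq, h4, sv, sv]; push_cast; ring
    exact this ▸ four_mem _
  · exact mT_sound (h.2.resolve_left h4) _ (R4_vw (by rw [wk_eq] at *; split_ifs at * <;> omega))

theorem hom_ext {φ ψ : Lt →+ Lt} (h : ∀ q < 56, φ (lw (bw q)) = ψ (lw (bw q))) (v : Lt) : φ v = ψ v := by
  have e : (4 : ℤ) • v = ∑ q ∈ range 56, rc (cv v) q • lw (bw q) := Subtype.ext (by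
    rw [AddSubmonoidClass.coe_finset_sum]
    refine (four_eq _).trans (sum_congr rfl fun q hq => ?_)
    rw [← cv_lw (bw_mem (by rw [mem_range] at hq; omega))]; rfl)
  refine smul_right_injective Lt (by norm_num : (4 : ℤ) ≠ 0) ?_
  simp only [← map_zsmul, e, map_sum]
  exact sum_congr rfl fun q hq => by rw [map_zsmul, map_zsmul, h q (mem_range.1 hq)]

/-- `b = i a` -/
def chkI (a b : ℕ) : Prop := ∀ j < 28, sv (wk b) (wu b) (ws b) (2 * j) = -sv (wk a) (wu a) (ws a) (2 * j + 1) ∧
  sv (wk b) (wu b) (ws b) (2 * j + 1) = sv (wk a) (wu a) (ws a) (2 * j)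
noncomputable instance chkIDec (a b : ℕ) : Decidable (chkI a b) := by unfold chkI; infer_instance
theorem chkI.eq {a b : ℕ} (h : chkI a b) (ha : cv (lw a) = vw a) (hb : cv (lw b) = vw b) :
    ruI (lw a) = lw b := Subtype.ext (rc_ext fun q hq => by
  change rc (gI • cv (lw a)) q = rc (cv (lw b)) q
  obtain ⟨j, rfl | rfl⟩ := q.even_or_odd'
  · rw [(rc_I _ j).1, ha, hb, vw, vw, rc_ofR _ hq, rc_ofR _ (by omega), (h j (by omega)).1]
  · rw [(rc_I _ j).2, ha, hb, vw, vw, rc_ofR _ hq, rc_ofR _ (by omega), (h j (by omega)).2])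

theorem bw_I : ∀ j < 28, chkI (bw (2 * j)) (bw (2 * j + 1)) := by decide +kernel
theorem I_bw {j : ℕ} (h : j < 28) : ruI (lw (bw (2 * j))) = lw (bw (2 * j + 1)) :=
  (bw_I j h).eq (cv_lw (bw_mem (by omega))) (cv_lw (bw_mem (by omega)))

theorem fr_ext {g h : fourRu} (e : ∀ j < 28, g • lw (bw (2 * j)) = h • lw (bw (2 * j))) : g = h :=
  fr_ext' (hom_ext (φ := frH g) (ψ := frH h) fun q hq => by
    obtain ⟨j, rfl | rfl⟩ := q.even_or_odd'
    · exact e j (by omega)
    · change g • lw _ = h • lw _
      rw [← I_bw (by omega), fr_I, fr_I, e j (by omega)])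

theorem norm_lw_bw {k : ℕ} (h : k < 93) : dot (cv (lw (bw k))) (cv (lw (bw k))) = 16 := by
  rw [cv_lw (bw_mem h), norm_bw h]

instance fourRu_finite : Finite fourRu := by
  have := (finite_lt 16).to_subtype
  refine Finite.of_injective (β := Fin 28 → {x : Lt | dot (cv x) (cv x) = 16})
    (fun g j => ⟨g • lw (bw (2 * j)), (fr_norm _ _).trans (norm_lw_bw (by omega))⟩)
    fun g h e => fr_ext fun j hj => congrArg Subtype.val (congrFun e ⟨j, hj⟩)

/-! ### the upper bound -/

theorem pc_chk : (∀ i < 41, okw (nth 0 PC i) = true) ∧ (∀ j < 28, ∃ i < 41, nth 0 PC i = bw (2 * j)) ∧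
    ∏ i ∈ range 41, nth 0 CN i = 583704576000 := by decide +kernel

/-- the pointwise stabilisers -/
noncomputable def HH : ℕ → Subgroup fourRu :=
  Nat.rec ⊤ fun j H => H ⊓ stabilizer fourRu (lw (nth 0 PC j))

theorem HH_fix {g : fourRu} {j : ℕ} (h : g ∈ HH j) : ∀ i < j, g • lw (nth 0 PC i) = lw (nth 0 PC i) := by
  induction j with
  | zero => exact fun _ hi => absurd hi (Nat.not_lt_zero _)
  | succ j ih =>
    intro i hi
    rcases (Nat.lt_succ_iff.1 hi).eq_or_lt with rfl | hi
    exacts [h.2, ih h.1 i hi]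

theorem card_le : Nat.card fourRu ≤ 583704576000 := by
  have key : ∀ j ≤ 41, Nat.card fourRu ≤ (∏ i ∈ range j, nth 0 CN i) * Nat.card (HH j) := by
    intro j hj
    induction j with
    | zero => exact (Subgroup.card_top.symm.trans (one_mul _).symm).le
    | succ j ih =>
      refine (ih (by omega)).trans ?_
      rw [prod_range_succ, mul_assoc, card_eq_of_orbit (HH j) (lw (nth 0 PC j))
        {y | ∃ h ∈ HH j, h • lw (nth 0 PC j) = y} (fun h hh => ⟨h, hh, rfl⟩) (fun y hy => hy)]
      refine Nat.mul_le_mul_left _ (Nat.mul_le_mul_right _ (le_trans ?_ (short.2 j hj)))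
      refine Set.ncard_le_ncard_of_injOn cv ?_ Subtype.val_injective.injOn
        ((finite_dot 16).subset fun _ h => h.2.1)
      rintro _ ⟨g, hg, rfl⟩
      have a := okw_sound (pc_chk.1 j hj)
      refine ⟨lat_eq ▸ Subtype.property _, by rw [fr_norm, a.1, a.2], fun i hi => ?_⟩
      have b := fr_dot g (lw (nth 0 PC j)) (lw (nth 0 PC i))
      have c := fr_dot g (lw (nth 0 PC j)) (ruI (lw (nth 0 PC i)))
      rw [fr_I] at c
      rw [HH_fix hg i hi] at b c
      rw [← a.1, ← (okw_sound (pc_chk.1 i (by omega))).1]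
      exact ⟨b, c⟩
  have : HH 41 = ⊥ := eq_bot_iff.2 fun g hg => fr_ext fun j hj => by
    obtain ⟨i, hi, e⟩ := pc_chk.2.1 j hj
    rw [← e, HH_fix hg i hi, one_smul]
  have := key 41 le_rfl
  rwa [‹HH 41 = ⊥›, Subgroup.card_bot, mul_one, pc_chk.2.2] at this

/-! ### automorphisms from tables -/

theorem dot_sum {ι : Type*} [Fintype ι] (c : ι → ℤ) (b : ι → Lt) :
    dot (cv (∑ k, c k • b k)) (cv (∑ k, c k • b k)) = ∑ k, ∑ l, c k * (c l * dot (cv (b k)) (cv (b l))) := by
  have : ∀ y, dot (cv (∑ k, c k • b k)) y = ∑ k, c k * dot (cv (b k)) y := fun y => by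
    rw [cv, AddSubmonoidClass.coe_finset_sum]
    exact (map_sum (dH y) _ _).trans (sum_congr rfl fun k _ => (dH y).map_zsmul _ _)
  rw [this]
  refine sum_congr rfl fun k _ => ?_
  rw [dot_comm, this, mul_sum]
  exact sum_congr rfl fun l _ => by rw [dot_comm]

theorem exists_of_gram (w : ℕ → Lt) (hI : ∀ j < 28, ruI (w (2 * j)) = w (2 * j + 1))
    (hg : ∀ k < 93, ∀ l < 93, dot (cv (w k)) (cv (w l)) = dot (cv (lw (bw k))) (cv (lw (bw l)))) :
    ∃ g : fourRu, ∀ k < 93, g • lw (bw k) = w k := by
  classical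
  let F : (ℕ → Lt) → (Fin 93 → ℤ) →+ Lt := fun b => AddMonoidHom.mk' (fun c => ∑ k, c k • b k)
    fun c d => by simp only [Pi.add_apply, add_smul, sum_add_distrib]
  have hF : ∀ b k, F b (Pi.single k 1) = b k := fun b k => by
    change ∑ l, (Pi.single k 1 : Fin 93 → ℤ) l • b l = _
    rw [sum_eq_single k (fun l _ hl => by simp [hl]) (by simp)]; simp
  let b : ℕ → Lt := fun k => lw (bw k)
  have hn : ∀ c, dot (cv (F w c)) (cv (F w c)) = dot (cv (F b c)) (cv (F b c)) := fun c =>
    (dot_sum c fun k => w k).trans ((sum_congr rfl fun k _ => sum_congr rfl fun l _ => by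
      rw [hg k k.2 l l.2]).trans (dot_sum c fun k => b k).symm)
  have hsur : Function.Surjective (F b) := fun v => by
    have : TT ≤ (F b).range.map ruLattice.subtype := (AddSubgroup.closure_le _).2 (by
      rintro _ ⟨k, hk, rfl⟩
      exact ⟨_, ⟨_, hF b ⟨k, hk⟩⟩, cv_lw (bw_mem hk)⟩)
    obtain ⟨w, hw, e⟩ := this (lat_eq.le v.2)
    exact (Subtype.ext e : w = v) ▸ hw
  have hker : (F b).ker ≤ (F w).ker := fun c hc => by
    have := hn c
    rw [show F b c = 0 from hc] at this
    exact Subtype.ext (eq_zero_of_dot (this.trans ((dH _).map_zero)))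
  obtain ⟨f, hf⟩ : ∃ f : Lt →+ Lt, ∀ c, f (F b c) = F w c := ⟨_,
    AddMonoidHom.liftOfRightInverse_comp_apply (F b) _ (Function.rightInverse_surjInv hsur) ⟨F w, hker⟩⟩
  have hb : ∀ k < 93, f (lw (bw k)) = w k := fun k hk => by
    have := hf (Pi.single ⟨k, hk⟩ 1)
    rwa [hF, hF] at this
  refine ⟨mkR f (hom_ext (φ := f.comp IH) (ψ := IH.comp f) fun q hq => ?_) fun v => ?_, hb⟩
  · change f (ruI _) = ruI (f _)
    obtain ⟨j, rfl | rfl⟩ := q.even_or_odd'
    · rw [I_bw (by omega), hb _ (by omega), hb _ (by omega), hI j (by omega)]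
    · rw [hb _ (by omega), ← I_bw (by omega), ← hI j (by omega), I_I, I_I, map_neg, hb _ (by omega)]
  · obtain ⟨c, rfl⟩ := hsur v
    rw [hf]; exact hn c

/-- entry of a table of parameters -/
def gz (W k : ℕ) : ℕ := getT W 113 0x1ffffffffffffffffffffffffffff k
def BP : ℕ := 0x155400401400140554414115005418010100100042222141103028c2ae01020140200016210a1140290556048008044010002485080cc030ab10028002400800124284066018558020808401284020aa9094112848505040480800201055484a0894242c8028040800504cc428444a0150522042800060400aa442822060518aa820200880200aaa20a08a802a0d54104041001101551050454015060428010080048224282340c104ab4042840001244144428409052455854100020000203553003280002b50a100114000009aa98019400015a884004040020228850440c0a30ab08020450020005884284500a41558101020120082a89214203300c2ac00508080080201055484a089424204400440200504cc428444a0150508000000001886888122a0051896c42000000002005522141103028c42000002008811220504424289156900c0002000008d54c00ca0000ad10000020400214121411a060825589214203300c0009214203300c55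42040008100814a20508a8180916a42840140010488428509412104ab000180406000028881845060185a8020010320000222211103301233441001011004000490a101980615640044020050404428444a01504cd00400410100440554414115005418004010200082222141103028c2ae01001000080142210a1140290556010011000004a0890291400b04ab040084090124144442840905245500000000000000400000000000000000000000000010000000000000000000000000000400000000000000000000000000010000000000000000000000000000400000000000000000000000000010000000000000000000000000000400000000000000000000000000010000000000000000000000000000400000000000000000000000000010000000000000000000000000000400000000000000000000000000010000000000000000000000000000400000000000000000000000000010000000000000000000000000000400000000000000000000000000010000000000000000000000000000400000000000000000000000000010000000000000000000000000000400000000000000000000000000010000000000000000000000000000400000000000000000000000000010000000000000000000000000000400000000000000000000000000010000000000000000000000000000400000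00000000000000000000001000000000000000000000000000040000000000000000000000000001000000000000000000000000000040000000000000000000000000001000000000000000000000000000040000000000000000000000000001000000000000000000000000000040000000000000000000000000001000000000000000000000000000040000000000000000000000000001000000000000000000000000000040000000000000000000000000001000000000000000000000000000040000000000000000000000000001000000000000000000000000000040000000000000000000000000001000000000000000000000000000040000000000000000000000000001000000000000000000000000000040000000000000000000000000001000000000000000000000000000040000000000000000000000000001000000000000000000000000000040000000000000000000000000001000000000000000000000000000040000000000000000000000000001000000000000000000000000000040000000000000000000000000001000000000000000000000000000040000000000000000000000000001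
theorem gz_BP : ∀ k < 93, gz BP k = bw k := by decide +kernel

/-- the table defines an automorphism -/
def autOK (W : ℕ) : Prop := (∀ j < 28, chkI (gz W (2 * j)) (gz W (2 * j + 1))) ∧
  allTo (fun l => force (gz W l) fun a => force (gz BP l) fun b => band (okw a)
    (allTo (fun k => Nat.beq (dw a (gz W k)) (dw b (gz BP k))) l)) 93 = true
noncomputable instance autOKDec (W : ℕ) : Decidable (autOK W) := by unfold autOK; infer_instance

open Classical in
/-- the automorphism given by a table -/
noncomputable def aut (W : ℕ) : fourRu :=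
  if h : ∃ g : fourRu, ∀ k < 93, g • lw (bw k) = lw (gz W k) then h.choose else 1

theorem autOK.spec {W : ℕ} (h : autOK W) :
    ∀ k < 93, aut W • lw (bw k) = lw (gz W k) ∧ cv (lw (gz W k)) = vw (gz W k) := by
  obtain ⟨h1, h2⟩ := h
  simp only [allTo_iff, force_eq, band_iff, Nat.beq_eq] at h2
  have h3 := fun k hk => okw_sound (h2 k hk).1
  have : ∃ g : fourRu, ∀ k < 93, g • lw (bw k) = lw (gz W k) := by
    refine exists_of_gram _ (fun j hj => (h1 j hj).eq (h3 _ (by omega)).1 (h3 _ (by omega)).1)
      fun k hk l hl => ?_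
    wlog hkl : l ≤ k generalizing k l
    · rw [dot_comm, this l hl k hk (by omega), dot_comm]
    rw [(h3 k hk).1, (h3 l hl).1, cv_lw (bw_mem hk), cv_lw (bw_mem hl)]
    rcases hkl.eq_or_lt with rfl | hkl
    · rw [(h3 l hl).2, norm_bw hl]
    · rw [dot_of_dw (h3 k hk).2 (h3 l hl).2, dot_of_dw (norm_bw hk) (norm_bw hl), (h2 k hk).2 l hkl,
        gz_BP k hk, gz_BP l hl]
  unfold aut
  rw [dif_pos this]
  exact fun k hk => ⟨this.choose_spec k hk, (h3 k hk).1⟩

/-! ### the ambient data of the matrix kit -/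

/-- parameters -/
def qR : H16.MP := ⟨28, 18, 262143, 73⟩
/-- the action -/
def rhoR : fourRu →* AddMonoid.End Lt where
  toFun := frH
  map_one' := AddMonoidHom.ext fun v => one_smul fourRu v
  map_mul' a b := AddMonoidHom.ext fun v => mul_smul a b v
/-- the spanning family -/
noncomputable def eR (j : ℕ) : Lt := (55 : ℤ) • lw (bw (2 * j))
/-- the multiples of `8 - 3 i` -/
def UR : AddSubgroup Lt where
  carrier := {v | ∀ j < 28, (73 : ℤ) ∣ rc (cv v) (2 * j) + 27 * rc (cv v) (2 * j + 1)}
  zero_mem' j _ := by simp [rc_zero]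
  add_mem' {a b} ha hb j hj := by
    have := ha j hj
    have := hb j hj
    change _ ∣ rc (cv a + cv b) _ + 27 * rc (cv a + cv b) _
    rw [rc_add, rc_add]; omega
  neg_mem' {a} ha j hj := by
    have := ha j hj
    change _ ∣ rc (-cv a) _ + 27 * rc (-cv a) _
    rw [rc_neg, rc_neg]; omega

theorem rc_pi (w : Lt) (a b : ℤ) (j : ℕ) :
    rc (cv (a • w + b • ruI w)) (2 * j) = a * rc (cv w) (2 * j) - b * rc (cv w) (2 * j + 1) ∧
    rc (cv (a • w + b • ruI w)) (2 * j + 1) = a * rc (cv w) (2 * j + 1) + b * rc (cv w) (2 * j) := by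
  change rc (a • cv w + b • gI • cv w) _ = _ ∧ rc (a • cv w + b • gI • cv w) _ = _
  simp only [rc_add, rc_zsmul, rc_I, and_true]; ring

theorem exists_of_UR {v : Lt} (h : v ∈ UR) : ∃ w : Lt, v = (8 : ℤ) • w + (-3 : ℤ) • ruI w := by
  let w := ofR fun q => rc (cv ((8 : ℤ) • v + (3 : ℤ) • ruI v)) q / 73
  have e : ∀ q < 56, 73 * rc w q = rc (cv ((8 : ℤ) • v + (3 : ℤ) • ruI v)) q := fun q hq => by
    rw [rc_ofR _ hq]
    obtain ⟨j, rfl | rfl⟩ := q.even_or_odd' <;> have := h j (by omega) <;> simp only [rc_pi] <;> omega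
  have hw : w ∈ ruLattice := by
    have : w = cv ((8 : ℤ) • v + (3 : ℤ) • ruI v) - (18 : ℤ) • (4 : ℤ) • w := rc_ext fun q hq => by
      rw [rc_sub, ← e q hq, rc_zsmul, rc_zsmul]; ring
    exact this ▸ sub_mem (Subtype.property _) (zsmul_mem (lat_eq ▸ four_mem w) _)
  refine ⟨⟨w, hw⟩, Subtype.ext (rc_ext fun q hq => ?_)⟩
  change rc (cv v) q = _
  rw [show w = cv ⟨w, hw⟩ from rfl] at e
  generalize (⟨w, hw⟩ : Lt) = w at *
  obtain ⟨j, rfl | rfl⟩ := q.even_or_odd' <;> have := e (2 * j) (by omega) <;>
    have := e (2 * j + 1) (by omega) <;> simp only [rc_pi] at * <;> omega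

theorem ambR : H16.Amb qR rhoR eR UR := by
  refine ⟨by decide, fun a u hu j hj => ?_, fun j _ i _ => ?_⟩
  · obtain ⟨w, rfl⟩ := exists_of_UR hu
    change _ ∣ rc (cv (a • _)) _ + 27 * rc (cv (a • _)) _
    rw [fr_add, fr_zsmul, fr_zsmul, fr_I]
    simp only [rc_pi]; omega
  · change _ ∣ rc ((73 : ℤ) • cv (eR j)) _ + 27 * rc ((73 : ℤ) • cv (eR j)) _
    rw [rc_zsmul, rc_zsmul]; omega

theorem rc_dec (y : ℕ) {j : ℕ} (hj : j < 28) : rc (cv (H16.dec eR 28 18 y)) (2 * j) = 220 * fld 18 y j ∧
    rc (cv (H16.dec eR 28 18 y)) (2 * j + 1) = 0 := by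
  have : ∀ r < 56, rc (cv (H16.dec eR 28 18 y)) r =
      ∑ i ∈ range 28, if 2 * i = r then 220 * (fld 18 y i : ℤ) else 0 := fun r hr => by
    rw [H16.dec, cv, AddSubmonoidClass.coe_finset_sum, rc_sum]
    refine sum_congr rfl fun i hi => ?_
    rw [mem_range] at hi
    change rc (fld 18 y i • (55 : ℤ) • cv (lw (bw (2 * i)))) r = _
    rw [← natCast_zsmul, rc_zsmul, rc_zsmul, cv_lw (bw_mem (by omega)), rc_bw _ (by omega) r hr]
    split_ifs <;> ring
  rw [this _ (by omega), this _ (by omega), sum_eq_single j (fun i _ hi => if_neg (by omega))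
    (fun h => absurd (mem_range.2 hj) h), if_pos rfl]
  exact ⟨rfl, sum_eq_zero fun i _ => if_neg (by omega)⟩

theorem rigidR : H16.Rigid rhoR eR UR 28 := fun g h => fr_ext fun j hj => by
  have h1 := h j hj
  change g • ((55 : ℤ) • _) - (55 : ℤ) • _ ∈ UR at h1
  rw [fr_zsmul, ← smul_sub] at h1
  have n1 := norm_lw_bw (k := 2 * j) (by omega)
  rw [one_smul, ← sub_eq_zero]
  have n2 : dot (cv (g • lw (bw (2 * j)) - lw (bw (2 * j)))) (cv (g • lw (bw (2 * j)) - lw (bw (2 * j)))) ≤ 64 := by
    have := le_dot ((fr_norm g _).trans n1) n1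
    change dot (cv _ - cv _) (cv _ - cv _) ≤ _
    rw [sub_eq_add_neg, dot_add_self, dot_neg_self, fr_norm, n1, dot_comm, dot_neg, dot_comm]
    omega
  generalize g • lw (bw (2 * j)) - lw (bw (2 * j)) = d at *
  have : ∀ i < 28, rc (cv d) (2 * i) = 0 ∧ rc (cv d) (2 * i + 1) = 0 := fun i hi => by
    have h2 : (73 : ℤ) ∣ rc ((55 : ℤ) • cv d) _ + 27 * rc ((55 : ℤ) • cv d) _ := h1 i hi
    rw [rc_zsmul, rc_zsmul] at h2
    have h3 := (add_le_sum (f := fun q => rc (cv d) q * rc (cv d) q) (fun _ _ => mul_self_nonneg _)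
      (mem_range.2 (show 2 * i < 56 by omega)) (mem_range.2 (show 2 * i + 1 < 56 by omega))
      (by omega)).trans n2
    generalize rc (cv d) (2 * i) = a at *
    generalize rc (cv d) (2 * i + 1) = b at *
    obtain ⟨t, ht⟩ : (73 : ℤ) ∣ a + 27 * b := by omega
    have h4 : a * a + b * b = 73 * (73 * t * t - 54 * t * b + 10 * b * b) := by
      rw [show a = 73 * t - 27 * b by omega]; ring
    have := mul_self_nonneg a
    have := mul_self_nonneg b
    exact ⟨mul_self_eq_zero.1 (by omega), mul_self_eq_zero.1 (by omega)⟩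
  refine Subtype.ext (rc_ext fun q hq => ?_)
  obtain ⟨i, rfl | rfl⟩ := q.even_or_odd'
  exacts [(this i (by omega)).1.trans (rc_zero _).symm, (this i (by omega)).2.trans (rc_zero _).symm]

/-- the list `L` codes the vectors `n j` -/
def colOK (n : ℕ → ℕ) (L : List ℕ) : Prop := H16.colsChk qR L = 0 ∧ ∀ j < 28, ∀ i < 28, (73 : ℤ) ∣
  sv (wk (n j)) (wu (n j)) (ws (n j)) (2 * i) + 27 * sv (wk (n j)) (wu (n j)) (ws (n j)) (2 * i + 1) -
    4 * fld 18 (nth 0 L j) i
noncomputable instance colOKDec (n : ℕ → ℕ) (L : List ℕ) : Decidable (colOK n L) := by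
  unfold colOK; infer_instance

theorem colOK.cols {n : ℕ → ℕ} {L : List ℕ} (h : colOK n L) {g : fourRu}
    (hg : ∀ j < 28, cv (g • lw (bw (2 * j))) = vw (n j)) : H16.Cols qR rhoR eR UR g L := by
  obtain ⟨h5, h6⟩ := Nat.add_eq_zero_iff.1 h.1
  refine ⟨H16.xor_zero h5, fun j hj => ⟨H16.xor_zero (H16.sumL_zero h6 _ (H16.nth_mem_of_lt 0 L
    (by rw [H16.xor_zero h5]; exact hj))), fun i hi => ?_⟩⟩
  have := h.2 j hj i hi
  change _ ∣ rc (cv (g • ((55 : ℤ) • _)) - cv (H16.dec eR 28 18 _)) _ +
    27 * rc (cv (g • ((55 : ℤ) • _)) - cv (H16.dec eR 28 18 _)) _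
  rw [rc_sub, rc_sub, (rc_dec _ hi).1, (rc_dec _ hi).2, fr_zsmul]
  change _ ∣ rc ((55 : ℤ) • cv _) _ - _ + 27 * (rc ((55 : ℤ) • cv _) _ - _)
  rw [rc_zsmul, rc_zsmul, hg j hj, vw, rc_ofR _ (by omega), rc_ofR _ (by omega)]
  omega

end H15.RuL
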