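import Cfsg.Agent.H15.RuC

/-! Enumeration of the short vectors of the Conway–Wales lattice (generated). -/

set_option autoImplicit false

namespace H15.RuL

theorem ch0 : enA (wd FF) AS2 0x0 = 0x3580000000000000000000000000000000000000000000000000000000000000000000000000000000000000000000000000000000000000000000000000000000000000000000000000000000000000000000000000000000000000000000000000000000000000000000000000000000000000000000000000000000000000000000000000000000000000000000000000000000000000000000000000000000000000000000000000000000080000000000000000000000000000000000000000000000000000000000000008000000000800000000090000000006b0 := by decide +kernel
theorem ch1 : enA (wd FF) AS2 0x44282206051855 = 0x118000000000000000000000000000000000000000000000000000000000000000000000000000000000000000000000000000000000000000000000000000000000000000000000000000000000000000000000000000000000000000000000000000000000000000000000000000000000000000000000000000000000000000000000000000000000000000000000000000000000000000000000000000000000000000000000000000000000000000000000000000000000000000000000000000800000000000000000000200000000020000000002c00000000230 := by decide +kernel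
theorem ch2 : enA (wd FF) AS2 0x884284500a4155 = 0x2b8000000000000000000000000000000000000000000000000000000000000000000000000000000000000000000000000000000000000000000000000000000000000000000000000000000000000000000000000000000000000000000000000000000000000000000000000000000000000000000000000000000000000000000000000000000000000000000000000000000000000000000000001000000000000000000000000000000000000000000000000000000000000000040000000000000000000000000000000600000000058000000005400000000570 := by decide +kernel
theorem ch3 : enA (wd FF) AS2 0xcc6aa6560f5900 = 0x138000000000000000000000000000000000000000000000000000000000000000000000000000000000000000000000000000000000000000000000000000000000000000000000000000000000000000000000000000000000000000000000000000000000000000000000000000000000000000000000000000000000000000000000000000000000000000000000000000000000000000000000000000000000000000000000000000000000000000000000000000000000000000000000000000000000000000000000000000000000038000000001800000000270 := by decide +kernel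
theorem z0 : chk0 0 41 = 0 := by decide +kernel
theorem chB : enB FF = 0x38000000000010000000000200000000004000000000080000000001000000000020000000000400000000008000000000100000000002000000000040000000000800000000010000000000200000000004000000000080000000001000000000020000000000400000000008000000000100000000002000000000040000000000800000000010000000000200000000004000000000000000000000000000000000000000000000000000000000000000000000000000000000000000000000000000000000000000000000000000000000000000000000000000070 := by decide +kernel

end H15.RuL
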