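import Cfsg.Agent.H15.Y5

/-! Generated by tools/h16 (computation kit). -/

set_option maxRecDepth 100000
set_option maxHeartbeats 0

namespace H15.Y5B

open H16

noncomputable def Rl : List (List ℕ) := [[nat_lit 0, nat_lit 0],
  [nat_lit 1, nat_lit 1],
  [nat_lit 2, nat_lit 2],
  [nat_lit 3, nat_lit 3],
  [nat_lit 4, nat_lit 4],
  [nat_lit 5, nat_lit 5],
  [nat_lit 6, nat_lit 6],
  [nat_lit 7, nat_lit 7],
  [nat_lit 8, nat_lit 8],
  [nat_lit 1, nat_lit 0, nat_lit 1, nat_lit 0, nat_lit 1, nat_lit 0],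
  [nat_lit 2, nat_lit 0, nat_lit 2, nat_lit 0, nat_lit 2, nat_lit 0],
  [nat_lit 2, nat_lit 1, nat_lit 2, nat_lit 1],
  [nat_lit 3, nat_lit 0, nat_lit 3, nat_lit 0, nat_lit 3, nat_lit 0],
  [nat_lit 3, nat_lit 1, nat_lit 3, nat_lit 1],
  [nat_lit 3, nat_lit 2, nat_lit 3, nat_lit 2],
  [nat_lit 4, nat_lit 0, nat_lit 4, nat_lit 0],
  [nat_lit 4, nat_lit 1, nat_lit 4, nat_lit 1, nat_lit 4, nat_lit 1],
  [nat_lit 4, nat_lit 2, nat_lit 4, nat_lit 2],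
  [nat_lit 4, nat_lit 3, nat_lit 4, nat_lit 3],
  [nat_lit 5, nat_lit 0, nat_lit 5, nat_lit 0],
  [nat_lit 5, nat_lit 1, nat_lit 5, nat_lit 1],
  [nat_lit 5, nat_lit 2, nat_lit 5, nat_lit 2, nat_lit 5, nat_lit 2],
  [nat_lit 5, nat_lit 3, nat_lit 5, nat_lit 3],
  [nat_lit 5, nat_lit 4, nat_lit 5, nat_lit 4],
  [nat_lit 6, nat_lit 0, nat_lit 6, nat_lit 0],
  [nat_lit 6, nat_lit 1, nat_lit 6, nat_lit 1],
  [nat_lit 6, nat_lit 2, nat_lit 6, nat_lit 2],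
  [nat_lit 6, nat_lit 3, nat_lit 6, nat_lit 3],
  [nat_lit 6, nat_lit 4, nat_lit 6, nat_lit 4, nat_lit 6, nat_lit 4],
  [nat_lit 6, nat_lit 5, nat_lit 6, nat_lit 5],
  [nat_lit 7, nat_lit 0, nat_lit 7, nat_lit 0],
  [nat_lit 7, nat_lit 1, nat_lit 7, nat_lit 1],
  [nat_lit 7, nat_lit 2, nat_lit 7, nat_lit 2],
  [nat_lit 7, nat_lit 3, nat_lit 7, nat_lit 3],
  [nat_lit 7, nat_lit 4, nat_lit 7, nat_lit 4],
  [nat_lit 7, nat_lit 5, nat_lit 7, nat_lit 5, nat_lit 7, nat_lit 5],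
  [nat_lit 7, nat_lit 6, nat_lit 7, nat_lit 6],
  [nat_lit 8, nat_lit 0, nat_lit 8, nat_lit 0],
  [nat_lit 8, nat_lit 1, nat_lit 8, nat_lit 1],
  [nat_lit 8, nat_lit 2, nat_lit 8, nat_lit 2],
  [nat_lit 8, nat_lit 3, nat_lit 8, nat_lit 3],
  [nat_lit 8, nat_lit 4, nat_lit 8, nat_lit 4],
  [nat_lit 8, nat_lit 5, nat_lit 8, nat_lit 5],
  [nat_lit 8, nat_lit 6, nat_lit 8, nat_lit 6, nat_lit 8, nat_lit 6],
  [nat_lit 8, nat_lit 7, nat_lit 8, nat_lit 7],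
  [nat_lit 7, nat_lit 0, nat_lit 1, nat_lit 2, nat_lit 3, nat_lit 4, nat_lit 5, nat_lit 6, nat_lit 0, nat_lit 1, nat_lit 2, nat_lit 3, nat_lit 4, nat_lit 5, nat_lit 6, nat_lit 0, nat_lit 1, nat_lit 2, nat_lit 3, nat_lit 4, nat_lit 5, nat_lit 6, nat_lit 0, nat_lit 1, nat_lit 2, nat_lit 3, nat_lit 4, nat_lit 5, nat_lit 6, nat_lit 0, nat_lit 1, nat_lit 2, nat_lit 3, nat_lit 4, nat_lit 5, nat_lit 6, nat_lit 0, nat_lit 1, nat_lit 2, nat_lit 3, nat_lit 4, nat_lit 5, nat_lit 6, nat_lit 0, nat_lit 1, nat_lit 2, nat_lit 3, nat_lit 4, nat_lit 5, nat_lit 6, nat_lit 0, nat_lit 1, nat_lit 2, nat_lit 3, nat_lit 4, nat_lit 5, nat_lit 6, nat_lit 0, nat_lit 1, nat_lit 2, nat_lit 3, nat_lit 4, nat_lit 5, nat_lit 6, nat_lit 7, nat_lit 6, nat_lit 5, nat_lit 4, nat_lit 3, nat_lit 2, nat_lit 1, nat_lit 0, nat_lit 6, nat_lit 5, nat_lit 4, nat_lit 3, nat_lit 2, nat_lit 1, nat_lit 0, nat_lit 6, nat_lit 5, nat_lit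 4, nat_lit 3, nat_lit 2, nat_lit 1, nat_lit 0, nat_lit 6, nat_lit 5, nat_lit 4, nat_lit 3, nat_lit 2, nat_lit 1, nat_lit 0, nat_lit 6, nat_lit 5, nat_lit 4, nat_lit 3, nat_lit 2, nat_lit 1, nat_lit 0, nat_lit 6, nat_lit 5, nat_lit 4, nat_lit 3, nat_lit 2, nat_lit 1, nat_lit 0, nat_lit 6, nat_lit 5, nat_lit 4, nat_lit 3, nat_lit 2, nat_lit 1, nat_lit 0, nat_lit 6, nat_lit 5, nat_lit 4, nat_lit 3, nat_lit 2, nat_lit 1, nat_lit 0, nat_lit 6, nat_lit 5, nat_lit 4, nat_lit 3, nat_lit 2, nat_lit 1, nat_lit 0],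
  [nat_lit 6, nat_lit 0, nat_lit 2, nat_lit 1, nat_lit 3, nat_lit 5, nat_lit 4, nat_lit 7, nat_lit 0, nat_lit 2, nat_lit 1, nat_lit 3, nat_lit 5, nat_lit 4, nat_lit 7, nat_lit 0, nat_lit 2, nat_lit 1, nat_lit 3, nat_lit 5, nat_lit 4, nat_lit 7, nat_lit 0, nat_lit 2, nat_lit 1, nat_lit 3, nat_lit 5, nat_lit 4, nat_lit 7, nat_lit 0, nat_lit 2, nat_lit 1, nat_lit 3, nat_lit 5, nat_lit 4, nat_lit 7, nat_lit 0, nat_lit 2, nat_lit 1, nat_lit 3, nat_lit 5, nat_lit 4, nat_lit 7, nat_lit 0, nat_lit 2, nat_lit 1, nat_lit 3, nat_lit 5, nat_lit 4, nat_lit 7, nat_lit 0, nat_lit 2, nat_lit 1, nat_lit 3, nat_lit 5, nat_lit 4, nat_lit 7, nat_lit 0, nat_lit 2, nat_lit 1, nat_lit 3, nat_lit 5, nat_lit 4, nat_lit 7, nat_lit 6, nat_lit 7, nat_lit 4, nat_lit 5, nat_lit 3, nat_lit 1, nat_lit 2, nat_lit 0, nat_lit 7, nat_lit 4, nat_lit 5, nat_lit 3, nat_lit 1, nat_lit 2, nat_lit 0, nat_lit 7, nat_lit 4, nat_lit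 5, nat_lit 3, nat_lit 1, nat_lit 2, nat_lit 0, nat_lit 7, nat_lit 4, nat_lit 5, nat_lit 3, nat_lit 1, nat_lit 2, nat_lit 0, nat_lit 7, nat_lit 4, nat_lit 5, nat_lit 3, nat_lit 1, nat_lit 2, nat_lit 0, nat_lit 7, nat_lit 4, nat_lit 5, nat_lit 3, nat_lit 1, nat_lit 2, nat_lit 0, nat_lit 7, nat_lit 4, nat_lit 5, nat_lit 3, nat_lit 1, nat_lit 2, nat_lit 0, nat_lit 7, nat_lit 4, nat_lit 5, nat_lit 3, nat_lit 1, nat_lit 2, nat_lit 0, nat_lit 7, nat_lit 4, nat_lit 5, nat_lit 3, nat_lit 1, nat_lit 2, nat_lit 0],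
  [nat_lit 8, nat_lit 0, nat_lit 2, nat_lit 1, nat_lit 3, nat_lit 5, nat_lit 4, nat_lit 7, nat_lit 0, nat_lit 2, nat_lit 1, nat_lit 3, nat_lit 5, nat_lit 4, nat_lit 7, nat_lit 0, nat_lit 2, nat_lit 1, nat_lit 3, nat_lit 5, nat_lit 4, nat_lit 7, nat_lit 0, nat_lit 2, nat_lit 1, nat_lit 3, nat_lit 5, nat_lit 4, nat_lit 7, nat_lit 0, nat_lit 2, nat_lit 1, nat_lit 3, nat_lit 5, nat_lit 4, nat_lit 7, nat_lit 0, nat_lit 2, nat_lit 1, nat_lit 3, nat_lit 5, nat_lit 4, nat_lit 7, nat_lit 0, nat_lit 2, nat_lit 1, nat_lit 3, nat_lit 5, nat_lit 4, nat_lit 7, nat_lit 0, nat_lit 2, nat_lit 1, nat_lit 3, nat_lit 5, nat_lit 4, nat_lit 7, nat_lit 0, nat_lit 2, nat_lit 1, nat_lit 3, nat_lit 5, nat_lit 4, nat_lit 7, nat_lit 8, nat_lit 7, nat_lit 4, nat_lit 5, nat_lit 3, nat_lit 1, nat_lit 2, nat_lit 0, nat_lit 7, nat_lit 4, nat_lit 5, nat_lit 3, nat_lit 1, nat_lit 2, nat_lit 0, nat_lit 7, nat_lit 4, nat_lit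 5, nat_lit 3, nat_lit 1, nat_lit 2, nat_lit 0, nat_lit 7, nat_lit 4, nat_lit 5, nat_lit 3, nat_lit 1, nat_lit 2, nat_lit 0, nat_lit 7, nat_lit 4, nat_lit 5, nat_lit 3, nat_lit 1, nat_lit 2, nat_lit 0, nat_lit 7, nat_lit 4, nat_lit 5, nat_lit 3, nat_lit 1, nat_lit 2, nat_lit 0, nat_lit 7, nat_lit 4, nat_lit 5, nat_lit 3, nat_lit 1, nat_lit 2, nat_lit 0, nat_lit 7, nat_lit 4, nat_lit 5, nat_lit 3, nat_lit 1, nat_lit 2, nat_lit 0, nat_lit 7, nat_lit 4, nat_lit 5, nat_lit 3, nat_lit 1, nat_lit 2, nat_lit 0]]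
noncomputable def Tm4d : List ℕ := [nat_lit 0x15f06fc96e8b47d912c515cfac1dea2a5f4e7bc7d242ec77489f7ce9ee5f350b844bbe54f6cf9285aa251f1d0b3448b231114f883d83e1615e8877c0c2b5108c7f3d5bdee1547a67bbc2a0f46c757b9c2954ecba27b79e85ed90a03ce3da213c7996333d92136a675cc3d810dcf5e84b21ad8b8f5a849a635720f56847b1550c4f528459df5e9f0893bd3135e970864c02e0de8f0826231dc5e8707e7a0c1f149cb7979ec1e1878a3f79cc1d16e4a4579b41c1484f34836a5756d4f30834b0bd464f2c832ad8d2a8f29830a5460bec274ac3c920b6b596133c860aec2378fc14de3d05060ea525e3504c5a53071e2f04860cbc56088f145a02cede2503e59c3c42074f0f81bc0d5666b2e78640c5656f0a816bc26055028783c095e0d0228103c15e0901b781c06202cf02809c04601d00d805c021e01001,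
  nat_lit 0x25e92e877e6b635a8ef8d606af25896f0b768a64543a8c76e5b92dc227113ce993509a811287b37489ed151ee8d6d93e2cb565aa4439eb5d087ae5413a01b58f7e43ea225cf47a953c39d9b4ef744d2b9c9b48f7085121b8f2ce6b3cfa9a5cced9d7b2a66dcc6d9a7b0c260f2ea5f72eb655eb699372cb649eaf09072ab639ea708c7291e294a0e4e6c43d3130ce4a6c2bd22106e466c0bd120fee434be3901af6f3e83cb8f1aeef3a83ab8e5ae6f37838b5bde6a96d719b5b1e6306a717b5a1e5b0667163591e550626b03ca1c4ed5e792c171c48d5a7914161aacf2082a28a60a2e1d6a7bc6e09ae1a6a5bc62092d4778b411526d0426a0bc4e07ed3d788c0ed82503860ab051a68f0d81934c1e1702e60640ad63eb1e8132c86046e077033822038b1780cb811c06d0e688343de02d0a684bc0200b002,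
  nat_lit 0x45e22e516c7bf559a2c0f7caad4559ef55504ae4ddbe891427ba54f0ed1370f983dbaa58d2e9b57c81a70d36f8c7c5c2c8f62a8934526bdf065a62d2bdfdefd0ac2d4a6a9ef287d43e3dd5ee90a74413dc5ee10a4851967d340f6a43721b5eccf6584e9e3dec4f6184d4264f287937ae3d6e12aa5f7ac3d5e1250917aa3d4e11d08d52b1e1cf0cf4d7a642214a0f497a44216108f457a24206100a474bc3cfde7d07b83d3cede7507783b25bde6f07383930e58709697993cc60d906b7973cb60d10674b03caa0c906361630ade4cf2582f4175460f2282d41656a4b5182ab87dc40f1c78dc13e09c93d78c412e094b435a14119c2ae16789c106080c1a60cc0f1c20d3569b3c39e1b034819ac9164702f70534a1a52f08813b81dc16d21782c07a03ae04688b45de050146893c0601ed0c780402600d003,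
  nat_lit 0x7ddbee1f6afb385fbebdf5b0be7d53ea217afa585e12b1f40f9e85d3e6e1723b27cb42ddf270b634abe3e168a8e34c9a61f130b17c342c0d10f828572a04b465a27be42acb4ef78854a9dd0f487985326918e4c7143f3db614259d7b4c27d4d086b4354271334c636311e2debf09752f1e44f210944c931658b0a5b52d2e35718e537a8bd42114a4f3c21e0e10e9856253125498a4b5c02dfdc88f4283ea5ed880c3f4ba25cd6ecb7571d3ce1878c3b6b83cd60df06e4b630cd8649654b22d9d6cce2d795b0bd85cd617944181468b5d5ae3895e46b555aa355de410567113c7a0a49415a72d35c36f195a32d15a90f16823b861e2904360eb071a7cf1181eb4dde1f03978740d964eb26698bc2e060d2a784c0b1e11029706bc1a048f05810c07da26f0380d3c0a02f015780c04a020f00806402a00f004]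
noncomputable def Tm4 (k u : ℕ) : ℕ := Nat.land (Nat.shiftRight (nth (nat_lit 0) Tm4d k) (Nat.mul u (nat_lit 13))) (nat_lit 8191)
noncomputable def Im4d : List ℕ := [nat_lit 0x8241201000440018003016a000c05a00804205800100840b0202d02002d020108100160105805a0420502002d020020b00840a041601081408001008240040209041201048249241,
  nat_lit 0x6c381c6038800e27184220006108807108800802c211001004440040140162200200a00b0802802c02004014016010100580402ca00b00804100805968020164020b5082d0000009,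
  nat_lit 0x49068341a0106000d00980434000010026016012004c020024000b00900940005804804a0012012012a000900900950025024029804804805304a85000120140029804a001008049,
  nat_lit 0x20100828020804140a5010502800402942146080528428014010a340300a00851a0182140006140090a00030a00500c00016080180002c1500201040008041608240209048249]
noncomputable def Im4 (k u : ℕ) : ℕ := Nat.land (Nat.shiftRight (nth (nat_lit 0) Im4d k) (Nat.mul u (nat_lit 3))) (nat_lit 7)
noncomputable def Dm4d : ℕ := nat_lit 0xcbbeee3bb5eecfbb22abfaadeab0aaaeaa3aa72a97aa42a8a9a0e67b99d266f99a2662996e654993e648990a63f98e263298ba62d889e220886e214883a20b88121fe87ea1f987ce1ec879a1e387721d6874a1d187321c6870a1c186f1db776c1daa769dda07669d967655d907629d867615d8075fdd7875c9d6e75b5d687589d5e7575d587549d4e7535d48751d94364f193664c993164b1926648992164719166449911643190b64118fe63e98f963d18ee63a98e963918e363798dd63618d763554d053294c653154c052e94b652d54b052bd4aa52a54a4528d4a152694965255490523d48a5225484520d48151f147b51e107241b906d41a10674189061417105b4165054414d050413904d4121047411504040fd03c40ed03a30d8c3530c0c2f30b4c28309cc24308cc223070c1b3060c173058c14204080f203080b2028808201c806201440310084011000000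
noncomputable def Dm4 (u : ℕ) : ℕ := Nat.land (Nat.shiftRight Dm4d (Nat.mul u (nat_lit 14))) (nat_lit 16383)
noncomputable def Em4 (_ : ℕ) : ℕ := nat_lit 0
noncomputable def Jm4 (_ : ℕ) : ℕ := nat_lit 0
noncomputable def Wm4 (_ : ℕ) : ℕ := nat_lit 0
noncomputable def RLm4 : List (List Rule) := [[.rel (nat_lit 0) (nat_lit 0) [nat_lit 0], .defn, .rel (nat_lit 18) (nat_lit 1) [nat_lit 1, nat_lit 0, nat_lit 1, nat_lit 0, nat_lit 1], .rel (nat_lit 20) (nat_lit 1) [nat_lit 2, nat_lit 0, nat_lit 2, nat_lit 0, nat_lit 2], .rel (nat_lit 24) (nat_lit 1) [nat_lit 3, nat_lit 0, nat_lit 3, nat_lit 0, nat_lit 3]],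
  [.rel (nat_lit 2) (nat_lit 0) [nat_lit 1], .defn, .rel (nat_lit 22) (nat_lit 1) [nat_lit 2, nat_lit 1, nat_lit 2], .rel (nat_lit 26) (nat_lit 1) [nat_lit 3, nat_lit 1, nat_lit 3], .rel (nat_lit 18) (nat_lit 0) [nat_lit 0, nat_lit 1, nat_lit 0, nat_lit 1, nat_lit 0]],
  [.rel (nat_lit 4) (nat_lit 0) [nat_lit 2], .defn, .rel (nat_lit 28) (nat_lit 1) [nat_lit 3, nat_lit 2, nat_lit 3], .rel (nat_lit 20) (nat_lit 0) [nat_lit 0, nat_lit 2, nat_lit 0, nat_lit 2, nat_lit 0], .rel (nat_lit 22) (nat_lit 0) [nat_lit 1, nat_lit 2, nat_lit 1]],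
  [.rel (nat_lit 6) (nat_lit 0) [nat_lit 3], .defn, .rel (nat_lit 28) (nat_lit 0) [nat_lit 2, nat_lit 3, nat_lit 2], .rel (nat_lit 24) (nat_lit 0) [nat_lit 0, nat_lit 3, nat_lit 0, nat_lit 3, nat_lit 0], .rel (nat_lit 26) (nat_lit 0) [nat_lit 1, nat_lit 3, nat_lit 1]]]
noncomputable def cm4 : TCert2 := ⟨192, 192, 192, 4, 255, 1023, 0, Tm4, Im4, Dm4, Em4, Jm4, Wm4, [], RLm4⟩
noncomputable def Tm5d : List ℕ := [nat_lit 0x19287687454472836180,
  nat_lit 0x19778836454453718280,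
  nat_lit 0x19283765567384526180,
  nat_lit 0x19283774738685526180,
  nat_lit 0x78892736454453627081]
noncomputable def Tm5 (k u : ℕ) : ℕ := Nat.land (Nat.shiftRight (nth (nat_lit 0) Tm5d k) (Nat.mul u (nat_lit 8))) (nat_lit 255)
noncomputable def Im5d : List ℕ := [nat_lit 0x14235213,
  nat_lit 0x31095843,
  nat_lit 0x11b80853,
  nat_lit 0x1aa4809c,
  nat_lit 0x84dd508]
noncomputable def Im5 (k u : ℕ) : ℕ := Nat.land (Nat.shiftRight (nth (nat_lit 0) Im5d k) (Nat.mul u (nat_lit 3))) (nat_lit 7)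
noncomputable def Dm5d : ℕ := nat_lit 0x8b1e467957449113288611000
noncomputable def Dm5 (u : ℕ) : ℕ := Nat.land (Nat.shiftRight Dm5d (Nat.mul u (nat_lit 10))) (nat_lit 1023)
noncomputable def Em5 (_ : ℕ) : ℕ := nat_lit 0
noncomputable def Jm5 (_ : ℕ) : ℕ := nat_lit 0
noncomputable def Wm5 (_ : ℕ) : ℕ := nat_lit 0
noncomputable def RLm5 : List (List Rule) := [[.defn, .rel (nat_lit 0) (nat_lit 0) [nat_lit 0], .rel (nat_lit 30) (nat_lit 1) [nat_lit 4, nat_lit 0, nat_lit 4], .sub (nat_lit 0) [] [], .rel (nat_lit 18) (nat_lit 1) [nat_lit 1, nat_lit 0, nat_lit 1, nat_lit 0, nat_lit 1], .rel (nat_lit 20) (nat_lit 1) [nat_lit 2, nat_lit 0, nat_lit 2, nat_lit 0, nat_lit 2], .rel (nat_lit 24) (nat_lit 1) [nat_lit 3, nat_lit 0, nat_lit 3, nat_lit 0, nat_lit 3]],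
  [.defn, .rel (nat_lit 2) (nat_lit 0) [nat_lit 1], .rel (nat_lit 26) (nat_lit 1) [nat_lit 3, nat_lit 1, nat_lit 3], .sub (nat_lit 2) [] [], .rel (nat_lit 18) (nat_lit 0) [nat_lit 0, nat_lit 1, nat_lit 0, nat_lit 1, nat_lit 0], .rel (nat_lit 22) (nat_lit 1) [nat_lit 2, nat_lit 1, nat_lit 2], .rel (nat_lit 32) (nat_lit 1) [nat_lit 4, nat_lit 1, nat_lit 4, nat_lit 1, nat_lit 4]],
  [.rel (nat_lit 4) (nat_lit 0) [nat_lit 2], .rel (nat_lit 22) (nat_lit 0) [nat_lit 1, nat_lit 2, nat_lit 1], .rel (nat_lit 34) (nat_lit 1) [nat_lit 4, nat_lit 2, nat_lit 4], .sub (nat_lit 4) [] [], .defn, .rel (nat_lit 20) (nat_lit 0) [nat_lit 0, nat_lit 2, nat_lit 0, nat_lit 2, nat_lit 0], .rel (nat_lit 28) (nat_lit 1) [nat_lit 3, nat_lit 2, nat_lit 3]],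
  [.defn, .rel (nat_lit 6) (nat_lit 0) [nat_lit 3], .rel (nat_lit 26) (nat_lit 0) [nat_lit 1, nat_lit 3, nat_lit 1], .rel (nat_lit 36) (nat_lit 1) [nat_lit 4, nat_lit 3, nat_lit 4], .sub (nat_lit 6) [] [], .rel (nat_lit 24) (nat_lit 0) [nat_lit 0, nat_lit 3, nat_lit 0, nat_lit 3, nat_lit 0]],
  [.defn, .rel (nat_lit 8) (nat_lit 0) [nat_lit 4], .rel (nat_lit 30) (nat_lit 0) [nat_lit 0, nat_lit 4, nat_lit 0], .rel (nat_lit 36) (nat_lit 0) [nat_lit 3, nat_lit 4, nat_lit 3], .rel (nat_lit 32) (nat_lit 0) [nat_lit 1, nat_lit 4, nat_lit 1, nat_lit 4, nat_lit 1], .rel (nat_lit 34) (nat_lit 0) [nat_lit 2, nat_lit 4, nat_lit 2]]]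
noncomputable def cm5 : TCert2 := ⟨10, 10, 10, 5, 15, 63, 0, Tm5, Im5, Dm5, Em5, Jm5, Wm5, [[nat_lit 0],
  [nat_lit 1],
  [nat_lit 2],
  [nat_lit 3]], RLm5⟩
noncomputable def Tm6d : List ℕ := [nat_lit 0xe8b3b7ec2592b9259dd35ed0e8bb9daecc4c2ad7a693f228b44d170f03c0,
  nat_lit 0xeb71d93ba592ab459e41a372d66addbcfe742a132893e16cda3e258b03c0,
  nat_lit 0xe8b278daed3afd659ac9a2d0a74bddb8bb66a213ca93c9a8b44b1e8785c0,
  nat_lit 0xe8b278ab4df2975d8acba6d067bb9daec85c2b0f28b4e9347c6e2d8b03c0,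
  nat_lit 0x6e7b4583ba592ab459b49a38d77c3ae1aad47334dcbd27264bc7a1d8b03c0,
  nat_lit 0xe8b2784badb67b1eaebfa9ace933b55d075f36130893c9a8b44b1e0b41c1]
noncomputable def Tm6 (k u : ℕ) : ℕ := Nat.land (Nat.shiftRight (nth (nat_lit 0) Tm6d k) (Nat.mul u (nat_lit 9))) (nat_lit 511)
noncomputable def Im6d : List ℕ := [nat_lit 0xe0549c0150b7406b408f,
  nat_lit 0x1026c9c6800a4e59804cf,
  nat_lit 0xa3009b9e83201156c60f,
  nat_lit 0xa6a0805990a55600374f,
  nat_lit 0xb912c9ab40041071717,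
  nat_lit 0xa3b490411084135b4748]
noncomputable def Im6 (k u : ℕ) : ℕ := Nat.land (Nat.shiftRight (nth (nat_lit 0) Im6d k) (Nat.mul u (nat_lit 3))) (nat_lit 7)
noncomputable def Dm6d : ℕ := nat_lit 0x4269f22e8a6c031e98eeb6b5b4a97d4b494d4a4a10d08284039a1cc8c5062428e146c82a413186082020a000
noncomputable def Dm6 (u : ℕ) : ℕ := Nat.land (Nat.shiftRight Dm6d (Nat.mul u (nat_lit 13))) (nat_lit 8191)
noncomputable def Em6 (_ : ℕ) : ℕ := nat_lit 0
noncomputable def Jm6 (_ : ℕ) : ℕ := nat_lit 0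
noncomputable def Wm6 (_ : ℕ) : ℕ := nat_lit 0
noncomputable def RLm6 : List (List Rule) := [[.rel (nat_lit 0) (nat_lit 0) [nat_lit 0], .rel (nat_lit 38) (nat_lit 1) [nat_lit 5, nat_lit 0, nat_lit 5], .defn, .rel (nat_lit 30) (nat_lit 1) [nat_lit 4, nat_lit 0, nat_lit 4], .rel (nat_lit 18) (nat_lit 1) [nat_lit 1, nat_lit 0, nat_lit 1, nat_lit 0, nat_lit 1], .rel (nat_lit 20) (nat_lit 1) [nat_lit 2, nat_lit 0, nat_lit 2, nat_lit 0, nat_lit 2], .rel (nat_lit 24) (nat_lit 1) [nat_lit 3, nat_lit 0, nat_lit 3, nat_lit 0, nat_lit 3], .sub (nat_lit 0) [] []],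
  [.rel (nat_lit 2) (nat_lit 0) [nat_lit 1], .rel (nat_lit 40) (nat_lit 1) [nat_lit 5, nat_lit 1, nat_lit 5], .defn, .rel (nat_lit 22) (nat_lit 1) [nat_lit 2, nat_lit 1, nat_lit 2], .rel (nat_lit 32) (nat_lit 1) [nat_lit 4, nat_lit 1, nat_lit 4, nat_lit 1, nat_lit 4], .rel (nat_lit 18) (nat_lit 0) [nat_lit 0, nat_lit 1, nat_lit 0, nat_lit 1, nat_lit 0], .rel (nat_lit 26) (nat_lit 1) [nat_lit 3, nat_lit 1, nat_lit 3], .sub (nat_lit 2) [] []],
  [.rel (nat_lit 4) (nat_lit 0) [nat_lit 2], .defn, .rel (nat_lit 34) (nat_lit 1) [nat_lit 4, nat_lit 2, nat_lit 4], .rel (nat_lit 20) (nat_lit 0) [nat_lit 0, nat_lit 2, nat_lit 0, nat_lit 2, nat_lit 0], .rel (nat_lit 22) (nat_lit 0) [nat_lit 1, nat_lit 2, nat_lit 1], .rel (nat_lit 28) (nat_lit 1) [nat_lit 3, nat_lit 2, nat_lit 3], .rel (nat_lit 42) (nat_lit 1) [nat_lit 5, nat_lit 2, nat_lit 5, nat_lit 2, nat_lit 5], .sub (nat_lit 4) [] []],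
  [.rel (nat_lit 6) (nat_lit 0) [nat_lit 3], .rel (nat_lit 44) (nat_lit 1) [nat_lit 5, nat_lit 3, nat_lit 5], .rel (nat_lit 36) (nat_lit 1) [nat_lit 4, nat_lit 3, nat_lit 4], .defn, .rel (nat_lit 26) (nat_lit 0) [nat_lit 1, nat_lit 3, nat_lit 1], .rel (nat_lit 28) (nat_lit 0) [nat_lit 2, nat_lit 3, nat_lit 2], .rel (nat_lit 24) (nat_lit 0) [nat_lit 0, nat_lit 3, nat_lit 0, nat_lit 3, nat_lit 0], .sub (nat_lit 6) [] []],
  [.rel (nat_lit 8) (nat_lit 0) [nat_lit 4], .defn, .rel (nat_lit 46) (nat_lit 1) [nat_lit 5, nat_lit 4, nat_lit 5], .rel (nat_lit 30) (nat_lit 0) [nat_lit 0, nat_lit 4, nat_lit 0], .rel (nat_lit 34) (nat_lit 0) [nat_lit 2, nat_lit 4, nat_lit 2], .rel (nat_lit 32) (nat_lit 0) [nat_lit 1, nat_lit 4, nat_lit 1, nat_lit 4, nat_lit 1], .rel (nat_lit 36) (nat_lit 0) [nat_lit 3, nat_lit 4, nat_lit 3], .sub (nat_lit 8) [] []],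
  [.defn, .rel (nat_lit 10) (nat_lit 0) [nat_lit 5], .rel (nat_lit 46) (nat_lit 0) [nat_lit 4, nat_lit 5, nat_lit 4], .rel (nat_lit 38) (nat_lit 0) [nat_lit 0, nat_lit 5, nat_lit 0], .rel (nat_lit 40) (nat_lit 0) [nat_lit 1, nat_lit 5, nat_lit 1], .rel (nat_lit 42) (nat_lit 0) [nat_lit 2, nat_lit 5, nat_lit 2, nat_lit 5, nat_lit 2], .rel (nat_lit 44) (nat_lit 0) [nat_lit 3, nat_lit 5, nat_lit 3]]]
noncomputable def cm6 : TCert2 := ⟨27, 27, 27, 6, 31, 255, 0, Tm6, Im6, Dm6, Em6, Jm6, Wm6, [[nat_lit 0],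
  [nat_lit 1],
  [nat_lit 2],
  [nat_lit 3],
  [nat_lit 4]], RLm6⟩
noncomputable def Tm7d : List ℕ := [nat_lit 0xee2d87adb3be85c8b89b0b5b6b2f7dee3d68a914a289c899932ca7ac0a8950d23b38b796eddfaaec698cb58a3764ec9354bad755c8b9079ef39e6d4a817432c3c48b9321a42d83b8940aa0dc0,
  nat_lit 0xee2dada5f52665c8b89b035e7bad5da9bdb69ef6228bd499932a64546a8950cde5bf282add5aa3b472cb35862f765cab546a733dc8b90925531e6d0eb1302ae5c4888f21a42cc4b0570ea0dc0,
  nat_lit 0xee2d87a934ae54ced79b0be27b8d6c6a3d70b273a2895358d32a64a4d67d50aa0bc4b796eadc636c698cb58aa8d59cad17b21639c8dd3b19749e6dcf81702a24c48a8d41ec25c598740aa0dc0,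
  nat_lit 0xee2d87a934b636bef9daebe57c0d69ec3d68a914a284ce99932ce1546a8a5255d5bf56e90599a3d65aee59562f76aec3546a6e49c8b9079ef39e6c0c81752224d0ab0b612e3dc698740aa0dc0,
  nat_lit 0xef6d6fb0f42665c8b89b035e7b8f6a2cb509aad35ebb477a532da0bcea8acede45bea7af0b1c5b6f61acb9a62f1560b3549a524dc8d4e71f442c5bccb9b02a04c4888f21a42cc4a07606e15c0,
  nat_lit 0xee2d87a9342e6dc0d8b327dcebe3642d9d27aa55d6644f4a2d12644c779550aa053eb796eadc636c698cb586aed59cad51726f4a8a58d81f62ee8589b9d61ee6585b9511ae448498740aa0dc0,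
  nat_lit 0xb6d7dc5a8f42665c8b89b035e7b8f6a2c4569a934da554f68af42e4b3f79990d9cbc766accde0b2d77aeead8b2776d8ad90baed4ac6dd471ee3ae8bcc79702a04c4888f21a42cc4a0750ac05c1]
noncomputable def Tm7 (k u : ℕ) : ℕ := Nat.land (Nat.shiftRight (nth (nat_lit 0) Tm7d k) (Nat.mul u (nat_lit 11))) (nat_lit 2047)
noncomputable def Im7d : List ℕ := [nat_lit 0x13602474002236313150173001121464000122157535600524702318,
  nat_lit 0x17023353440020212167157140130003124155160670062633540218,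
  nat_lit 0x12465005364420210172002131151545166000130323476750034218,
  nat_lit 0x13470020224434313153160171000020122166156535457000224318,
  nat_lit 0x40123363225505010170160124134350420460476007172733625018,
  nat_lit 0x15634470306056015005125131141464133177007020202024236518,
  nat_lit 0x10324464223353515105105101101004102106106707372744623510]
noncomputable def Im7 (k u : ℕ) : ℕ := Nat.land (Nat.shiftRight (nth (nat_lit 0) Im7d k) (Nat.mul u (nat_lit 4))) (nat_lit 15)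
noncomputable def Dm7d : ℕ := nat_lit 0xde03577cdb7165bd6ad4cb52eb45acee934a4ba7209c72512943a5098be62f48bce0e4837e0db7b3deca7b11cbc72d5cb26a81a9d6a6d896622d88559f967659c94645185460495925249450444100e3638c4c283098a1f2878815183c40b0818000
noncomputable def Dm7 (u : ℕ) : ℕ := Nat.land (Nat.shiftRight Dm7d (Nat.mul u (nat_lit 14))) (nat_lit 16383)
noncomputable def Em7 (_ : ℕ) : ℕ := nat_lit 0
noncomputable def Jm7 (_ : ℕ) : ℕ := nat_lit 0
noncomputable def Wm7 (_ : ℕ) : ℕ := nat_lit 0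
noncomputable def RLm7 : List (List Rule) := [[.rel (nat_lit 0) (nat_lit 0) [nat_lit 0], .rel (nat_lit 48) (nat_lit 1) [nat_lit 6, nat_lit 0, nat_lit 6], .defn, .rel (nat_lit 30) (nat_lit 1) [nat_lit 4, nat_lit 0, nat_lit 4], .rel (nat_lit 24) (nat_lit 1) [nat_lit 3, nat_lit 0, nat_lit 3, nat_lit 0, nat_lit 3], .rel (nat_lit 38) (nat_lit 1) [nat_lit 5, nat_lit 0, nat_lit 5], .rel (nat_lit 18) (nat_lit 1) [nat_lit 1, nat_lit 0, nat_lit 1, nat_lit 0, nat_lit 1], .rel (nat_lit 20) (nat_lit 1) [nat_lit 2, nat_lit 0, nat_lit 2, nat_lit 0, nat_lit 2], .sub (nat_lit 0) [] []],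
  [.rel (nat_lit 2) (nat_lit 0) [nat_lit 1], .rel (nat_lit 50) (nat_lit 1) [nat_lit 6, nat_lit 1, nat_lit 6], .defn, .rel (nat_lit 26) (nat_lit 1) [nat_lit 3, nat_lit 1, nat_lit 3], .rel (nat_lit 18) (nat_lit 0) [nat_lit 0, nat_lit 1, nat_lit 0, nat_lit 1, nat_lit 0], .rel (nat_lit 22) (nat_lit 1) [nat_lit 2, nat_lit 1, nat_lit 2], .rel (nat_lit 40) (nat_lit 1) [nat_lit 5, nat_lit 1, nat_lit 5], .rel (nat_lit 32) (nat_lit 1) [nat_lit 4, nat_lit 1, nat_lit 4, nat_lit 1, nat_lit 4], .sub (nat_lit 2) [] []],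
  [.rel (nat_lit 4) (nat_lit 0) [nat_lit 2], .rel (nat_lit 52) (nat_lit 1) [nat_lit 6, nat_lit 2, nat_lit 6], .rel (nat_lit 34) (nat_lit 1) [nat_lit 4, nat_lit 2, nat_lit 4], .defn, .rel (nat_lit 22) (nat_lit 0) [nat_lit 1, nat_lit 2, nat_lit 1], .rel (nat_lit 28) (nat_lit 1) [nat_lit 3, nat_lit 2, nat_lit 3], .rel (nat_lit 20) (nat_lit 0) [nat_lit 0, nat_lit 2, nat_lit 0, nat_lit 2, nat_lit 0], .rel (nat_lit 42) (nat_lit 1) [nat_lit 5, nat_lit 2, nat_lit 5, nat_lit 2, nat_lit 5], .sub (nat_lit 4) [] []],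
  [.rel (nat_lit 6) (nat_lit 0) [nat_lit 3], .rel (nat_lit 54) (nat_lit 1) [nat_lit 6, nat_lit 3, nat_lit 6], .defn, .rel (nat_lit 36) (nat_lit 1) [nat_lit 4, nat_lit 3, nat_lit 4], .rel (nat_lit 26) (nat_lit 0) [nat_lit 1, nat_lit 3, nat_lit 1], .rel (nat_lit 44) (nat_lit 1) [nat_lit 5, nat_lit 3, nat_lit 5], .rel (nat_lit 28) (nat_lit 0) [nat_lit 2, nat_lit 3, nat_lit 2], .rel (nat_lit 24) (nat_lit 0) [nat_lit 0, nat_lit 3, nat_lit 0, nat_lit 3, nat_lit 0], .sub (nat_lit 6) [] []],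
  [.rel (nat_lit 8) (nat_lit 0) [nat_lit 4], .defn, .rel (nat_lit 30) (nat_lit 0) [nat_lit 0, nat_lit 4, nat_lit 0], .rel (nat_lit 36) (nat_lit 0) [nat_lit 3, nat_lit 4, nat_lit 3], .rel (nat_lit 56) (nat_lit 1) [nat_lit 6, nat_lit 4, nat_lit 6, nat_lit 4, nat_lit 6], .rel (nat_lit 32) (nat_lit 0) [nat_lit 1, nat_lit 4, nat_lit 1, nat_lit 4, nat_lit 1], .rel (nat_lit 34) (nat_lit 0) [nat_lit 2, nat_lit 4, nat_lit 2], .rel (nat_lit 46) (nat_lit 1) [nat_lit 5, nat_lit 4, nat_lit 5], .sub (nat_lit 8) [] []],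
  [.rel (nat_lit 10) (nat_lit 0) [nat_lit 5], .rel (nat_lit 58) (nat_lit 1) [nat_lit 6, nat_lit 5, nat_lit 6], .defn, .rel (nat_lit 38) (nat_lit 0) [nat_lit 0, nat_lit 5, nat_lit 0], .rel (nat_lit 44) (nat_lit 0) [nat_lit 3, nat_lit 5, nat_lit 3], .rel (nat_lit 46) (nat_lit 0) [nat_lit 4, nat_lit 5, nat_lit 4], .rel (nat_lit 40) (nat_lit 0) [nat_lit 1, nat_lit 5, nat_lit 1], .rel (nat_lit 42) (nat_lit 0) [nat_lit 2, nat_lit 5, nat_lit 2, nat_lit 5, nat_lit 2], .sub (nat_lit 10) [] []],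
  [.defn, .rel (nat_lit 12) (nat_lit 0) [nat_lit 6], .rel (nat_lit 48) (nat_lit 0) [nat_lit 0, nat_lit 6, nat_lit 0], .rel (nat_lit 50) (nat_lit 0) [nat_lit 1, nat_lit 6, nat_lit 1], .rel (nat_lit 54) (nat_lit 0) [nat_lit 3, nat_lit 6, nat_lit 3], .rel (nat_lit 56) (nat_lit 0) [nat_lit 4, nat_lit 6, nat_lit 4, nat_lit 6, nat_lit 4], .rel (nat_lit 52) (nat_lit 0) [nat_lit 2, nat_lit 6, nat_lit 2], .rel (nat_lit 58) (nat_lit 0) [nat_lit 5, nat_lit 6, nat_lit 5]]]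
noncomputable def cm7 : TCert2 := ⟨56, 56, 56, 7, 63, 511, 0, Tm7, Im7, Dm7, Em7, Jm7, Wm7, [[nat_lit 0],
  [nat_lit 1],
  [nat_lit 2],
  [nat_lit 3],
  [nat_lit 4],
  [nat_lit 5]], RLm7⟩
noncomputable def Tm8d : List ℕ := [nat_lit 0x2ff37e3fdd7bdfc4fa4f94f8577d71d70574573d6bdf6df5be836e5ed9e5df25ea5e9b6fcdccd996c3e4663ad7ad666065f65e65dc67d4b6dac66d48a62a61455bc7bc6bc56d16d06cf6ce6cd6ccddbd3c6c9dd8b54b53b52cb9cb87429b674073f73e73ddca73b73ac44c43d2d9417b5aacaab7b27b17b07af7aedb7a34a33ba3ba2ba1827826825824b2ab29b28c9ac9989e89d89c89bc20c1fd13917916915914d98b8e99199098fb12c8aa0ca0bc0dd07a88d89b06b05d03d84c02c81d80,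
  nat_lit 0x2ff37e3fd47ccf94fac7bd75577576df85743735f29ed5705efbe59713ecae3ae25e9bdd667666b6ecd6a6ba6a461bd4bd365eb68ccc6db6dacc96d8657c64d45b60b5f4d2cc4cc36cfcc16cdc5cd3d74ac59d3a6c76c6dd5c51c50d37c4ed3373f73edcbd3073bdc8739738dc2736d2a7b4dc07b27b1dbc7af7ae7adaa47abdb5829828827826825a2c823b9cb9b8a089f89e89db22b21c95c94918c92916c1ac19d0fc17d0d990d9398ed91a0ca0ba0aa89a88c86c07d04d85b83c02c81d80,
  nat_lit 0x2ff37ed7cdfd47b4fa4f94f8577576575d6fd6c5f2d6ad69df456ed62df3d60df1df05e86673665e59d9d54ded661deb65f65e65d9ce6dbd4a9643d8657ac9ac8de36d36d26d16d06cf95c6cdac1ac0ddaa56a556c7bbbbba744743742a4ca4b73fbb4bb373cb46b45cafcae7b77367b5b3eb3dca9ca87b0c39c38d257ac7ab82ac32c31d1f826dad82499d8228218a0da789e92389c89ba97899918a1a916b92914b91b15b13990c8d98ec0fd09a0ba0ad8ca88a87b06b05b84d02d83c81d80,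
  nat_lit 0x2ff37e3fd47cd78d76d75dfbd72dfadf9274573df75715702ef6e85ed5ec5eb5ea5e966e3676667dd7dc66366266166065f65e7657643db6da8ce6d88cd8cc8cb6d46d36d26d16d06cf85985785685574a9c19c09bf9be9bd744743742949948947946945ab5ab4ab3ab2ab17b7736a3ca3ba3aa39a38baaba9ba8ba77ac7abb30b2fb2eb2dca0c9f824823822821c26c25d1889d89c89b89a899d9e91791691591491399299199098fb8ba0da0cb0ec88a89c0ad05d04d87d86b83c02c81d80,
  nat_lit 0x2ff37e3fd47c4fb2fa8f75788793769f2574aed9753f1aeb5ef5eea73be2a7046abe0668667666bd76645e3b6ccd3b694dfcd1bcd6dc6db6da6d96d8b65cc66d5654c61d43c5e550d4274eb5dcbe74b74acbb7486c7c56d386c4dd2dcfcb47c073fc4cd317bcc49d2e739dc5737cac835c41d287b2dbdd267afdba7adc36d21d20829db3827db08257a4d1a8a2dabdaa89f89ed17b9681bda3919918d9db1c895c90993912a11c14d0c98ed09d8fa0bd07d8dd05d8aa86d88b04b83c02c81d80,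
  nat_lit 0x2ffd7ddfe3fc47b4fa4f94f85775765755f45f35f25f15f0d67d6466dd6166bd5fd5ed5cdef566d56dee6e3d53decd51deade9d4cde86db35a5d99cad46de56d5d44de26d2de06d06cf64ed3eddd74b958649abcd39dd7745dd47437426c1ab5d32dcd7bda486bbbb0dc77b87b7736a40734baadbf831b3a72fca682d7acba3b337a9ca08a7c2ed1e824b2b822c9ac28d18da581d89cc95c21d13d9f897916c1bd0fd99912911d0cd9498e98dd90a0ba0aa09a88a87b06b05b84c03d01d82d80,
  nat_lit 0xff17e1fd27c2fb8f737937887a9f23f5574573976aeb4705ef5eeae35eca71be04e9668667666665664a6dbd4661b6acd155e6dd6dc6db6da6d96d8bc76d66d5b62cc46d2c5fd425cf74ebbf74c74b74a749748b57cb9745c53d37dd07c17c0b4dcb27bd7bccaf7bac46d2ddc3836835ca9833c3ed27830c3bd25db8ca28ab8aac34d1fdb1d1edaec9c923c2cd19d18da8da699dc24d14d13da1da0d11816d0fd9bd9ad0dd97890d95d0ad9290cd08d8e989d8ba07a86a85b04b83c02c81d80,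
  nat_lit 0xd7edff37d3fc47b4fa4f94f85775765755f45f35f25f15f066f66e66d66c66b66a6696e8d5bd586e5d556e36e2d526e0d50d4f75dd4bde755ad48de6757d45de4754d43de1d42ddfdded407cdd3dddc5cad3add97c7d38dd6d37dd3dd1d33dce83fd31dcc63cd2edc9d2ddc6dc4d2b6b5d28dc1d27dbe6b0d25dbbdb9d21db672ad1fdb4db2726dafd1b7a3d19dac7a0da979e81dd14da481ada2818897d10895d9c893912911d9690f98e98d98ca0ba0aa09a88a87b06b05b84c03c82d00d81]
noncomputable def Tm8 (k u : ℕ) : ℕ := Nat.land (Nat.shiftRight (nth (nat_lit 0) Tm8d k) (Nat.mul u (nat_lit 12))) (nat_lit 4095)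
noncomputable def Im8d : List ℕ := [nat_lit 0x12604887800660442262422011016212112006000072151351214014000137172154150000715135134005136321000328513000313243725056300548704219,
  nat_lit 0x12568800864556552202522211010012110165162000071371200600214000002140141341014134135174135320713328700326310000024345376780045219,
  nat_lit 0x13028887866006002302022311310212113160063172151450317200315147003157001461700145000155000421514428014436014370035400452588760219,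
  nat_lit 0x12370006066336332232322011213212110073172182151450000718215148000008151471000005143150000421514000514426414284825453057000663219,
  nat_lit 0x12458886055440442202022211214010112154150162000701016516200133162006001351600130134000134321013328017325307267600703703038354219,
  nat_lit 0x20168887866446440040400012014010110164260170151352017027015137270150251362025130234250234002023001523001320013701351356588764019,
  nat_lit 0x135688870665505533530333113103101131651631701400a1317617014002170147140021714004002144002021400022400022010220232025026288765319,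
  nat_lit 0x10347778744334332232322211213212112103102102101001210410210100102108101001810105100105100601510607510604616086805653654577843210]
noncomputable def Im8 (k u : ℕ) : ℕ := Nat.land (Nat.shiftRight (nth (nat_lit 0) Im8d k) (Nat.mul u (nat_lit 4))) (nat_lit 15)
noncomputable def Dm8d : ℕ := nat_lit 0xdbf7d3edcbe2c3d8bbc3b3b3b3abb3a9ab93ab88ab80a37aa362a358a352a34a9b3d9b259b129b0d9b029afd9af592e592df92c792b592af92a2929d9297928d9287927f8a658a5f8a588a528a478a408a358a2f8a298a258a1f8a1c8a178a168a14820781f581ef81e981e081d781d181cd81c781c481bf81be81b9799f79997995798f798c798179777974796f796e7968715f715171477144713f713e7134712f712e712a690f690c690468ff68fe68fa68f668f560df60d460cf60ce60c660c560c358bc58a758a6589e589d5898508e5087507e507d5079486e4869486548644056404c404a3846383c3838302c302b2823282120181812100d08070000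
noncomputable def Dm8 (u : ℕ) : ℕ := Nat.land (Nat.shiftRight Dm8d (Nat.mul u (nat_lit 16))) (nat_lit 65535)
noncomputable def Em8 (_ : ℕ) : ℕ := nat_lit 0
noncomputable def Jm8 (_ : ℕ) : ℕ := nat_lit 0
noncomputable def Wm8 (_ : ℕ) : ℕ := nat_lit 0
noncomputable def RLm8 : List (List Rule) := [[.rel (nat_lit 0) (nat_lit 0) [nat_lit 0], .rel (nat_lit 60) (nat_lit 1) [nat_lit 7, nat_lit 0, nat_lit 7], .rel (nat_lit 38) (nat_lit 1) [nat_lit 5, nat_lit 0, nat_lit 5], .rel (nat_lit 48) (nat_lit 1) [nat_lit 6, nat_lit 0, nat_lit 6], .defn, .rel (nat_lit 30) (nat_lit 1) [nat_lit 4, nat_lit 0, nat_lit 4], .rel (nat_lit 20) (nat_lit 1) [nat_lit 2, nat_lit 0, nat_lit 2, nat_lit 0, nat_lit 2], .rel (nat_lit 18) (nat_lit 1) [nat_lit 1, nat_lit 0, nat_lit 1, nat_lit 0, nat_lit 1], .rel (nat_lit 24) (nat_lit 1) [nat_lit 3, nat_lit 0, nat_lit 3, nat_lit 0, nat_lit 3], .sub (nat_lit 0) [] []],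
  [.rel (nat_lit 2) (nat_lit 0) [nat_lit 1], .rel (nat_lit 62) (nat_lit 1) [nat_lit 7, nat_lit 1, nat_lit 7], .rel (nat_lit 40) (nat_lit 1) [nat_lit 5, nat_lit 1, nat_lit 5], .rel (nat_lit 50) (nat_lit 1) [nat_lit 6, nat_lit 1, nat_lit 6], .defn, .rel (nat_lit 22) (nat_lit 1) [nat_lit 2, nat_lit 1, nat_lit 2], .rel (nat_lit 18) (nat_lit 0) [nat_lit 0, nat_lit 1, nat_lit 0, nat_lit 1, nat_lit 0], .rel (nat_lit 32) (nat_lit 1) [nat_lit 4, nat_lit 1, nat_lit 4, nat_lit 1, nat_lit 4], .rel (nat_lit 26) (nat_lit 1) [nat_lit 3, nat_lit 1, nat_lit 3], .sub (nat_lit 2) [] []],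
  [.rel (nat_lit 4) (nat_lit 0) [nat_lit 2], .rel (nat_lit 64) (nat_lit 1) [nat_lit 7, nat_lit 2, nat_lit 7], .defn, .rel (nat_lit 42) (nat_lit 1) [nat_lit 5, nat_lit 2, nat_lit 5, nat_lit 2, nat_lit 5], .rel (nat_lit 52) (nat_lit 1) [nat_lit 6, nat_lit 2, nat_lit 6], .rel (nat_lit 34) (nat_lit 1) [nat_lit 4, nat_lit 2, nat_lit 4], .rel (nat_lit 20) (nat_lit 0) [nat_lit 0, nat_lit 2, nat_lit 0, nat_lit 2, nat_lit 0], .rel (nat_lit 22) (nat_lit 0) [nat_lit 1, nat_lit 2, nat_lit 1], .rel (nat_lit 28) (nat_lit 1) [nat_lit 3, nat_lit 2, nat_lit 3], .sub (nat_lit 4) [] []],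
  [.rel (nat_lit 6) (nat_lit 0) [nat_lit 3], .rel (nat_lit 66) (nat_lit 1) [nat_lit 7, nat_lit 3, nat_lit 7], .rel (nat_lit 44) (nat_lit 1) [nat_lit 5, nat_lit 3, nat_lit 5], .rel (nat_lit 28) (nat_lit 0) [nat_lit 2, nat_lit 3, nat_lit 2], .rel (nat_lit 54) (nat_lit 1) [nat_lit 6, nat_lit 3, nat_lit 6], .rel (nat_lit 36) (nat_lit 1) [nat_lit 4, nat_lit 3, nat_lit 4], .defn, .rel (nat_lit 24) (nat_lit 0) [nat_lit 0, nat_lit 3, nat_lit 0, nat_lit 3, nat_lit 0], .rel (nat_lit 26) (nat_lit 0) [nat_lit 1, nat_lit 3, nat_lit 1], .sub (nat_lit 6) [] []],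
  [.rel (nat_lit 8) (nat_lit 0) [nat_lit 4], .rel (nat_lit 68) (nat_lit 1) [nat_lit 7, nat_lit 4, nat_lit 7], .rel (nat_lit 46) (nat_lit 1) [nat_lit 5, nat_lit 4, nat_lit 5], .defn, .rel (nat_lit 34) (nat_lit 0) [nat_lit 2, nat_lit 4, nat_lit 2], .rel (nat_lit 30) (nat_lit 0) [nat_lit 0, nat_lit 4, nat_lit 0], .rel (nat_lit 32) (nat_lit 0) [nat_lit 1, nat_lit 4, nat_lit 1, nat_lit 4, nat_lit 1], .rel (nat_lit 56) (nat_lit 1) [nat_lit 6, nat_lit 4, nat_lit 6, nat_lit 4, nat_lit 6], .rel (nat_lit 36) (nat_lit 0) [nat_lit 3, nat_lit 4, nat_lit 3], .sub (nat_lit 8) [] []],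
  [.rel (nat_lit 10) (nat_lit 0) [nat_lit 5], .defn, .rel (nat_lit 70) (nat_lit 1) [nat_lit 7, nat_lit 5, nat_lit 7, nat_lit 5, nat_lit 7], .rel (nat_lit 58) (nat_lit 1) [nat_lit 6, nat_lit 5, nat_lit 6], .rel (nat_lit 42) (nat_lit 0) [nat_lit 2, nat_lit 5, nat_lit 2, nat_lit 5, nat_lit 2], .rel (nat_lit 46) (nat_lit 0) [nat_lit 4, nat_lit 5, nat_lit 4], .rel (nat_lit 38) (nat_lit 0) [nat_lit 0, nat_lit 5, nat_lit 0], .rel (nat_lit 40) (nat_lit 0) [nat_lit 1, nat_lit 5, nat_lit 1], .rel (nat_lit 44) (nat_lit 0) [nat_lit 3, nat_lit 5, nat_lit 3], .sub (nat_lit 10) [] []],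
  [.rel (nat_lit 12) (nat_lit 0) [nat_lit 6], .rel (nat_lit 72) (nat_lit 1) [nat_lit 7, nat_lit 6, nat_lit 7], .defn, .rel (nat_lit 58) (nat_lit 0) [nat_lit 5, nat_lit 6, nat_lit 5], .rel (nat_lit 56) (nat_lit 0) [nat_lit 4, nat_lit 6, nat_lit 4, nat_lit 6, nat_lit 4], .rel (nat_lit 52) (nat_lit 0) [nat_lit 2, nat_lit 6, nat_lit 2], .rel (nat_lit 48) (nat_lit 0) [nat_lit 0, nat_lit 6, nat_lit 0], .rel (nat_lit 50) (nat_lit 0) [nat_lit 1, nat_lit 6, nat_lit 1], .rel (nat_lit 54) (nat_lit 0) [nat_lit 3, nat_lit 6, nat_lit 3], .sub (nat_lit 12) [] [], .rel (nat_lit 92) (nat_lit 0) [nat_lit 0, nat_lit 2, nat_lit 1, nat_lit 3, nat_lit 5, nat_lit 4, nat_lit 7, nat_lit 0, nat_lit 2, nat_lit 1, nat_lit 3, nat_lit 5, nat_lit 4, nat_lit 7, nat_lit 0, nat_lit 2, nat_lit 1, nat_lit 3, nat_lit 5, nat_lit 4, nat_lit 7, nat_lit 0, nat_lit 2, nat_lit 1, nat_lit 3, nat_lit 5, nat_lit 4, nat_lit 7, nat_lit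 0, nat_lit 2, nat_lit 1, nat_lit 3, nat_lit 5, nat_lit 4, nat_lit 7, nat_lit 0, nat_lit 2, nat_lit 1, nat_lit 3, nat_lit 5, nat_lit 4, nat_lit 7, nat_lit 0, nat_lit 2, nat_lit 1, nat_lit 3, nat_lit 5, nat_lit 4, nat_lit 7, nat_lit 0, nat_lit 2, nat_lit 1, nat_lit 3, nat_lit 5, nat_lit 4, nat_lit 7, nat_lit 0, nat_lit 2, nat_lit 1, nat_lit 3, nat_lit 5, nat_lit 4, nat_lit 7, nat_lit 6, nat_lit 7, nat_lit 4, nat_lit 5, nat_lit 3, nat_lit 1, nat_lit 2, nat_lit 0, nat_lit 7, nat_lit 4, nat_lit 5, nat_lit 3, nat_lit 1, nat_lit 2, nat_lit 0, nat_lit 7, nat_lit 4, nat_lit 5, nat_lit 3, nat_lit 1, nat_lit 2, nat_lit 0, nat_lit 7, nat_lit 4, nat_lit 5, nat_lit 3, nat_lit 1, nat_lit 2, nat_lit 0, nat_lit 7, nat_lit 4, nat_lit 5, nat_lit 3, nat_lit 1, nat_lit 2, nat_lit 0, nat_lit 7, nat_lit 4, nat_lit 5, nat_lit 3, nat_lit 1, nat_lit 2, nat_lit 0, nat_lit 7, nat_lit 4, nat_lit 5, nat_lit 3, nat_lit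 1, nat_lit 2, nat_lit 0, nat_lit 7, nat_lit 4, nat_lit 5, nat_lit 3, nat_lit 1, nat_lit 2, nat_lit 0, nat_lit 7, nat_lit 4, nat_lit 5, nat_lit 3, nat_lit 1, nat_lit 2, nat_lit 0]],
  [.defn, .rel (nat_lit 14) (nat_lit 0) [nat_lit 7], .rel (nat_lit 70) (nat_lit 0) [nat_lit 5, nat_lit 7, nat_lit 5, nat_lit 7, nat_lit 5], .rel (nat_lit 64) (nat_lit 0) [nat_lit 2, nat_lit 7, nat_lit 2], .rel (nat_lit 60) (nat_lit 0) [nat_lit 0, nat_lit 7, nat_lit 0], .rel (nat_lit 68) (nat_lit 0) [nat_lit 4, nat_lit 7, nat_lit 4], .rel (nat_lit 72) (nat_lit 0) [nat_lit 6, nat_lit 7, nat_lit 6], .rel (nat_lit 66) (nat_lit 0) [nat_lit 3, nat_lit 7, nat_lit 3], .rel (nat_lit 62) (nat_lit 0) [nat_lit 1, nat_lit 7, nat_lit 1]]]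
noncomputable def cm8 : TCert2 := ⟨128, 128, 128, 8, 127, 2047, 0, Tm8, Im8, Dm8, Em8, Jm8, Wm8, [[nat_lit 0],
  [nat_lit 1],
  [nat_lit 2],
  [nat_lit 3],
  [nat_lit 4],
  [nat_lit 5],
  [nat_lit 6]], RLm8⟩
noncomputable def Tm9d : List ℕ := [nat_lit 0x7fe23f49fc7fc9ff17fc04f86bbc9f627d49f47faa0fb83ea0f967ddce52bb4aec2bae0f32ba4ae82b9cae66fb9edb2f8cbe2635cbe02f7dad22f74bdc7791fce2f64bd85f85aca6b24cd4334d9de7310cd0333e0da3334ccc332d9d66755cb872dcdc63715bd17ac8dc23705cb036fc8be52b4dbc36ecdba36e5bc86f1dea47a8ceb436cddc37e81bc07a70eae4ef49ac5a656983aa4ea83a9cea63a95db676d5f8d3a860b17a29e883a75daf7e10a9a56ad5aa2a5d883620588061fcf923e44f903e3cf8e8288f8c3e2dd9f7dc5d9e7db8f863e1609b5e58b825e557945e4da6969a1a67699907a41e507841dd07645d50747d6d0728225f5841be08741b506c41acc6a65f997d65f197b714dc527145c504585160457df4c612d15c81cd15a4566070455d15645551546d95b646d8db627901e3f493605e5d7524a68eda3a491d2464915244490d2424905d4f7539f324cf533c652594870b9c2d70b13364cd53344cce03e709d4304cbdb396ce1b377889e2150a54286cc5e1e5495424508dd2b74a9f19547dd267c5951c546d51a8081618585e01d5855614703d7125c457106c4de0b603580c7439f08642600a681da067c12005700dd027806000,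
  nat_lit 0x7fe23f49fc27ec9fa27e5fef17ddcee27d49f42bcdfe97f9dfe683e1bf67b90aec7f85fe083c9fde83c60f02b95ded7f69fd683ae0ea2f7e0e82f74bdc2f6e0e32f64bd82f5e0e23354cd4334cbd23344cd0333ccce7300ccc62f4cca6ae4dc8371cdc63715cb3370cdc23705bcd7abccbe5f2cdbc6aadaaa6725ca67294eb63ad4eb46f11ea13ac4db076fdf9b36b4dac66ed9ba7255c94724dbb86edde8f7a38fa276c9f8b267cf9e3a74e9c82b948a3a64e983a5cf966ea5ba86e9de7c79ecf907691da37ddcf8c828139a2a25674421cf863e14f8459c96713e04f803dfd07e41f5d927645f6241e507882350767d795882dcd5835609170617585c41b506c41ad85b6169859419d0664595164458e07a4585160457e0755dbd76e5da97695da1a4a6925a484555154691da466915150493d24e493524c452d958655d956654d9526545c3970e1c374905c3670d533e4cf533c48ed23a6d11b436d09b406cfde2b78a9e2950c54304cbd32e4cb532c74d1d3374c9f20607d5265495424508d42250860285c9da18587551c546d51a546591e704dc1258556146c5db1678397105c3dd117c2980c602e00d6425908681da066c15f038011d027806000,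
  nat_lit 0x3fe7fedff383f43fa27e56f127dc9f627d49f483f09f257e18e8639caee2bb4aec2bacaea2ba57f05fbdade6b74be42f8cbe22f84be02f7d9e66795cd17340cda2f647d84b30cd63354cd4334cbd26f71bdb7b0dec233351d7232d4bc52ecdc8371cdc63714cc4773ddce7ec4dc036fdcad26f53ca4f249ba5aad6a95aa0eb63ad4eb436ccdb28305c9d3abceae6ef9e9856e4aaa56e15b72a9d89562518926244fa23a84ea03e7cf9e6ec1e853e6de833a65dac7dfcb965e997a52e4d7a45e8da7e69f1a7b69e8f8c3e2de724225e6f421cf867671f6b7669f683e04f80825d99031f598f663998d7191c63718907645d5e5d45cdd8a7d651707621f5641b506c8211f5341a6082419d0663595b796de1b77793de4e457d25e75d1f487d1d15a81c5f44455e06e455515481a915245451507585d607cf9f3c452df39492605c816d2464916058490d242490524048fe04d7cc604c68bd23a81293384cdd3364cd53344ccd33280f543064ed32e7091c2350ad42a50a5428509d5265495b2d6cb1e1b7869520547de17587551c7489d217c51e137479f1158560197461f0e80597105c3e012603580c602d90a6425e077421f058019b04700dd027806000,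
  nat_lit 0x7fe23f49fc27ec9fa0fe58f027dc9f627d49f42bcd6eb63a17f86b98aee2bb4aec57c98e263857f16b799ef7370be42f8d7ea5fa5ad66b559e77345be57b3ccda1764bd82f5d9e0677dcc8731cbd26f75ec3776dfc11b34ccc332ccca3325bd46f4deb67ad4cc47741fb183387c01efd2b036f4dbc36ecdba36e4db836dddc67715fa236ccdb283091be22bc8ae527549c3aaceaa3aa4ea83a9cea63a94ea43a8e0b43a84ea03e7c99e4eb53ac266d6885a196855a10f963e54f943e4cf923e44f903e3cf8e3e34f8c3e2d674422559a2a1d599566159761bd86e61b586c61ad07e41f507c41ed07a41e507841dd07645d558a45cd85d6170b705e0d7825e057805dfda58695da566955a544595164458d1624585160457d25e5dc97716929a49692196a65a5968659d9667111c437109c41493d24e4935a3d452d95b656995970e5c3870ddb536d49b516d41e3478cd33e6531c3148ed23a6d1db466d15e2b78a9d4074fdf286cf1e264cbd32e4cb532c74d9d357c82032509dd307c75424508d4225086029547d51e809551c546d51a5465618585d61658556145c4d7125c45710703180e6035b0f782590a742df067c16008801db04700dd027806000,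
  nat_lit 0x7fe23f49fc27ec9fa27e49f87fb86f67bb49f42bccaf22bc4af07f960f777d5fe32facbea7f7cbe87f75fdc83bcae483b0ce27f55fd483a5fd1839e0e62f6cbda7f35fcb7f25fc883860e0334dfc48378cd0333ccce8365fbb8361fb8835e0d6371cdc637160d2370cdc23704cc03afccbe32f5fa98330eba32e60ca3adceb63ad4eb432cceb23ac4db05a78fae36b589a36ada9682f0fa83e9cda67240fa43e8cfa27a30fa0367d5af3a75888621d7ac3a65a836a099aa3a55c7e71f50924245ba579e5e784235da17dd8e8a3a2579c5e6cf8669bda6e66619973e05c6971a1b946e4de64798d17a763dd8e7d8208b29d4f744178f723dc5170661598441b5c57715916a6e01b7f7949e514595d7c75edf4e4586077457cf73417505c493105a41652586db1b6b790de42494dd677599f3f493e062493515b452d43d452514850f114645153447555d547ccd340814133e4d2934748ed23a58c523848dd63048d5434810543254e55364cbd8274cb532c609932a60955285cb972b5ca5424508da1e5085a1d507d922648151c705d51a70595186c6db195855e11584d6127451f0d5c3d70e804180c602d80a6425908681da066c15c047c0a0037806000,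
  nat_lit 0x1ffd83f82fc13eccf327e49f827dc9f627d49f42fe85f23ba8af02bbcaee2bb4aec1bacdf11ba50e24380be62f94be42f8cfe81f84fe71f7d2d64b50cdc336ccda2f65acc235d1de23551dd234d4ca53214c6373cdce33359d872ed3d227253d1271d3d027156b85ad96b43b04dc036fcdbe72accbc6f2dea82ae55c42add5c32ad55c262998a46288eb03abceae7264eac6ef5e9436a5dba7e457b32e957b22e8d7b16a3da8d3e7cf9e7218f9c3e6cf9a6eb5e803e5de7e3a55daa7dece92829cc906684c8e6681c7971dd08a4225088421db9d79b108479a50823e05d987d99d967d8cf7c824cf7a6e30d786e2de6045d517445cde5a45c5170795d16e41b5d857d5116a760df51419e07f7d3d06481f50623985d767d3525e792525c496dd727d1525875bdf42455606b7d0115281a1150819514e817d34c78ed34a7575f377cd92468165f34490e056490605348fd23e50f5f30752df2c7cad33881220474cd60444ccd3327c9a03c48bdf2250b603a80e542a50a54287c7a0315495c1c4c8e02e54855207c620275875b24506de15586601f545d7167469f10584d8127c360145c3df0a804580c7c2200e7c1a00b641e0096815b04700dd027806000,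
  nat_lit 0x7fe23f49fc27ec9fa27e49f827ddfed17d5fec2bccaf22bc4af02bbdfe483da0f42facbea2fa4be82f9cbe67f6e0ee2b8cce23384ce07f4ccde7f41fcf8394bda3764dd8375cdd67f1dfc6837cdd27f0e0dd8370cce7efcecc7ee8eca7eddfb683560d43715fb28344dc23705faf8335fac7ea8fbc7ea20cb7e95fa483260c83ad4eb47e860c43ac5f9c8300fae7e620be7e520bd7e4a0bb3e9df8f82e60b83e8cfa282ccfa0367cd9e7e160b0426cd9a7e020ad425cd967df20ab424e0a94244d90829908e4234d8c422ce8a61cce8861c1f6c82751843a0da6a7d9e09945fce7e719609545ed17a39e5e6145ddf5f39d4f745e24f72696d7873dbda587d5608649ad9823da5c5382052666df4f64793d26275e1f4d81d8f5e4175a4a65c505a711d96e415dc4481b53546da10527901350758df3e818104c452d95c4525c396d6514678d9b56450de345105d517cca04e44f513c48edc2e6d2123878add457ca5d427ca203f48c52304cbdb3a4cb5e2274ddf2080d60334c9d3264c95424786dd2c7c6602a507d41e507551c748df148085518545d5167c4201a584d61258460155c3d70e5c3580c602d80a6425908681da066c15c04740df01800a000,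
  nat_lit 0x1fe53f13fd5bcc5fa17e45f817dc5f617d45f457ed8ea1bc46f01bbc6ee1bb46ec63897f26b807e81f9c7e61f947e41f8d7eb6b599e973508de23748dc236c8da2f64bd86b299e17321bdf7b189d227449d0273c9ce3335abc332d9d772e1bd57ad9dd37ed0ac42b0cac22b04dc036fcdbe36f59cc72a4dba7299bc97a91dc77e8a0c52eccbb22ec4eb03abceae3ab4eac7254eaa6eede923a9dbb97a3ddb77e360b53284ca03e7cf9e3e74f9c3e6cf9a7204f983e5cf966eade7c3e4dda87de9e797695f77828cd8c362d08a4225088421dc6d4215084420d0826e65e6741fde6441f5d947d8a0917641f608238e7645d517445cd17245c517045bd16e6e19e5545ad16a79491687601f504595d7e7d3a07b7d360783d7d25e497525c496de464965258790d25675b1f41494dd697cfe0667cfa063818534c4d2d34a78e13484d1dd5a7cd5344755df338151f32814604f50f543c78b543a50e5d497ca9f298115f28810a04054c5f25789152e74edf217c8203780da034589df1d80c1d2f7c69f1980b202b5c7df16809931c7c520238089f127c4601e505601b7c3a018805d5107c2e0135835f09803d70a8031808641d9066815b04700dd027806000,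
  nat_lit 0x7fe23f49fc27ec9fa27e49f827dc9f67fb04f42bccaf22bc4af02bbcaee7f8e0f52facbea2fa4be82f9cbe62f95fda83b4ce23384ce0337ccde3374cdc7f3a0e43764dd8375cdd63754dd47f14dd23745fc27f060db3b34ecc3b2ceca3b24ec87ed5fb4834cec47ec60d0833cfc07eb8fbe3ef4fbc3eedfa73ee4fb87e8dfa2831e0c63ecdfa0830d0b07e6e0bf42b5f9742adf9342a5f9182e90a67e39f8d82de0b67e2e0b27e25f874675f8482bdf824665f7f82b1f7d4655f7b82a9f7a82a1f787dde0a58291f768285f71827df6e82792867dae09c7da209a4a05f668261f638259f6282520927d82090823e08c39d5f5c39cdf598228e707d5a0884db5f548214e6a7d460837d420803995f4e81fa07c3986079397cf5e7d220743d6df4581c8f587d0a06f7d0606c3d4df3f81a60673d3e0643d3504c7ce904a7cde05d411df3581690447cce0578155040814903e44f513c7cb204b44e5f2a81251368119134810d13248c52307c8d22e7c8603b48ae03848a52284c9d3264c95f1a80bd32280b5320507d41e5075f15506e0245065518545d5168071514584d61258456105c3d70e5c3580c602d80a6425908681da066c15c04740de027c02001]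
noncomputable def Tm9 (k u : ℕ) : ℕ := Nat.land (Nat.shiftRight (nth (nat_lit 0) Tm9d k) (Nat.mul u (nat_lit 14))) (nat_lit 16383)
noncomputable def Im9d : List ℕ := [nat_lit 0x47700085212066602158658550188552522005505221021162520021130197212252120013920001801212142100016112001007121413113615000021607000141381352810160162147000041353240176146141300003276071441341350007400413323264310003298039130004001326336243745048300469706521a,
  nat_lit 0x46677708212700050180050552000552522158885221821192828221132196012082102113901720021002140013700112151216100013100015071721616214140001352007007162146141341353245000006141341383266100000041383276414000003294314130000439133250371326036240048300345499670521a,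
  nat_lit 0x80047765212460652156650052166552002175555221500192025221132000212200122113921421601010082113716110171200100800113615171720000214080001352617007002140141380003287000140141341350000101441341353240418413323294308133296839003278371000300240045346387890046521a,
  nat_lit 0x48866675212677052150750502170052020165550021501002525200132009212252122100021901721212142113917110061218121413113715160600018214141371352706186000008141341353246008140000041353288100041300003260414000320000314130009400133294391328338243845347046000997521a,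
  nat_lit 0x58866670b14677702007707002127002022160000221021192020221132198414402142113941641741412154113617104160418041513013700160041800415001370002716186004158001350003250188158001350003280181551350003260015513343290015133497000133465001348300453800352356599867021a,
  nat_lit 0x3566674212077742147047442170402422164440201421192020201082195212240120108021621721012000108017112161015120013108014161601515200001370802716156152005001301348006155005001301343235150001301343265000013323290310133297039183260360825385008503803803039367421a,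
  nat_lit 0x58877764040766640116646440166440400174444001401190404001130198010040100113901701601010150113716220172018201513213624272701828015251362340620280280150251302340017280250251302340018202502302340018525023000015320230011539230015372001338013851356357599876401a,
  nat_lit 0x460777853130888531580585531805035331755503015311935303010031963133031301002317318313101401002181131713161014001002151717316160141400200238171671601461400400202b7166146140040020226161440040020226414400020224014000222402000224021022002320225028027299678531a,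
  nat_lit 0x466777832127888321088383321083323221033332213211023232211021002122321221100210210212121021100101121012101210101100101010210102101010010008171071021061010410050471061061010410050661610410410050764104105050945141050984591050745715065560456435485474996783210]
noncomputable def Im9 (k u : ℕ) : ℕ := Nat.land (Nat.shiftRight (nth (nat_lit 0) Im9d k) (Nat.mul u (nat_lit 4))) (nat_lit 15)
noncomputable def Dm9d : ℕ := nat_lit 0x7a3abb1abc88de441721e790e1c868e4317216f90a9c852dc1d6e0cb7041b817dc08ee02b7007b7ffd3f569f874fb7a7cfd3e4e9f034f73a7b2d3d5e5e1f2f039778cbb8e5d772ead974dcba365cfb0e738727c38ae1c330e0b86fcc37ae1ba30dc386dac368e1b32ed7b7697bb485d9f2eceb766cbb32dd972ecb77648bb20dd8f2ec77662db3135984acc0165f5b2f75979ecba765cab2e1d96eacb7365b5b2d7d96a2cb415582aabdd55d2aabd5557aa9d554ceaa515521aa8f55436aa0d54fdaa7e553d6a9d754e4a26cd131e896744aca2525126a890d447fa23cd11b688c5445ba22c5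114a88a34440a21bd10da8861442ea2154d00667f333e699ef4cf4a679733c599d84ceaa674b339e99cdcce0e6701337a99bcccdce66d1336799b24cd76469f23449199c8ca646472318918748c22460722fc917cc8bb645c322de916c48b5e459922c69162c8b0a457922bb915d44ab22521128a8940c49d624e51266892d4495e24a312508922c48fe247d123b891ac48d22461021e81094080e03ef01f480f5c079603c901d980e9c074a039f01c980e440709e376f1b578ca3c645e310f18278c0bc5e1e2eef16f78b73c5adc2b6e15470a1b84ddc262e1307093b8499c246e1216889b4431a210d0f26878b43a1a1ced0e1606eb0335818cc0c5605db02e9816cb0a958502c26d612cb0955042a820140f4a07948352417d20b680584026a0120e07670393018180bca048401c180b0803c20100000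
noncomputable def Dm9 (u : ℕ) : ℕ := Nat.land (Nat.shiftRight Dm9d (Nat.mul u (nat_lit 17))) (nat_lit 131071)
noncomputable def Em9 (_ : ℕ) : ℕ := nat_lit 0
noncomputable def Jm9 (_ : ℕ) : ℕ := nat_lit 0
noncomputable def Wm9 (_ : ℕ) : ℕ := nat_lit 0
noncomputable def RLm9 : List (List Rule) := [[.rel (nat_lit 0) (nat_lit 0) [nat_lit 0], .rel (nat_lit 74) (nat_lit 1) [nat_lit 8, nat_lit 0, nat_lit 8], .rel (nat_lit 48) (nat_lit 1) [nat_lit 6, nat_lit 0, nat_lit 6], .rel (nat_lit 60) (nat_lit 1) [nat_lit 7, nat_lit 0, nat_lit 7], .rel (nat_lit 38) (nat_lit 1) [nat_lit 5, nat_lit 0, nat_lit 5], .rel (nat_lit 30) (nat_lit 1) [nat_lit 4, nat_lit 0, nat_lit 4], .defn, .rel (nat_lit 20) (nat_lit 1) [nat_lit 2, nat_lit 0, nat_lit 2, nat_lit 0, nat_lit 2], .rel (nat_lit 18) (nat_lit 1) [nat_lit 1, nat_lit 0, nat_lit 1, nat_lit 0, nat_lit 1], .rel (nat_lit 24) (nat_lit 1) [nat_lit 3, nat_lit 0,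 nat_lit 3, nat_lit 0, nat_lit 3], .sub (nat_lit 0) [] []],
  [.rel (nat_lit 2) (nat_lit 0) [nat_lit 1], .rel (nat_lit 76) (nat_lit 1) [nat_lit 8, nat_lit 1, nat_lit 8], .rel (nat_lit 50) (nat_lit 1) [nat_lit 6, nat_lit 1, nat_lit 6], .rel (nat_lit 62) (nat_lit 1) [nat_lit 7, nat_lit 1, nat_lit 7], .rel (nat_lit 40) (nat_lit 1) [nat_lit 5, nat_lit 1, nat_lit 5], .defn, .rel (nat_lit 22) (nat_lit 1) [nat_lit 2, nat_lit 1, nat_lit 2], .rel (nat_lit 18) (nat_lit 0) [nat_lit 0, nat_lit 1, nat_lit 0, nat_lit 1, nat_lit 0], .rel (nat_lit 32) (nat_lit 1) [nat_lit 4, nat_lit 1, nat_lit 4, nat_lit 1, nat_lit 4], .rel (nat_lit 26) (nat_lit 1) [nat_lit 3, nat_lit 1, nat_lit 3], .sub (nat_lit 2) [] []],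
  [.rel (nat_lit 4) (nat_lit 0) [nat_lit 2], .rel (nat_lit 78) (nat_lit 1) [nat_lit 8, nat_lit 2, nat_lit 8], .rel (nat_lit 52) (nat_lit 1) [nat_lit 6, nat_lit 2, nat_lit 6], .rel (nat_lit 64) (nat_lit 1) [nat_lit 7, nat_lit 2, nat_lit 7], .defn, .rel (nat_lit 34) (nat_lit 1) [nat_lit 4, nat_lit 2, nat_lit 4], .rel (nat_lit 22) (nat_lit 0) [nat_lit 1, nat_lit 2, nat_lit 1], .rel (nat_lit 20) (nat_lit 0) [nat_lit 0, nat_lit 2, nat_lit 0, nat_lit 2, nat_lit 0], .rel (nat_lit 42) (nat_lit 1) [nat_lit 5, nat_lit 2, nat_lit 5, nat_lit 2, nat_lit 5], .rel (nat_lit 28) (nat_lit 1) [nat_lit 3, nat_lit 2, nat_lit 3], .sub (nat_lit 4) [] []],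
  [.rel (nat_lit 6) (nat_lit 0) [nat_lit 3], .rel (nat_lit 80) (nat_lit 1) [nat_lit 8, nat_lit 3, nat_lit 8], .rel (nat_lit 54) (nat_lit 1) [nat_lit 6, nat_lit 3, nat_lit 6], .rel (nat_lit 66) (nat_lit 1) [nat_lit 7, nat_lit 3, nat_lit 7], .rel (nat_lit 44) (nat_lit 1) [nat_lit 5, nat_lit 3, nat_lit 5], .rel (nat_lit 36) (nat_lit 1) [nat_lit 4, nat_lit 3, nat_lit 4], .rel (nat_lit 24) (nat_lit 0) [nat_lit 0, nat_lit 3, nat_lit 0, nat_lit 3, nat_lit 0], .rel (nat_lit 26) (nat_lit 0) [nat_lit 1, nat_lit 3, nat_lit 1], .rel (nat_lit 28) (nat_lit 0) [nat_lit 2, nat_lit 3, nat_lit 2], .defn, .sub (nat_lit 6) [] []],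
  [.rel (nat_lit 8) (nat_lit 0) [nat_lit 4], .rel (nat_lit 82) (nat_lit 1) [nat_lit 8, nat_lit 4, nat_lit 8], .defn, .rel (nat_lit 68) (nat_lit 1) [nat_lit 7, nat_lit 4, nat_lit 7], .rel (nat_lit 56) (nat_lit 1) [nat_lit 6, nat_lit 4, nat_lit 6, nat_lit 4, nat_lit 6], .rel (nat_lit 46) (nat_lit 1) [nat_lit 5, nat_lit 4, nat_lit 5], .rel (nat_lit 30) (nat_lit 0) [nat_lit 0, nat_lit 4, nat_lit 0], .rel (nat_lit 32) (nat_lit 0) [nat_lit 1, nat_lit 4, nat_lit 1, nat_lit 4, nat_lit 1], .rel (nat_lit 34) (nat_lit 0) [nat_lit 2, nat_lit 4, nat_lit 2], .rel (nat_lit 36) (nat_lit 0) [nat_lit 3, nat_lit 4, nat_lit 3], .sub (nat_lit 8) [] [], .rel (nat_lit 90) (nat_lit 19) [nat_lit 5, nat_lit 6, nat_lit 0, nat_lit 1, nat_lit 2, nat_lit 3, nat_lit 4, nat_lit 5, nat_lit 6, nat_lit 0, nat_lit 1, nat_lit 2, nat_lit 3, nat_lit 4, nat_lit 5, nat_lit 6, nat_lit 0, nat_lit 1, nat_lit 2, nat_lit 3, nat_lit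 4, nat_lit 5, nat_lit 6, nat_lit 0, nat_lit 1, nat_lit 2, nat_lit 3, nat_lit 4, nat_lit 5, nat_lit 6, nat_lit 0, nat_lit 1, nat_lit 2, nat_lit 3, nat_lit 4, nat_lit 5, nat_lit 6, nat_lit 0, nat_lit 1, nat_lit 2, nat_lit 3, nat_lit 4, nat_lit 5, nat_lit 6, nat_lit 7, nat_lit 6, nat_lit 5, nat_lit 4, nat_lit 3, nat_lit 2, nat_lit 1, nat_lit 0, nat_lit 6, nat_lit 5, nat_lit 4, nat_lit 3, nat_lit 2, nat_lit 1, nat_lit 0, nat_lit 6, nat_lit 5, nat_lit 4, nat_lit 3, nat_lit 2, nat_lit 1, nat_lit 0, nat_lit 6, nat_lit 5, nat_lit 4, nat_lit 3, nat_lit 2, nat_lit 1, nat_lit 0, nat_lit 6, nat_lit 5, nat_lit 4, nat_lit 3, nat_lit 2, nat_lit 1, nat_lit 0, nat_lit 6, nat_lit 5, nat_lit 4, nat_lit 3, nat_lit 2, nat_lit 1, nat_lit 0, nat_lit 6, nat_lit 5, nat_lit 4, nat_lit 3, nat_lit 2, nat_lit 1, nat_lit 0, nat_lit 6, nat_lit 5, nat_lit 4, nat_lit 3, nat_lit 2, nat_lit 1, nat_lit 0, nat_lit 6, nat_lit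 5, nat_lit 4, nat_lit 3, nat_lit 2, nat_lit 1, nat_lit 0, nat_lit 7, nat_lit 0, nat_lit 1, nat_lit 2, nat_lit 3, nat_lit 4, nat_lit 5, nat_lit 6, nat_lit 0, nat_lit 1, nat_lit 2, nat_lit 3, nat_lit 4, nat_lit 5, nat_lit 6, nat_lit 0, nat_lit 1, nat_lit 2, nat_lit 3]],
  [.rel (nat_lit 10) (nat_lit 0) [nat_lit 5], .rel (nat_lit 84) (nat_lit 1) [nat_lit 8, nat_lit 5, nat_lit 8], .rel (nat_lit 58) (nat_lit 1) [nat_lit 6, nat_lit 5, nat_lit 6], .defn, .rel (nat_lit 46) (nat_lit 0) [nat_lit 4, nat_lit 5, nat_lit 4], .rel (nat_lit 42) (nat_lit 0) [nat_lit 2, nat_lit 5, nat_lit 2, nat_lit 5, nat_lit 2], .rel (nat_lit 38) (nat_lit 0) [nat_lit 0, nat_lit 5, nat_lit 0], .rel (nat_lit 40) (nat_lit 0) [nat_lit 1, nat_lit 5, nat_lit 1], .rel (nat_lit 70) (nat_lit 1) [nat_lit 7, nat_lit 5, nat_lit 7, nat_lit 5, nat_lit 7], .rel (nat_lit 44) (nat_lit 0) [nat_lit 3, nat_lit 5, nat_lit 3], .sub (nat_lit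 10) [] []],
  [.rel (nat_lit 12) (nat_lit 0) [nat_lit 6], .defn, .rel (nat_lit 86) (nat_lit 1) [nat_lit 8, nat_lit 6, nat_lit 8, nat_lit 6, nat_lit 8], .rel (nat_lit 72) (nat_lit 1) [nat_lit 7, nat_lit 6, nat_lit 7], .rel (nat_lit 56) (nat_lit 0) [nat_lit 4, nat_lit 6, nat_lit 4, nat_lit 6, nat_lit 4], .rel (nat_lit 58) (nat_lit 0) [nat_lit 5, nat_lit 6, nat_lit 5], .rel (nat_lit 50) (nat_lit 0) [nat_lit 1, nat_lit 6, nat_lit 1], .rel (nat_lit 48) (nat_lit 0) [nat_lit 0, nat_lit 6, nat_lit 0], .rel (nat_lit 52) (nat_lit 0) [nat_lit 2, nat_lit 6, nat_lit 2], .rel (nat_lit 54) (nat_lit 0) [nat_lit 3, nat_lit 6, nat_lit 3], .sub (nat_lit 12) [] []],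
  [.rel (nat_lit 14) (nat_lit 0) [nat_lit 7], .rel (nat_lit 88) (nat_lit 1) [nat_lit 8, nat_lit 7, nat_lit 8], .defn, .rel (nat_lit 72) (nat_lit 0) [nat_lit 6, nat_lit 7, nat_lit 6], .rel (nat_lit 70) (nat_lit 0) [nat_lit 5, nat_lit 7, nat_lit 5, nat_lit 7, nat_lit 5], .rel (nat_lit 68) (nat_lit 0) [nat_lit 4, nat_lit 7, nat_lit 4], .rel (nat_lit 64) (nat_lit 0) [nat_lit 2, nat_lit 7, nat_lit 2], .rel (nat_lit 60) (nat_lit 0) [nat_lit 0, nat_lit 7, nat_lit 0], .rel (nat_lit 62) (nat_lit 0) [nat_lit 1, nat_lit 7, nat_lit 1], .rel (nat_lit 66) (nat_lit 0) [nat_lit 3, nat_lit 7, nat_lit 3], .sub (nat_lit 14) [] [], .rel (nat_lit 90) (nat_lit 0) [nat_lit 0, nat_lit 1, nat_lit 2, nat_lit 3, nat_lit 4, nat_lit 5, nat_lit 6, nat_lit 0, nat_lit 1, nat_lit 2, nat_lit 3, nat_lit 4, nat_lit 5, nat_lit 6, nat_lit 0, nat_lit 1, nat_lit 2, nat_lit 3, nat_lit 4, nat_lit 5, nat_lit 6, nat_lit 0, nat_lit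 1, nat_lit 2, nat_lit 3, nat_lit 4, nat_lit 5, nat_lit 6, nat_lit 0, nat_lit 1, nat_lit 2, nat_lit 3, nat_lit 4, nat_lit 5, nat_lit 6, nat_lit 0, nat_lit 1, nat_lit 2, nat_lit 3, nat_lit 4, nat_lit 5, nat_lit 6, nat_lit 0, nat_lit 1, nat_lit 2, nat_lit 3, nat_lit 4, nat_lit 5, nat_lit 6, nat_lit 0, nat_lit 1, nat_lit 2, nat_lit 3, nat_lit 4, nat_lit 5, nat_lit 6, nat_lit 0, nat_lit 1, nat_lit 2, nat_lit 3, nat_lit 4, nat_lit 5, nat_lit 6, nat_lit 7, nat_lit 6, nat_lit 5, nat_lit 4, nat_lit 3, nat_lit 2, nat_lit 1, nat_lit 0, nat_lit 6, nat_lit 5, nat_lit 4, nat_lit 3, nat_lit 2, nat_lit 1, nat_lit 0, nat_lit 6, nat_lit 5, nat_lit 4, nat_lit 3, nat_lit 2, nat_lit 1, nat_lit 0, nat_lit 6, nat_lit 5, nat_lit 4, nat_lit 3, nat_lit 2, nat_lit 1, nat_lit 0, nat_lit 6, nat_lit 5, nat_lit 4, nat_lit 3, nat_lit 2, nat_lit 1, nat_lit 0, nat_lit 6, nat_lit 5, nat_lit 4, nat_lit 3, nat_lit 2, nat_lit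 1, nat_lit 0, nat_lit 6, nat_lit 5, nat_lit 4, nat_lit 3, nat_lit 2, nat_lit 1, nat_lit 0, nat_lit 6, nat_lit 5, nat_lit 4, nat_lit 3, nat_lit 2, nat_lit 1, nat_lit 0, nat_lit 6, nat_lit 5, nat_lit 4, nat_lit 3, nat_lit 2, nat_lit 1, nat_lit 0]],
  [.defn, .rel (nat_lit 16) (nat_lit 0) [nat_lit 8], .rel (nat_lit 86) (nat_lit 0) [nat_lit 6, nat_lit 8, nat_lit 6, nat_lit 8, nat_lit 6], .rel (nat_lit 82) (nat_lit 0) [nat_lit 4, nat_lit 8, nat_lit 4], .rel (nat_lit 84) (nat_lit 0) [nat_lit 5, nat_lit 8, nat_lit 5], .rel (nat_lit 88) (nat_lit 0) [nat_lit 7, nat_lit 8, nat_lit 7], .rel (nat_lit 78) (nat_lit 0) [nat_lit 2, nat_lit 8, nat_lit 2], .rel (nat_lit 74) (nat_lit 0) [nat_lit 0, nat_lit 8, nat_lit 0], .rel (nat_lit 76) (nat_lit 0) [nat_lit 1, nat_lit 8, nat_lit 1], .rel (nat_lit 80) (nat_lit 0) [nat_lit 3, nat_lit 8, nat_lit 3]]]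
noncomputable def cm9 : TCert2 := ⟨255, 255, 255, 9, 255, 4095, 0, Tm9, Im9, Dm9, Em9, Jm9, Wm9, [[nat_lit 0],
  [nat_lit 1],
  [nat_lit 2],
  [nat_lit 3],
  [nat_lit 4],
  [nat_lit 5],
  [nat_lit 6],
  [nat_lit 7]], RLm9⟩
noncomputable def Pd : List ℕ := [nat_lit 0x87c3a1b0a85c32090883c1a0b0981be202f37fbf9faeb7dbe9f3027bba1cef4803c9c0f077b75daec7e34da4f67ab3d9ccd71b89c2f163b19dcdc6db69b2c36135972d4753a5a2d073395c8b1582bd58c86fb7950a76c35d82c05fa917aa351285aab85bad96ab459ac998cb6523518c9452a952c56221508be5e2ed74a04fa790481401fd32984ba592a7649a49229047a395cad362acd48843a194ca532a75389b4d1f8c86331184f2783ba50ea5d2e1c8e270379b8da8b35a24a06833999067d3e1ecf44c25978e87324968904723158aa5429948a269279389a602f8e8b6592c15c6e441b0d468401f8f87a3c1d92872382290c8441148a04e26178b85a2c158a86632188c03a1c1188842200f8784a240a85032180b858361a0704822100784c140c058340e08048180a03020080200,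
  nat_lit 0x87c3a1b0c85c1e13028541a0afa7b422030078bf9fafc7dc11d2f87340deaf470b7dfef06ebb9daec6cba9f2e8683ddcae471b25e6e079379dedc61b09d6d86bb59aabe5eb49a2e767acd64cc65b29c4c863aa58ac46db6946a250b51a6bc5dae93c9d4e2d96a9467335208f472b95aac55aa98c87432994aa460b017e803fae570b74da68fa7c3da592ab43a1cd22b1582bcdc6d459ad12885429cce6641a0902a04f98532984b9e8c05f3b9d8b69349160ae7037a35185245144d26842a109a6431988fc793c128ba5c3a914b27238904aa54299b0d43d27938ca4c25978923823918b43221908ac401f8f8a03c1d8e872481b8ac5434199106230178b85a2c1b0d440280f8784a24118684229138982e160d88826180e87020140c834221507838240c0582812080301c0805018080200,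
  nat_lit 0x87c3a1b0c84c22170a8141a0b0481c1deb007fbf9dcfc7dbe9f2f87bbda02e4713c9e2e077bf5aeec6a3a9d2d173b99caf4653cd92f06fb79bac7633697cd876ae9aaeb5bad9d0d05aad19acc65b8dc2ab6e36d8ac454b0950a75fb6538bc5db5932b869b499ece4a2c9269257ab95aac6422586c1602994aa443a194285421f53abd4da6972984ba592ab358ac1227439a38e47145a29546951a89409f419a10267331953c7c3d9e8f2783b9d8ea9047a35185937960ae56359a91082401fcfc64279389a602f978ba5c2d968e06e369b0aa4321104a25031988c23c1d9287248239188a442a14ca431180f87a4c258b49238160d86a34198c8803f120b87437158a84421138984a2f118a4501a0f878321c0d8803a180985824140b854220d078382009058281808038180a040100c0200,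
  nat_lit 0x87c321b0e85c2a130883c01f8f981c0a03067fbe1fb05753a608fe7bbd9eaf479bc9e2e873bb9dad575bedf4f077b99cae471b89c2d16fb79a0cf67335b2d86bb59d8d469b49c0dd6e36db4cc65b2992c85aad18ac459ac962b057af97abc5dae972b85bad98ec661b0982c05fab95a9555aa92893492994a914823d1c8d462793a9c4da6932984ba5958a95429d48a351285409f459d512883a1cce471419c0de6e369b0fa7c3d9e8f2783b9d9148743215088240a00fe7e2d968d2592c15cac552a14ca4602f978ba5c359a8d06733194c863311848a442190882401f928924823918a250279389a4c258cc6431180bc72381b8d86a341f0f4783b1d094482c158a85228138985c2d0d88842200f8783a1c1186832180b8582a0f0984822100a02c1a0c07020120a028100e06018080200,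
  nat_lit 0x87c3a1b0c85c2a130880c1a0b0481bd60f007fbbdfafc7dbb1f2e77bb9604f479bc9bcdb7f3b9b2fa75ba9aace7c331ece471b8990c662bc5bac178369dad85f2f5d2d469ae568d058ba19ae665b2956e154381bec461a91b8c05fb5dacbc4ea71a4b85ba6526d159a459eb057ab95a8a64aa952c753a994ac251a0902a04fa7976ba3e1ed6c984b9e4ea945aa496490381bd1a8c45ab11288439a10a8441a894263311f8fa9b4d17d2c782f1d92a742c9c8e28f47150a66c359a8d28627938ca64401fc96603d1dcba482d968e64321158aa6e368fc7c5033998764c30928925c1b0d466442c15c6040291445c3c268e872381491c8c26228946241178f45a22158a86e1d138d06424118b032200c078501c0d868421f0b8442a14098482c0c0783812100581c1a05050181004018080200,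
  nat_lit 0x87c3a170c86c2a130383c1a0b04843da03007fbc1fafc7dbe9f2e87bc09caf479b89e2fe6db61daec75ba9d2f867399eacb71bc9c2e064b7986dc77b01b2ee5db59aab869b49a2b367b9d60cc722b5bec85631956c46ea8982da4fa757abc6ba6972d44ba592ab46823d62cd462b994c762aa9528a53a254a8251b08fea05fa797c7b4dae8f2985bad96a943aa48e090591b51aaf45aa14c8835a18d48434a90c480509f8c07c4e1e932783b9d9265b39968e291299b91c6c43a15066828998a04c31a04c27d2f978925c3a1c8b2452b910805437948ce651f1387a6425928ba481b918b0561990864551f93c9a3c170e87238238a46a28219046225178ec462c100a86c3413874601b16888422b0f85c4c151206832180f0403814098481816078381a11058281208038180a04018040400,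
  nat_lit 0x87c3a1b0c85c2a130883c1a0b0481c09e9007fbf9dafc763e9f2f87bbd9c90179bc9e2f06d35dfafb75b55d2e866b9996f571b89c2e06fb1184dc603bdb2bb77359d4d45cb49a2b267ac1ceae72b2992aa63a9d4cde5137540db5faf93c9b6c2e9a6b84cad96a9247b411ace57b315aac44b210c85633154aa44030d42c14faf53a7d5e2696e983ca592a73392d1226e59a39628c459a9568833aa5508441a08c8a33f9f9387c301e92e5e3b970b4584a24ce2702aa40da6c28a28d26843998ca8131930c27b251e08e76229d4b2742b958de5420148d650278f09a621d17c6e482e918b644218c48253178f87a4e1692c5838248d84e34198c884241f88c76391587c52281a8703630170884220150582a26128682418080783a1406864221707828260c04038120b038180a04018080200,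
  nat_lit 0x86c3a1f0c85c2a130883c1a0b047bc0a0300793f9fafc7dbe9f2f881b99eaf479bfdbedc77bb9daec75ba9d2cf73bd998e471b89c2c778b15baf060b69b2bc6bb59aad469b496ad0742c59ae55732992c8702a1bca651b09b6a05faf97ad84dae972985bad9a293482c99c8d57b2d16ac55aa90ec642b1106a461a0142c03f278f89c5d9e932b83c1dd2a745a1c922b337239606c56a2912885499d4e655298d02a230a7cfa9d2fa68bc974b174ea942c248ac5437a3ca48c359a8d24f4313508644112cfe4a3d9e4ec472d9688673209c4aa701f9b4a250340eccc3a3118092362e0d08a442c8c0ae2f298f87a2d27130722b1b9204c46198c84842200b8782c1c07852280e0d44a311188842200b0a83a270d86832110b87c2a14098483010078381a0c058281208038180a04018080001,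
  nat_lit 0x87c3a1b0c85c2a130883c19f70481c0a03007fbf9faea82be9f2f87bbd9eae379bc9e2f077bb9acec69bf1d2e873b99caca7a389c2e06fb79badc6dafd7ad85d3b5aab775b49a2d067b395ecc56b9192c863b198aa561a85829f6d271b2bc4d35d72976a2d96ab459a39628c66a2d96ac55a2152a84220d8881519fd847e60278f6be3d2ed32785c2592a94499c4de9036ac8d8b057228d2aa43998caa753189486151280fa5f4ea6cf2983b9d8ea742b9592453489491e8d35941124e26a190a6425a0900603e178ba462d9108441399c8aa3f381b87a6a1d9a0ce4c3192892351a170645a18164b0402a0b8a23c278e8722a140989047129146243178f85a210f0e03a37138d866241186458170f8ac521c0d84c4418100582a0e0d0482210058501a0c078281208038180a04018080200]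
noncomputable def P (k u : ℕ) : ℕ := Nat.land (Nat.shiftRight (nth (nat_lit 0) Pd k) (Nat.mul u (nat_lit 9))) (nat_lit 511)
noncomputable def XW : List (List ℕ) := []
noncomputable def Jb : List Job := [⟨[nat_lit 1, nat_lit 0, nat_lit 1], [nat_lit 0, nat_lit 1, nat_lit 0], (nat_lit 3)⟩,
  ⟨[nat_lit 2, nat_lit 0, nat_lit 2], [nat_lit 0, nat_lit 2, nat_lit 0], (nat_lit 5)⟩,
  ⟨[nat_lit 2, nat_lit 1], [nat_lit 1, nat_lit 2], (nat_lit 6)⟩,
  ⟨[nat_lit 3, nat_lit 0, nat_lit 3], [nat_lit 0, nat_lit 3, nat_lit 0], (nat_lit 9)⟩,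
  ⟨[nat_lit 3, nat_lit 1], [nat_lit 1, nat_lit 3], (nat_lit 10)⟩,
  ⟨[nat_lit 3, nat_lit 2], [nat_lit 2, nat_lit 3], (nat_lit 12)⟩,
  ⟨[nat_lit 4, nat_lit 0], [nat_lit 0, nat_lit 4], (nat_lit 17)⟩,
  ⟨[nat_lit 4, nat_lit 1, nat_lit 4], [nat_lit 1, nat_lit 4, nat_lit 1], (nat_lit 18)⟩,
  ⟨[nat_lit 4, nat_lit 2], [nat_lit 2, nat_lit 4], (nat_lit 20)⟩,
  ⟨[nat_lit 4, nat_lit 3], [nat_lit 3, nat_lit 4], (nat_lit 24)⟩,
  ⟨[nat_lit 5, nat_lit 0], [nat_lit 0, nat_lit 5], (nat_lit 33)⟩,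
  ⟨[nat_lit 5, nat_lit 1], [nat_lit 1, nat_lit 5], (nat_lit 34)⟩,
  ⟨[nat_lit 5, nat_lit 2, nat_lit 5], [nat_lit 2, nat_lit 5, nat_lit 2], (nat_lit 36)⟩,
  ⟨[nat_lit 5, nat_lit 3], [nat_lit 3, nat_lit 5], (nat_lit 40)⟩,
  ⟨[nat_lit 5, nat_lit 4], [nat_lit 4, nat_lit 5], (nat_lit 48)⟩,
  ⟨[nat_lit 6, nat_lit 0], [nat_lit 0, nat_lit 6], (nat_lit 65)⟩,
  ⟨[nat_lit 6, nat_lit 1], [nat_lit 1, nat_lit 6], (nat_lit 66)⟩,
  ⟨[nat_lit 6, nat_lit 2], [nat_lit 2, nat_lit 6], (nat_lit 68)⟩,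
  ⟨[nat_lit 6, nat_lit 3], [nat_lit 3, nat_lit 6], (nat_lit 72)⟩,
  ⟨[nat_lit 6, nat_lit 4, nat_lit 6], [nat_lit 4, nat_lit 6, nat_lit 4], (nat_lit 80)⟩,
  ⟨[nat_lit 6, nat_lit 5], [nat_lit 5, nat_lit 6], (nat_lit 96)⟩,
  ⟨[nat_lit 7, nat_lit 0], [nat_lit 0, nat_lit 7], (nat_lit 129)⟩,
  ⟨[nat_lit 7, nat_lit 1], [nat_lit 1, nat_lit 7], (nat_lit 130)⟩,
  ⟨[nat_lit 7, nat_lit 2], [nat_lit 2, nat_lit 7], (nat_lit 132)⟩,
  ⟨[nat_lit 7, nat_lit 3], [nat_lit 3, nat_lit 7], (nat_lit 136)⟩,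
  ⟨[nat_lit 7, nat_lit 4], [nat_lit 4, nat_lit 7], (nat_lit 144)⟩,
  ⟨[nat_lit 7, nat_lit 5, nat_lit 7], [nat_lit 5, nat_lit 7, nat_lit 5], (nat_lit 160)⟩,
  ⟨[nat_lit 7, nat_lit 6], [nat_lit 6, nat_lit 7], (nat_lit 192)⟩,
  ⟨[nat_lit 8, nat_lit 0], [nat_lit 0, nat_lit 8], (nat_lit 257)⟩,
  ⟨[nat_lit 8, nat_lit 1], [nat_lit 1, nat_lit 8], (nat_lit 258)⟩,
  ⟨[nat_lit 8, nat_lit 2], [nat_lit 2, nat_lit 8], (nat_lit 260)⟩,
  ⟨[nat_lit 8, nat_lit 3], [nat_lit 3, nat_lit 8], (nat_lit 264)⟩,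
  ⟨[nat_lit 8, nat_lit 4], [nat_lit 4, nat_lit 8], (nat_lit 272)⟩,
  ⟨[nat_lit 8, nat_lit 5], [nat_lit 5, nat_lit 8], (nat_lit 288)⟩,
  ⟨[nat_lit 8, nat_lit 6, nat_lit 8], [nat_lit 6, nat_lit 8, nat_lit 6], (nat_lit 320)⟩,
  ⟨[nat_lit 8, nat_lit 7], [nat_lit 7, nat_lit 8], (nat_lit 384)⟩,
  ⟨[nat_lit 7, nat_lit 0, nat_lit 1, nat_lit 2, nat_lit 3, nat_lit 4, nat_lit 5, nat_lit 6, nat_lit 0, nat_lit 1, nat_lit 2, nat_lit 3, nat_lit 4, nat_lit 5, nat_lit 6, nat_lit 0, nat_lit 1, nat_lit 2, nat_lit 3, nat_lit 4, nat_lit 5, nat_lit 6, nat_lit 0, nat_lit 1, nat_lit 2, nat_lit 3, nat_lit 4, nat_lit 5, nat_lit 6, nat_lit 0, nat_lit 1, nat_lit 2, nat_lit 3, nat_lit 4, nat_lit 5, nat_lit 6, nat_lit 0, nat_lit 1, nat_lit 2, nat_lit 3, nat_lit 4, nat_lit 5, nat_lit 6, nat_lit 0, nat_lit 1, nat_lit 2, nat_lit 3, nat_lit 4, nat_lit 5, nat_lit 6, nat_lit 0, nat_lit 1, nat_lit 2, nat_lit 3, nat_lit 4,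 nat_lit 5, nat_lit 6, nat_lit 0, nat_lit 1, nat_lit 2, nat_lit 3, nat_lit 4, nat_lit 5, nat_lit 6], [nat_lit 0, nat_lit 1, nat_lit 2, nat_lit 3, nat_lit 4, nat_lit 5, nat_lit 6, nat_lit 0, nat_lit 1, nat_lit 2, nat_lit 3, nat_lit 4, nat_lit 5, nat_lit 6, nat_lit 0, nat_lit 1, nat_lit 2, nat_lit 3, nat_lit 4, nat_lit 5, nat_lit 6, nat_lit 0, nat_lit 1, nat_lit 2, nat_lit 3, nat_lit 4, nat_lit 5, nat_lit 6, nat_lit 0, nat_lit 1, nat_lit 2, nat_lit 3, nat_lit 4, nat_lit 5, nat_lit 6, nat_lit 0, nat_lit 1, nat_lit 2, nat_lit 3, nat_lit 4, nat_lit 5, nat_lit 6, nat_lit 0, nat_lit 1, nat_lit 2, nat_lit 3, nat_lit 4, nat_lit 5, nat_lit 6, nat_lit 0, nat_lit 1, nat_lit 2, nat_lit 3, nat_lit 4, nat_lit 5, nat_lit 6, nat_lit 0, nat_lit 1, nat_lit 2, nat_lit 3, nat_lit 4, nat_lit 5, nat_lit 6, nat_lit 7], (nat_lit 0)⟩,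
  ⟨[nat_lit 6, nat_lit 0, nat_lit 2, nat_lit 1, nat_lit 3, nat_lit 5, nat_lit 4, nat_lit 7, nat_lit 0, nat_lit 2, nat_lit 1, nat_lit 3, nat_lit 5, nat_lit 4, nat_lit 7, nat_lit 0, nat_lit 2, nat_lit 1, nat_lit 3, nat_lit 5, nat_lit 4, nat_lit 7, nat_lit 0, nat_lit 2, nat_lit 1, nat_lit 3, nat_lit 5, nat_lit 4, nat_lit 7, nat_lit 0, nat_lit 2, nat_lit 1, nat_lit 3, nat_lit 5, nat_lit 4, nat_lit 7, nat_lit 0, nat_lit 2, nat_lit 1, nat_lit 3, nat_lit 5, nat_lit 4, nat_lit 7, nat_lit 0, nat_lit 2, nat_lit 1, nat_lit 3, nat_lit 5, nat_lit 4, nat_lit 7, nat_lit 0, nat_lit 2, nat_lit 1, nat_lit 3, nat_lit 5, nat_lit 4, nat_lit 7, nat_lit 0, nat_lit 2, nat_lit 1, nat_lit 3, nat_lit 5, nat_lit 4, nat_lit 7], [nat_lit 0, nat_lit 2, nat_lit 1, nat_lit 3, nat_lit 5, nat_lit 4, nat_lit 7, nat_lit 0, nat_lit 2, nat_lit 1, nat_lit 3, nat_lit 5, nat_lit 4, nat_lit 7, nat_lit 0, nat_lit 2, nat_lit 1,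 nat_lit 3, nat_lit 5, nat_lit 4, nat_lit 7, nat_lit 0, nat_lit 2, nat_lit 1, nat_lit 3, nat_lit 5, nat_lit 4, nat_lit 7, nat_lit 0, nat_lit 2, nat_lit 1, nat_lit 3, nat_lit 5, nat_lit 4, nat_lit 7, nat_lit 0, nat_lit 2, nat_lit 1, nat_lit 3, nat_lit 5, nat_lit 4, nat_lit 7, nat_lit 0, nat_lit 2, nat_lit 1, nat_lit 3, nat_lit 5, nat_lit 4, nat_lit 7, nat_lit 0, nat_lit 2, nat_lit 1, nat_lit 3, nat_lit 5, nat_lit 4, nat_lit 7, nat_lit 0, nat_lit 2, nat_lit 1, nat_lit 3, nat_lit 5, nat_lit 4, nat_lit 7, nat_lit 6], (nat_lit 0)⟩,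
  ⟨[nat_lit 8, nat_lit 0, nat_lit 2, nat_lit 1, nat_lit 3, nat_lit 5, nat_lit 4, nat_lit 7, nat_lit 0, nat_lit 2, nat_lit 1, nat_lit 3, nat_lit 5, nat_lit 4, nat_lit 7, nat_lit 0, nat_lit 2, nat_lit 1, nat_lit 3, nat_lit 5, nat_lit 4, nat_lit 7, nat_lit 0, nat_lit 2, nat_lit 1, nat_lit 3, nat_lit 5, nat_lit 4, nat_lit 7, nat_lit 0, nat_lit 2, nat_lit 1, nat_lit 3, nat_lit 5, nat_lit 4, nat_lit 7, nat_lit 0, nat_lit 2, nat_lit 1, nat_lit 3, nat_lit 5, nat_lit 4, nat_lit 7, nat_lit 0, nat_lit 2, nat_lit 1, nat_lit 3, nat_lit 5, nat_lit 4, nat_lit 7, nat_lit 0, nat_lit 2, nat_lit 1, nat_lit 3, nat_lit 5, nat_lit 4, nat_lit 7, nat_lit 0, nat_lit 2, nat_lit 1, nat_lit 3, nat_lit 5, nat_lit 4, nat_lit 7], [nat_lit 0, nat_lit 2, nat_lit 1, nat_lit 3, nat_lit 5, nat_lit 4, nat_lit 7, nat_lit 0, nat_lit 2, nat_lit 1, nat_lit 3, nat_lit 5, nat_lit 4, nat_lit 7, nat_lit 0, nat_lit 2, nat_lit 1,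 nat_lit 3, nat_lit 5, nat_lit 4, nat_lit 7, nat_lit 0, nat_lit 2, nat_lit 1, nat_lit 3, nat_lit 5, nat_lit 4, nat_lit 7, nat_lit 0, nat_lit 2, nat_lit 1, nat_lit 3, nat_lit 5, nat_lit 4, nat_lit 7, nat_lit 0, nat_lit 2, nat_lit 1, nat_lit 3, nat_lit 5, nat_lit 4, nat_lit 7, nat_lit 0, nat_lit 2, nat_lit 1, nat_lit 3, nat_lit 5, nat_lit 4, nat_lit 7, nat_lit 0, nat_lit 2, nat_lit 1, nat_lit 3, nat_lit 5, nat_lit 4, nat_lit 7, nat_lit 0, nat_lit 2, nat_lit 1, nat_lit 3, nat_lit 5, nat_lit 4, nat_lit 7, nat_lit 8], (nat_lit 0)⟩]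
noncomputable def ivf (k : ℕ) : ℕ := nth (nat_lit 0) [nat_lit 0, nat_lit 1, nat_lit 2, nat_lit 3, nat_lit 4, nat_lit 5, nat_lit 6, nat_lit 7, nat_lit 8] k
noncomputable def Ws : List (List ℕ) := [[nat_lit 5, nat_lit 2, nat_lit 0, nat_lit 1, nat_lit 3, nat_lit 4, nat_lit 6, nat_lit 5, nat_lit 2, nat_lit 0, nat_lit 1, nat_lit 3, nat_lit 4, nat_lit 5, nat_lit 2, nat_lit 0, nat_lit 1, nat_lit 3, nat_lit 0, nat_lit 5, nat_lit 2, nat_lit 0, nat_lit 1, nat_lit 3, nat_lit 0, nat_lit 5, nat_lit 2, nat_lit 0, nat_lit 1, nat_lit 4, nat_lit 1, nat_lit 0, nat_lit 2, nat_lit 5, nat_lit 6, nat_lit 4, nat_lit 3, nat_lit 1, nat_lit 0, nat_lit 2, nat_lit 5, nat_lit 3, nat_lit 0, nat_lit 2, nat_lit 1, nat_lit 4, nat_lit 0, nat_lit 1, nat_lit 3, nat_lit 0, nat_lit 2, nat_lit 0, nat_lit 6, nat_lit 4, nat_lit 3, nat_lit 1, nat_lit 0, nat_lit 4, nat_lit 3, nat_lit 1, nat_lit 6, nat_lit 4, nat_lit 6],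
  [nat_lit 8],
  [nat_lit 6],
  [nat_lit 4],
  [nat_lit 1, nat_lit 3],
  [nat_lit 0],
  [nat_lit 2],
  [nat_lit 5],
  [nat_lit 1],
  [nat_lit 3],
  [nat_lit 7]]
noncomputable def LD_8d : ℕ := nat_lit 0
noncomputable def LD_8 (u : ℕ) : ℕ := Nat.land (Nat.shiftRight LD_8d (Nat.mul u (nat_lit 1))) (nat_lit 1)
noncomputable def Pt_8d : ℕ := nat_lit 0x20c0f
noncomputable def Pt_8 (u : ℕ) : ℕ := Nat.land (Nat.shiftRight Pt_8d (Nat.mul u (nat_lit 9))) (nat_lit 511)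
noncomputable def Q_8d : ℕ := nat_lit 0x400000000000000000000000000000000000000000000000000000000000000000
noncomputable def Q_8 (u : ℕ) : ℕ := Nat.land (Nat.shiftRight Q_8d (Nat.mul u (nat_lit 1))) (nat_lit 1)
noncomputable def l_8 : Lev := ⟨2, 1, LD_8, Pt_8, Q_8⟩
noncomputable def LD_7d : ℕ := nat_lit 0x24
noncomputable def LD_7 (u : ℕ) : ℕ := Nat.land (Nat.shiftRight LD_7d (Nat.mul u (nat_lit 2))) (nat_lit 3)
noncomputable def Pt_7d : ℕ := nat_lit 0x4181e0b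
noncomputable def Pt_7 (u : ℕ) : ℕ := Nat.land (Nat.shiftRight Pt_7d (Nat.mul u (nat_lit 9))) (nat_lit 511)
noncomputable def Q_7d : ℕ := nat_lit 0x200000000000000000000000000000000000000000000000000000000000000000000000000000000000000000000000000000000000000000000000000040000000
noncomputable def Q_7 (u : ℕ) : ℕ := Nat.land (Nat.shiftRight Q_7d (Nat.mul u (nat_lit 2))) (nat_lit 3)
noncomputable def l_7 : Lev := ⟨3, 2, LD_7, Pt_7, Q_7⟩
noncomputable def LD_6d : ℕ := nat_lit 0xd10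
noncomputable def LD_6 (u : ℕ) : ℕ := Nat.land (Nat.shiftRight LD_6d (Nat.mul u (nat_lit 3))) (nat_lit 7)
noncomputable def Pt_6d : ℕ := nat_lit 0x8303c1608
noncomputable def Pt_6 (u : ℕ) : ℕ := Nat.land (Nat.shiftRight Pt_6d (Nat.mul u (nat_lit 9))) (nat_lit 511)
noncomputable def Q_6d : ℕ := nat_lit 0x300000000000000000000000000000000000000000000000000000000000000000000000000000000000000000000000000000000000000000000000000080400000
noncomputable def Q_6 (u : ℕ) : ℕ := Nat.land (Nat.shiftRight Q_6d (Nat.mul u (nat_lit 2))) (nat_lit 3)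
noncomputable def l_6 : Lev := ⟨4, 3, LD_6, Pt_6, Q_6⟩
noncomputable def LD_5d : ℕ := nat_lit 0xc9630
noncomputable def LD_5 (u : ℕ) : ℕ := Nat.land (Nat.shiftRight LD_5d (Nat.mul u (nat_lit 4))) (nat_lit 15)
noncomputable def Pt_5d : ℕ := nat_lit 0x1060782c1005
noncomputable def Pt_5 (u : ℕ) : ℕ := Nat.land (Nat.shiftRight Pt_5d (Nat.mul u (nat_lit 9))) (nat_lit 511)
noncomputable def Q_5d : ℕ := nat_lit 0x100000000000000000000000000000000000000000000000000000000000000000000000000000000000000000000000000000000000000000000000000000000000000000000000000000000000000000000000000000000000000000600401000000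
noncomputable def Q_5 (u : ℕ) : ℕ := Nat.land (Nat.shiftRight Q_5d (Nat.mul u (nat_lit 3))) (nat_lit 7)
noncomputable def l_5 : Lev := ⟨5, 4, LD_5, Pt_5, Q_5⟩
noncomputable def LD_4d : ℕ := nat_lit 0xd949df71b390308100
noncomputable def LD_4 (u : ℕ) : ℕ := Nat.land (Nat.shiftRight LD_4d (Nat.mul u (nat_lit 6))) (nat_lit 63)
noncomputable def Pt_4d : ℕ := nat_lit 0x834000c0f0282c1014070280e04
noncomputable def Pt_4 (u : ℕ) : ℕ := Nat.land (Nat.shiftRight Pt_4d (Nat.mul u (nat_lit 9))) (nat_lit 511)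
noncomputable def Q_4d : ℕ := nat_lit 0xb00000a0000000000000000000000000000000000000000000000000000000000000000000000000000000000000000000000000000000000000000000000000000000000000000000000000000000000000000000000000000000000000000000000000000000000000000000000000000000000000000000400008300620519700000
noncomputable def Q_4 (u : ℕ) : ℕ := Nat.land (Nat.shiftRight Q_4d (Nat.mul u (nat_lit 4))) (nat_lit 15)
noncomputable def l_4 : Lev := ⟨12, 5, LD_4, Pt_4, Q_4⟩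
noncomputable def LD_3d : ℕ := nat_lit 0x9d98938882832a4c6e635d5b5628433f3e162f231f1714110f0a0500
noncomputable def LD_3 (u : ℕ) : ℕ := Nat.land (Nat.shiftRight LD_3d (Nat.mul u (nat_lit 8))) (nat_lit 255)
noncomputable def Pt_3d : ℕ := nat_lit 0x442a990e1833ce00061c8b042220c8481e050582034130a0341c090501c0803
noncomputable def Pt_3 (u : ℕ) : ℕ := Nat.land (Nat.shiftRight Pt_3d (Nat.mul u (nat_lit 9))) (nat_lit 511)
noncomputable def Q_3d : ℕ := nat_lit 0x5c0000015000000000000000b0000000000000000000003000000000000000000000000000000190000000000000000000000000000000000006800000000000000000000000000000000000000001b000000000000000000000000000000000000000000000000000000000000000000000000000000000000000000000000026000000000000001200000000000422000000025e00000743800694c058c8a1518100000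
noncomputable def Q_3 (u : ℕ) : ℕ := Nat.land (Nat.shiftRight Q_3d (Nat.mul u (nat_lit 5))) (nat_lit 31)
noncomputable def l_3 : Lev := ⟨28, 6, LD_3, Pt_3, Q_3⟩
noncomputable def LD_2d : ℕ := nat_lit 0xdb6c35577cce471323bcdaec756a753291409ece66aeb9446e2912862ccf6f36f36192c25e2e15aa750275309247a3516871a9c4d86b1016898441b8bc5629108783418090300c00
noncomputable def LD_2 (u : ℕ) : ℕ := Nat.land (Nat.shiftRight LD_2d (Nat.mul u (nat_lit 9))) (nat_lit 511)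
noncomputable def Pt_2d : ℕ := nat_lit 0x83401e6e24a9d4b44470b2192aa55ab11089451a4d450359447a3e1708c0c5b2292464331b8e44a28148b0361d108882a190903c0a0b040802e1a0804c280c06838120a038100602
noncomputable def Pt_2 (u : ℕ) : ℕ := Nat.land (Nat.shiftRight Pt_2d (Nat.mul u (nat_lit 9))) (nat_lit 511)
noncomputable def Q_2d : ℕ := nat_lit 0x3f00000003e000000000000000000f4000000000000000000000003cdc0000000000000000000000000000000000d76000000000000000000000000000000000000000032cf4000000000000000000000000000000ec000000000000002fc31000000000000000000000000000e80000000000000aedb80000000000000000000939000000000000aac0000000008800008f8000000028a400007807c000082100002701a0006dc0007409965ce00060064c50034054929300b4861c840414f0e5442040000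
noncomputable def Q_2 (u : ℕ) : ℕ := Nat.land (Nat.shiftRight Q_2d (Nat.mul u (nat_lit 6))) (nat_lit 63)
noncomputable def l_2 : Lev := ⟨64, 7, LD_2, Pt_2, Q_2⟩
noncomputable def LD_1d : ℕ := nat_lit 0x1091f241581f039963f17d6fa9223d578aef9d6ba673ee55c7387706df9bbb726deda50633665ecb98730760cbfd7eade5aeb5967acd596b195fabe56ead5592af55aaa4aa2954fa9d932a5d4ac93d1ea3645c89d1121d42c83d03a033fc7dcf99f13de7a87a0b439c6d8d399631c5fcbb9752cc55ca393f27a4d89711f22e4548790d20c4087b8ef1da3986f0db1ae354670cb1923186104415228c5102c11e1fc3b0670bc1542784607a0e41b02d0540941181c02a03803800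
noncomputable def LD_1 (u : ℕ) : ℕ := Nat.land (Nat.shiftRight LD_1d (Nat.mul u (nat_lit 11))) (nat_lit 2047)
noncomputable def Pt_1d : ℕ := nat_lit 0x419ef00793cdc4983b9e0bce66633d5cb15aa2d1a934a9b0e4752b16888dc6fb8582c56431d92a0532a950ab561f9068842a251465349a8a0bc4da8cf47c4021cbe613199cd64a259349e511d0ec7a3e168b84606481b8e8522a160ba5b1f9048647229245e301a0c86c331b8e44826128a0522c0e06c3a211105432120781416081587840160b868221009850180d0702414070200c0401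
noncomputable def Pt_1 (u : ℕ) : ℕ := Nat.land (Nat.shiftRight Pt_1d (Nat.mul u (nat_lit 9))) (nat_lit 511)
noncomputable def Q_1d : ℕ := nat_lit 0x86000000000084000000000000000085000000828300000000000000000000007c000000816a006b00006c0000000000000000000000007a00007b000065676600680000006900000000540000000000007700000078000079005f6062006100630000520000640000000053000080000073007400003b0000750076595a5c4e005b005d00004f005e00500051007e7f00703900710000003a0072495657004a0058004b004c004d7d3500346e0036006f0037003844554500460047482e0030002f6d3100320033404100424326002729002b282a002c2d3e3f2013002122002423253d1b1c1100121d1f1e0e19000f101a0a0b180d0c1707080915050614043c160302010000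
noncomputable def Q_1 (u : ℕ) : ℕ := Nat.land (Nat.shiftRight Q_1d (Nat.mul u (nat_lit 8))) (nat_lit 255)
noncomputable def l_1 : Lev := ⟨135, 8, LD_1, Pt_1, Q_1⟩
noncomputable def LD_0d : ℕ := nat_lit 0xba4b8bb82b74b68b5db32b1fb09afeac4abaaa6aa5a9ba8ca81a5aa4ba35a20a15a0da019f29e79be9a699b98596896694f93992e92391b91090e9008f68e08d58bf8ab8a989e89487385d85283f8298248108087fa7f27e77dc7db7d77c27b87ac7a278176b76074973d72972170b6f26ea6dc6d46c96a86a369d69c68f68768267c67b67767566d66365b63762f6196005f85ea5e25d75c85bc5b559d59559357456f56655e55955355254e53d53253152b52752652550e5064ff4f74e24da4d84b94b44ab4a349e49849749348847647045e45645144043543442a4294284144134124103fb3f33f13e33cf3c73c23b13a63a539b39a39938437937836435935834334234133f33833331f3173123002eb2e02df2ca2c92c82c62b32b22a429329228f28828328027226726625024f23b23a23723022b21920a2071f91f41f21d81d71d41cc1bd1ac1a71a519919118f18b18917f16a16514f14d1491471371311301181121101000fa0f90ef0ed0e60ce0cd0c30c10b50ac0a20a009408d07f07306c06405d05604f04003a03503402601c01200a000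
noncomputable def LD_0 (u : ℕ) : ℕ := Nat.land (Nat.shiftRight LD_0d (Nat.mul u (nat_lit 12))) (nat_lit 4095)
noncomputable def Pt_0d : ℕ := nat_lit 0x87c361d0b864261504834160f087d3e5f7007e3fdfb017f40a06ec74ba9e6eb76bd1e2f2773bdeaf8783d9eed56934dace371385b2d46bb69c8de7037dbad873b6dcae86e39972b65eadd74bf6532192be5c31184bb66b0196c662b458ed061af19cc16633d3c994b2712ea550a695e9f56aa956ac5227530a7532c9449b582815ca95a2a16ab351ac4fa793ba21027b3c211068e3f9e9187e45a25149548a08f886492151e8046a510e9348190c05e349bcc45f331c4ca6d309b0d46b3a9a0e0633999ce46e3b1d0aa4c251409c532595c9a5629144b45b2c93ca85c2c17478401d0f488421d8fc8c411f11492482191c622d178b86435180d072331b8e06c23138904a281509858291586c3e1c108743c22100602a160c85c3411090402614060341c0f048281607040180a04018080200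
noncomputable def Pt_0 (u : ℕ) : ℕ := Nat.land (Nat.shiftRight Pt_0d (Nat.mul u (nat_lit 9))) (nat_lit 511)
noncomputable def Q_0d : ℕ := nat_lit 0x87c361d0b86426150482c1e0d087cbe9f9007f3edfaff80c0e04ec74ba9daf27abc1e2eb773bde6f87a3d9eed46bb49aadd7238dc4db6d371b2d36b379c2d86fb95d0e07339d7cbc5b2e586b760b2d92ca5eb017ec65db1570c2663219eba62335a2c767341329b4c2892c9f56a7556a854aa9389a5228d60a74ba855e9e562d54cb2502b968a558acd087a3c1fd06773ea30f68943a150c923ca00fc8e46a09227c45a212a8148229288f4997cce5e31984dc6539180d86a341a4e666311bcda76321c4d675381d0944c281449e4b2b150ba4d2c14ca45a27164aa5c2b96c7a3c1d1047c451d9108048210fc8c492191c622e178b46832180d472331b8d870251189c482815898522a160703e1b108743c20110542e1a0b06032100884c2812060341c0f048281607040180a04018080200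
noncomputable def Q_0 (u : ℕ) : ℕ := Nat.land (Nat.shiftRight Q_0d (Nat.mul u (nat_lit 9))) (nat_lit 511)
noncomputable def l_0 : Lev := ⟨272, 11, LD_0, Pt_0, Q_0⟩
noncomputable def L : List Lev := [l_0, l_1, l_2, l_3, l_4, l_5, l_6, l_7, l_8]
noncomputable def B : List ℕ := [nat_lit 0, nat_lit 1, nat_lit 2, nat_lit 3, nat_lit 4, nat_lit 5, nat_lit 8, nat_lit 11, nat_lit 15]
noncomputable def w : List ℕ := [nat_lit 8, nat_lit 6, nat_lit 5, nat_lit 4, nat_lit 3, nat_lit 2, nat_lit 1, nat_lit 0, nat_lit 8, nat_lit 6, nat_lit 5, nat_lit 4, nat_lit 3, nat_lit 2, nat_lit 1, nat_lit 0, nat_lit 8, nat_lit 6, nat_lit 5, nat_lit 4, nat_lit 3, nat_lit 2, nat_lit 1, nat_lit 0, nat_lit 8, nat_lit 6, nat_lit 5, nat_lit 4, nat_lit 3, nat_lit 2, nat_lit 1, nat_lit 0, nat_lit 8, nat_lit 6, nat_lit 5, nat_lit 4, nat_lit 3, nat_lit 2, nat_lit 1, nat_lit 0, nat_lit 8, nat_lit 6, nat_lit 5, nat_lit 4, nat_lit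 3, nat_lit 2, nat_lit 1, nat_lit 0, nat_lit 8, nat_lit 6, nat_lit 5, nat_lit 4, nat_lit 3, nat_lit 2, nat_lit 1, nat_lit 0, nat_lit 8, nat_lit 6, nat_lit 5, nat_lit 4, nat_lit 3, nat_lit 2, nat_lit 1, nat_lit 0, nat_lit 8, nat_lit 6, nat_lit 5, nat_lit 4, nat_lit 3, nat_lit 2, nat_lit 1, nat_lit 0, nat_lit 8, nat_lit 6, nat_lit 5, nat_lit 4, nat_lit 3, nat_lit 2, nat_lit 1, nat_lit 0, nat_lit 8, nat_lit 6, nat_lit 5, nat_lit 4, nat_lit 3, nat_lit 2, nat_lit 1, nat_lit 0, nat_lit 8, nat_lit 6, nat_lit 5, nat_lit 4, nat_lit 3, nat_lit 2, nat_lit 1, nat_lit 0, nat_lit 8, nat_lit 6, nat_lit 5, nat_lit 4, nat_lit 3, nat_lit 2, nat_lit 1, nat_lit 0, nat_lit 8, nat_lit 6, nat_lit 5, nat_lit 4, nat_lit 3, nat_lit 2, nat_lit 1, nat_lit 0, nat_lit 8, nat_lit 6, nat_lit 5, nat_lit 4, nat_lit 3, nat_lit 2, nat_lit 1, nat_lit 0]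

theorem ivc : ivChk Rl (nat_lit 9) = true := by decide +kernel
theorem tcm4e_a : allZ2 (ent2 Tm4 Em4 (selR RLm4 Im4) Dm4 (nat_lit 255) (nat_lit 192) (nat_lit 192) (nat_lit 192) (nat_lit 4) (nat_lit 1023) (nat_lit 0)) (nat_lit 4) (nat_lit 192) = true := by decide +kernel
theorem tcm4p_0 : allZ (eps2 Tm4 Em4 Jm4 Wm4 RLm4 (nat_lit 255) (nat_lit 192) (nat_lit 192) (nat_lit 4) (nat_lit 0)) (nat_lit 0) (nat_lit 0) = true := by decide +kernel
theorem tcm4r : rulesChk Rl cm4.Sl RLm4 (nat_lit 4) = true := by decide +kernel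
theorem tcm4n : 0 < cm4.M ∧ cm4.n0 ≤ cm4.M ∧ 0 < cm4.K ∧ cm4.K ≤ 9 ∧ cm4.D 0 = 0 := by decide +kernel
theorem tcm4q : cm4.M - cm4.n = 0 := by decide +kernel
theorem stm4 : allL (ltAll 0) cm4.Sl = true ∧ 0 < cm4.n0 ∧ cm4.K = 4 ∧ cm4.n0 * 1 = 192 := by decide +kernel
theorem tcm5e_a : allZ2 (ent2 Tm5 Em5 (selR RLm5 Im5) Dm5 (nat_lit 15) (nat_lit 10) (nat_lit 10) (nat_lit 10) (nat_lit 5) (nat_lit 63) (nat_lit 0)) (nat_lit 5) (nat_lit 10) = true := by decide +kernel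
theorem tcm5p_0 : allZ (eps2 Tm5 Em5 Jm5 Wm5 RLm5 (nat_lit 15) (nat_lit 10) (nat_lit 10) (nat_lit 5) (nat_lit 0)) (nat_lit 0) (nat_lit 0) = true := by decide +kernel
theorem tcm5r : rulesChk Rl cm5.Sl RLm5 (nat_lit 5) = true := by decide +kernel
theorem tcm5n : 0 < cm5.M ∧ cm5.n0 ≤ cm5.M ∧ 0 < cm5.K ∧ cm5.K ≤ 9 ∧ cm5.D 0 = 0 := by decide +kernel
theorem tcm5q : cm5.M - cm5.n = 0 := by decide +kernel
theorem stm5 : allL (ltAll 4) cm5.Sl = true ∧ 0 < cm5.n0 ∧ cm5.K = 5 ∧ cm5.n0 * 192 = 1920 := by decide +kernel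
theorem tcm6e_a : allZ2 (ent2 Tm6 Em6 (selR RLm6 Im6) Dm6 (nat_lit 31) (nat_lit 27) (nat_lit 27) (nat_lit 27) (nat_lit 6) (nat_lit 255) (nat_lit 0)) (nat_lit 6) (nat_lit 27) = true := by decide +kernel
theorem tcm6p_0 : allZ (eps2 Tm6 Em6 Jm6 Wm6 RLm6 (nat_lit 31) (nat_lit 27) (nat_lit 27) (nat_lit 6) (nat_lit 0)) (nat_lit 0) (nat_lit 0) = true := by decide +kernel
theorem tcm6r : rulesChk Rl cm6.Sl RLm6 (nat_lit 6) = true := by decide +kernel
theorem tcm6n : 0 < cm6.M ∧ cm6.n0 ≤ cm6.M ∧ 0 < cm6.K ∧ cm6.K ≤ 9 ∧ cm6.D 0 = 0 := by decide +kernel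
theorem tcm6q : cm6.M - cm6.n = 0 := by decide +kernel
theorem stm6 : allL (ltAll 5) cm6.Sl = true ∧ 0 < cm6.n0 ∧ cm6.K = 6 ∧ cm6.n0 * 1920 = 51840 := by decide +kernel
theorem tcm7e_a : allZ2 (ent2 Tm7 Em7 (selR RLm7 Im7) Dm7 (nat_lit 63) (nat_lit 56) (nat_lit 56) (nat_lit 56) (nat_lit 7) (nat_lit 511) (nat_lit 0)) (nat_lit 7) (nat_lit 56) = true := by decide +kernel
theorem tcm7p_0 : allZ (eps2 Tm7 Em7 Jm7 Wm7 RLm7 (nat_lit 63) (nat_lit 56) (nat_lit 56) (nat_lit 7) (nat_lit 0)) (nat_lit 0) (nat_lit 0) = true := by decide +kernel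
theorem tcm7r : rulesChk Rl cm7.Sl RLm7 (nat_lit 7) = true := by decide +kernel
theorem tcm7n : 0 < cm7.M ∧ cm7.n0 ≤ cm7.M ∧ 0 < cm7.K ∧ cm7.K ≤ 9 ∧ cm7.D 0 = 0 := by decide +kernel
theorem tcm7q : cm7.M - cm7.n = 0 := by decide +kernel
theorem stm7 : allL (ltAll 6) cm7.Sl = true ∧ 0 < cm7.n0 ∧ cm7.K = 7 ∧ cm7.n0 * 51840 = 2903040 := by decide +kernel
theorem tcm8e_a : allZ2 (ent2 Tm8 Em8 (selR RLm8 Im8) Dm8 (nat_lit 127) (nat_lit 128) (nat_lit 128) (nat_lit 128) (nat_lit 8) (nat_lit 2047) (nat_lit 0)) (nat_lit 8) (nat_lit 128) = true := by decide +kernel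
theorem tcm8p_0 : allZ (eps2 Tm8 Em8 Jm8 Wm8 RLm8 (nat_lit 127) (nat_lit 128) (nat_lit 128) (nat_lit 8) (nat_lit 0)) (nat_lit 0) (nat_lit 0) = true := by decide +kernel
theorem tcm8r : rulesChk Rl cm8.Sl RLm8 (nat_lit 8) = true := by decide +kernel
theorem tcm8n : 0 < cm8.M ∧ cm8.n0 ≤ cm8.M ∧ 0 < cm8.K ∧ cm8.K ≤ 9 ∧ cm8.D 0 = 0 := by decide +kernel
theorem tcm8q : cm8.M - cm8.n = 0 := by decide +kernel
theorem stm8 : allL (ltAll 7) cm8.Sl = true ∧ 0 < cm8.n0 ∧ cm8.K = 8 ∧ cm8.n0 * 2903040 = 371589120 := by decide +kernel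
theorem tcm9e_a : allZ2 (ent2 Tm9 Em9 (selR RLm9 Im9) Dm9 (nat_lit 255) (nat_lit 255) (nat_lit 255) (nat_lit 255) (nat_lit 9) (nat_lit 4095) (nat_lit 0)) (nat_lit 9) (nat_lit 255) = true := by decide +kernel
theorem tcm9p_0 : allZ (eps2 Tm9 Em9 Jm9 Wm9 RLm9 (nat_lit 255) (nat_lit 255) (nat_lit 255) (nat_lit 9) (nat_lit 0)) (nat_lit 0) (nat_lit 0) = true := by decide +kernel
theorem tcm9r : rulesChk Rl cm9.Sl RLm9 (nat_lit 9) = true := by decide +kernel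
theorem tcm9n : 0 < cm9.M ∧ cm9.n0 ≤ cm9.M ∧ 0 < cm9.K ∧ cm9.K ≤ 9 ∧ cm9.D 0 = 0 := by decide +kernel
theorem tcm9q : cm9.M - cm9.n = 0 := by decide +kernel
theorem stm9 : allL (ltAll 8) cm9.Sl = true ∧ 0 < cm9.n0 ∧ cm9.K = 9 ∧ cm9.n0 * 371589120 = 94755225600 := by decide +kernel
theorem wl : ltAll 9 w = 0 := by decide +kernel
theorem ptc_0 : allZ (ptChk P ivf (nat_lit 272) (nat_lit 9) (nat_lit 9) XW Jb) (nat_lit 0) (nat_lit 64) = true := by decide +kernel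
theorem ptc_1 : allZ (ptChk P ivf (nat_lit 272) (nat_lit 9) (nat_lit 9) XW Jb) (nat_lit 64) (nat_lit 64) = true := by decide +kernel
theorem ptc_2 : allZ (ptChk P ivf (nat_lit 272) (nat_lit 9) (nat_lit 9) XW Jb) (nat_lit 128) (nat_lit 64) = true := by decide +kernel
theorem ptc_3 : allZ (ptChk P ivf (nat_lit 272) (nat_lit 9) (nat_lit 9) XW Jb) (nat_lit 192) (nat_lit 64) = true := by decide +kernel
theorem ptc_4 : allZ (ptChk P ivf (nat_lit 272) (nat_lit 9) (nat_lit 9) XW Jb) (nat_lit 256) (nat_lit 16) = true := by decide +kernel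
theorem jbc : jobsOK Rl 9 9 XW Jb ∧ ∀ k < 9, ivf k = ivOf Rl k := by decide +kernel
theorem lv_8e_0 : allZ (l_8.ent (wdsP P Ws)) (nat_lit 0) (nat_lit 1) = true := by decide +kernel
theorem lv_8b : 0 < l_8.n ∧ 0 < l_8.K ∧ l_8.Pt 0 < 272 ∧ l_8.Q (l_8.Pt 0) = 0 ∧ 0 ≤ l_8.K ∧ fixLetters (wdsP P Ws) (nat_lit 0) (l_8.Pt 0) = true := by decide +kernel
theorem lv_7e_0 : allZ (l_7.ent (wdsP P Ws)) (nat_lit 0) (nat_lit 2) = true := by decide +kernel
theorem lv_7b : 0 < l_7.n ∧ 0 < l_7.K ∧ l_7.Pt 0 < 272 ∧ l_7.Q (l_7.Pt 0) = 0 ∧ 1 ≤ l_7.K ∧ fixLetters (wdsP P Ws) (nat_lit 1) (l_7.Pt 0) = true := by decide +kernel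
theorem lv_6e_0 : allZ (l_6.ent (wdsP P Ws)) (nat_lit 0) (nat_lit 3) = true := by decide +kernel
theorem lv_6b : 0 < l_6.n ∧ 0 < l_6.K ∧ l_6.Pt 0 < 272 ∧ l_6.Q (l_6.Pt 0) = 0 ∧ 2 ≤ l_6.K ∧ fixLetters (wdsP P Ws) (nat_lit 2) (l_6.Pt 0) = true := by decide +kernel
theorem lv_5e_0 : allZ (l_5.ent (wdsP P Ws)) (nat_lit 0) (nat_lit 4) = true := by decide +kernel
theorem lv_5b : 0 < l_5.n ∧ 0 < l_5.K ∧ l_5.Pt 0 < 272 ∧ l_5.Q (l_5.Pt 0) = 0 ∧ 3 ≤ l_5.K ∧ fixLetters (wdsP P Ws) (nat_lit 3) (l_5.Pt 0) = true := by decide +kernel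
theorem lv_4e_0 : allZ (l_4.ent (wdsP P Ws)) (nat_lit 0) (nat_lit 11) = true := by decide +kernel
theorem lv_4b : 0 < l_4.n ∧ 0 < l_4.K ∧ l_4.Pt 0 < 272 ∧ l_4.Q (l_4.Pt 0) = 0 ∧ 4 ≤ l_4.K ∧ fixLetters (wdsP P Ws) (nat_lit 4) (l_4.Pt 0) = true := by decide +kernel
theorem lv_3e_0 : allZ (l_3.ent (wdsP P Ws)) (nat_lit 0) (nat_lit 27) = true := by decide +kernel
theorem lv_3b : 0 < l_3.n ∧ 0 < l_3.K ∧ l_3.Pt 0 < 272 ∧ l_3.Q (l_3.Pt 0) = 0 ∧ 5 ≤ l_3.K ∧ fixLetters (wdsP P Ws) (nat_lit 5) (l_3.Pt 0) = true := by decide +kernel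
theorem lv_2e_0 : allZ (l_2.ent (wdsP P Ws)) (nat_lit 0) (nat_lit 63) = true := by decide +kernel
theorem lv_2b : 0 < l_2.n ∧ 0 < l_2.K ∧ l_2.Pt 0 < 272 ∧ l_2.Q (l_2.Pt 0) = 0 ∧ 6 ≤ l_2.K ∧ fixLetters (wdsP P Ws) (nat_lit 6) (l_2.Pt 0) = true := by decide +kernel
theorem lv_1e_0 : allZ (l_1.ent (wdsP P Ws)) (nat_lit 0) (nat_lit 134) = true := by decide +kernel
theorem lv_1b : 0 < l_1.n ∧ 0 < l_1.K ∧ l_1.Pt 0 < 272 ∧ l_1.Q (l_1.Pt 0) = 0 ∧ 7 ≤ l_1.K ∧ fixLetters (wdsP P Ws) (nat_lit 7) (l_1.Pt 0) = true := by decide +kernel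
theorem lv_0e_0 : allZ (l_0.ent (wdsP P Ws)) (nat_lit 0) (nat_lit 271) = true := by decide +kernel
theorem lv_0b : 0 < l_0.n ∧ 0 < l_0.K ∧ l_0.Pt 0 < 272 ∧ l_0.Q (l_0.Pt 0) = 0 ∧ 8 ≤ l_0.K ∧ fixLetters (wdsP P Ws) (nat_lit 8) (l_0.Pt 0) = true := by decide +kernel
theorem base : chainBase L = B ∧ ltAll (nat_lit 272) B = 0 ∧ topK L = 11 := by decide +kernel
theorem exc : allL (ltAll 9) Ws = true ∧ chainCard L = 94755225600 := by decide +kernel
theorem wc : ltAll 272 B = 0 ∧ fixL P 9 B w = 0 := by decide +kernel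

theorem tcm4e : ∀ k < 4, ∀ i < 192, (ent2 Tm4 Em4 (selR RLm4 Im4) Dm4 (nat_lit 255) (nat_lit 192) (nat_lit 192) (nat_lit 192) (nat_lit 4) (nat_lit 1023) (nat_lit 0)) k i = 0 := allZ2_sound tcm4e_a
theorem tcm4p : ∀ i < 0, (eps2 Tm4 Em4 Jm4 Wm4 RLm4 (nat_lit 255) (nat_lit 192) (nat_lit 192) (nat_lit 4) (nat_lit 0)) i = 0 := allZ_sound0 tcm4p_0
theorem tcm4 : cm4.OK Rl 9 := ⟨tcm4n, ivc, tcm4r, tcm4e, fun i h => tcm4p i (lt_of_lt_of_eq h tcm4q)⟩
theorem bdm4 : Bound Rl 4 192 := Bound.step2 (Bound.zero Rl) tcm4 stm4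
theorem tcm5e : ∀ k < 5, ∀ i < 10, (ent2 Tm5 Em5 (selR RLm5 Im5) Dm5 (nat_lit 15) (nat_lit 10) (nat_lit 10) (nat_lit 10) (nat_lit 5) (nat_lit 63) (nat_lit 0)) k i = 0 := allZ2_sound tcm5e_a
theorem tcm5p : ∀ i < 0, (eps2 Tm5 Em5 Jm5 Wm5 RLm5 (nat_lit 15) (nat_lit 10) (nat_lit 10) (nat_lit 5) (nat_lit 0)) i = 0 := allZ_sound0 tcm5p_0
theorem tcm5 : cm5.OK Rl 9 := ⟨tcm5n, ivc, tcm5r, tcm5e, fun i h => tcm5p i (lt_of_lt_of_eq h tcm5q)⟩
theorem bdm5 : Bound Rl 5 1920 := Bound.step2 (bdm4) tcm5 stm5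
theorem tcm6e : ∀ k < 6, ∀ i < 27, (ent2 Tm6 Em6 (selR RLm6 Im6) Dm6 (nat_lit 31) (nat_lit 27) (nat_lit 27) (nat_lit 27) (nat_lit 6) (nat_lit 255) (nat_lit 0)) k i = 0 := allZ2_sound tcm6e_a
theorem tcm6p : ∀ i < 0, (eps2 Tm6 Em6 Jm6 Wm6 RLm6 (nat_lit 31) (nat_lit 27) (nat_lit 27) (nat_lit 6) (nat_lit 0)) i = 0 := allZ_sound0 tcm6p_0
theorem tcm6 : cm6.OK Rl 9 := ⟨tcm6n, ivc, tcm6r, tcm6e, fun i h => tcm6p i (lt_of_lt_of_eq h tcm6q)⟩
theorem bdm6 : Bound Rl 6 51840 := Bound.step2 (bdm5) tcm6 stm6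
theorem tcm7e : ∀ k < 7, ∀ i < 56, (ent2 Tm7 Em7 (selR RLm7 Im7) Dm7 (nat_lit 63) (nat_lit 56) (nat_lit 56) (nat_lit 56) (nat_lit 7) (nat_lit 511) (nat_lit 0)) k i = 0 := allZ2_sound tcm7e_a
theorem tcm7p : ∀ i < 0, (eps2 Tm7 Em7 Jm7 Wm7 RLm7 (nat_lit 63) (nat_lit 56) (nat_lit 56) (nat_lit 7) (nat_lit 0)) i = 0 := allZ_sound0 tcm7p_0
theorem tcm7 : cm7.OK Rl 9 := ⟨tcm7n, ivc, tcm7r, tcm7e, fun i h => tcm7p i (lt_of_lt_of_eq h tcm7q)⟩
theorem bdm7 : Bound Rl 7 2903040 := Bound.step2 (bdm6) tcm7 stm7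
theorem tcm8e : ∀ k < 8, ∀ i < 128, (ent2 Tm8 Em8 (selR RLm8 Im8) Dm8 (nat_lit 127) (nat_lit 128) (nat_lit 128) (nat_lit 128) (nat_lit 8) (nat_lit 2047) (nat_lit 0)) k i = 0 := allZ2_sound tcm8e_a
theorem tcm8p : ∀ i < 0, (eps2 Tm8 Em8 Jm8 Wm8 RLm8 (nat_lit 127) (nat_lit 128) (nat_lit 128) (nat_lit 8) (nat_lit 0)) i = 0 := allZ_sound0 tcm8p_0
theorem tcm8 : cm8.OK Rl 9 := ⟨tcm8n, ivc, tcm8r, tcm8e, fun i h => tcm8p i (lt_of_lt_of_eq h tcm8q)⟩
theorem bdm8 : Bound Rl 8 371589120 := Bound.step2 (bdm7) tcm8 stm8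
theorem tcm9e : ∀ k < 9, ∀ i < 255, (ent2 Tm9 Em9 (selR RLm9 Im9) Dm9 (nat_lit 255) (nat_lit 255) (nat_lit 255) (nat_lit 255) (nat_lit 9) (nat_lit 4095) (nat_lit 0)) k i = 0 := allZ2_sound tcm9e_a
theorem tcm9p : ∀ i < 0, (eps2 Tm9 Em9 Jm9 Wm9 RLm9 (nat_lit 255) (nat_lit 255) (nat_lit 255) (nat_lit 9) (nat_lit 0)) i = 0 := allZ_sound0 tcm9p_0
theorem tcm9 : cm9.OK Rl 9 := ⟨tcm9n, ivc, tcm9r, tcm9e, fun i h => tcm9p i (lt_of_lt_of_eq h tcm9q)⟩
theorem bdm9 : Bound Rl 9 94755225600 := Bound.step2 (bdm8) tcm9 stm9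
theorem ptc_g0 : ∀ i < 64, (ptChk P ivf (nat_lit 272) (nat_lit 9) (nat_lit 9) XW Jb) i = 0 := allZ_sound0 ptc_0
theorem ptc_g1 : ∀ i < 128, (ptChk P ivf (nat_lit 272) (nat_lit 9) (nat_lit 9) XW Jb) i = 0 := range_glue ptc_g0 ptc_1
theorem ptc_g2 : ∀ i < 192, (ptChk P ivf (nat_lit 272) (nat_lit 9) (nat_lit 9) XW Jb) i = 0 := range_glue ptc_g1 ptc_2
theorem ptc_g3 : ∀ i < 256, (ptChk P ivf (nat_lit 272) (nat_lit 9) (nat_lit 9) XW Jb) i = 0 := range_glue ptc_g2 ptc_3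
theorem ptc : ∀ i < 272, (ptChk P ivf (nat_lit 272) (nat_lit 9) (nat_lit 9) XW Jb) i = 0 := range_glue ptc_g3 ptc_4
/-- the letters of the presentation as permutations -/
noncomputable def g : ℕ → Equiv.Perm (Fin 272) := permGen 272 P
theorem act : Act g (ptF 272) P 272 9 := (rels_fast ptc jbc.1 jbc.2).1
theorem rels : Rels g Rl := (rels_fast ptc jbc.1 jbc.2).2
theorem lv_8e : ∀ i < 1, (l_8.ent (wdsP P Ws)) i = 0 := allZ_sound0 lv_8e_0
theorem lv_7e : ∀ i < 2, (l_7.ent (wdsP P Ws)) i = 0 := allZ_sound0 lv_7e_0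
theorem lv_6e : ∀ i < 3, (l_6.ent (wdsP P Ws)) i = 0 := allZ_sound0 lv_6e_0
theorem lv_5e : ∀ i < 4, (l_5.ent (wdsP P Ws)) i = 0 := allZ_sound0 lv_5e_0
theorem lv_4e : ∀ i < 11, (l_4.ent (wdsP P Ws)) i = 0 := allZ_sound0 lv_4e_0
theorem lv_3e : ∀ i < 27, (l_3.ent (wdsP P Ws)) i = 0 := allZ_sound0 lv_3e_0
theorem lv_2e : ∀ i < 63, (l_2.ent (wdsP P Ws)) i = 0 := allZ_sound0 lv_2e_0
theorem lv_1e : ∀ i < 134, (l_1.ent (wdsP P Ws)) i = 0 := allZ_sound0 lv_1e_0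
theorem lv_0e : ∀ i < 271, (l_0.ent (wdsP P Ws)) i = 0 := allZ_sound0 lv_0e_0
theorem low : LowChain (wdsP P Ws) 272 L :=
  ⟨⟨lv_0b.1, lv_0b.2.1, lv_0b.2.2.1, lv_0b.2.2.2.1, lv_0e⟩, lv_0b.2.2.2.2.1, lv_0b.2.2.2.2.2, ⟨⟨lv_1b.1, lv_1b.2.1, lv_1b.2.2.1, lv_1b.2.2.2.1, lv_1e⟩, lv_1b.2.2.2.2.1, lv_1b.2.2.2.2.2, ⟨⟨lv_2b.1, lv_2b.2.1, lv_2b.2.2.1, lv_2b.2.2.2.1, lv_2e⟩, lv_2b.2.2.2.2.1, lv_2b.2.2.2.2.2, ⟨⟨lv_3b.1, lv_3b.2.1, lv_3b.2.2.1, lv_3b.2.2.2.1, lv_3e⟩, lv_3b.2.2.2.2.1, lv_3b.2.2.2.2.2, ⟨⟨lv_4b.1, lv_4b.2.1, lv_4b.2.2.1, lv_4b.2.2.2.1, lv_4e⟩, lv_4b.2.2.2.2.1, lv_4b.2.2.2.2.2, ⟨⟨lv_5b.1, lv_5b.2.1, lv_5b.2.2.1, lv_5b.2.2.2.1, lv_5e⟩, lv_5b.2.2.2.2.1, lv_5b.2.2.2.2.2, ⟨⟨lv_6b.1, lv_6b.2.1, lv_6b.2.2.1, lv_6b.2.2.2.1, lv_6e⟩, lv_6b.2.2.2.2.1, lv_6b.2.2.2.2.2, ⟨⟨lv_7b.1, lv_7b.2.1, lv_7b.2.2.1, lv_7b.2.2.2.1, lv_7e⟩, lv_7b.2.2.2.2.1, lv_7b.2.2.2.2.2, ⟨⟨lv_8b.1, lv_8b.2.1, lv_8b.2.2.1, lv_8b.2.2.2.1,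 lv_8e⟩, lv_8b.2.2.2.2.1, lv_8b.2.2.2.2.2, trivial⟩⟩⟩⟩⟩⟩⟩⟩⟩
theorem exact : Nat.card (gen g 9) = 94755225600 ∧ IsBase (gen g 9) (ptF 272) B ∧
    gen (wds g Ws) 11 = gen g 9 ∧ IsChain (wds g Ws) (ptF 272) 272 L :=
  low_card (fun k hk => act k (by omega)) (ptF_inj 272) low (bdm9.le rels) exc base
theorem card : Nat.card (gen g 9) = 94755225600 := exact.1
theorem isBase : IsBase (gen g 9) (ptF 272) B := exact.2.1
theorem gen_eq : gen (wds g Ws) 11 = gen g 9 := exact.2.2.1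
theorem chain : IsChain (wds g Ws) (ptF 272) 272 L := exact.2.2.2
theorem Blt : ltAll 272 B = 0 := base.2.1
theorem main : Imp Rl [w] := Y5.of_model bdm9 act rels card isBase (fun _ _ g _ => evA_mem_gen g (ltAll_zero wl)) wc

end H15.Y5B
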